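import Cfsg.Agent.Lib.Helper1.CD3.Defs
import Cfsg.Agent.Lib.Helper74.LinChar
import Cfsg.Agent.Lib.Helper79.CharBasic
import Mathlib

/-!
CD3B lemma server (helper1, S4460), piece (P4) `taketa` (helper42).
-/

set_option autoImplicit false

namespace Cfsg.Agent.Helper42.CD3B

open Cfsg Cfsg.Agent.Helper81 Cfsg.Agent.Helper1.CD3

universe u

/-- the trivial function is a character. -/
theorem p4_isCharacter_one (G : Type u) [Group G] : IsCharacter G (fun _ => (1 : ℂ)) := by
  have h := (Cfsg.Agent.Helper74.Lin.ofHom (1 : G →* ℂˣ)).2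
  have h2 : ((Cfsg.Agent.Helper74.Lin.ofHom (1 : G →* ℂˣ)) : G → ℂ) = fun _ => (1 : ℂ) := by
    funext g
    simp
  rw [← h2]
  exact IsIrrCharacter.isCharacter h

/-- the trivial function is an irreducible character. -/
theorem p4_isIrr_one (G : Type u) [Group G] : IsIrrCharacter G (fun _ => (1 : ℂ)) := by
  have h := (Cfsg.Agent.Helper74.Lin.ofHom (1 : G →* ℂˣ)).2
  have h2 : ((Cfsg.Agent.Helper74.Lin.ofHom (1 : G →* ℂˣ)) : G → ℂ) = fun _ => (1 : ℂ) := by
    funext g
    simp
  rw [← h2]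
  exact h

/-- a linear irreducible character is trivial on the commutator subgroup. -/
theorem p4_linear_commutator {G : Type u} [Group G] [Finite G] {χ : G → ℂ} (hχ : IsIrrCharacter G χ)
    (h1 : χ 1 = 1) (x : G) (hx : x ∈ commutator G) : χ x = 1 := by
  let φ := Cfsg.Agent.Helper74.Lin.toHom ⟨χ, hχ⟩ h1
  have hker : commutator G ≤ φ.ker := Abelianization.commutator_subset_ker φ
  have h3 : φ x = 1 := MonoidHom.mem_ker.mp (hker hx)
  have h4 : ((φ x : ℂˣ) : ℂ) = χ x := rfl
  rw [← h4, h3]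
  rfl

open Classical in
/-- the value of a permutation character `indFun T 1` as a count. -/
theorem p4_indFun_one_apply {G : Type u} [Group G] [Fintype G] (T : Subgroup G) (x : G) :
    indFun T (fun _ => (1 : ℂ)) x =
      (Nat.card T : ℂ)⁻¹ *
        (((Finset.univ.filter fun g : G => g⁻¹ * x * g ∈ T).card : ℕ) : ℂ) := by
  classical
  rw [indFun_apply]
  congr 1
  rw [Finset.card_filter]
  push_cast
  apply Finset.sum_congr rfl
  intro g _
  by_cases hg : g⁻¹ * x * g ∈ T
  · rw [extendByZero_apply_mem T _ hg, if_pos hg]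
  · rw [extendByZero_apply_not_mem T _ hg, if_neg hg]

/-- (P4) Taketa-type step: `Φ'` fixes every irreducible character of `R`. -/
theorem taketa {Φ : Type u} [Group Φ] [Finite Φ] (p a : ℕ) [Fact p.Prime] (ha : 0 < a)
    (h2 : ∀ θ : Φ → ℂ, IsIrrCharacter Φ θ → θ 1 ≠ 1 → ∃ d : ℕ, θ 1 = (d : ℂ) ∧ d.factorization p = a)
    (R : Subgroup Φ) (hR : R.Normal) (hRi : ∃ k : ℕ, R.index = p ^ k)
    (ρ : R → ℂ) (hρ : IsIrrCharacter R ρ) :
    ∀ x ∈ commutator Φ, conjFun R hR ρ x = ρ := by
  classical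
  have hp : p.Prime := Fact.out
  have : Fintype Φ := Fintype.ofFinite Φ
  have : Fintype R := Fintype.ofFinite R
  set T : Subgroup Φ := stab R hR ρ with hTdef
  have : Fintype T := Fintype.ofFinite T
  have : Fintype (IrrCharacter Φ) := @Fintype.ofFinite _ irr_finite
  -- `R ≤ T`
  have hρc := isClassFunction_of_isCharacter (IsIrrCharacter.isCharacter hρ)
  have hRT : R ≤ T := by
    intro r hr
    rw [hTdef, mem_stab]
    funext n
    rw [conjFun_apply]
    exact hρc n ⟨r, hr⟩
  have hT : ∀ g : Φ, g ∈ T ↔ conjFun R hR ρ g = ρ := fun g => Iff.rfl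
  -- `T.index = p ^ b`
  obtain ⟨k, hk⟩ := hRi
  have hdvd : T.index ∣ p ^ k := by
    rw [← hk]
    exact Subgroup.index_dvd_of_le hRT
  obtain ⟨b, _, hb⟩ := (Nat.dvd_prime_pow hp).mp hdvd
  -- reduce to `x ∈ T`
  intro x hx
  show x ∈ T
  -- an irreducible character of `Φ` over `ρ`
  have hρ1 : ρ 1 ≠ 0 := Cfsg.Agent.Helper79.irr_one_ne_zero ⟨ρ, hρ⟩
  have hind : IsCharacter Φ (indFun R ρ) := isCharacter_indFun R (IsIrrCharacter.isCharacter hρ)
  have hind0 : indFun R ρ ≠ 0 := by
    intro h0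
    have h1 := indFun_one R ρ
    rw [h0] at h1
    have h3 : (R.index : ℂ) ≠ 0 := by
      rw [hk]
      exact_mod_cast (pow_pos hp.pos k).ne'
    exact (mul_ne_zero h3 hρ1) h1.symm
  obtain ⟨θ, hθ, hθc⟩ := exists_irr_constituent hind hind0
  have hθcl := isClassFunction_of_isCharacter (IsIrrCharacter.isCharacter hθ)
  rw [frobenius_reciprocity R ρ hθcl] at hθc
  have hθne : classInner (fun n : R => θ n) ρ ≠ 0 := by
    rw [classInner_conj_symm]
    intro h0
    apply hθc
    have := congrArg (starRingEnd ℂ) h0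
    rwa [Complex.conj_conj, map_zero] at this
  obtain ⟨ψ, hψ, hψind, _⟩ := clifford_corr_surj R T hR hRT hρ hT hθ hθne
  obtain ⟨m, hm⟩ := char_one_nat (IsIrrCharacter.isCharacter hψ)
  have hθ1 : θ 1 = ((p ^ b * m : ℕ) : ℂ) := by
    rw [← hψind, indFun_one, hm, hb]
    push_cast
    ring
  -- `b ≤ a` unless `T = ⊤`
  by_cases hlin : θ 1 = 1
  · have h3 : p ^ b * m = 1 := by
      rw [hθ1] at hlin
      exact_mod_cast hlin
    have h4 : p ^ b = 1 := Nat.eq_one_of_mul_eq_one_right h3
    have h5 : T = ⊤ := by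
      rw [← Subgroup.index_eq_one, hb, h4]
    rw [h5]
    exact Subgroup.mem_top x
  obtain ⟨d, hd, hda⟩ := h2 θ hθ hlin
  have hdm : d = p ^ b * m := by
    rw [hθ1] at hd
    exact_mod_cast hd.symm
  have hm0 : m ≠ 0 := by
    intro h0
    rw [h0, mul_zero] at hdm
    rw [hdm] at hda
    simp at hda
    omega
  have hba : b ≤ a := by
    rw [← hda, hdm, Nat.factorization_mul (pow_pos hp.pos b).ne' hm0]
    simp only [Finsupp.coe_add, Pi.add_apply]
    rw [Nat.Prime.factorization_pow hp]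
    simp
  -- the permutation character on `Φ / T`
  set π : Φ → ℂ := indFun T (fun _ => (1 : ℂ)) with hπ
  have hπchar : IsCharacter Φ π := isCharacter_indFun T (p4_isCharacter_one T)
  have hπ1 : π 1 = ((p ^ b : ℕ) : ℂ) := by
    rw [hπ, indFun_one, hb]
    push_cast
    ring
  obtain ⟨mult, hmult⟩ := exists_nat_decomp hπchar
  -- degrees
  have hdeg : ∀ χ : IrrCharacter Φ, ∃ n : ℕ, (χ : Φ → ℂ) 1 = (n : ℂ) :=
    fun χ => char_one_nat (IsIrrCharacter.isCharacter χ.2)
  choose deg hdegs using hdeg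
  have hsum : ∑ χ : IrrCharacter Φ, mult χ * deg χ = p ^ b := by
    have h3 : π 1 = ((∑ χ : IrrCharacter Φ, mult χ * deg χ : ℕ) : ℂ) := by
      conv_lhs => rw [hmult]
      rw [Finset.sum_apply]
      push_cast
      apply Finset.sum_congr rfl
      intro χ _
      rw [Pi.smul_apply, smul_eq_mul, hdegs]
    rw [hπ1] at h3
    exact_mod_cast h3.symm
  -- the trivial character has multiplicity one
  let triv : IrrCharacter Φ := ⟨fun _ => (1 : ℂ), p4_isIrr_one Φ⟩
  have htriv : mult triv = 1 := by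
    have h3 : classInner π (triv : Φ → ℂ) = (mult triv : ℂ) := by
      conv_lhs => rw [hmult]
      exact classInner_nat_decomp (fun χ' => (mult χ' : ℂ)) triv
    have h4 : classInner π (triv : Φ → ℂ) = 1 := by
      rw [hπ, frobenius_reciprocity T _
        (isClassFunction_of_isCharacter (IsIrrCharacter.isCharacter triv.2))]
      have h5 := irr_orthonormal (p4_isIrr_one T) (p4_isIrr_one T)
      rw [if_pos rfl] at h5
      exact h5
    rw [h4] at h3
    exact_mod_cast h3.symm
  have hdegtriv : deg triv = 1 := by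
    have h3 := hdegs triv
    have h4 : (triv : Φ → ℂ) 1 = 1 := rfl
    rw [h4] at h3
    exact_mod_cast h3.symm
  -- every constituent is linear
  have hlinear : ∀ χ : IrrCharacter Φ, mult χ ≠ 0 → (χ : Φ → ℂ) 1 = 1 := by
    intro χ hχ0
    by_contra hne
    obtain ⟨d', hd', hda'⟩ := h2 χ χ.2 hne
    have hdd : deg χ = d' := by
      have h3 := hdegs χ
      rw [hd'] at h3
      exact_mod_cast h3.symm
    have hd0 : d' ≠ 0 := by
      intro h0
      rw [h0] at hda'
      simp at hda'
      omega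
    have hpa : p ^ a ≤ d' := by
      apply Nat.le_of_dvd (Nat.pos_of_ne_zero hd0)
      rw [← hda']
      exact Nat.ordProj_dvd d' p
    have hχt : χ ≠ triv := by
      intro h3
      apply hne
      rw [h3]
    have hpair : ∑ χ' ∈ ({triv, χ} : Finset (IrrCharacter Φ)), mult χ' * deg χ' ≤
        ∑ χ' : IrrCharacter Φ, mult χ' * deg χ' :=
      Finset.sum_le_sum_of_subset (Finset.subset_univ _)
    rw [Finset.sum_pair (Ne.symm hχt), htriv, hdegtriv, hsum, hdd] at hpair
    have h5 : 1 ≤ mult χ := Nat.one_le_iff_ne_zero.mpr hχ0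
    have h6 : p ^ a ≤ mult χ * d' := le_trans hpa (Nat.le_mul_of_pos_left _ h5)
    have h7 : p ^ b ≤ p ^ a := Nat.pow_le_pow_right hp.pos hba
    omega
  -- `π x = π 1`
  have hπx : π x = π 1 := by
    rw [hmult, Finset.sum_apply, Finset.sum_apply]
    apply Finset.sum_congr rfl
    intro χ _
    rw [Pi.smul_apply, Pi.smul_apply]
    by_cases h0 : mult χ = 0
    · rw [h0]
      simp
    · have h3 := hlinear χ h0
      rw [p4_linear_commutator χ.2 h3 x hx, h3]
  -- count
  rw [hπ, p4_indFun_one_apply, p4_indFun_one_apply] at hπx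
  have hT0 : (Nat.card T : ℂ)⁻¹ ≠ 0 := by
    apply inv_ne_zero
    exact_mod_cast (Nat.card_pos (α := T)).ne'
  have hcount := mul_left_cancel₀ hT0 hπx
  have hcount' : (Finset.univ.filter fun g : Φ => g⁻¹ * x * g ∈ T).card =
      (Finset.univ.filter fun g : Φ => g⁻¹ * 1 * g ∈ T).card := by
    exact_mod_cast hcount
  have hall : (Finset.univ.filter fun g : Φ => g⁻¹ * 1 * g ∈ T) = Finset.univ := by
    apply Finset.filter_true_of_mem
    intro g _
    have : g⁻¹ * 1 * g = 1 := by group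
    rw [this]
    exact T.one_mem
  rw [hall] at hcount'
  have hx1 := (Finset.card_filter_eq_iff.mp hcount') 1 (Finset.mem_univ _)
  simpa using hx1

end Cfsg.Agent.Helper42.CD3B
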