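import Mathlib
import Cfsg.Agent.Lib.Helper98.UT0

/-! UT server (helper98, S2283), piece (D1) `dEl_act`: the diagonal element exists. (helper42) -/

set_option autoImplicit false
set_option quotPrecheck false
set_option linter.unusedSectionVars false
set_option linter.unusedVariables false

namespace Cfsg.Agent.Helper42.UT

open Matrix Cfsg Cfsg.Agent.Helper13 Cfsg.Agent.Helper87.PsuA Cfsg.Agent.Helper87.PsuB0
  Cfsg.Agent.Helper98.UT

variable {F : Type*} [Field F] [Fintype F] {q : ℕ}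

local notation "G" => ↥(Cfsg.SU 3 F q)
local notation "H" => Cfsg.hermForm 3 F q

variable (hF : Fintype.card F = q ^ 2) {b : Fin 3 → Fin 3 → F}

/-- the matrix of the diagonal map in the standard coordinates -/
theorem h42_dmat_mulVec (dd : Fin 3 → F) (x : Fin 3 → F) :
    (Pm b * Matrix.diagonal dd * Qm q b) *ᵥ x = ∑ i, (dd i * co q b x i) • b i := by
  rw [← Matrix.mulVec_mulVec, ← Matrix.mulVec_mulVec, Qm_mulVec, Pm_mulVec]
  apply Finset.sum_congr rfl
  intro i _
  rw [Matrix.mulVec_diagonal]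

theorem h42_dmat_det (hb : HB q b) (dd : Fin 3 → F) (hdet : ∏ i, dd i = 1) :
    (Pm b * Matrix.diagonal dd * Qm q b).det = 1 := by
  rw [Matrix.det_mul, Matrix.det_mul, mul_right_comm, ← Matrix.det_mul, Pm_mul_Qm hb,
    Matrix.det_one, one_mul, Matrix.det_diagonal, hdet]

include hF in
theorem h42_dmat_iso (hb : HB q b) (dd : Fin 3 → F) (hdd : ∀ i, dd i * dd (Fin.rev i) ^ q = 1)
    (x y : Fin 3 → F) :
    H ((Pm b * Matrix.diagonal dd * Qm q b) *ᵥ x) ((Pm b * Matrix.diagonal dd * Qm q b) *ᵥ y)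
      = H x y := by
  rw [h42_dmat_mulVec, h42_dmat_mulVec, H_eq_sum hF hb, H_eq_sum hF hb x y]
  apply Finset.sum_congr rfl
  intro i _
  rw [co_comb hF hb (fun i => dd i * co q b x i) i,
    co_comb hF hb (fun i => dd i * co q b y i) (Fin.rev i), mul_pow]
  linear_combination (co q b x i * co q b y (Fin.rev i) ^ q) * hdd i

include hF in
theorem h42_dEl_exists (hb : HB q b) (d0 d1 d2 : F) (h02 : d0 * d2 ^ q = 1)
    (h11 : d1 * d1 ^ q = 1) (hdet : d0 * d1 * d2 = 1) :
    ∃ g : G, actv g (b 0) = d0 • b 0 ∧ actv g (b 1) = d1 • b 1 ∧ actv g (b 2) = d2 • b 2 := by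
  have h20 : d2 * d0 ^ q = 1 := by
    have h := congrArg (fun t => t ^ q) h02
    simp only [mul_pow, one_pow, frob_frob hF] at h
    rw [mul_comm]; exact h
  have hdd : ∀ i : Fin 3, (![d0, d1, d2] : Fin 3 → F) i * (![d0, d1, d2] : Fin 3 → F) (Fin.rev i) ^ q
      = 1 := by
    intro i
    fin_cases i
    · exact h02
    · exact h11
    · exact h20
  have hprod : ∏ i, (![d0, d1, d2] : Fin 3 → F) i = 1 := by
    rw [Fin.prod_univ_three]
    exact hdet
  have key : ∀ j : Fin 3, actv (mkSU (Pm b * Matrix.diagonal ![d0, d1, d2] * Qm q b)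
      (h42_dmat_det hb _ hprod) (h42_dmat_iso hF hb _ hdd) : G) (b j)
      = (![d0, d1, d2] : Fin 3 → F) j • b j := by
    intro j
    unfold actv
    rw [mkSU_val, h42_dmat_mulVec, Finset.sum_eq_single j]
    · rw [co_b hb, if_pos rfl, mul_one]
    · intro i _ hij
      rw [co_b hb, if_neg hij, mul_zero, zero_smul]
    · intro h
      exact absurd (Finset.mem_univ j) h
  exact ⟨_, key 0, key 1, key 2⟩

/-- (D1) the diagonal element exists: `g = mkSU (Pm b * diagonal ![d0,d1,d2] * Qm q b)`; `det = d0 d1 d2`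
(`Pm_mul_Qm`), unitarity through `H_eq_sum` / `expand`. -/
theorem dEl_act (hb : HB q b) (d0 d1 d2 : F) (h02 : d0 * d2 ^ q = 1) (h11 : d1 * d1 ^ q = 1)
    (hdet : d0 * d1 * d2 = 1) :
    actv (dEl hF b d0 d1 d2) (b 0) = d0 • b 0 ∧ actv (dEl hF b d0 d1 d2) (b 1) = d1 • b 1 ∧
      actv (dEl hF b d0 d1 d2) (b 2) = d2 • b 2 := by
  have hex := h42_dEl_exists hF hb d0 d1 d2 h02 h11 hdet
  unfold dEl
  rw [dif_pos hex]
  exact hex.choose_spec

end Cfsg.Agent.Helper42.UT
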