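import Mathlib
import Cfsg.Agent.Lib.Helper98.UT0
import Cfsg.Agent.Lib.Helper42.UTD1

/-! UT server (helper98, S2283), piece (C2) `conj_diag`: conjugation of `x(a,β)` by a diagonal
element. (helper42) -/

set_option autoImplicit false
set_option quotPrecheck false
set_option linter.unusedSectionVars false
set_option linter.unusedVariables false

namespace Cfsg.Agent.Helper42.UT

open Matrix Cfsg Cfsg.Agent.Helper13 Cfsg.Agent.Helper87.PsuA Cfsg.Agent.Helper87.PsuB0
  Cfsg.Agent.Helper98.UT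

variable {F : Type*} [Field F] [Fintype F] {q : ℕ}

local notation "G" => ↥(Cfsg.SU 3 F q)
local notation "H" => Cfsg.hermForm 3 F q

variable (hF : Fintype.card F = q ^ 2) {b : Fin 3 → Fin 3 → F}

/-- generic form: any `g` with `g e = d0 e`, `g d = d1 d` (`d1` of norm one) conjugates `x(a,β)` to
`x(d0 d̄1 a, d0 d̄0 β)` -/
theorem h42_conj_diag_gen (hb : HB q b) (g : G) (d0 d1 a β : F) (h11 : d1 * d1 ^ q = 1)
    (h0 : actv g (b 0) = d0 • b 0) (h1 : actv g (b 1) = d1 • b 1)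
    (hab : β + β ^ q + a * a ^ q = 0) :
    g * yEl hF b a β * g⁻¹ = yEl hF b (d0 * d1 ^ q * a) (d0 * d0 ^ q * β) := by
  have h00 : H (b 0) (b 0) = 0 := by rw [hb 0 0, if_neg (by decide)]
  have h01 : H (b 0) (b 1) = 0 := by rw [hb 0 1, if_neg (by decide)]
  have hb11 : H (b 1) (b 1) = 1 := by rw [hb 1 1, if_pos (by decide)]
  have huw : H (b 0) ((-(a ^ q)) • b 1) = 0 := by rw [hermForm_smul_right, h01, mul_zero]
  have hww : H ((-(a ^ q)) • b 1) ((-(a ^ q)) • b 1) = a * a ^ q := by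
    rw [hermForm_smul_left, hermForm_smul_right, hb11, frob_neg hF, frob_frob hF]
    ring
  have hpar : β + β ^ q + H ((-(a ^ q)) • b 1) ((-(a ^ q)) • b 1) = 0 := by rw [hww]; exact hab
  have huw' : H (b 0) ((-(a ^ q)) • d1 • b 1) = 0 := by
    rw [hermForm_smul_right, hermForm_smul_right, h01, mul_zero, mul_zero]
  have hww' : H ((-(a ^ q)) • d1 • b 1) ((-(a ^ q)) • d1 • b 1) = a * a ^ q := by
    rw [hermForm_smul_left, hermForm_smul_left, hermForm_smul_right, hermForm_smul_right, hb11,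
      frob_neg hF, frob_frob hF]
    linear_combination (a * a ^ q) * h11
  have hpar' : β + β ^ q + H ((-(a ^ q)) • d1 • b 1) ((-(a ^ q)) • d1 • b 1) = 0 := by
    rw [hww']; exact hab
  unfold yEl
  rw [eich_conj hF h00 huw hpar g, h0, actv_smul, h1, eich_smul hF h00 huw' hpar']
  have e : (d0 ^ q) • (-(a ^ q)) • d1 • b 1 = (-((d0 * d1 ^ q * a) ^ q)) • b 1 := by
    rw [mul_pow, mul_pow, frob_frob hF, smul_smul, smul_smul]
    congr 1
    ring
  rw [e]

/-- (C2) conjugation by a diagonal element (`eich_conj`, `eich_smul`, or `cm`). -/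
theorem conj_diag (hb : HB q b) (d0 d1 d2 a β : F) (h02 : d0 * d2 ^ q = 1) (h11 : d1 * d1 ^ q = 1)
    (hdet : d0 * d1 * d2 = 1) (hab : β + β ^ q + a * a ^ q = 0) :
    dEl hF b d0 d1 d2 * yEl hF b a β * (dEl hF b d0 d1 d2)⁻¹ =
      yEl hF b (d0 * d1 ^ q * a) (d0 * d0 ^ q * β) := by
  obtain ⟨h0, h1, -⟩ := dEl_act hF hb d0 d1 d2 h02 h11 hdet
  exact h42_conj_diag_gen hF hb _ d0 d1 a β h11 h0 h1 hab

end Cfsg.Agent.Helper42.UT
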