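import Mathlib
import Cfsg.Agent.Lib.Helper2.SR0

/-!
# SR (K6), (K8), (K9) for helper2's server (S2281): hypothesis-explicit versions

Each theorem takes the earlier pieces it needs as explicit hypotheses, so that it does not depend on which seat lands them.
-/

set_option autoImplicit false

namespace Cfsg.Agent.Helper42.SR

open Matrix Cfsg Cfsg.Agent.Helper13 Cfsg.Agent.Helper84.SpRoot Cfsg.Agent.Helper5.SpAut
open Cfsg.Agent.Helper2.SR

section K
variable {F : Type*} [Field F] {n : ℕ}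
  {H : Subgroup (Matrix.symplecticGroup (Fin n) F)} {u l : Matrix.symplecticGroup (Fin n) F}
  {e0 e1 p : Fin n ⊕ Fin n → F} {κ γ : F}

/-- (K6) from (K3): `eich e0 w c ∈ H` with `w = (a/γ) • p` maps `e1` to `e1 + a • e0` -/
theorem orb_e1_add_of (hyp : Hyp H u l e0 e1 p κ γ) (hpp : ∀ a : F, a • p ∈ QQ H e0) :
    ∀ a : F, e1 + a • e0 ∈ Orb H e0 := by
  intro a
  obtain ⟨hw0, c, hc⟩ := hpp (a / γ)
  refine ⟨eich e0 ((a / γ) • p) c * l, H.mul_mem hc hyp.hl, ?_⟩
  rw [mul_act, hyp.le0, eich_act hw0, hyp.e1e0, sympForm_smul_right, hyp.e1p,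
    div_mul_cancel₀ a hyp.γ0]
  simp

/-- (A3) inlined: a transvection with centre in the orbit and parameter in `MM` lies in `H` -/
theorem h42_tv_of_orb {x : Fin n ⊕ Fin n → F} (hx : x ∈ Orb H e0) {c : F} (hc : c ∈ MM H e0) :
    sympT x c ∈ H := by
  obtain ⟨h, hh, rfl⟩ := hx
  rw [← conj_sympT]
  exact H.mul_mem (H.mul_mem hh hc) (H.inv_mem hh)

/-- (K8) from (K7): `sympT (a • p) κ = sympT p (κ a²)`, conjugate by `l` -/
theorem MM_sq_of (hyp : Hyp H u l e0 e1 p κ γ)
    (h7 : ∀ a : F, a ≠ 0 → a • p ∈ Orb H e0) : ∀ a : F, κ * a ^ 2 ∈ MM H e0 := by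
  intro a
  by_cases ha : a = 0
  · subst ha
    change sympT e0 (κ * 0 ^ 2) ∈ H
    rw [show κ * (0 : F) ^ 2 = 0 by ring, sympT_zero]
    exact H.one_mem
  · have h1 : sympT (a • p) κ ∈ H := h42_tv_of_orb (h7 a ha) hyp.hκ
    rw [sympT_smul] at h1
    have h2 : l * sympT p (κ * a ^ 2) * l⁻¹ ∈ H := H.mul_mem (H.mul_mem hyp.hl h1) (H.inv_mem hyp.hl)
    rw [conj_sympT, hyp.lp] at h2
    exact h2

/-- (K9) from (K8), (K9a): `MM` is an additive subgroup containing `κ a²` for all `a`, hence everything -/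
theorem MM_top_of [Finite F] (hyp : Hyp H u l e0 e1 p κ γ)
    (h8 : ∀ a : F, κ * a ^ 2 ∈ MM H e0)
    (h9a : ∀ S : AddSubgroup F, (∀ a : F, a ^ 2 ∈ S) → S = ⊤) : ∀ c : F, c ∈ MM H e0 := by
  let S : AddSubgroup F :=
    { carrier := {x | κ * x ∈ MM H e0}
      zero_mem' := by
        change sympT e0 (κ * 0) ∈ H
        rw [mul_zero, sympT_zero]
        exact H.one_mem
      add_mem' := by
        intro x y hx hy
        change sympT e0 (κ * (x + y)) ∈ H
        rw [mul_add, ← sympT_mul]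
        exact H.mul_mem hx hy
      neg_mem' := by
        intro x hx
        change sympT e0 (κ * (-x)) ∈ H
        rw [mul_neg, ← sympT_inv]
        exact H.inv_mem hx }
  have hS : S = ⊤ := h9a S (fun a => h8 a)
  intro c
  have hc : c / κ ∈ S := by rw [hS]; exact AddSubgroup.mem_top _
  have hc' : κ * (c / κ) ∈ MM H e0 := hc
  rwa [mul_div_cancel₀ c hyp.κ0] at hc'

end K

end Cfsg.Agent.Helper42.SR
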