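import Mathlib
import Cfsg.Agent.Lib.Helper87.PsuA
import Cfsg.Agent.Lib.Helper65.SRT4

/-! SUO (S2282, helper62): an element of `SU_n` whose coordinate matrix in a hyperbolic basis is
unitriangular with nonzero superdiagonal is regular unipotent. (helper42, generic `n`) -/

set_option autoImplicit false
set_option linter.unusedSectionVars false
set_option linter.unusedVariables false

namespace Cfsg.Agent.Helper42.SUO

open Matrix Cfsg Cfsg.Agent.Helper13 Cfsg.Agent.Helper87.PsuA

variable {F : Type*} [Field F] [Fintype F] {q n : ℕ} {b : Fin n → Fin n → F}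

/-- `(P T Q)^k = P T^k Q` when `Q P = 1` -/
theorem h42_conj_pow {P Q T : Matrix (Fin n) (Fin n) F} (hQP : Q * P = 1) (hPQ : P * Q = 1) (k : ℕ) :
    (P * T * Q) ^ k = P * T ^ k * Q := by
  induction k with
  | zero => rw [pow_zero, pow_zero, Matrix.mul_one, hPQ]
  | succ k ih =>
    rw [pow_succ, ih, pow_succ]
    calc P * T ^ k * Q * (P * T * Q) = P * T ^ k * (Q * P) * T * Q := by
          simp only [Matrix.mul_assoc]
      _ = P * (T ^ k * T) * Q := by rw [hQP, Matrix.mul_one]; simp only [Matrix.mul_assoc]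

/-- `mat g - 1 = P (rhoM g - 1) Q` -/
theorem h42_mat_sub_one (hb : HB q b) (g : ↥(Cfsg.SU n F q)) :
    mat g - 1 = Pm b * (rhoM q b g - 1) * Qm q b := by
  unfold rhoM
  rw [Matrix.mul_sub, Matrix.sub_mul, Matrix.mul_one, Pm_mul_Qm hb]
  congr 1
  calc mat g = 1 * mat g * 1 := by rw [Matrix.one_mul, Matrix.mul_one]
    _ = Pm b * Qm q b * mat g * (Pm b * Qm q b) := by rw [Pm_mul_Qm hb]
    _ = Pm b * (Qm q b * mat g * Pm b) * Qm q b := by simp only [Matrix.mul_assoc]

/-- regular unipotent from the coordinate matrix: upper unitriangular with nonzero superdiagonal -/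
theorem regular_of_rhoM (hb : HB q b) (hn : 1 ≤ n) (g : ↥(Cfsg.SU n F q))
    (hlow : ∀ i j : Fin n, j ≤ i → rhoM q b g i j = if i = j then 1 else 0)
    (hsup : ∀ i j : Fin n, i.val + 1 = j.val → rhoM q b g i j ≠ 0) :
    IsNilpotent (((g : Matrix.SpecialLinearGroup (Fin n) F) : Matrix (Fin n) (Fin n) F) - 1) ∧
      (((g : Matrix.SpecialLinearGroup (Fin n) F) : Matrix (Fin n) (Fin n) F) - 1) ^ (n - 1) ≠ 0 := by
  have hT := Cfsg.Agent.Helper65.SR.tri_regular (F := F) n (fun a : Fin n => n - 1 - a.val)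
    (by
      intro a c hac
      have := a.isLt; have := c.isLt
      apply Fin.ext
      have hac' : n - 1 - a.val = n - 1 - c.val := hac
      omega)
    (by
      intro a j hj
      have := a.isLt
      have hj' : j < n - 1 - a.val := hj
      exact ⟨⟨n - 1 - j, by omega⟩, by show n - 1 - (n - 1 - j) = j; omega⟩)
    (by intro a; show n - 1 - a.val < n; omega)
    ⟨⟨0, by omega⟩, by show n - 1 - 0 + 1 = n; omega⟩
    (rhoM q b g - 1)
    (by
      intro a c hac
      have := a.isLt; have := c.isLt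
      have hac' : n - 1 - a.val ≤ n - 1 - c.val := hac
      have hca : c ≤ a := by rw [Fin.le_def]; omega
      rw [Matrix.sub_apply, hlow a c hca, Matrix.one_apply, sub_self])
    (by
      intro a c hac
      have := a.isLt; have := c.isLt
      have hac' : n - 1 - a.val = n - 1 - c.val + 1 := hac
      have hne : a ≠ c := by intro h; rw [h] at hac'; omega
      rw [Matrix.sub_apply, Matrix.one_apply, if_neg hne, sub_zero]
      exact hsup a c (by omega))
  have e : (((g : Matrix.SpecialLinearGroup (Fin n) F) : Matrix (Fin n) (Fin n) F) - 1)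
      = Pm b * (rhoM q b g - 1) * Qm q b := h42_mat_sub_one hb g
  rw [e]
  constructor
  · obtain ⟨k, hk⟩ := hT.1
    exact ⟨k, by rw [h42_conj_pow (Qm_mul_Pm hb) (Pm_mul_Qm hb), hk, Matrix.mul_zero,
      Matrix.zero_mul]⟩
  · intro h0
    apply hT.2
    rw [h42_conj_pow (Qm_mul_Pm hb) (Pm_mul_Qm hb)] at h0
    calc (rhoM q b g - 1) ^ (n - 1)
        = (Qm q b * Pm b) * (rhoM q b g - 1) ^ (n - 1) * (Qm q b * Pm b) := by
          rw [Qm_mul_Pm hb, Matrix.one_mul, Matrix.mul_one]
      _ = Qm q b * (Pm b * (rhoM q b g - 1) ^ (n - 1) * Qm q b) * Pm b := by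
          simp only [Matrix.mul_assoc]
      _ = 0 := by rw [h0, Matrix.mul_zero, Matrix.zero_mul]

/-- the same in terms of the action on the hyperbolic basis -/
theorem regular_of_co (hb : HB q b) (hn : 1 ≤ n) (g : ↥(Cfsg.SU n F q))
    (hlow : ∀ i j : Fin n, j ≤ i → co q b (actv g (b j)) i = if i = j then 1 else 0)
    (hsup : ∀ i j : Fin n, i.val + 1 = j.val → co q b (actv g (b j)) i ≠ 0) :
    IsNilpotent (((g : Matrix.SpecialLinearGroup (Fin n) F) : Matrix (Fin n) (Fin n) F) - 1) ∧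
      (((g : Matrix.SpecialLinearGroup (Fin n) F) : Matrix (Fin n) (Fin n) F) - 1) ^ (n - 1) ≠ 0 :=
  regular_of_rhoM hb hn g (fun i j h => by rw [rhoM_apply]; exact hlow i j h)
    (fun i j h => by rw [rhoM_apply]; exact hsup i j h)

/-- conjugates of regular unipotent elements are regular unipotent -/
theorem regular_conj (u g : ↥(Cfsg.SU n F q))
    (h : IsNilpotent (((u : Matrix.SpecialLinearGroup (Fin n) F) : Matrix (Fin n) (Fin n) F) - 1) ∧
      (((u : Matrix.SpecialLinearGroup (Fin n) F) : Matrix (Fin n) (Fin n) F) - 1) ^ (n - 1) ≠ 0) :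
    IsNilpotent (((g * u * g⁻¹ : ↥(Cfsg.SU n F q)) : Matrix.SpecialLinearGroup (Fin n) F).1 - 1) ∧
      (((g * u * g⁻¹ : ↥(Cfsg.SU n F q)) : Matrix.SpecialLinearGroup (Fin n) F).1 - 1) ^ (n - 1)
        ≠ 0 := by
  have hmul : ∀ x y : ↥(Cfsg.SU n F q), mat (x * y) = mat x * mat y := fun x y => by
    simp [mat, Subgroup.coe_mul, Matrix.SpecialLinearGroup.coe_mul]
  have hone : mat (1 : ↥(Cfsg.SU n F q)) = 1 := by simp [mat]
  have hgg : mat g * mat g⁻¹ = 1 := by rw [← hmul, mul_inv_cancel, hone]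
  have hgg' : mat g⁻¹ * mat g = 1 := mul_eq_one_comm.1 hgg
  have e : ((g * u * g⁻¹ : ↥(Cfsg.SU n F q)) : Matrix.SpecialLinearGroup (Fin n) F).1 - 1
      = mat g * (mat u - 1) * mat g⁻¹ := by
    have e1 : ((g * u * g⁻¹ : ↥(Cfsg.SU n F q)) : Matrix.SpecialLinearGroup (Fin n) F).1
        = mat g * mat u * mat g⁻¹ := by
      rw [← hmul, ← hmul]
    rw [e1, Matrix.mul_sub, Matrix.sub_mul, Matrix.mul_one, hgg]
  rw [e]
  constructor
  · obtain ⟨k, hk⟩ := h.1
    exact ⟨k, by rw [h42_conj_pow hgg' hgg, hk, Matrix.mul_zero, Matrix.zero_mul]⟩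
  · intro h0
    apply h.2
    rw [h42_conj_pow hgg' hgg] at h0
    calc (mat u - 1) ^ (n - 1) = (mat g⁻¹ * mat g) * (mat u - 1) ^ (n - 1) * (mat g⁻¹ * mat g) := by
          rw [hgg', Matrix.one_mul, Matrix.mul_one]
      _ = mat g⁻¹ * (mat g * (mat u - 1) ^ (n - 1) * mat g⁻¹) * mat g := by
          simp only [Matrix.mul_assoc]
      _ = 0 := by rw [h0, Matrix.mul_zero, Matrix.zero_mul]

end Cfsg.Agent.Helper42.SUO
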