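import Mathlib
import Cfsg.Agent.Lib.Helper43.OMin2

set_option autoImplicit false
set_option linter.unusedSectionVars false

/-!
# The Frobenius-semilinear generator for the minus-type form in odd characteristic

Mirror of `Helper43.OMin1.frobK` and `Helper43.OMin2.gen` (characteristic two) for an odd prime `p`
(piece (GEN) of helper13's `OMO` server for S2606).
-/

namespace Cfsg.Agent.Helper42.OMinOdd

open Matrix QuadraticMap Cfsg.Agent.Helper43 Cfsg.Agent.Helper43.OGam Cfsg.Agent.Helper43.OMin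

section field

variable {F : Type*} [Field F] [Fintype F]

theorem pow_card_p {p f : ℕ} (hF : Fintype.card F = p ^ f) (c : F) : c ^ (p ^ f) = c := by
  rw [← hF]; exact FiniteField.pow_card c

end field

section arith

/-- `(p - 1) / 2 + p (p ^ j - 1) / 2 = (p ^ (j + 1) - 1) / 2`, written with `/ 2` on odd numbers. -/
theorem half_pow_succ {p : ℕ} (hp : p % 2 = 1) (j : ℕ) :
    p / 2 + (p ^ j / 2) * p = p ^ (j + 1) / 2 := by
  obtain ⟨m, hm⟩ : ∃ m, p = 2 * m + 1 := ⟨p / 2, by omega⟩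
  have hodd : Odd (p ^ j) := Odd.pow (Nat.odd_iff.2 hp)
  obtain ⟨e, he⟩ := hodd
  have h1 : p / 2 = m := by omega
  have h2 : p ^ j / 2 = e := by omega
  have h3 : p ^ (j + 1) = 2 * (m + e * (2 * m + 1)) + 1 := by
    rw [pow_succ, he, hm]; ring
  rw [h1, h2, h3, hm]
  omega

end arith

section frobP

variable {F : Type*} [Field F] (p : ℕ) [Fact p.Prime] [CharP F p] (a b : F)

theorem natCast_pow_char (n : ℕ) : ((n : F)) ^ p = n := by
  have := map_natCast (frobenius F p) n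
  rwa [frobenius_def] at this

theorem two_pow_char : (2 : F) ^ p = 2 := by
  have := natCast_pow_char (F := F) p 2
  exact_mod_cast this

theorem four_pow_char : (4 : F) ^ p = 4 := by
  have := natCast_pow_char (F := F) p 4
  exact_mod_cast this

/-- The discriminant of `z₁² + a z₁ z₂ + b z₂²`. -/
def disc : F := a ^ 2 - 4 * b

/-- `D ^ ((p - 1) / 2)`. -/
def w2 : F := disc a b ^ (p / 2)

/-- `(a ^ p - a w₂) / 2`. -/
def w1 : F := (a ^ p - a * w2 p a b) / 2

/-- The Frobenius `z ↦ z ^ p` of `F[θ]/(θ² - aθ + b)` in the coordinates `z = z₁ + z₂ θ`. -/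
def frobP (z : F × F) : F × F := (z.1 ^ p + w1 p a b * z.2 ^ p, w2 p a b * z.2 ^ p)

theorem two_w1 (h2 : (2 : F) ≠ 0) : 2 * w1 p a b + a * w2 p a b = a ^ p := by
  have h : 2 * ((a ^ p - a * w2 p a b) / 2) = a ^ p - a * w2 p a b := by field_simp
  unfold w1
  linear_combination h

theorem disc_pow : disc a b ^ p = (a ^ p) ^ 2 - 4 * b ^ p := by
  unfold disc
  rw [sub_pow_char, mul_pow, four_pow_char, ← pow_mul, ← pow_mul, mul_comm 2 p]

theorem w2_sq (hp : p ≠ 2) : w2 p a b ^ 2 * disc a b = disc a b ^ p := by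
  unfold w2
  have hodd : p = 2 * (p / 2) + 1 := by
    have := (Fact.out : p.Prime).eq_two_or_odd
    omega
  conv_rhs => rw [hodd]
  ring

theorem w1_rel (hp : p ≠ 2) (h2 : (2 : F) ≠ 0) :
    w1 p a b ^ 2 + a * w1 p a b * w2 p a b + b * w2 p a b ^ 2 = b ^ p := by
  have hA := two_w1 p a b h2
  have hw := w2_sq p a b hp
  have hD := disc_pow p a b
  have hDdef : disc a b = a ^ 2 - 4 * b := rfl
  have h4 : (4 : F) ≠ 0 := by
    have : (4 : F) = 2 * 2 := by norm_num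
    rw [this]
    exact mul_ne_zero h2 h2
  apply mul_left_cancel₀ h4
  linear_combination (2 * w1 p a b + a * w2 p a b + a ^ p) * hA - hw + w2 p a b ^ 2 * hDdef - hD

theorem nrm_frobP (hp : p ≠ 2) (h2 : (2 : F) ≠ 0) (z : F × F) :
    nrm a b (frobP p a b z) = nrm a b z ^ p := by
  have hA := two_w1 p a b h2
  have hB := w1_rel p a b hp h2
  simp only [nrm, frobP]
  have e : (z.1 ^ 2 + a * z.1 * z.2 + b * z.2 ^ 2) ^ p =
      (z.1 ^ p) ^ 2 + a ^ p * z.1 ^ p * z.2 ^ p + b ^ p * (z.2 ^ p) ^ 2 := by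
    rw [add_pow_char, add_pow_char]
    ring
  rw [e]
  linear_combination (z.1 ^ p * z.2 ^ p) * hA + (z.2 ^ p) ^ 2 * hB

theorem frobP_smul (c : F) (z : F × F) : frobP p a b (c • z) = c ^ p • frobP p a b z := by
  ext
  · simp only [frobP, Prod.smul_fst, Prod.smul_snd, smul_eq_mul]; ring
  · simp only [frobP, Prod.smul_fst, Prod.smul_snd, smul_eq_mul]; ring

theorem frobP_add (z w : F × F) : frobP p a b (z + w) = frobP p a b z + frobP p a b w := by
  ext
  · simp only [frobP, Prod.fst_add, Prod.snd_add]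
    rw [add_pow_char, add_pow_char]
    ring
  · simp only [frobP, Prod.fst_add, Prod.snd_add]
    rw [add_pow_char]
    ring

/-- The coordinates of `θ ^ (p ^ j)`. -/
def cdP (j : ℕ) : F × F := (frobP p a b)^[j] (0, 1)

theorem cdP_zero : cdP p a b 0 = (0, 1) := rfl

theorem cdP_succ (j : ℕ) : cdP p a b (j + 1) = frobP p a b (cdP p a b j) := by
  unfold cdP
  rw [Function.iterate_succ_apply']

theorem frobP_iterate (j : ℕ) (z : F × F) :
    (frobP p a b)^[j] z =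
      (z.1 ^ (p ^ j) + (cdP p a b j).1 * z.2 ^ (p ^ j), (cdP p a b j).2 * z.2 ^ (p ^ j)) := by
  induction j with
  | zero => simp [cdP_zero]
  | succ j ih =>
    rw [Function.iterate_succ_apply', ih, cdP_succ]
    ext
    · simp only [frobP]
      rw [add_pow_char, pow_succ p j, pow_mul, pow_mul]
      ring
    · simp only [frobP]
      rw [pow_succ p j, pow_mul]
      ring

theorem cdP_rel (h2 : (2 : F) ≠ 0) (j : ℕ) :
    2 * (cdP p a b j).1 + a * (cdP p a b j).2 = a ^ (p ^ j) := by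
  induction j with
  | zero => simp [cdP_zero]
  | succ j ih =>
    rw [cdP_succ]
    simp only [frobP]
    have hA := two_w1 p a b h2
    have h2p := two_pow_char (F := F) p
    have e : (2 * (cdP p a b j).1 + a * (cdP p a b j).2) ^ p =
        2 ^ p * (cdP p a b j).1 ^ p + a ^ p * (cdP p a b j).2 ^ p := by
      rw [add_pow_char]
      ring
    rw [ih, h2p, ← pow_mul, ← pow_succ] at e
    rw [e]
    linear_combination ((cdP p a b j).2 ^ p) * hA

theorem cdP_snd (hp : p ≠ 2) (j : ℕ) : (cdP p a b j).2 = disc a b ^ (p ^ j / 2) := by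
  induction j with
  | zero => simp [cdP_zero]
  | succ j ih =>
    rw [cdP_succ]
    simp only [frobP]
    have hodd : p % 2 = 1 := by
      have := (Fact.out : p.Prime).eq_two_or_odd
      omega
    rw [ih, ← half_pow_succ hodd j, w2, ← pow_mul, ← pow_add]

end frobP

section frobCard

variable {F : Type*} [Field F] [Fintype F] (p : ℕ) [Fact p.Prime] [CharP F p] (a b : F)

theorem disc_not_isSquare (h2 : (2 : F) ≠ 0)
    (hab : ∀ z₁ z₂ : F, z₁ ^ 2 + a * z₁ * z₂ + b * z₂ ^ 2 = 0 → z₁ = 0 ∧ z₂ = 0) :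
    ¬ IsSquare (disc a b) := by
  rintro ⟨d, hd⟩
  have h := hab ((-a + d) / 2) 1 (by
    have hDdef : disc a b = a ^ 2 - 4 * b := rfl
    rw [hDdef] at hd
    field_simp
    linear_combination (-1 : F) * hd)
  exact one_ne_zero h.2

/-- The `f`-th iterate of the Frobenius of the quadratic extension is the conjugation. -/
theorem frobP_iterate_card {f : ℕ} (hp : p ≠ 2) (hF : Fintype.card F = p ^ f)
    (hab : ∀ z₁ z₂ : F, z₁ ^ 2 + a * z₁ * z₂ + b * z₂ ^ 2 = 0 → z₁ = 0 ∧ z₂ = 0) (z : F × F) :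
    (frobP p a b)^[f] z = (z.1 + a * z.2, -z.2) := by
  have hchar : ringChar F ≠ 2 := by rw [ringChar.eq F p]; exact hp
  have h2 : (2 : F) ≠ 0 := Ring.two_ne_zero hchar
  have hns := disc_not_isSquare a b h2 hab
  have hD0 : disc a b ≠ 0 := by
    intro h0
    apply hns
    rw [h0]
    exact ⟨0, by simp⟩
  have hd : (cdP p a b f).2 = -1 := by
    rw [cdP_snd p a b hp, ← hF]
    rcases FiniteField.pow_dichotomy hchar hD0 with h | h
    · exact absurd ((FiniteField.isSquare_iff hchar hD0).2 h) hns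
    · exact h
  have hc : (cdP p a b f).1 = a := by
    have := cdP_rel p a b h2 f
    rw [hd, pow_card_p hF] at this
    apply mul_left_cancel₀ h2
    linear_combination this
  rw [frobP_iterate, hc, hd, pow_card_p hF, pow_card_p hF]
  ext
  · rfl
  · simp

theorem frobP_injective (hp : p ≠ 2)
    (hab : ∀ z₁ z₂ : F, z₁ ^ 2 + a * z₁ * z₂ + b * z₂ ^ 2 = 0 → z₁ = 0 ∧ z₂ = 0) :
    Function.Injective (frobP p a b) := by
  have hchar : ringChar F ≠ 2 := by rw [ringChar.eq F p]; exact hp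
  have h2 : (2 : F) ≠ 0 := Ring.two_ne_zero hchar
  have hns := disc_not_isSquare a b h2 hab
  have hD0 : disc a b ≠ 0 := by
    intro h0
    apply hns
    rw [h0]
    exact ⟨0, by simp⟩
  have hw2 : w2 p a b ≠ 0 := pow_ne_zero _ hD0
  have hpow : ∀ u w : F, u ^ p = w ^ p → u = w := by
    intro u w h
    apply frobenius_inj F p
    rw [frobenius_def, frobenius_def]
    exact h
  intro z w hzw
  have h0 := congrArg Prod.fst hzw
  have h1 := congrArg Prod.snd hzw
  simp only [frobP] at h0 h1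
  have e2 : z.2 = w.2 := hpow _ _ (mul_left_cancel₀ hw2 h1)
  rw [e2] at h0
  have e1 : z.1 = w.1 := hpow _ _ (add_right_cancel h0)
  exact Prod.ext e1 e2

end frobCard

section gen

variable {F : Type*} [Field F] [Fintype F] (p : ℕ) [Fact p.Prime] [CharP F p] {k : ℕ} (a b : F)

theorem mk2_eta' (x : (Fin k ⊕ Fin k) ⊕ Fin 2 → F) :
    mk2 (fun i => x (Sum.inl i)) (zp x) = x := by
  funext i
  rcases i with i | t
  · rfl
  · fin_cases t
    · rfl
    · rfl

theorem mk2_ext' {x y : (Fin k ⊕ Fin k) ⊕ Fin 2 → F}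
    (h1 : ∀ i, x (Sum.inl i) = y (Sum.inl i)) (h2 : zp x = zp y) : x = y := by
  rw [← mk2_eta' x, ← mk2_eta' y, h2]
  congr 1
  funext i
  exact h1 i

/-- The generator as a function. -/
def genFun (x : (Fin k ⊕ Fin k) ⊕ Fin 2 → F) : (Fin k ⊕ Fin k) ⊕ Fin 2 → F :=
  mk2 (fun i => x (Sum.inl i) ^ p) (frobP p a b (zp x))

theorem zp_genFun (x : (Fin k ⊕ Fin k) ⊕ Fin 2 → F) :
    zp (genFun p a b x) = frobP p a b (zp x) := rfl

theorem genFun_inl (x : (Fin k ⊕ Fin k) ⊕ Fin 2 → F) (i : Fin k ⊕ Fin k) :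
    genFun p a b x (Sum.inl i) = x (Sum.inl i) ^ p := rfl

theorem genFun_iterate (j : ℕ) (x : (Fin k ⊕ Fin k) ⊕ Fin 2 → F) :
    (genFun p a b)^[j] x =
      mk2 (fun i => x (Sum.inl i) ^ (p ^ j)) ((frobP p a b)^[j] (zp x)) := by
  induction j with
  | zero =>
    simp only [Function.iterate_zero, id_eq, pow_zero, pow_one]
    exact (mk2_eta' x).symm
  | succ j ih =>
    rw [Function.iterate_succ_apply', ih, Function.iterate_succ_apply']
    apply mk2_ext'
    · intro i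
      show (x (Sum.inl i) ^ (p ^ j)) ^ p = x (Sum.inl i) ^ (p ^ (j + 1))
      rw [← pow_mul, ← pow_succ]
    · rfl

theorem genFun_add (x y : (Fin k ⊕ Fin k) ⊕ Fin 2 → F) :
    genFun p a b (x + y) = genFun p a b x + genFun p a b y := by
  apply mk2_ext'
  · intro i
    show (x (Sum.inl i) + y (Sum.inl i)) ^ p = x (Sum.inl i) ^ p + y (Sum.inl i) ^ p
    exact add_pow_char _ _ p
  · show frobP p a b (zp x + zp y) = frobP p a b (zp x) + frobP p a b (zp y)
    exact frobP_add p a b _ _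

theorem genFun_smul (c : F) (x : (Fin k ⊕ Fin k) ⊕ Fin 2 → F) :
    genFun p a b (c • x) = c ^ p • genFun p a b x := by
  apply mk2_ext'
  · intro i
    show (c * x (Sum.inl i)) ^ p = c ^ p * x (Sum.inl i) ^ p
    exact mul_pow _ _ _
  · show frobP p a b (c • zp x) = c ^ p • frobP p a b (zp x)
    exact frobP_smul p a b c _

theorem stdMinus_eq' (x : (Fin k ⊕ Fin k) ⊕ Fin 2 → F) :
    stdMinus F k a b x =
      (∑ i, x (Sum.inl (Sum.inl i)) * x (Sum.inl (Sum.inr i))) + nrm a b (zp x) := by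
  rw [stdMinus_apply]
  rfl

theorem stdMinus_genFun (hp : p ≠ 2) (x : (Fin k ⊕ Fin k) ⊕ Fin 2 → F) :
    stdMinus F k a b (genFun p a b x) = stdMinus F k a b x ^ p := by
  have hchar : ringChar F ≠ 2 := by rw [ringChar.eq F p]; exact hp
  have h2 : (2 : F) ≠ 0 := Ring.two_ne_zero hchar
  rw [stdMinus_eq', stdMinus_eq', add_pow_char, zp_genFun, nrm_frobP p a b hp h2]
  congr 1
  rw [sum_pow_char p]
  apply Finset.sum_congr rfl
  intro i _
  rw [genFun_inl, genFun_inl, mul_pow]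

theorem genFun_injective (hp : p ≠ 2)
    (hab : ∀ z₁ z₂ : F, z₁ ^ 2 + a * z₁ * z₂ + b * z₂ ^ 2 = 0 → z₁ = 0 ∧ z₂ = 0) :
    Function.Injective (genFun (k := k) p a b) := by
  have hpow : ∀ u w : F, u ^ p = w ^ p → u = w := by
    intro u w h
    apply frobenius_inj F p
    rw [frobenius_def, frobenius_def]
    exact h
  intro x y hxy
  apply mk2_ext'
  · intro i
    have := congrFun hxy (Sum.inl i)
    exact hpow _ _ this
  · apply frobP_injective p a b hp hab
    have := congrArg zp hxy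
    exact this

/-- The generator as a permutation. -/
noncomputable def genPerm (hp : p ≠ 2)
    (hab : ∀ z₁ z₂ : F, z₁ ^ 2 + a * z₁ * z₂ + b * z₂ ^ 2 = 0 → z₁ = 0 ∧ z₂ = 0) :
    Equiv.Perm ((Fin k ⊕ Fin k) ⊕ Fin 2 → F) :=
  Equiv.ofBijective (genFun p a b)
    (Finite.injective_iff_bijective.mp (genFun_injective p a b hp hab))

theorem genPerm_apply (hp : p ≠ 2)
    (hab : ∀ z₁ z₂ : F, z₁ ^ 2 + a * z₁ * z₂ + b * z₂ ^ 2 = 0 → z₁ = 0 ∧ z₂ = 0)
    (x : (Fin k ⊕ Fin k) ⊕ Fin 2 → F) : genPerm p a b hp hab x = genFun p a b x := rfl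

theorem genPerm_pow_apply (hp : p ≠ 2)
    (hab : ∀ z₁ z₂ : F, z₁ ^ 2 + a * z₁ * z₂ + b * z₂ ^ 2 = 0 → z₁ = 0 ∧ z₂ = 0) (j : ℕ)
    (x : (Fin k ⊕ Fin k) ⊕ Fin 2 → F) :
    (genPerm p a b hp hab ^ j) x = (genFun p a b)^[j] x := by
  rw [← Equiv.Perm.iterate_eq_pow]
  rfl

theorem genPerm_mem (hp : p ≠ 2)
    (hab : ∀ z₁ z₂ : F, z₁ ^ 2 + a * z₁ * z₂ + b * z₂ ^ 2 = 0 → z₁ = 0 ∧ z₂ = 0) :
    genPerm (k := k) p a b hp hab ∈ GamO ⇑(stdMinus F k a b) := by
  refine ⟨frobeniusEquiv F p, 1, ?_, ?_, ?_⟩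
  · intro x y
    exact genFun_add p a b x y
  · intro c x
    rw [genPerm_apply, genPerm_apply, genFun_smul, frobeniusEquiv_apply, frobenius_def]
  · intro x
    rw [genPerm_apply, Units.val_one, one_mul, frobeniusEquiv_apply, frobenius_def]
    exact stdMinus_genFun p a b hp x

/-- The generator as a semisimilarity. -/
noncomputable def gen (hp : p ≠ 2)
    (hab : ∀ z₁ z₂ : F, z₁ ^ 2 + a * z₁ * z₂ + b * z₂ ^ 2 = 0 → z₁ = 0 ∧ z₂ = 0) :
    GamO ⇑(stdMinus F k a b) :=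
  ⟨genPerm p a b hp hab, genPerm_mem p a b hp hab⟩

theorem gen_pow_apply (hp : p ≠ 2)
    (hab : ∀ z₁ z₂ : F, z₁ ^ 2 + a * z₁ * z₂ + b * z₂ ^ 2 = 0 → z₁ = 0 ∧ z₂ = 0) (j : ℕ)
    (x : (Fin k ⊕ Fin k) ⊕ Fin 2 → F) :
    ((gen (k := k) p a b hp hab ^ j : GamO ⇑(stdMinus F k a b)) :
      Equiv.Perm ((Fin k ⊕ Fin k) ⊕ Fin 2 → F)) x = (genFun p a b)^[j] x := by
  rw [Subgroup.coe_pow]
  exact genPerm_pow_apply p a b hp hab j x

theorem gen_pow_smul (hp : p ≠ 2)
    (hab : ∀ z₁ z₂ : F, z₁ ^ 2 + a * z₁ * z₂ + b * z₂ ^ 2 = 0 → z₁ = 0 ∧ z₂ = 0) (j : ℕ) (c : F)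
    (x : (Fin k ⊕ Fin k) ⊕ Fin 2 → F) :
    ((gen (k := k) p a b hp hab ^ j : GamO ⇑(stdMinus F k a b)) :
      Equiv.Perm ((Fin k ⊕ Fin k) ⊕ Fin 2 → F)) (c • x) =
    c ^ (p ^ j) • ((gen (k := k) p a b hp hab ^ j : GamO ⇑(stdMinus F k a b)) :
      Equiv.Perm ((Fin k ⊕ Fin k) ⊕ Fin 2 → F)) x := by
  rw [gen_pow_apply, gen_pow_apply]
  induction j with
  | zero => simp
  | succ j ih =>
    rw [Function.iterate_succ_apply', Function.iterate_succ_apply', ih, genFun_smul, ← pow_mul,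
      ← pow_succ]

/-- The vector `a e₁ - 2 e₂` of the anisotropic plane. -/
def w0 : (Fin k ⊕ Fin k) ⊕ Fin 2 → F := mk2 0 (a, -2)

theorem stdMinus_w0 : stdMinus F k a b (w0 (k := k) a) = -disc a b := by
  rw [stdMinus_eq']
  have hz : zp (w0 (k := k) a) = (a, -2) := rfl
  rw [hz]
  have hs : ∑ i : Fin k, w0 (k := k) a (Sum.inl (Sum.inl i)) * w0 (k := k) a (Sum.inl (Sum.inr i))
      = 0 := by
    apply Finset.sum_eq_zero
    intro i _
    show (0 : F) * 0 = 0
    ring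
  rw [hs]
  simp only [nrm, disc]
  ring

theorem refl_w0_apply (hD : disc a b ≠ 0) (x : (Fin k ⊕ Fin k) ⊕ Fin 2 → F) :
    Cfsg.reflectionMatrix (⇑(stdMinus F k a b)) (w0 a) *ᵥ x =
      mk2 (fun i => x (Sum.inl i)) ((zp x).1 + a * (zp x).2, -(zp x).2) := by
  rw [Cfsg.Agent.Helper13.reflectionMatrix_mulVec, stdMinus_w0]
  have hpol : polar (⇑(stdMinus F k a b)) (w0 a) x = disc a b * x (Sum.inr 1) := by
    rw [polar_stdMinus]
    have hs : ∑ i : Fin k, (w0 (k := k) a (Sum.inl (Sum.inl i)) * x (Sum.inl (Sum.inr i)) +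
        x (Sum.inl (Sum.inl i)) * w0 (k := k) a (Sum.inl (Sum.inr i))) = 0 := by
      apply Finset.sum_eq_zero
      intro i _
      show (0 : F) * x (Sum.inl (Sum.inr i)) + x (Sum.inl (Sum.inl i)) * 0 = 0
      ring
    rw [hs]
    have h0 : w0 (k := k) a (Sum.inr 0) = a := rfl
    have h1 : w0 (k := k) a (Sum.inr 1) = -2 := rfl
    rw [h0, h1]
    simp only [disc]
    ring
  rw [hpol]
  have hcoef : (-disc a b)⁻¹ * (disc a b * x (Sum.inr 1)) = -x (Sum.inr 1) := by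
    field_simp
  rw [hcoef]
  apply mk2_ext'
  · intro i
    show x (Sum.inl i) - (-x (Sum.inr 1)) * (0 : F) = x (Sum.inl i)
    ring
  · ext
    · show x (Sum.inr 0) - (-x (Sum.inr 1)) * a = x (Sum.inr 0) + a * x (Sum.inr 1)
      ring
    · show x (Sum.inr 1) - (-x (Sum.inr 1)) * (-2) = -x (Sum.inr 1)
      ring

/-- The `f`-th power of the generator is the reflection in `w0`. -/
theorem gen_pow_card {f : ℕ} (hp : p ≠ 2) (hF : Fintype.card F = p ^ f)
    (hab : ∀ z₁ z₂ : F, z₁ ^ 2 + a * z₁ * z₂ + b * z₂ ^ 2 = 0 → z₁ = 0 ∧ z₂ = 0)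
    (x : (Fin k ⊕ Fin k) ⊕ Fin 2 → F) :
    ((gen (k := k) p a b hp hab ^ f : GamO ⇑(stdMinus F k a b)) :
      Equiv.Perm ((Fin k ⊕ Fin k) ⊕ Fin 2 → F)) x =
    Cfsg.reflectionMatrix (⇑(stdMinus F k a b)) (w0 a) *ᵥ x := by
  have hchar : ringChar F ≠ 2 := by rw [ringChar.eq F p]; exact hp
  have h2 : (2 : F) ≠ 0 := Ring.two_ne_zero hchar
  have hns := disc_not_isSquare a b h2 hab
  have hD0 : disc a b ≠ 0 := by
    intro h0
    apply hns
    rw [h0]
    exact ⟨0, by simp⟩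
  rw [gen_pow_apply, genFun_iterate, frobP_iterate_card p a b hp hF hab, refl_w0_apply a b hD0]
  congr 1
  funext i
  exact pow_card_p hF _

end gen

/-- (GEN) The Frobenius-semilinear generator of `GamO` of the minus-type form for `p` odd: its
`f`-th power is the reflection in `w0 = a e₁ - 2 e₂`. -/
theorem exists_gen_odd {F : Type*} [Field F] [Fintype F] {p f k : ℕ} [Fact p.Prime] (hp : p ≠ 2)
    (hf : 1 ≤ f) (hF : Fintype.card F = p ^ f) (a b : F)
    (hab : ∀ z₁ z₂ : F, z₁ ^ 2 + a * z₁ * z₂ + b * z₂ ^ 2 = 0 → z₁ = 0 ∧ z₂ = 0) :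
    ∃ (L₀ : GamO ⇑(stdMinus F k a b)) (w0 : (Fin k ⊕ Fin k) ⊕ Fin 2 → F),
      stdMinus F k a b w0 ≠ 0 ∧
      (∀ (j : ℕ) (c : F) (x : (Fin k ⊕ Fin k) ⊕ Fin 2 → F),
        ((L₀ ^ j : GamO ⇑(stdMinus F k a b)) : Equiv.Perm _) (c • x) =
          c ^ (p ^ j) • ((L₀ ^ j : GamO ⇑(stdMinus F k a b)) : Equiv.Perm _) x) ∧
      (∀ x : (Fin k ⊕ Fin k) ⊕ Fin 2 → F,
        ((L₀ ^ f : GamO ⇑(stdMinus F k a b)) : Equiv.Perm _) x =
          Cfsg.reflectionMatrix (⇑(stdMinus F k a b)) w0 *ᵥ x) := by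
  have _ := hf
  have hchar : CharP F p := charP_of_card_eq_prime_pow hF
  have hchar2 : ringChar F ≠ 2 := by rw [ringChar.eq F p]; exact hp
  have h2 : (2 : F) ≠ 0 := Ring.two_ne_zero hchar2
  have hns := disc_not_isSquare a b h2 hab
  have hD0 : disc a b ≠ 0 := by
    intro h0
    apply hns
    rw [h0]
    exact ⟨0, by simp⟩
  refine ⟨gen p a b hp hab, w0 a, ?_, ?_, ?_⟩
  · rw [stdMinus_w0]
    exact neg_ne_zero.2 hD0
  · intro j c x
    exact gen_pow_smul p a b hp hab j c x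
  · intro x
    exact gen_pow_card p a b hp hF hab x

end Cfsg.Agent.Helper42.OMinOdd
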