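import Mathlib
import Cfsg.Prelude.Def_LieTypeDatum
import Cfsg.Agent.Lib.Helper5.OMFChar2
import Cfsg.Agent.Lib.Helper5.OrthLag12

/-!
# `Inndiag(PΩ⁺) = Inn` in characteristic two (GF server of helper43, piece (E1))

Port of helper5's minus-type proof (`Lib/Helper5/OMFChar2.lean`) to the plus-type form.
-/

set_option autoImplicit false
set_option linter.unusedSectionVars false
set_option linter.unusedSimpArgs false
set_option linter.unusedVariables false

namespace Cfsg.Agent.Helper42.GF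

open Module QuadraticMap Matrix Cfsg.Agent.Helper43 Cfsg.Agent.Helper44
  Cfsg.Agent.Helper5.OrthAut Cfsg.Agent.Helper5.OrthLag Cfsg.Agent.Helper5.OrthPar
  Cfsg.Agent.Helper40.AutPOm Cfsg.Agent.Helper5.OMF

universe u

variable {F : Type u} [Field F] [Fintype F]

local notation "MP" m => Matrix (Fin m ⊕ Fin m) (Fin m ⊕ Fin m) F

theorem e1_card_Ip (m : ℕ) : Fintype.card (Fin m ⊕ Fin m) = 2 * m := by
  simp; ring

/-- the standard Lagrangian of the plus form is totally singular -/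
theorem e1_isTSLag_lagPlus (m : ℕ) : IsTSLag (stdPlus F m) (lagPlus F m) := by
  refine ⟨isLag_lagPlus F m, ?_⟩
  intro x hx
  rw [stdPlus_apply]
  unfold Cfsg.quadFormPlus
  apply Finset.sum_eq_zero
  intro i _
  rw [(mem_lagPlus F m x).1 hx i, mul_zero]

/-- a scalar multiple of a product of `k` reflections of the plus-type form preserves the two
classes iff `k` is even -/
theorem e1_preserves_plus_list_iff (m : ℕ) (l : List (Fin m ⊕ Fin m → F))
    (hl : ∀ w ∈ l, stdPlus F m w ≠ 0) (c : F) (hc : c ≠ 0) :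
    Cfsg.PreservesSingularClasses (⇑(stdPlus F m))
      (c • (l.map (Cfsg.reflectionMatrix (⇑(stdPlus F m)))).prod) ↔ Even l.length := by
  rw [preserves_smul_iff _ _ hc]
  exact preserves_list_iff (stdPlus F m) (stdPlus_nondegenerate F m) (e1_isTSLag_lagPlus m) l hl

/-- an isometry outside `Ω` in characteristic two is an odd product of reflections -/
theorem e1_mem_omega_of_even_char2 (h2 : (2 : F) = 0) {m : ℕ} (hm : 3 ≤ m)
    (h : ↥(Cfsg.isometryGroup F ⇑(stdPlus F m)))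
    (l : List (Fin m ⊕ Fin m → F)) (hl : ∀ w ∈ l, stdPlus F m w ≠ 0)
    (hM : ((h : GL (Fin m ⊕ Fin m) F) : MP m) =
      (l.map (Cfsg.reflectionMatrix ⇑(stdPlus F m))).prod) :
    h ∈ Cfsg.Omega F ⇑(stdPlus F m) ↔ Even l.length := by
  classical
  have hnd := stdPlus_nondegenerate F m
  have hcard := e1_card_Ip m
  have hexc : Fintype.card F ≠ 2 ∨ Fintype.card (Fin m ⊕ Fin m) ≠ 4 := by
    right; rw [hcard]; intro h4; omega
  have hidx := Cfsg.Agent.Lead.POmegaCard.index_omega_even h2 (stdPlus F m) hnd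
    (by rw [hcard]; omega) hexc
  obtain ⟨v, hv⟩ := hQ0_of_hyp (stdPlus F m) (stdPlus_isHypFamily F m) (by omega)
  constructor
  · intro hmem
    exact (Cfsg.Agent.S0789.mem_Rplus_iff _ hnd h l hl hM).1
      (Cfsg.Agent.Helper43.OMin.omega_le_Rplus _ hnd hexc hmem)
  · intro hev
    by_contra hnot
    set ρ := Cfsg.Agent.S0792.reflG (stdPlus F m) v hv with hρ
    have hρn : ρ ∉ Cfsg.Omega F ⇑(stdPlus F m) :=
      Cfsg.Agent.Helper43.OMin.refl_not_mem_omega _ hnd hexc v hv ρ rfl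
    have hmul : h * ρ ∈ Cfsg.Omega F ⇑(stdPlus F m) := by
      rw [Subgroup.mul_mem_iff_of_index_two hidx]
      exact ⟨fun h' => absurd h' hnot, fun h' => absurd h' hρn⟩
    have h3 := Cfsg.Agent.Helper43.OMin.omega_le_Rplus _ hnd hexc hmul
    have h4 := (Cfsg.Agent.S0789.mem_Rplus_iff _ hnd (h * ρ) (l ++ [v]) (by
      intro w hw
      rcases List.mem_append.1 hw with hw | hw
      · exact hl w hw
      · rw [List.mem_singleton] at hw
        rw [hw]; exact hv) (by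
      rw [Subgroup.coe_mul, Units.val_mul, hM, List.map_append, List.prod_append]
      simp [hρ, Cfsg.Agent.S0792.coe_reflG])).1 h3
    rw [List.length_append, List.length_singleton] at h4
    rw [Nat.even_add_one] at h4
    exact h4 hev

/-- characteristic two: a similarity of the plus form preserves the two classes iff it is a scalar
times an element of `Ω` -/
theorem e1_preserves_iff_char2 (h2 : (2 : F) = 0) {m : ℕ} (hm : 3 ≤ m)
    (g : GL (Fin m ⊕ Fin m) F) (hg : g ∈ GO (stdPlus F m)) :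
    Cfsg.PreservesSingularClasses (⇑(stdPlus F m)) (g : MP m) ↔
      ∃ (c : Fˣ) (s : GL (Fin m ⊕ Fin m) F), s ∈ OmGL ⇑(stdPlus F m) ∧
        g = sclHom c * s := by
  classical
  have hnd := stdPlus_nondegenerate F m
  have hcard := e1_card_Ip m
  have hexc : Fintype.card F ≠ 2 ∨ Fintype.card (Fin m ⊕ Fin m) ≠ 4 := by
    right; rw [hcard]; intro h4; omega
  constructor
  · intro hP
    have hchar : ringChar F = 2 := by
      have : CharP F 2 := CharTwo.of_one_ne_zero_of_two_eq_zero one_ne_zero h2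
      exact ringChar.eq F 2
    obtain ⟨c, hc⟩ := FiniteField.isSquare_of_char_two hchar
      ((mult (stdPlus F m) ⟨g, hg⟩ : Fˣ) : F)
    have hc0 : c ≠ 0 := by
      rintro rfl
      rw [mul_zero] at hc
      exact Units.ne_zero _ hc
    set cU : Fˣ := Units.mk0 c hc0 with hcU
    set hh : GL (Fin m ⊕ Fin m) F := (sclHom cU)⁻¹ * g with hhdef
    have hhiso : hh ∈ Cfsg.isometryGroup F ⇑(stdPlus F m) := by
      rw [mem_iso_iff]
      intro v
      have h1 : ((hh : GL _ F) : MP m) *ᵥ v =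
          (c⁻¹ : F) • ((g : MP m) *ᵥ v) := by
        rw [hhdef, Units.val_mul, ← map_inv, sclHom_coe, Matrix.smul_mul, Matrix.one_mul,
          Matrix.smul_mulVec]
        rfl
      rw [h1, QuadraticMap.map_smul]
      have h3 := mult_spec (stdPlus F m) ⟨g, hg⟩ v
      change stdPlus F m ((g : MP m) *ᵥ v) = _ at h3
      rw [h3, hc, smul_eq_mul]
      field_simp
    obtain ⟨l, hl, hMl⟩ := Cfsg.Agent.S0786.matrix_cd_all (stdPlus F m) hnd hexc
      ((hh : GL _ F) : MP m) (fun u => (mem_iso_iff _ hh).1 hhiso u)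
    have hgM : (g : MP m) = c • (l.map (Cfsg.reflectionMatrix ⇑(stdPlus F m))).prod := by
      rw [← hMl, hhdef, Units.val_mul, ← map_inv, sclHom_coe, Matrix.smul_mul,
        Matrix.one_mul, smul_smul]
      have : c * ((cU⁻¹ : Fˣ) : F) = 1 := by
        rw [Units.val_inv_eq_inv_val, hcU, Units.val_mk0, mul_inv_cancel₀ hc0]
      rw [this, one_smul]
    rw [hgM] at hP
    have hev := (e1_preserves_plus_list_iff m l hl c hc0).1 hP
    have hmem := (e1_mem_omega_of_even_char2 h2 hm ⟨hh, hhiso⟩ l hl hMl).2 hev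
    refine ⟨cU, hh, (mem_OmGL _ _).2 ⟨⟨⟨hh, hhiso⟩, hmem⟩, rfl⟩, ?_⟩
    rw [hhdef, ← mul_assoc, mul_inv_cancel, one_mul]
  · rintro ⟨c, s, hs, rfl⟩
    obtain ⟨s', hs'⟩ := (mem_OmGL _ _).1 hs
    obtain ⟨l, hl, hMl⟩ := Cfsg.Agent.S0786.matrix_cd_all (stdPlus F m) hnd hexc
      ((s : GL _ F) : MP m) (fun u => by
        rw [← hs']
        exact (mem_iso_iff _ _).1 (s' : ↥(Cfsg.isometryGroup F ⇑(stdPlus F m))).2 u)
    have hev := (e1_mem_omega_of_even_char2 h2 hm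
      (s' : ↥(Cfsg.isometryGroup F ⇑(stdPlus F m))) l hl (by rw [hs']; exact hMl)).1 s'.2
    have hgM : ((sclHom c * s : GL _ F) : MP m) = (c : F) • (l.map
        (Cfsg.reflectionMatrix ⇑(stdPlus F m))).prod := by
      rw [← hMl, Units.val_mul, sclHom_coe, Matrix.smul_mul, Matrix.one_mul]
    rw [hgM]
    exact (e1_preserves_plus_list_iff m l hl c (Units.ne_zero c)).2 hev

/-- the standing facts about `Ω` of the plus-type form -/
theorem e1_plus_hperf {m : ℕ} (hm : 3 ≤ m) :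
    commutator ↥(Cfsg.Omega F ⇑(stdPlus F m)) = ⊤ :=
  hperf_of_hyp (stdPlus F m) (stdPlus_nondegenerate F m) _ _
    (stdPlus_isHypFamily F m) hm (by rw [e1_card_Ip]; omega)

theorem e1_plus_hcent {m : ℕ} (hm : 3 ≤ m) :
    ∀ Z : MP m, (∀ s : ↥(Cfsg.Omega F ⇑(stdPlus F m)),
      Z * omat (⇑(stdPlus F m)) s = omat (⇑(stdPlus F m)) s * Z) →
      ∃ c : F, Z = c • (1 : MP m) :=
  hcent_of_hyp (stdPlus F m) (stdPlus_isHypFamily F m) hm
    (Cfsg.Agent.Lead.POmegaCard.hspan_plus m)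

theorem e1_Phi_scl_mul {m : ℕ} (hm : 3 ≤ m) (c : Fˣ)
    (s : GL (Fin m ⊕ Fin m) F) (hs : s ∈ NO ⇑(stdPlus F m))
    (hcs : sclHom c * s ∈ NO ⇑(stdPlus F m)) :
    Phi ⇑(stdPlus F m) ⟨sclHom c * s, hcs⟩ = Phi ⇑(stdPlus F m) ⟨s, hs⟩ := by
  have hc : sclHom (ι := Fin m ⊕ Fin m) c ∈ NO ⇑(stdPlus F m) :=
    sim_le_NO _ (sclHom_mem_GO (stdPlus F m) c)
  have h1 : (⟨sclHom c * s, hcs⟩ : ↥(NO ⇑(stdPlus F m))) = ⟨sclHom c, hc⟩ * ⟨s, hs⟩ := rfl
  have h2 : Phi ⇑(stdPlus F m) ⟨sclHom c, hc⟩ = 1 := by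
    have hk := ker_Phi ⇑(stdPlus F m) (e1_plus_hperf hm) (e1_plus_hcent hm)
    have : (⟨sclHom c, hc⟩ : ↥(NO ⇑(stdPlus F m))) ∈ (Phi ⇑(stdPlus F m)).ker := by
      rw [hk, Subgroup.mem_subgroupOf]
      exact sclHom_mem c
    exact this
  rw [h1, map_mul, h2, one_mul]

theorem e1_inndiag_char2_aux (h2 : (2 : F) = 0) {m : ℕ} (hm : 3 ≤ m) :
    Cfsg.autSubgroupOf (fun β : Cfsg.POmega F ⇑(stdPlus F m) ≃*
        Cfsg.POmega F ⇑(stdPlus F m) =>
      ∃ g : GL (Fin m ⊕ Fin m) F,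
        g ∈ Cfsg.Geo.quadSimilarityGroup (F := F) ⇑(stdPlus F m) ∧
        Cfsg.PreservesSingularClasses ⇑(stdPlus F m) (g : MP m) ∧
        Cfsg.IsInducedBySemilinearPOmega ⇑(stdPlus F m) g (RingEquiv.refl F) β) =
      Cfsg.Inn (Cfsg.POmega F ⇑(stdPlus F m)) := by
  classical
  apply le_antisymm
  · unfold Cfsg.autSubgroupOf
    rw [Subgroup.closure_le]
    rintro β ⟨g, hg, hP, hind⟩
    have hβ := (induced_iff _ ⟨g, sim_le_NO _ hg⟩ β).1 hind
    obtain ⟨c, s, hs, hgs⟩ := (e1_preserves_iff_char2 h2 hm g hg).1 hP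
    subst hgs
    have h3 := e1_Phi_scl_mul hm c s (OmGL_le_NO _ hs) (sim_le_NO _ hg)
    rw [SetLike.mem_coe, hβ, h3, inn_eq]
    exact Subgroup.mem_map_of_mem _ (show (⟨s, OmGL_le_NO _ hs⟩ : ↥(NO ⇑(stdPlus F m))) ∈
      (OmGL ⇑(stdPlus F m)).subgroupOf (NO ⇑(stdPlus F m)) from hs)
  · intro β hβ
    rw [inn_eq] at hβ
    obtain ⟨g, hg, rfl⟩ := hβ
    have hg' : g.1 ∈ OmGL ⇑(stdPlus F m) := hg
    have hgGO : g.1 ∈ GO (stdPlus F m) := iso_le_sim _ (OmGL_le_iso _ hg')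
    have hP : Cfsg.PreservesSingularClasses ⇑(stdPlus F m) ((g.1 : GL _ F) : MP m) :=
      (e1_preserves_iff_char2 h2 hm g.1 hgGO).2
        ⟨1, g.1, hg', by rw [map_one, one_mul]⟩
    apply Subgroup.subset_closure
    exact ⟨g.1, hgGO, hP, (induced_iff _ g _).2 rfl⟩

theorem inndiag_plus_eq_inn_char2 {F : Type*} [Field F] [Fintype F] (h2 : (2 : F) = 0) {m : ℕ} (hm : 3 ≤ m) :
    Cfsg.inndiagPOmegaPlus m F = Cfsg.Inn (Cfsg.POmega F (Cfsg.quadFormPlus m F)) := by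
  have key := e1_inndiag_char2_aux (F := F) h2 hm
  rw [coe_stdPlus] at key
  exact key

end Cfsg.Agent.Helper42.GF
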