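import Mathlib

set_option autoImplicit false

/-!
# Involutions of `PGL_n(q)`: linear algebra

Involutions `g` (with `g * g = 1`) are classified by the rank of `g - 1`; endomorphisms squaring to
a fixed non-square scalar are all conjugate.
-/

namespace Cfsg.Agent.Helper42.PGLInv

open Module Polynomial

section lin

variable {F : Type*} [Field F] {V : Type*} [AddCommGroup V] [Module F V] [FiniteDimensional F V]

/-- the rank of an endomorphism -/
noncomputable def rk (f : V →ₗ[F] V) : ℕ := finrank F (LinearMap.range f)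

lemma rk_le (f : V →ₗ[F] V) : rk f ≤ finrank F V := Submodule.finrank_le _

lemma rk_eq_of_bijective (f : V →ₗ[F] V) (hf : Function.Surjective f) : rk f = finrank F V := by
  rw [rk, LinearMap.range_eq_top.mpr hf, finrank_top]

lemma rk_eq_finrank_of_mul_eq_smul (f f' : V →ₗ[F] V) (c : F) (hc : c ≠ 0) (h : f * f' = c • 1) :
    rk f = finrank F V := by
  apply rk_eq_of_bijective
  intro v
  refine ⟨f' (c⁻¹ • v), ?_⟩
  rw [← Module.End.mul_apply, h, LinearMap.smul_apply, Module.End.one_apply, smul_smul,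
    mul_inv_cancel₀ hc, one_smul]

lemma range_sub_one_eq_ker (h2 : (2 : F) ≠ 0) (g : V →ₗ[F] V) (hg : g * g = 1) :
    LinearMap.range (g - 1) = LinearMap.ker (g + 1) := by
  have hga : ∀ v, g (g v) = v := fun v => by
    rw [← Module.End.mul_apply, hg, Module.End.one_apply]
  ext w
  constructor
  · rintro ⟨v, rfl⟩
    rw [LinearMap.mem_ker]
    simp only [LinearMap.add_apply, LinearMap.sub_apply, Module.End.one_apply, map_sub, hga]
    abel
  · intro hw
    rw [LinearMap.mem_ker, LinearMap.add_apply, Module.End.one_apply] at hw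
    have hgw : g w = -w := eq_neg_of_add_eq_zero_left hw
    refine ⟨(-(2 : F)⁻¹) • w, ?_⟩
    have hhalf : (2 : F)⁻¹ • w + (2 : F)⁻¹ • w = w := by
      rw [← add_smul, ← two_mul, mul_inv_cancel₀ h2, one_smul]
    rw [LinearMap.sub_apply, Module.End.one_apply, map_smul, hgw, neg_smul, smul_neg, neg_neg,
      neg_smul, sub_neg_eq_add, hhalf]

lemma mem_ker_sub_one (g : V →ₗ[F] V) (v : V) : v ∈ LinearMap.ker (g - 1) ↔ g v = v := by
  rw [LinearMap.mem_ker, LinearMap.sub_apply, Module.End.one_apply, sub_eq_zero]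

lemma mem_ker_add_one (g : V →ₗ[F] V) (v : V) : v ∈ LinearMap.ker (g + 1) ↔ g v = -v := by
  rw [LinearMap.mem_ker, LinearMap.add_apply, Module.End.one_apply, add_eq_zero_iff_eq_neg]

lemma rk_add_rk (h2 : (2 : F) ≠ 0) (g : V →ₗ[F] V) (hg : g * g = 1) :
    rk (g - 1) + rk (g + 1) = finrank F V := by
  rw [rk, range_sub_one_eq_ker h2 g hg, rk, add_comm]
  exact LinearMap.finrank_range_add_finrank_ker (g + 1)

lemma isCompl_ker (h2 : (2 : F) ≠ 0) (g : V →ₗ[F] V) (hg : g * g = 1) :
    IsCompl (LinearMap.ker (g - 1)) (LinearMap.ker (g + 1)) := by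
  have hga : ∀ v, g (g v) = v := fun v => by
    rw [← Module.End.mul_apply, hg, Module.End.one_apply]
  constructor
  · rw [Submodule.disjoint_def]
    intro v hv1 hv2
    rw [mem_ker_sub_one] at hv1
    rw [mem_ker_add_one] at hv2
    have h : (2 : F) • v = 0 := by
      rw [two_smul]
      nth_rewrite 1 [← hv1]
      rw [hv2, neg_add_cancel]
    exact (smul_eq_zero.mp h).resolve_left h2
  · rw [codisjoint_iff, eq_top_iff]
    intro v _
    rw [Submodule.mem_sup]
    refine ⟨(2 : F)⁻¹ • (v + g v), ?_, (2 : F)⁻¹ • (v - g v), ?_, ?_⟩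
    · rw [mem_ker_sub_one, map_smul, map_add, hga, add_comm]
    · rw [mem_ker_add_one, map_smul, map_sub, hga, ← smul_neg, neg_sub]
    · rw [← smul_add, add_add_sub_cancel, ← two_smul F v, smul_smul, inv_mul_cancel₀ h2, one_smul]

/-- two involutions with the same rank of `g - 1` are conjugate -/
theorem exists_conj_of_rk_eq (h2 : (2 : F) ≠ 0) (g h : V →ₗ[F] V) (hg : g * g = 1)
    (hh : h * h = 1) (hr : rk (g - 1) = rk (h - 1)) :
    ∃ T : V ≃ₗ[F] V, ∀ v, T (g v) = h (T v) := by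
  have hcg := isCompl_ker h2 g hg
  have hch := isCompl_ker h2 h hh
  have hd2 : finrank F (LinearMap.ker (g + 1)) = finrank F (LinearMap.ker (h + 1)) := by
    rw [← range_sub_one_eq_ker h2 g hg, ← range_sub_one_eq_ker h2 h hh]
    exact hr
  have hd1 : finrank F (LinearMap.ker (g - 1)) = finrank F (LinearMap.ker (h - 1)) := by
    have h1 := Submodule.finrank_add_eq_of_isCompl hcg
    have h2' := Submodule.finrank_add_eq_of_isCompl hch
    omega
  let e₁ := LinearEquiv.ofFinrankEq _ _ hd1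
  let e₂ := LinearEquiv.ofFinrankEq _ _ hd2
  let Pg := Submodule.prodEquivOfIsCompl _ _ hcg
  let Ph := Submodule.prodEquivOfIsCompl _ _ hch
  refine ⟨Pg.symm.trans ((e₁.prodCongr e₂).trans Ph), ?_⟩
  intro v
  obtain ⟨⟨v₁, v₂⟩, rfl⟩ := Pg.surjective v
  have hv₁ := (mem_ker_sub_one g v₁.1).mp v₁.2
  have hv₂ := (mem_ker_add_one g v₂.1).mp v₂.2
  have hgv : g (Pg (v₁, v₂)) = Pg (v₁, -v₂) := by
    simp only [Pg, Submodule.coe_prodEquivOfIsCompl', map_add, hv₁, hv₂, Submodule.coe_neg]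
  rw [hgv]
  simp only [LinearEquiv.trans_apply, LinearEquiv.symm_apply_apply, LinearEquiv.prodCongr_apply,
    map_neg]
  have hw₁ := (mem_ker_sub_one h (e₁ v₁).1).mp (e₁ v₁).2
  have hw₂ := (mem_ker_add_one h (e₂ v₂).1).mp (e₂ v₂).2
  simp only [Ph, Submodule.coe_prodEquivOfIsCompl', map_add, hw₁, hw₂, Submodule.coe_neg]

end lin

section nonsplit

lemma aeval_eq_zero_of_mem_span {F : Type*} [Field F] {W : Type*} [AddCommGroup W] [Module F W]
    (t : W →ₗ[F] W) (lam : F) (ht : t * t = lam • 1) :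
    ∀ a ∈ (Ideal.span {(X ^ 2 - C lam : F[X])} : Ideal F[X]),
      (aeval t : F[X] →ₐ[F] Module.End F W).toRingHom a = 0 := by
  intro a ha
  obtain ⟨b, rfl⟩ := Ideal.mem_span_singleton.mp ha
  have h0 : aeval t (X ^ 2 - C lam : F[X]) = 0 := by
    rw [map_sub, map_pow, aeval_X, aeval_C, sq, ht, Algebra.algebraMap_eq_smul_one, sub_self]
  show aeval t ((X ^ 2 - C lam : F[X]) * b) = 0
  rw [map_mul, h0, zero_mul]


variable {F : Type*} [Field F] [Finite F]

/-- two endomorphisms squaring to the same non-square scalar are conjugate -/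
theorem exists_conj_of_sq_eq_nonsquare {V₁ V₂ : Type*} [AddCommGroup V₁] [Module F V₁] [Finite V₁]
    [AddCommGroup V₂] [Module F V₂] [Finite V₂] (hcard : Nat.card V₁ = Nat.card V₂)
    (g : V₁ →ₗ[F] V₁) (h : V₂ →ₗ[F] V₂) (lam : F) (hg : g * g = lam • 1) (hh : h * h = lam • 1)
    (hlam : ¬ IsSquare lam) :
    ∃ T : V₁ ≃ₗ[F] V₂, ∀ v, T (g v) = h (T v) := by
  classical
  set f : F[X] := X ^ 2 - C lam with hf
  have hirr : Irreducible f := X_pow_sub_C_irreducible_of_prime Nat.prime_two (fun b hb =>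
    hlam ⟨b, by rw [← hb, sq]⟩)
  have : Fact (Irreducible f) := ⟨hirr⟩
  -- the ring homs
  let ρ₁ : AdjoinRoot f →+* Module.End F V₁ :=
    Ideal.Quotient.lift (Ideal.span {f}) (aeval g : F[X] →ₐ[F] Module.End F V₁).toRingHom (aeval_eq_zero_of_mem_span g lam hg)
  let ρ₂ : AdjoinRoot f →+* Module.End F V₂ :=
    Ideal.Quotient.lift (Ideal.span {f}) (aeval h : F[X] →ₐ[F] Module.End F V₂).toRingHom (aeval_eq_zero_of_mem_span h lam hh)
  have hρ₁ : ∀ p : F[X], ρ₁ (AdjoinRoot.mk f p) = aeval g p := fun p => rfl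
  have hρ₂ : ∀ p : F[X], ρ₂ (AdjoinRoot.mk f p) = aeval h p := fun p => rfl
  let m₁ : Module (AdjoinRoot f) V₁ := Module.compHom V₁ ρ₁
  let m₂ : Module (AdjoinRoot f) V₂ := Module.compHom V₂ ρ₂
  have hsm₁ : ∀ (a : AdjoinRoot f) (v : V₁), a • v = ρ₁ a v := fun a v => rfl
  have hsm₂ : ∀ (a : AdjoinRoot f) (v : V₂), a • v = ρ₂ a v := fun a v => rfl
  have hroot₁ : ∀ v : V₁, (AdjoinRoot.root f) • v = g v := fun v => by
    rw [hsm₁, ← AdjoinRoot.mk_X, hρ₁, aeval_X]
  have hroot₂ : ∀ v : V₂, (AdjoinRoot.root f) • v = h v := fun v => by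
    rw [hsm₂, ← AdjoinRoot.mk_X, hρ₂, aeval_X]
  have hof₁ : ∀ (c : F) (v : V₁), (AdjoinRoot.of f c) • v = c • v := fun c v => by
    rw [hsm₁, ← AdjoinRoot.mk_C, hρ₁, aeval_C, Algebra.algebraMap_eq_smul_one, LinearMap.smul_apply,
      Module.End.one_apply]
  have hof₂ : ∀ (c : F) (v : V₂), (AdjoinRoot.of f c) • v = c • v := fun c v => by
    rw [hsm₂, ← AdjoinRoot.mk_C, hρ₂, aeval_C, Algebra.algebraMap_eq_smul_one, LinearMap.smul_apply,
      Module.End.one_apply]
  -- dimensions over K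
  have : Finite (AdjoinRoot f) := by
    have : Module.Finite F (AdjoinRoot f) := (AdjoinRoot.powerBasis hirr.ne_zero).finite
    exact Module.finite_of_finite F
  have hfin₁ : Module.Finite (AdjoinRoot f) V₁ := Module.Finite.of_finite
  have hfin₂ : Module.Finite (AdjoinRoot f) V₂ := Module.Finite.of_finite
  have hdim : finrank (AdjoinRoot f) V₁ = finrank (AdjoinRoot f) V₂ := by
    have h1 := Module.natCard_eq_pow_finrank (K := AdjoinRoot f) (V := V₁)
    have h2 := Module.natCard_eq_pow_finrank (K := AdjoinRoot f) (V := V₂)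
    rw [hcard, h2] at h1
    have hK : 2 ≤ Nat.card (AdjoinRoot f) := Finite.one_lt_card
    exact (Nat.pow_right_injective hK h1).symm
  let T := LinearEquiv.ofFinrankEq (R := AdjoinRoot f) V₁ V₂ hdim
  refine ⟨{ toFun := T, map_add' := T.map_add, map_smul' := ?_, invFun := T.symm,
            left_inv := T.left_inv, right_inv := T.right_inv }, ?_⟩
  · intro c v
    simp only [RingHom.id_apply]
    rw [← hof₁, T.map_smul, hof₂]
  · intro v
    show T (g v) = h (T v)
    rw [← hroot₁, T.map_smul, hroot₂]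

end nonsplit

end Cfsg.Agent.Helper42.PGLInv
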