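import Mathlib
import Cfsg.Agent.Lib.Helper42.PGLInv1

set_option autoImplicit false

/-!
# Involutions of `PGL_n(q)`: the invariant `kinv`
-/

namespace Cfsg.Agent.Helper42.PGLInv

open Module Matrix

section mat

variable {F : Type*} [Field F] [Fintype F] {n : ℕ}

/-- the minimal rank of `M - c` over scalars `c` -/
noncomputable def kinv (M : Matrix (Fin n) (Fin n) F) : ℕ :=
  Finset.univ.inf' ⟨0, Finset.mem_univ _⟩ (fun c : F => (M - c • (1 : Matrix (Fin n) (Fin n) F)).rank)

lemma kinv_le (M : Matrix (Fin n) (Fin n) F) (c : F) :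
    kinv M ≤ (M - c • (1 : Matrix (Fin n) (Fin n) F)).rank :=
  Finset.inf'_le _ (Finset.mem_univ c)

lemma exists_kinv_eq (M : Matrix (Fin n) (Fin n) F) :
    ∃ c : F, kinv M = (M - c • (1 : Matrix (Fin n) (Fin n) F)).rank := by
  obtain ⟨c, -, hc⟩ := Finset.exists_mem_eq_inf' (s := Finset.univ) ⟨0, Finset.mem_univ _⟩
    (fun c : F => (M - c • (1 : Matrix (Fin n) (Fin n) F)).rank)
  exact ⟨c, hc⟩

lemma le_kinv (M : Matrix (Fin n) (Fin n) F) (k : ℕ)
    (h : ∀ c : F, k ≤ (M - c • (1 : Matrix (Fin n) (Fin n) F)).rank) : k ≤ kinv M := by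
  obtain ⟨c, hc⟩ := exists_kinv_eq M
  rw [hc]; exact h c

lemma rank_eq_rk (M : Matrix (Fin n) (Fin n) F) : M.rank = rk (Matrix.toLin' M) := rfl

lemma kinv_smul_le (M : Matrix (Fin n) (Fin n) F) (z : F) (hz : z ≠ 0) : kinv (z • M) ≤ kinv M := by
  apply le_kinv
  intro c
  have h1 : z • M - (z * c) • (1 : Matrix (Fin n) (Fin n) F) = z • (M - c • 1) := by
    rw [smul_sub, smul_smul]
  have h2 := kinv_le (z • M) (z * c)
  rw [h1, Matrix.rank_smul_of_mem_nonZeroDivisors _ (mem_nonZeroDivisors_of_ne_zero hz)] at h2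
  exact h2

lemma kinv_smul (M : Matrix (Fin n) (Fin n) F) (z : F) (hz : z ≠ 0) : kinv (z • M) = kinv M := by
  apply le_antisymm (kinv_smul_le M z hz)
  have := kinv_smul_le (z • M) z⁻¹ (inv_ne_zero hz)
  rwa [smul_smul, inv_mul_cancel₀ hz, one_smul] at this

lemma kinv_conj_le (M : Matrix (Fin n) (Fin n) F) (P : GL (Fin n) F) :
    kinv (P.val * M * P⁻¹.val) ≤ kinv M := by
  apply le_kinv
  intro c
  have h1 : P.val * M * P⁻¹.val - c • (1 : Matrix (Fin n) (Fin n) F) =
      P.val * (M - c • 1) * P⁻¹.val := by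
    rw [Matrix.mul_sub, Matrix.sub_mul, Matrix.mul_smul, Matrix.mul_one, Matrix.smul_mul]
    congr 2
    rw [← Units.val_mul, mul_inv_cancel, Units.val_one]
  have h2 := kinv_le (P.val * M * P⁻¹.val) c
  rw [h1, Matrix.rank_mul_eq_left_of_isUnit_det _ _ ((Matrix.isUnit_iff_isUnit_det _).mp P⁻¹.isUnit),
    Matrix.rank_mul_eq_right_of_isUnit_det _ _ ((Matrix.isUnit_iff_isUnit_det _).mp P.isUnit)] at h2
  exact h2

lemma kinv_conj (M : Matrix (Fin n) (Fin n) F) (P : GL (Fin n) F) :
    kinv (P.val * M * P⁻¹.val) = kinv M := by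
  apply le_antisymm (kinv_conj_le M P)
  have := kinv_conj_le (P.val * M * P⁻¹.val) P⁻¹
  rw [inv_inv] at this
  have h1 : P⁻¹.val * (P.val * M * P⁻¹.val) * P.val = M := by
    rw [Matrix.mul_assoc, Matrix.mul_assoc, ← Units.val_mul, inv_mul_cancel, Units.val_one,
      Matrix.mul_one, ← Matrix.mul_assoc, ← Units.val_mul, inv_mul_cancel, Units.val_one,
      Matrix.one_mul]
  rwa [h1] at this

lemma kinv_scalar (c : F) : kinv (c • (1 : Matrix (Fin n) (Fin n) F)) = 0 := by
  have := kinv_le (c • (1 : Matrix (Fin n) (Fin n) F)) c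
  rw [sub_self, Matrix.rank_zero] at this
  omega

lemma toLin'_mul_self (M : Matrix (Fin n) (Fin n) F) (z : F)
    (hM : M * M = z • (1 : Matrix (Fin n) (Fin n) F)) :
    Matrix.toLin' M * Matrix.toLin' M = z • (1 : (Fin n → F) →ₗ[F] (Fin n → F)) := by
  rw [Module.End.mul_eq_comp, ← Matrix.toLin'_mul, hM, map_smul, Matrix.toLin'_one]
  rfl

lemma rank_of_mul_eq_smul (A B : Matrix (Fin n) (Fin n) F) (z : F) (hz : z ≠ 0)
    (h : A * B = z • (1 : Matrix (Fin n) (Fin n) F)) : A.rank = n := by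
  have hdet : A.det ≠ 0 := by
    intro h0
    have := congrArg Matrix.det h
    rw [Matrix.det_mul, h0, zero_mul, Matrix.det_smul, Matrix.det_one, mul_one] at this
    exact pow_ne_zero _ hz this.symm
  rw [Matrix.rank_of_det_ne_zero hdet, Fintype.card_fin]

lemma rank_sub_one_add (h2 : (2 : F) ≠ 0) (M : Matrix (Fin n) (Fin n) F) (hM : M * M = 1) :
    (M - 1).rank + (M + 1).rank = n := by
  have h1 : Matrix.toLin' M * Matrix.toLin' M = 1 := by
    have := toLin'_mul_self M 1 (by rw [hM, one_smul])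
    rwa [one_smul] at this
  have := rk_add_rk h2 (Matrix.toLin' M) h1
  rw [Module.finrank_fin_fun] at this
  rw [rank_eq_rk, rank_eq_rk, map_sub, map_add, Matrix.toLin'_one]
  exact this

lemma rank_sub_smul_of_sq_ne (M : Matrix (Fin n) (Fin n) F) (z : F)
    (hM : M * M = z • (1 : Matrix (Fin n) (Fin n) F)) (c : F) (hc : c * c ≠ z) :
    (M - c • (1 : Matrix (Fin n) (Fin n) F)).rank = n := by
  apply rank_of_mul_eq_smul _ (M + c • (1 : Matrix (Fin n) (Fin n) F)) (z - c * c)
    (sub_ne_zero.mpr (Ne.symm hc))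
  rw [Matrix.sub_mul, Matrix.mul_add, Matrix.mul_add, hM, Matrix.smul_mul, Matrix.one_mul,
    Matrix.mul_smul, Matrix.mul_one, Matrix.smul_mul, Matrix.one_mul, smul_smul, sub_smul]
  abel

lemma kinv_of_sq_eq_one (h2 : (2 : F) ≠ 0) (M : Matrix (Fin n) (Fin n) F) (hM : M * M = 1) :
    kinv M = min (M - 1).rank (n - (M - 1).rank) := by
  have hsum := rank_sub_one_add h2 M hM
  apply le_antisymm
  · apply le_min
    · have := kinv_le M 1
      rwa [one_smul] at this
    · have := kinv_le M (-1)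
      rw [neg_smul, one_smul, sub_neg_eq_add] at this
      omega
  · apply le_kinv
    intro c
    by_cases hc1 : c = 1
    · rw [hc1, one_smul]
      exact min_le_left _ _
    by_cases hc2 : c = -1
    · rw [hc2, neg_smul, one_smul, sub_neg_eq_add]
      have : n - (M - 1).rank = (M + 1).rank := by omega
      rw [this]
      exact min_le_right _ _
    · have hcc : c * c ≠ 1 := by
        intro h
        have : (c - 1) * (c + 1) = 0 := by ring_nf; rw [← sq] at *; linear_combination h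
        rcases mul_eq_zero.mp this with h3 | h3
        · exact hc1 (sub_eq_zero.mp h3)
        · exact hc2 (eq_neg_of_add_eq_zero_left h3)
      rw [rank_sub_smul_of_sq_ne M 1 (by rw [hM, one_smul]) c hcc]
      have := Matrix.rank_le_width (M - 1)
      exact (min_le_left _ _).trans this

lemma kinv_of_nonsquare (M : Matrix (Fin n) (Fin n) F) (lam : F)
    (hM : M * M = lam • (1 : Matrix (Fin n) (Fin n) F)) (hlam : ¬ IsSquare lam) : kinv M = n := by
  apply le_antisymm
  · have := kinv_le M 0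
    exact this.trans (Matrix.rank_le_width _)
  · apply le_kinv
    intro c
    rw [rank_sub_smul_of_sq_ne M lam hM c (fun h => hlam ⟨c, h.symm⟩)]

/-- from a linear equivalence intertwining two matrices, an element of `GL` -/
lemma exists_GL_of_linearEquiv (A B : Matrix (Fin n) (Fin n) F)
    (T : (Fin n → F) ≃ₗ[F] (Fin n → F))
    (hT : ∀ v, T (Matrix.toLin' A v) = Matrix.toLin' B (T v)) :
    ∃ P : GL (Fin n) F, P.val * A = B * P.val := by
  refine ⟨⟨LinearMap.toMatrix' T.toLinearMap, LinearMap.toMatrix' T.symm.toLinearMap, ?_, ?_⟩, ?_⟩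
  · rw [← LinearMap.toMatrix'_comp, LinearEquiv.comp_symm, LinearMap.toMatrix'_id]
  · rw [← LinearMap.toMatrix'_comp, LinearEquiv.symm_comp, LinearMap.toMatrix'_id]
  · show LinearMap.toMatrix' T.toLinearMap * A = B * LinearMap.toMatrix' T.toLinearMap
    have hA : A = LinearMap.toMatrix' (Matrix.toLin' A) := (LinearMap.toMatrix'_toLin' A).symm
    have hB : B = LinearMap.toMatrix' (Matrix.toLin' B) := (LinearMap.toMatrix'_toLin' B).symm
    rw [hA, hB, ← LinearMap.toMatrix'_comp, ← LinearMap.toMatrix'_comp]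
    congr 1
    apply LinearMap.ext
    intro v
    exact hT v

theorem exists_GL_conj_of_rank_eq (h2 : (2 : F) ≠ 0) (A B : Matrix (Fin n) (Fin n) F)
    (hA : A * A = 1) (hB : B * B = 1) (hr : (A - 1).rank = (B - 1).rank) :
    ∃ P : GL (Fin n) F, P.val * A = B * P.val := by
  have hA' : Matrix.toLin' A * Matrix.toLin' A = 1 := by
    have := toLin'_mul_self A 1 (by rw [hA, one_smul])
    rwa [one_smul] at this
  have hB' : Matrix.toLin' B * Matrix.toLin' B = 1 := by
    have := toLin'_mul_self B 1 (by rw [hB, one_smul])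
    rwa [one_smul] at this
  have hr' : rk (Matrix.toLin' A - 1) = rk (Matrix.toLin' B - 1) := by
    have h1 : Matrix.toLin' A - 1 = Matrix.toLin' (A - 1) := by
      rw [map_sub, Matrix.toLin'_one]; rfl
    have h3 : Matrix.toLin' B - 1 = Matrix.toLin' (B - 1) := by
      rw [map_sub, Matrix.toLin'_one]; rfl
    rw [h1, h3, ← rank_eq_rk, ← rank_eq_rk, hr]
  obtain ⟨T, hT⟩ := exists_conj_of_rk_eq h2 _ _ hA' hB' hr'
  exact exists_GL_of_linearEquiv A B T hT

theorem exists_GL_conj_of_nonsquare (A B : Matrix (Fin n) (Fin n) F) (lam : F)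
    (hA : A * A = lam • (1 : Matrix (Fin n) (Fin n) F))
    (hB : B * B = lam • (1 : Matrix (Fin n) (Fin n) F)) (hlam : ¬ IsSquare lam) :
    ∃ P : GL (Fin n) F, P.val * A = B * P.val := by
  obtain ⟨T, hT⟩ := exists_conj_of_sq_eq_nonsquare (F := F) (V₁ := Fin n → F) (V₂ := Fin n → F) rfl
    (Matrix.toLin' A) (Matrix.toLin' B) lam (toLin'_mul_self A lam hA) (toLin'_mul_self B lam hB) hlam
  exact exists_GL_of_linearEquiv A B T hT

/-- the scalar element of `GL` -/
noncomputable def scalarGL (z : F) (hz : z ≠ 0) : GL (Fin n) F :=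
  ⟨z • 1, z⁻¹ • 1, by rw [Matrix.smul_mul, Matrix.mul_smul, Matrix.mul_one, smul_smul, mul_inv_cancel₀ hz, one_smul],
    by rw [Matrix.smul_mul, Matrix.mul_smul, Matrix.mul_one, smul_smul, inv_mul_cancel₀ hz, one_smul]⟩

lemma mem_center_iff (g : GL (Fin n) F) :
    g ∈ Subgroup.center (GL (Fin n) F) ↔ ∃ c : F, g.val = c • (1 : Matrix (Fin n) (Fin n) F) := by
  rw [Matrix.GeneralLinearGroup.mem_center_iff_val_mem_range_scalar]
  constructor
  · rintro ⟨c, hc⟩
    exact ⟨c, by rw [← hc, Matrix.smul_one_eq_diagonal]; rfl⟩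
  · rintro ⟨c, hc⟩
    exact ⟨c, by rw [hc, Matrix.smul_one_eq_diagonal]; rfl⟩

lemma scalarGL_mem_center (z : F) (hz : z ≠ 0) :
    (scalarGL z hz : GL (Fin n) F) ∈ Subgroup.center (GL (Fin n) F) :=
  (mem_center_iff _).mpr ⟨z, rfl⟩

lemma isConj_mk (g h P : GL (Fin n) F) (z : F) (hz : z ≠ 0)
    (hP : P.val * g.val = z • (h.val * P.val)) :
    IsConj (QuotientGroup.mk g : GL (Fin n) F ⧸ Subgroup.center (GL (Fin n) F))
      (QuotientGroup.mk h) := by
  have h1 : P * g = scalarGL z hz * (h * P) := by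
    apply Units.ext
    rw [Units.val_mul, Units.val_mul, Units.val_mul, hP]
    show _ = (z • (1 : Matrix (Fin n) (Fin n) F)) * _
    rw [Matrix.smul_mul, Matrix.one_mul]
  have hZ : (QuotientGroup.mk (scalarGL z hz) : GL (Fin n) F ⧸ Subgroup.center (GL (Fin n) F)) = 1 :=
    (QuotientGroup.eq_one_iff _).mpr (scalarGL_mem_center z hz)
  have h2 : (QuotientGroup.mk P : GL (Fin n) F ⧸ Subgroup.center (GL (Fin n) F)) * QuotientGroup.mk g
      = QuotientGroup.mk h * QuotientGroup.mk P := by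
    rw [← QuotientGroup.mk_mul, h1, QuotientGroup.mk_mul, hZ, one_mul, QuotientGroup.mk_mul]
  rw [isConj_iff]
  exact ⟨QuotientGroup.mk P, by rw [h2, mul_inv_cancel_right]⟩

end mat

end Cfsg.Agent.Helper42.PGLInv
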