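import Mathlib

set_option autoImplicit false

/-!
# Conjugacy of endomorphisms killed by a squarefree polynomial (finite fields)
-/

namespace Cfsg.Agent.Helper42.SemiConj

open Polynomial Module

section general

variable {F : Type*} [Field F] {V W : Type*} [AddCommGroup V] [Module F V]
  [AddCommGroup W] [Module F W]

lemma pow_intertwine (ι : V →ₗ[F] W) (g : V →ₗ[F] V) (h : W →ₗ[F] W)
    (hι : ∀ v, ι (g v) = h (ι v)) (k : ℕ) (v : V) : ι ((g ^ k) v) = (h ^ k) (ι v) := by
  induction k generalizing v with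
  | zero => simp
  | succ k ih => rw [pow_succ, pow_succ, Module.End.mul_apply, Module.End.mul_apply, ih, hι]

lemma aeval_intertwine (ι : V →ₗ[F] W) (g : V →ₗ[F] V) (h : W →ₗ[F] W)
    (hι : ∀ v, ι (g v) = h (ι v)) (q : F[X]) (v : V) : ι (aeval g q v) = aeval h q (ι v) := by
  rw [Polynomial.aeval_endomorphism, Polynomial.aeval_endomorphism, Polynomial.sum, Polynomial.sum,
    map_sum]
  apply Finset.sum_congr rfl
  intro k _
  rw [map_smul, pow_intertwine ι g h hι]

lemma map_ker_aeval (T : V ≃ₗ[F] W) (g : V →ₗ[F] V) (h : W →ₗ[F] W)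
    (hT : ∀ v, T (g v) = h (T v)) (q : F[X]) :
    (LinearMap.ker (aeval g q)).map T.toLinearMap = LinearMap.ker (aeval h q) := by
  ext w
  simp only [Submodule.mem_map, LinearMap.mem_ker]
  constructor
  · rintro ⟨v, hv, rfl⟩
    have := aeval_intertwine T.toLinearMap g h hT q v
    simp only [LinearEquiv.coe_coe] at this ⊢
    rw [← this, hv, map_zero]
  · intro hw
    refine ⟨T.symm w, ?_, by simp⟩
    have := aeval_intertwine T.toLinearMap g h hT q (T.symm w)
    simp only [LinearEquiv.coe_coe, LinearEquiv.apply_symm_apply] at this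
    rw [hw] at this
    exact T.injective (by rw [this, map_zero])

lemma finrank_ker_aeval_eq_of_conj (T : V ≃ₗ[F] W) (g : V →ₗ[F] V) (h : W →ₗ[F] W)
    (hT : ∀ v, T (g v) = h (T v)) (q : F[X]) :
    finrank F (LinearMap.ker (aeval g q)) = finrank F (LinearMap.ker (aeval h q)) := by
  rw [← map_ker_aeval T g h hT q]
  exact (LinearEquiv.finrank_map_eq T _).symm

lemma isCompl_ker_of_coprime (g : V →ₗ[F] V) (p q : F[X]) (hpq : IsCoprime p q)
    (h0 : aeval g (p * q) = 0) :
    IsCompl (LinearMap.ker (aeval g p)) (LinearMap.ker (aeval g q)) := by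
  refine ⟨Polynomial.disjoint_ker_aeval_of_isCoprime g hpq, codisjoint_iff.mpr ?_⟩
  rw [Polynomial.sup_ker_aeval_eq_ker_aeval_mul_of_coprime g hpq, h0, LinearMap.ker_zero]

lemma aeval_apply_comm (g : V →ₗ[F] V) (p : F[X]) (v : V) :
    aeval g p (g v) = g (aeval g p v) := by
  have h1 : aeval g (p * X) = aeval g (X * p) := by rw [mul_comm]
  rw [map_mul, map_mul, aeval_X] at h1
  exact LinearMap.congr_fun h1 v

/-- the restriction of `g` to the kernel of a polynomial in `g` -/
noncomputable def kerRestrict (g : V →ₗ[F] V) (p : F[X]) :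
    LinearMap.ker (aeval g p) →ₗ[F] LinearMap.ker (aeval g p) :=
  g.restrict (fun v hv => by
    rw [LinearMap.mem_ker] at hv ⊢
    rw [aeval_apply_comm, hv, map_zero])

lemma kerRestrict_apply (g : V →ₗ[F] V) (p : F[X]) (v : LinearMap.ker (aeval g p)) :
    ((kerRestrict g p v : LinearMap.ker (aeval g p)) : V) = g v := rfl

lemma aeval_kerRestrict_apply (g : V →ₗ[F] V) (p q : F[X]) (v : LinearMap.ker (aeval g p)) :
    ((aeval (kerRestrict g p) q v : LinearMap.ker (aeval g p)) : V) = aeval g q v :=
  aeval_intertwine (LinearMap.ker (aeval g p)).subtype (kerRestrict g p) g (fun _ => rfl) q v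

lemma aeval_kerRestrict_self (g : V →ₗ[F] V) (p : F[X]) : aeval (kerRestrict g p) p = 0 := by
  apply LinearMap.ext
  intro v
  apply Subtype.ext
  rw [aeval_kerRestrict_apply]
  exact v.2

/-- kernels inside the restriction -/
lemma finrank_ker_aeval_kerRestrict (g : V →ₗ[F] V) (p q : F[X])
    (hle : LinearMap.ker (aeval g q) ≤ LinearMap.ker (aeval g p)) :
    finrank F (LinearMap.ker (aeval (kerRestrict g p) q)) = finrank F (LinearMap.ker (aeval g q)) := by
  have h1 : (LinearMap.ker (aeval (kerRestrict g p) q)).map (LinearMap.ker (aeval g p)).subtype =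
      LinearMap.ker (aeval g q) := by
    ext w
    simp only [Submodule.mem_map, LinearMap.mem_ker, Submodule.subtype_apply]
    constructor
    · rintro ⟨v, hv, rfl⟩
      rw [← aeval_kerRestrict_apply, hv]; rfl
    · intro hw
      refine ⟨⟨w, hle hw⟩, ?_, rfl⟩
      apply Subtype.ext
      rw [aeval_kerRestrict_apply]
      exact hw
  rw [← h1]
  exact (Submodule.finrank_map_subtype_eq _ _).symm

end general

end Cfsg.Agent.Helper42.SemiConj
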