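import Mathlib
import Cfsg.Agent.Lib.Helper42.SemiConj1

set_option autoImplicit false
set_option linter.unusedSectionVars false

namespace Cfsg.Agent.Helper42.SemiConj

open Polynomial Module

section irr

lemma aeval_eq_zero_of_mem_span' {F : Type*} [Field F] {W : Type*} [AddCommGroup W] [Module F W]
    (t : W →ₗ[F] W) (f : F[X]) (ht : aeval t f = 0) :
    ∀ a ∈ (Ideal.span {f} : Ideal F[X]),
      (aeval t : F[X] →ₐ[F] Module.End F W).toRingHom a = 0 := by
  intro a ha
  obtain ⟨b, rfl⟩ := Ideal.mem_span_singleton.mp ha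
  show aeval t (f * b) = 0
  rw [map_mul, ht, zero_mul]

variable {F : Type*} [Field F] [Finite F]

/-- two endomorphisms killed by the same irreducible polynomial, on spaces of the same finite
cardinality, are conjugate -/
theorem exists_conj_of_irreducible {V₁ V₂ : Type*} [AddCommGroup V₁] [Module F V₁] [Finite V₁]
    [AddCommGroup V₂] [Module F V₂] [Finite V₂] (hcard : Nat.card V₁ = Nat.card V₂)
    (g : V₁ →ₗ[F] V₁) (h : V₂ →ₗ[F] V₂) (f : F[X]) (hirr : Irreducible f)
    (hg : aeval g f = 0) (hh : aeval h f = 0) :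
    ∃ T : V₁ ≃ₗ[F] V₂, ∀ v, T (g v) = h (T v) := by
  classical
  have : Fact (Irreducible f) := ⟨hirr⟩
  let ρ₁ : AdjoinRoot f →+* Module.End F V₁ :=
    Ideal.Quotient.lift (Ideal.span {f}) (aeval g : F[X] →ₐ[F] Module.End F V₁).toRingHom
      (aeval_eq_zero_of_mem_span' g f hg)
  let ρ₂ : AdjoinRoot f →+* Module.End F V₂ :=
    Ideal.Quotient.lift (Ideal.span {f}) (aeval h : F[X] →ₐ[F] Module.End F V₂).toRingHom
      (aeval_eq_zero_of_mem_span' h f hh)
  have hρ₁ : ∀ p : F[X], ρ₁ (AdjoinRoot.mk f p) = aeval g p := fun p => rfl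
  have hρ₂ : ∀ p : F[X], ρ₂ (AdjoinRoot.mk f p) = aeval h p := fun p => rfl
  let m₁ : Module (AdjoinRoot f) V₁ := Module.compHom V₁ ρ₁
  let m₂ : Module (AdjoinRoot f) V₂ := Module.compHom V₂ ρ₂
  have hsm₁ : ∀ (a : AdjoinRoot f) (v : V₁), a • v = ρ₁ a v := fun a v => rfl
  have hsm₂ : ∀ (a : AdjoinRoot f) (v : V₂), a • v = ρ₂ a v := fun a v => rfl
  have hroot₁ : ∀ v : V₁, (AdjoinRoot.root f) • v = g v := fun v => by
    rw [hsm₁, ← AdjoinRoot.mk_X, hρ₁, aeval_X]
  have hroot₂ : ∀ v : V₂, (AdjoinRoot.root f) • v = h v := fun v => by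
    rw [hsm₂, ← AdjoinRoot.mk_X, hρ₂, aeval_X]
  have hof₁ : ∀ (c : F) (v : V₁), (AdjoinRoot.of f c) • v = c • v := fun c v => by
    rw [hsm₁, ← AdjoinRoot.mk_C, hρ₁, aeval_C, Algebra.algebraMap_eq_smul_one, LinearMap.smul_apply,
      Module.End.one_apply]
  have hof₂ : ∀ (c : F) (v : V₂), (AdjoinRoot.of f c) • v = c • v := fun c v => by
    rw [hsm₂, ← AdjoinRoot.mk_C, hρ₂, aeval_C, Algebra.algebraMap_eq_smul_one, LinearMap.smul_apply,
      Module.End.one_apply]
  have : Finite (AdjoinRoot f) := by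
    have : Module.Finite F (AdjoinRoot f) := (AdjoinRoot.powerBasis hirr.ne_zero).finite
    exact Module.finite_of_finite F
  have hfin₁ : Module.Finite (AdjoinRoot f) V₁ := Module.Finite.of_finite
  have hfin₂ : Module.Finite (AdjoinRoot f) V₂ := Module.Finite.of_finite
  have hdim : finrank (AdjoinRoot f) V₁ = finrank (AdjoinRoot f) V₂ := by
    have h1 := Module.natCard_eq_pow_finrank (K := AdjoinRoot f) (V := V₁)
    have h2 := Module.natCard_eq_pow_finrank (K := AdjoinRoot f) (V := V₂)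
    rw [hcard, h2] at h1
    have hK : 2 ≤ Nat.card (AdjoinRoot f) := Finite.one_lt_card
    exact (Nat.pow_right_injective hK h1).symm
  let T := LinearEquiv.ofFinrankEq (R := AdjoinRoot f) V₁ V₂ hdim
  refine ⟨{ toFun := T, map_add' := T.map_add, map_smul' := ?_, invFun := T.symm,
            left_inv := T.left_inv, right_inv := T.right_inv }, ?_⟩
  · intro c v
    simp only [RingHom.id_apply]
    rw [← hof₁, T.map_smul, hof₂]
  · intro v
    show T (g v) = h (T v)
    rw [← hroot₁, T.map_smul, hroot₂]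

/-- the finrank version -/
theorem exists_conj_of_irreducible' {V₁ V₂ : Type*} [AddCommGroup V₁] [Module F V₁]
    [Module.Finite F V₁] [AddCommGroup V₂] [Module F V₂] [Module.Finite F V₂]
    (hdim : finrank F V₁ = finrank F V₂)
    (g : V₁ →ₗ[F] V₁) (h : V₂ →ₗ[F] V₂) (f : F[X]) (hirr : Irreducible f)
    (hg : aeval g f = 0) (hh : aeval h f = 0) :
    ∃ T : V₁ ≃ₗ[F] V₂, ∀ v, T (g v) = h (T v) := by
  have : Finite V₁ := Module.finite_of_finite F
  have : Finite V₂ := Module.finite_of_finite F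
  apply exists_conj_of_irreducible _ g h f hirr hg hh
  rw [Module.natCard_eq_pow_finrank (K := F) (V := V₁), Module.natCard_eq_pow_finrank (K := F) (V := V₂),
    hdim]

/-- gluing conjugations along complementary invariant decompositions -/
theorem exists_conj_of_isCompl {V W : Type*} [AddCommGroup V] [Module F V]
    [AddCommGroup W] [Module F W] (g : V →ₗ[F] V) (h : W →ₗ[F] W) (p q : F[X])
    (hV : IsCompl (LinearMap.ker (aeval g p)) (LinearMap.ker (aeval g q)))
    (hW : IsCompl (LinearMap.ker (aeval h p)) (LinearMap.ker (aeval h q)))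
    (T₁ : LinearMap.ker (aeval g p) ≃ₗ[F] LinearMap.ker (aeval h p))
    (hT₁ : ∀ v, T₁ (kerRestrict g p v) = kerRestrict h p (T₁ v))
    (T₂ : LinearMap.ker (aeval g q) ≃ₗ[F] LinearMap.ker (aeval h q))
    (hT₂ : ∀ v, T₂ (kerRestrict g q v) = kerRestrict h q (T₂ v)) :
    ∃ T : V ≃ₗ[F] W, ∀ v, T (g v) = h (T v) := by
  let Pg := Submodule.prodEquivOfIsCompl _ _ hV
  let Ph := Submodule.prodEquivOfIsCompl _ _ hW
  let T : V ≃ₗ[F] W := (Pg.symm.trans (LinearEquiv.prodCongr T₁ T₂)).trans Ph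
  refine ⟨T, ?_⟩
  intro v
  obtain ⟨⟨v₁, v₂⟩, rfl⟩ := Pg.surjective v
  have hPg : Pg (v₁, v₂) = (v₁ : V) + (v₂ : V) := rfl
  have hgv : g (Pg (v₁, v₂)) = Pg (kerRestrict g p v₁, kerRestrict g q v₂) := by
    show g (Pg (v₁, v₂)) = ((kerRestrict g p v₁ : _) : V) + ((kerRestrict g q v₂ : _) : V)
    rw [hPg, map_add]; rfl
  have hT : ∀ a b, T (Pg (a, b)) = Ph (T₁ a, T₂ b) := by
    intro a b
    simp only [T, LinearEquiv.trans_apply, LinearEquiv.symm_apply_apply, LinearEquiv.prodCongr_apply]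
  rw [hgv, hT, hT, hT₁, hT₂]
  show ((kerRestrict h p (T₁ v₁) : _) : W) + ((kerRestrict h q (T₂ v₂) : _) : W) = h (Ph (T₁ v₁, T₂ v₂))
  have hPh : Ph (T₁ v₁, T₂ v₂) = ((T₁ v₁ : _) : W) + ((T₂ v₂ : _) : W) := rfl
  rw [hPh, map_add]; rfl

lemma ker_aeval_le_of_dvd {V : Type*} [AddCommGroup V] [Module F V] (g : V →ₗ[F] V) (p q : F[X])
    (hpq : p ∣ q) : LinearMap.ker (aeval g p) ≤ LinearMap.ker (aeval g q) := by
  obtain ⟨c, rfl⟩ := hpq
  intro v hv
  rw [LinearMap.mem_ker] at hv ⊢
  rw [mul_comm, map_mul, Module.End.mul_apply, hv, map_zero]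

universe u v

theorem exists_conj_of_prod (S : Finset F[X]) :
    ∀ (V : Type u) (W : Type v) [AddCommGroup V] [Module F V] [Module.Finite F V]
      [AddCommGroup W] [Module F W] [Module.Finite F W] (g : V →ₗ[F] V) (h : W →ₗ[F] W),
      (∀ f ∈ S, Irreducible f) → (S : Set F[X]).Pairwise IsCoprime →
      aeval g (∏ f ∈ S, f) = 0 → aeval h (∏ f ∈ S, f) = 0 →
      (∀ f ∈ S, finrank F (LinearMap.ker (aeval g f)) = finrank F (LinearMap.ker (aeval h f))) →
      ∃ T : V ≃ₗ[F] W, ∀ v, T (g v) = h (T v) := by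
  classical
  induction S using Finset.induction_on with
  | empty =>
    intro V W _ _ _ _ _ _ g h _ _ hg hh _
    rw [Finset.prod_empty, map_one] at hg hh
    have hV : Subsingleton V := ⟨fun a b => by
      have ha := LinearMap.congr_fun hg a
      have hb := LinearMap.congr_fun hg b
      simp only [Module.End.one_apply, LinearMap.zero_apply] at ha hb
      rw [ha, hb]⟩
    have hW : Subsingleton W := ⟨fun a b => by
      have ha := LinearMap.congr_fun hh a
      have hb := LinearMap.congr_fun hh b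
      simp only [Module.End.one_apply, LinearMap.zero_apply] at ha hb
      rw [ha, hb]⟩
    exact ⟨LinearEquiv.ofSubsingleton V W, fun v => Subsingleton.elim _ _⟩
  | insert f S' hf ih =>
    intro V W _ _ _ _ _ _ g h hirr hcop hg hh hdim
    rw [Finset.prod_insert hf] at hg hh
    have hcop' : IsCoprime f (∏ f' ∈ S', f') := by
      apply IsCoprime.prod_right
      intro i hi
      apply hcop (Finset.mem_coe.mpr (Finset.mem_insert_self f S'))
        (Finset.mem_coe.mpr (Finset.mem_insert_of_mem hi))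
      rintro rfl
      exact hf hi
    have hV := isCompl_ker_of_coprime g f (∏ f' ∈ S', f') hcop' hg
    have hW := isCompl_ker_of_coprime h f (∏ f' ∈ S', f') hcop' hh
    obtain ⟨T₁, hT₁⟩ := exists_conj_of_irreducible' (hdim f (Finset.mem_insert_self f S'))
      (kerRestrict g f) (kerRestrict h f) f (hirr f (Finset.mem_insert_self f S'))
      (aeval_kerRestrict_self g f) (aeval_kerRestrict_self h f)
    have hdvd : ∀ f' ∈ S', f' ∣ ∏ f'' ∈ S', f'' := fun f' hf' => Finset.dvd_prod_of_mem _ hf'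
    have hih := ih
    clear ih
    obtain ⟨P', hP'⟩ : ∃ P' : F[X], P' = ∏ f' ∈ S', f' := ⟨_, rfl⟩
    rw [← hP'] at hV hW hdvd hih
    have hd2 : ∀ f' ∈ S', finrank F (LinearMap.ker (aeval (kerRestrict g P') f')) =
        finrank F (LinearMap.ker (aeval (kerRestrict h P') f')) := by
      intro f' hf'
      rw [finrank_ker_aeval_kerRestrict g P' f' (ker_aeval_le_of_dvd g _ _ (hdvd f' hf')),
        finrank_ker_aeval_kerRestrict h P' f' (ker_aeval_le_of_dvd h _ _ (hdvd f' hf'))]
      exact hdim f' (Finset.mem_insert_of_mem hf')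
    obtain ⟨T₂, hT₂⟩ := hih (LinearMap.ker (aeval g P')) (LinearMap.ker (aeval h P'))
      (kerRestrict g P') (kerRestrict h P')
      (fun f' hf' => hirr f' (Finset.mem_insert_of_mem hf'))
      (hcop.mono (by intro x hx; exact Finset.mem_coe.mpr (Finset.mem_insert_of_mem (Finset.mem_coe.mp hx))))
      (aeval_kerRestrict_self g P') (aeval_kerRestrict_self h P') hd2
    exact exists_conj_of_isCompl g h f P' hV hW T₁ hT₁ T₂ hT₂

end irr

end Cfsg.Agent.Helper42.SemiConj
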