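import Mathlib
import Cfsg.Agent.Lib.Helper42.SemiConj2

set_option autoImplicit false
set_option linter.unusedSectionVars false

namespace Cfsg.Agent.Helper42.SemiConj

open Polynomial Module

universe u

section sums

variable {F : Type u} [Field F] [Finite F]

/-- the dimension is the sum of the dimensions of the primary components -/
theorem finrank_eq_sum_ker (S : Finset F[X]) :
    ∀ (V : Type u) [AddCommGroup V] [Module F V] [Module.Finite F V] (g : V →ₗ[F] V),
      (S : Set F[X]).Pairwise IsCoprime → aeval g (∏ f ∈ S, f) = 0 →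
      finrank F V = ∑ f ∈ S, finrank F (LinearMap.ker (aeval g f)) := by
  classical
  induction S using Finset.induction_on with
  | empty =>
    intro V _ _ _ g _ hg
    rw [Finset.prod_empty, map_one] at hg
    have hV : Subsingleton V := ⟨fun a b => by
      have ha := LinearMap.congr_fun hg a
      have hb := LinearMap.congr_fun hg b
      simp only [Module.End.one_apply, LinearMap.zero_apply] at ha hb
      rw [ha, hb]⟩
    rw [Finset.sum_empty]
    exact Module.finrank_zero_of_subsingleton
  | insert f S' hf ih =>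
    intro V _ _ _ g hcop hg
    rw [Finset.prod_insert hf] at hg
    have hcop' : IsCoprime f (∏ f' ∈ S', f') := by
      apply IsCoprime.prod_right
      intro i hi
      apply hcop (Finset.mem_coe.mpr (Finset.mem_insert_self f S'))
        (Finset.mem_coe.mpr (Finset.mem_insert_of_mem hi))
      rintro rfl
      exact hf hi
    have hV := isCompl_ker_of_coprime g f (∏ f' ∈ S', f') hcop' hg
    have hdvd : ∀ f' ∈ S', f' ∣ ∏ f'' ∈ S', f'' := fun f' hf' => Finset.dvd_prod_of_mem _ hf'
    have hih := ih
    clear ih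
    obtain ⟨P', hP'⟩ : ∃ P' : F[X], P' = ∏ f' ∈ S', f' := ⟨_, rfl⟩
    rw [← hP'] at hV hdvd hih
    have h2 := hih (LinearMap.ker (aeval g P')) (kerRestrict g P')
      (hcop.mono (by intro x hx; exact Finset.mem_coe.mpr (Finset.mem_insert_of_mem (Finset.mem_coe.mp hx))))
      (aeval_kerRestrict_self g P')
    rw [Finset.sum_insert hf, ← Submodule.finrank_add_eq_of_isCompl hV, h2]
    congr 1
    apply Finset.sum_congr rfl
    intro f' hf'
    exact finrank_ker_aeval_kerRestrict g P' f' (ker_aeval_le_of_dvd g _ _ (hdvd f' hf'))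

end sums

section deg

variable {F : Type u} [Field F] [Finite F]

/-- the dimension of a space with an endomorphism killed by an irreducible `f` is a multiple
of `deg f` -/
theorem natDegree_dvd_finrank {V : Type*} [AddCommGroup V] [Module F V] [Module.Finite F V]
    (g : V →ₗ[F] V) (f : F[X]) (hirr : Irreducible f) (hg : aeval g f = 0) :
    f.natDegree ∣ finrank F V := by
  classical
  have : Finite V := Module.finite_of_finite F
  have : Fact (Irreducible f) := ⟨hirr⟩
  let ρ₁ : AdjoinRoot f →+* Module.End F V :=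
    Ideal.Quotient.lift (Ideal.span {f}) (aeval g : F[X] →ₐ[F] Module.End F V).toRingHom
      (aeval_eq_zero_of_mem_span' g f hg)
  let m₁ : Module (AdjoinRoot f) V := Module.compHom V ρ₁
  have hpb : Module.Finite F (AdjoinRoot f) := (AdjoinRoot.powerBasis hirr.ne_zero).finite
  have : Finite (AdjoinRoot f) := Module.finite_of_finite F
  have hfin₁ : Module.Finite (AdjoinRoot f) V := Module.Finite.of_finite
  have h1 := Module.natCard_eq_pow_finrank (K := AdjoinRoot f) (V := V)
  have h2 := Module.natCard_eq_pow_finrank (K := F) (V := V)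
  have h3 := Module.natCard_eq_pow_finrank (K := F) (V := AdjoinRoot f)
  have h4 : finrank F (AdjoinRoot f) = f.natDegree := by
    rw [(AdjoinRoot.powerBasis hirr.ne_zero).finrank, AdjoinRoot.powerBasis_dim]
  rw [h3, h4, ← pow_mul, h2] at h1
  have hF : 2 ≤ Nat.card F := Finite.one_lt_card
  exact ⟨_, Nat.pow_right_injective hF h1⟩

theorem natDegree_dvd_finrank_ker {V : Type*} [AddCommGroup V] [Module F V] [Module.Finite F V]
    (g : V →ₗ[F] V) (f : F[X]) (hirr : Irreducible f) :
    f.natDegree ∣ finrank F (LinearMap.ker (aeval g f)) :=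
  natDegree_dvd_finrank (kerRestrict g f) f hirr (aeval_kerRestrict_self g f)

end deg

section real

variable {F : Type u} [Field F] [Finite F]

/-- `d` is realised as the vector of primary dimensions of some endomorphism killed by `∏ S` -/
def Realizable (S : Finset F[X]) (d : F[X] → ℕ) : Prop :=
  ∃ (W : Type u) (_ : AddCommGroup W) (_ : Module F W) (_ : Module.Finite F W) (G : W →ₗ[F] W),
    aeval G (∏ f ∈ S, f) = 0 ∧ ∀ f ∈ S, finrank F (LinearMap.ker (aeval G f)) = d f

lemma realizable_zero (S : Finset F[X]) (d : F[X] → ℕ) (hd : ∀ f ∈ S, d f = 0) :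
    Realizable S d := by
  refine ⟨PUnit, inferInstance, inferInstance, inferInstance, 0, ?_, ?_⟩
  · apply LinearMap.ext; intro v; exact Subsingleton.elim _ _
  · intro f hf
    rw [hd f hf]
    exact Module.finrank_zero_of_subsingleton

/-- the kernel of a product map -/
noncomputable def kerProdEquiv {W K : Type*} [AddCommGroup W] [Module F W] [AddCommGroup K] [Module F K]
    (a : W →ₗ[F] W) (b : K →ₗ[F] K) :
    LinearMap.ker (a.prodMap b) ≃ₗ[F] (LinearMap.ker a × LinearMap.ker b) where
  toFun x := (⟨x.1.1, by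
    have := x.2
    rw [LinearMap.mem_ker, LinearMap.prodMap_apply, Prod.mk_eq_zero] at this
    exact this.1⟩, ⟨x.1.2, by
    have := x.2
    rw [LinearMap.mem_ker, LinearMap.prodMap_apply, Prod.mk_eq_zero] at this
    exact this.2⟩)
  map_add' x y := rfl
  map_smul' c x := rfl
  invFun y := ⟨(y.1.1, y.2.1), by
    rw [LinearMap.mem_ker, LinearMap.prodMap_apply, Prod.mk_eq_zero]
    exact ⟨y.1.2, y.2.2⟩⟩
  left_inv x := rfl
  right_inv y := rfl

lemma aeval_prodMap {W K : Type*} [AddCommGroup W] [Module F W] [AddCommGroup K] [Module F K]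
    (a : W →ₗ[F] W) (b : K →ₗ[F] K) (q : F[X]) :
    aeval (a.prodMap b) q = (aeval a q).prodMap (aeval b q) := by
  apply LinearMap.ext
  intro x
  apply Prod.ext
  · exact aeval_intertwine (LinearMap.fst F W K) (a.prodMap b) a (fun _ => rfl) q x
  · exact aeval_intertwine (LinearMap.snd F W K) (a.prodMap b) b (fun _ => rfl) q x

lemma finrank_ker_aeval_prodMap {W K : Type*} [AddCommGroup W] [Module F W] [Module.Finite F W]
    [AddCommGroup K] [Module F K] [Module.Finite F K]
    (a : W →ₗ[F] W) (b : K →ₗ[F] K) (q : F[X]) :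
    finrank F (LinearMap.ker (aeval (a.prodMap b) q)) =
      finrank F (LinearMap.ker (aeval a q)) + finrank F (LinearMap.ker (aeval b q)) := by
  rw [aeval_prodMap, (kerProdEquiv (aeval a q) (aeval b q)).finrank_eq, Module.finrank_prod]

/-- the block: multiplication by the root on `AdjoinRoot f` -/
lemma aeval_lmul_root (f q : F[X]) :
    aeval (Algebra.lmul F (AdjoinRoot f) (AdjoinRoot.root f)) q =
      Algebra.lmul F (AdjoinRoot f) (AdjoinRoot.mk f q) := by
  rw [Polynomial.aeval_algHom_apply, AdjoinRoot.aeval_eq]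

lemma finrank_ker_block_self (f : F[X]) (hirr : Irreducible f) :
    finrank F (LinearMap.ker (aeval (Algebra.lmul F (AdjoinRoot f) (AdjoinRoot.root f)) f)) =
      f.natDegree := by
  rw [aeval_lmul_root, AdjoinRoot.mk_self, map_zero, LinearMap.ker_zero, finrank_top,
    (AdjoinRoot.powerBasis hirr.ne_zero).finrank, AdjoinRoot.powerBasis_dim]

lemma finrank_ker_block_other (f q : F[X]) (hirr : Irreducible f) (hq : ¬ f ∣ q) :
    finrank F (LinearMap.ker (aeval (Algebra.lmul F (AdjoinRoot f) (AdjoinRoot.root f)) q)) = 0 := by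
  have : Fact (Irreducible f) := ⟨hirr⟩
  rw [aeval_lmul_root]
  have hne : AdjoinRoot.mk f q ≠ 0 := by
    rw [Ne, AdjoinRoot.mk_eq_zero]; exact hq
  have : LinearMap.ker (Algebra.lmul F (AdjoinRoot f) (AdjoinRoot.mk f q)) = ⊥ := by
    rw [LinearMap.ker_eq_bot']
    intro m hm
    have hm' : AdjoinRoot.mk f q * m = 0 := hm
    rcases mul_eq_zero.mp hm' with h | h
    · exact absurd h hne
    · exact h
  rw [this, finrank_bot]

lemma realizable_add (S : Finset F[X]) (hirr : ∀ f ∈ S, Irreducible f)
    (hcop : (S : Set F[X]).Pairwise IsCoprime) (d : F[X] → ℕ) (f₀ : F[X]) (hf₀ : f₀ ∈ S)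
    (hd : Realizable S d) (d' : F[X] → ℕ) (hd'0 : d' f₀ = d f₀ + f₀.natDegree)
    (hd' : ∀ f ∈ S, f ≠ f₀ → d' f = d f) : Realizable S d' := by
  obtain ⟨W, i1, i2, i3, G, hG, hGd⟩ := hd
  have hirr0 := hirr f₀ hf₀
  have hpb : Module.Finite F (AdjoinRoot f₀) := (AdjoinRoot.powerBasis hirr0.ne_zero).finite
  refine ⟨W × AdjoinRoot f₀, inferInstance, inferInstance, inferInstance,
    G.prodMap (Algebra.lmul F (AdjoinRoot f₀) (AdjoinRoot.root f₀)), ?_, ?_⟩
  · rw [aeval_prodMap, hG, aeval_lmul_root]
    have : AdjoinRoot.mk f₀ (∏ f ∈ S, f) = 0 := by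
      rw [AdjoinRoot.mk_eq_zero]; exact Finset.dvd_prod_of_mem _ hf₀
    rw [this, map_zero]
    apply LinearMap.ext; intro x; rfl
  · intro f hf
    rw [finrank_ker_aeval_prodMap, hGd f hf]
    by_cases hff : f = f₀
    · rw [hff, finrank_ker_block_self f₀ hirr0, hd'0]
    · rw [hd' f hf hff, finrank_ker_block_other f₀ f hirr0, add_zero]
      intro hdvd
      have hc : IsCoprime f₀ f := hcop (Finset.mem_coe.mpr hf₀) (Finset.mem_coe.mpr hf) (Ne.symm hff)
      exact hirr0.not_isUnit (hc.isUnit_of_dvd' (dvd_refl _) hdvd)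

theorem realizable_of_mul (S : Finset F[X]) (hirr : ∀ f ∈ S, Irreducible f)
    (hcop : (S : Set F[X]).Pairwise IsCoprime) :
    ∀ (N : ℕ) (m : F[X] → ℕ), ∑ f ∈ S, m f = N → Realizable S (fun f => f.natDegree * m f) := by
  classical
  intro N
  induction N with
  | zero =>
    intro m hm
    apply realizable_zero
    intro f hf
    have := (Finset.sum_eq_zero_iff.mp hm) f hf
    simp [this]
  | succ N ih =>
    intro m hm
    have hex : ∃ f₀ ∈ S, 0 < m f₀ := by
      by_contra hcon
      push Not at hcon
      have : ∑ f ∈ S, m f = 0 := Finset.sum_eq_zero (fun f hf => Nat.le_zero.mp (hcon f hf))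
      omega
    obtain ⟨f₀, hf₀, hpos⟩ := hex
    have hsum : ∑ f ∈ S, Function.update m f₀ (m f₀ - 1) f = N := by
      rw [Finset.sum_update_of_mem hf₀]
      have := Finset.add_sum_erase S m hf₀
      have h2 : ∑ x ∈ S \ {f₀}, m x = ∑ x ∈ S.erase f₀, m x := by
        rw [Finset.sdiff_singleton_eq_erase]
      omega
    have h1 := ih (Function.update m f₀ (m f₀ - 1)) hsum
    apply realizable_add S hirr hcop _ f₀ hf₀ h1
    · simp only [Function.update_self]
      have : m f₀ = (m f₀ - 1) + 1 := by omega
      conv_lhs => rw [this]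
      ring
    · intro f _ hff
      simp only [Function.update_of_ne hff]

end real

end Cfsg.Agent.Helper42.SemiConj
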