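import Mathlib
import Cfsg.Agent.Lib.Helper42.SemiConj3
import Cfsg.Agent.Lib.Helper42.PGLInv2

set_option autoImplicit false
set_option linter.unusedSectionVars false

namespace Cfsg.Agent.Helper42.SemiConj

open Polynomial Module Matrix

universe u

section mat

variable {F : Type u} [Field F] [Fintype F] {n : ℕ}

/-- the dimension of the `f`-primary component of a matrix -/
noncomputable def kd (A : Matrix (Fin n) (Fin n) F) (f : F[X]) : ℕ :=
  finrank F (LinearMap.ker (aeval (Matrix.toLin' A) f))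

lemma aeval_toLin' (A : Matrix (Fin n) (Fin n) F) (q : F[X]) :
    aeval (Matrix.toLin' A) q = Matrix.toLin' (aeval A q) := by
  have := Polynomial.aeval_algHom_apply (Matrix.toLinAlgEquiv' (R := F) (n := Fin n)) A q
  exact this

lemma aeval_toLin'_eq_zero_iff (A : Matrix (Fin n) (Fin n) F) (q : F[X]) :
    aeval (Matrix.toLin' A) q = 0 ↔ aeval A q = 0 := by
  rw [aeval_toLin']
  constructor
  · intro h
    apply Matrix.toLin'.injective
    rw [h, map_zero]
  · intro h
    rw [h, map_zero]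

lemma kd_eq_of_conj (A B : Matrix (Fin n) (Fin n) F) (P : GL (Fin n) F)
    (hP : P.val * A = B * P.val) (f : F[X]) : kd A f = kd B f := by
  let T : (Fin n → F) ≃ₗ[F] (Fin n → F) :=
    LinearEquiv.ofLinear (Matrix.toLin' P.val) (Matrix.toLin' P⁻¹.val)
      (by rw [← Matrix.toLin'_mul, ← Units.val_mul, mul_inv_cancel, Units.val_one, Matrix.toLin'_one])
      (by rw [← Matrix.toLin'_mul, ← Units.val_mul, inv_mul_cancel, Units.val_one, Matrix.toLin'_one])
  apply finrank_ker_aeval_eq_of_conj T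
  intro v
  show Matrix.toLin' P.val (Matrix.toLin' A v) = Matrix.toLin' B (Matrix.toLin' P.val v)
  rw [← LinearMap.comp_apply, ← Matrix.toLin'_mul, hP, Matrix.toLin'_mul, LinearMap.comp_apply]

theorem exists_GL_conj_of_kd_eq (S : Finset F[X]) (hirr : ∀ f ∈ S, Irreducible f)
    (hcop : (S : Set F[X]).Pairwise IsCoprime) (A B : Matrix (Fin n) (Fin n) F)
    (hA : aeval A (∏ f ∈ S, f) = 0) (hB : aeval B (∏ f ∈ S, f) = 0)
    (hk : ∀ f ∈ S, kd A f = kd B f) : ∃ P : GL (Fin n) F, P.val * A = B * P.val := by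
  obtain ⟨T, hT⟩ := exists_conj_of_prod S (Fin n → F) (Fin n → F) (Matrix.toLin' A) (Matrix.toLin' B)
    hirr hcop ((aeval_toLin'_eq_zero_iff A _).mpr hA) ((aeval_toLin'_eq_zero_iff B _).mpr hB) hk
  exact PGLInv.exists_GL_of_linearEquiv A B T hT

theorem sum_kd (S : Finset F[X]) (hcop : (S : Set F[X]).Pairwise IsCoprime)
    (A : Matrix (Fin n) (Fin n) F) (hA : aeval A (∏ f ∈ S, f) = 0) :
    ∑ f ∈ S, kd A f = n := by
  have := finrank_eq_sum_ker S (Fin n → F) (Matrix.toLin' A) hcop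
    ((aeval_toLin'_eq_zero_iff A _).mpr hA)
  rw [Module.finrank_fin_fun] at this
  exact this.symm

theorem natDegree_dvd_kd (A : Matrix (Fin n) (Fin n) F) (f : F[X]) (hirr : Irreducible f) :
    f.natDegree ∣ kd A f :=
  natDegree_dvd_finrank_ker (Matrix.toLin' A) f hirr

theorem exists_matrix_of_kd (S : Finset F[X]) (hirr : ∀ f ∈ S, Irreducible f)
    (hcop : (S : Set F[X]).Pairwise IsCoprime) (m : F[X] → ℕ)
    (hm : ∑ f ∈ S, f.natDegree * m f = n) :
    ∃ A : Matrix (Fin n) (Fin n) F, aeval A (∏ f ∈ S, f) = 0 ∧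
      ∀ f ∈ S, kd A f = f.natDegree * m f := by
  obtain ⟨W, i1, i2, i3, G, hG, hGd⟩ := realizable_of_mul S hirr hcop _ m rfl
  have hW : finrank F W = finrank F (Fin n → F) := by
    rw [Module.finrank_fin_fun, finrank_eq_sum_ker S W G hcop hG, ← hm]
    exact Finset.sum_congr rfl hGd
  let e : W ≃ₗ[F] (Fin n → F) := LinearEquiv.ofFinrankEq W (Fin n → F) hW
  let L : (Fin n → F) →ₗ[F] (Fin n → F) := e.toLinearMap ∘ₗ G ∘ₗ e.symm.toLinearMap
  have he : ∀ w, e (G w) = L (e w) := by
    intro w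
    simp only [L, LinearMap.comp_apply, LinearEquiv.coe_coe, LinearEquiv.symm_apply_apply]
  have hL : Matrix.toLin' (LinearMap.toMatrix' L) = L := Matrix.toLin'_toMatrix' L
  refine ⟨LinearMap.toMatrix' L, ?_, ?_⟩
  · rw [← aeval_toLin'_eq_zero_iff, hL]
    apply LinearMap.ext
    intro v
    have := aeval_intertwine e.toLinearMap G L he (∏ f ∈ S, f) (e.symm v)
    simp only [LinearEquiv.coe_coe, LinearEquiv.apply_symm_apply] at this
    rw [← this, hG]
    simp
  · intro f hf
    unfold kd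
    rw [hL, ← finrank_ker_aeval_eq_of_conj e G L he f, hGd f hf]

end mat

end Cfsg.Agent.Helper42.SemiConj
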