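import Mathlib
import Cfsg.Agent.Lib.Helper42.SemiConj4

set_option autoImplicit false
set_option linter.unusedSectionVars false

namespace Cfsg.Agent.Helper42.SemiConj

open Polynomial Module Matrix

universe u

section classes

variable {F : Type u} [Field F] [Fintype F] {n : ℕ}

lemma aeval_pow_sub_one (A : Matrix (Fin n) (Fin n) F) (r : ℕ) :
    aeval A (X ^ r - 1 : F[X]) = A ^ r - 1 := by
  rw [map_sub, map_pow, aeval_X, map_one]

lemma pow_eq_one_iff_aeval (g : GL (Fin n) F) (r : ℕ) :
    g ^ r = 1 ↔ aeval g.val (X ^ r - 1 : F[X]) = 0 := by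
  rw [aeval_pow_sub_one, sub_eq_zero, ← Units.val_pow_eq_pow_val]
  constructor
  · intro h; rw [h, Units.val_one]
  · intro h; exact Units.ext h

/-- a matrix with `A ^ r = 1` as an element of `GL` -/
noncomputable def glOfPow (A : Matrix (Fin n) (Fin n) F) (r : ℕ) (hr : 0 < r) (hA : A ^ r = 1) :
    GL (Fin n) F :=
  ⟨A, A ^ (r - 1), by rw [← pow_succ', Nat.sub_add_cancel hr, hA],
    by rw [← pow_succ, Nat.sub_add_cancel hr, hA]⟩

lemma kd_eq_of_isConj (g h : GL (Fin n) F) (hc : IsConj g h) (f : F[X]) :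
    kd g.val f = kd h.val f := by
  rw [isConj_iff] at hc
  obtain ⟨c, hc⟩ := hc
  apply kd_eq_of_conj _ _ c
  have : c * g = h * c := by rw [← hc]; group
  rw [← Units.val_mul, this, Units.val_mul]

lemma isConj_of_GL_conj (g h P : GL (Fin n) F) (hP : P.val * g.val = h.val * P.val) : IsConj g h := by
  rw [isConj_iff]
  refine ⟨P, ?_⟩
  have : P * g = h * P := Units.ext (by rw [Units.val_mul, Units.val_mul, hP])
  rw [this, mul_inv_cancel_right]

theorem card_classes_pow_eq_one (S : Finset F[X]) (hirr : ∀ f ∈ S, Irreducible f)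
    (hcop : (S : Set F[X]).Pairwise IsCoprime) (r : ℕ) (hr : 0 < r)
    (hP : ∏ f ∈ S, f = X ^ r - 1) :
    Nat.card {C : ConjClasses (GL (Fin n) F) // ∃ g : GL (Fin n) F, ConjClasses.mk g = C ∧ g ^ r = 1}
      = Nat.card {m : S → ℕ // ∑ f : S, f.1.natDegree * m f = n} := by
  classical
  have hlift : ∀ C : {C : ConjClasses (GL (Fin n) F) // ∃ g : GL (Fin n) F,
      ConjClasses.mk g = C ∧ g ^ r = 1}, ∃ g : GL (Fin n) F, ConjClasses.mk g = C.1 ∧ g ^ r = 1 :=
    fun C => C.2
  choose rep hrep1 hrep2 using hlift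
  have hkill : ∀ g : GL (Fin n) F, g ^ r = 1 → aeval g.val (∏ f ∈ S, f) = 0 := by
    intro g hg
    rw [hP]; exact (pow_eq_one_iff_aeval g r).mp hg
  have hsum : ∀ g : GL (Fin n) F, g ^ r = 1 →
      ∑ f : S, f.1.natDegree * (kd g.val f.1 / f.1.natDegree) = n := by
    intro g hg
    have h1 := sum_kd S hcop g.val (hkill g hg)
    rw [← Finset.sum_coe_sort S] at h1
    refine Eq.trans ?_ h1
    apply Finset.sum_congr rfl
    intro f _
    exact Nat.mul_div_cancel' (natDegree_dvd_kd g.val f.1 (hirr f.1 f.2))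
  have hdegpos : ∀ f ∈ S, 0 < f.natDegree := fun f hf =>
    Polynomial.natDegree_pos_iff_degree_pos.mpr (Polynomial.degree_pos_of_irreducible (hirr f hf))
  have hbij : Function.Bijective (fun C => (⟨fun f : S => kd (rep C).val f.1 / f.1.natDegree,
      hsum (rep C) (hrep2 C)⟩ : {m : S → ℕ // ∑ f : S, f.1.natDegree * m f = n})) := by
    constructor
    · intro C C' h
      have h1 : ∀ f ∈ S, kd (rep C).val f = kd (rep C').val f := by
        intro f hf
        have h2 := congrFun (congrArg Subtype.val h) ⟨f, hf⟩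
        simp only at h2
        rw [← Nat.mul_div_cancel' (natDegree_dvd_kd (rep C).val f (hirr f hf)),
          ← Nat.mul_div_cancel' (natDegree_dvd_kd (rep C').val f (hirr f hf)), h2]
      obtain ⟨P, hPc⟩ := exists_GL_conj_of_kd_eq S hirr hcop _ _ (hkill _ (hrep2 C))
        (hkill _ (hrep2 C')) h1
      apply Subtype.ext
      rw [← hrep1 C, ← hrep1 C']
      exact ConjClasses.mk_eq_mk_iff_isConj.mpr (isConj_of_GL_conj _ _ P hPc)
    · rintro ⟨m, hm⟩
      let m' : F[X] → ℕ := fun f => if h : f ∈ S then m ⟨f, h⟩ else 0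
      have hm' : ∑ f ∈ S, f.natDegree * m' f = n := by
        rw [← hm, ← Finset.sum_coe_sort S]
        apply Finset.sum_congr rfl
        intro f _
        simp only [m', f.2, dite_true]
      obtain ⟨A, hA0, hAk⟩ := exists_matrix_of_kd S hirr hcop m' hm'
      have hAr : A ^ r = 1 := by
        rw [hP, aeval_pow_sub_one, sub_eq_zero] at hA0
        exact hA0
      let g := glOfPow A r hr hAr
      have hg : g ^ r = 1 := by
        rw [pow_eq_one_iff_aeval, aeval_pow_sub_one, sub_eq_zero]; exact hAr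
      refine ⟨⟨ConjClasses.mk g, g, rfl, hg⟩, ?_⟩
      apply Subtype.ext
      funext f
      show kd (rep _).val f.1 / f.1.natDegree = m f
      have hc : IsConj (rep ⟨ConjClasses.mk g, g, rfl, hg⟩) g :=
        ConjClasses.mk_eq_mk_iff_isConj.mp (hrep1 _)
      rw [kd_eq_of_isConj _ _ hc]
      show kd A f.1 / f.1.natDegree = m f
      rw [hAk f.1 f.2, Nat.mul_div_cancel_left _ (hdegpos f.1 f.2)]
      simp only [m', f.2, dite_true]
  exact Nat.card_eq_of_bijective _ hbij

end classes

end Cfsg.Agent.Helper42.SemiConj
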