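import Mathlib

set_option autoImplicit false
set_option linter.unusedSectionVars false

namespace Cfsg.Agent.Helper42.SemiConj

open Polynomial Module UniqueFactorizationMonoid
open scoped Classical

universe u

section cyc

variable {F : Type u} [Field F] [Fintype F] {p : ℕ} [Fact p.Prime] [CharP F p]

/-- the monic irreducible factors of the `r`-th cyclotomic polynomial -/
noncomputable def cycFactors (F : Type u) [Field F] (r : ℕ) : Finset F[X] := by
  classical
  exact (normalizedFactors (cyclotomic r F)).toFinset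

lemma mem_cycFactors (r : ℕ) (f : F[X]) :
    f ∈ cycFactors F r ↔ f ∈ normalizedFactors (cyclotomic r F) := by
  classical
  unfold cycFactors
  rw [Multiset.mem_toFinset]

lemma cyc_irr (r : ℕ) (f : F[X]) (hf : f ∈ cycFactors F r) : Irreducible f :=
  irreducible_of_normalized_factor f ((mem_cycFactors r f).mp hf)

lemma cyc_normalize (r : ℕ) (f : F[X]) (hf : f ∈ cycFactors F r) : normalize f = f :=
  normalize_normalized_factor f ((mem_cycFactors r f).mp hf)

lemma cyc_dvd (r : ℕ) (f : F[X]) (hf : f ∈ cycFactors F r) : f ∣ cyclotomic r F :=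
  dvd_of_mem_normalizedFactors ((mem_cycFactors r f).mp hf)

lemma neZero_of_ne (r : ℕ) (hr : r.Prime) (hrp : r ≠ p) : NeZero ((r : ℕ) : F) := by
  refine ⟨fun h => ?_⟩
  rw [CharP.cast_eq_zero_iff F p] at h
  have := (Nat.prime_dvd_prime_iff_eq (Fact.out : p.Prime) hr).mp h
  exact hrp this.symm

lemma cyc_prod (r : ℕ) (hr : r.Prime) (hrp : r ≠ p) :
    ∏ f ∈ cycFactors F r, f = cyclotomic r F := by
  classical
  have : NeZero ((r : ℕ) : F) := neZero_of_ne r hr hrp
  have h0 : cyclotomic r F ≠ 0 := cyclotomic_ne_zero r F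
  have hsq : Squarefree (cyclotomic r F) := (separable_cyclotomic r F).squarefree
  have hnd := (squarefree_iff_nodup_normalizedFactors h0).mp hsq
  unfold cycFactors
  rw [Finset.prod_eq_multiset_prod, Multiset.toFinset_val, Multiset.dedup_eq_self.mpr hnd,
    Multiset.map_id', prod_normalizedFactors_eq h0]
  exact (cyclotomic.monic r F).normalize_eq_self

lemma cyc_coprime (r : ℕ) : ((cycFactors F r : Finset F[X]) : Set F[X]).Pairwise IsCoprime := by
  intro f hf g hg hfg
  have hf' := Finset.mem_coe.mp hf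
  have hg' := Finset.mem_coe.mp hg
  rw [(cyc_irr r f hf').coprime_iff_not_dvd]
  intro hdvd
  have hass : Associated f g := (cyc_irr r f hf').associated_of_dvd (cyc_irr r g hg') hdvd
  have := normalize_eq_normalize hass.dvd hass.symm.dvd
  rw [cyc_normalize r f hf', cyc_normalize r g hg'] at this
  exact hfg this

lemma cyc_natDegree (r : ℕ) (hr : r.Prime) (hrp : r ≠ p) (f : F[X]) (hf : f ∈ cycFactors F r) :
    f.natDegree = orderOf ((Fintype.card F : ℕ) : ZMod r) := by
  classical
  obtain ⟨k, -, hk⟩ := FiniteField.card F p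
  have hcop : p.Coprime r := (Nat.coprime_primes (Fact.out : p.Prime) hr).mpr (Ne.symm hrp)
  have h1 := natDegree_of_mem_normalizedFactors_cyclotomic hk hcop ((mem_cycFactors r f).mp hf)
  rw [h1, ← orderOf_units, ZMod.coe_unitOfCoprime, hk]

lemma X_sub_one_not_dvd_cyc (r : ℕ) (hr : r.Prime) (hrp : r ≠ p) :
    ¬ ((X - 1 : F[X]) ∣ cyclotomic r F) := by
  have : Fact r.Prime := ⟨hr⟩
  have hne : NeZero ((r : ℕ) : F) := neZero_of_ne r hr hrp
  intro h
  have h1 : (X - 1 : F[X]) = X - C 1 := by rw [map_one]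
  rw [h1, Polynomial.dvd_iff_isRoot, IsRoot.def, eval_one_cyclotomic_prime] at h
  exact hne.out h

lemma X_sub_one_notMem_cyc (r : ℕ) (hr : r.Prime) (hrp : r ≠ p) :
    (X - 1 : F[X]) ∉ cycFactors F r := fun h =>
  X_sub_one_not_dvd_cyc r hr hrp (cyc_dvd r _ h)

lemma X_sub_one_irr : Irreducible (X - 1 : F[X]) := by
  have h1 : (X - 1 : F[X]) = X - C 1 := by rw [map_one]
  rw [h1]; exact Polynomial.irreducible_X_sub_C 1

lemma cyc_card (r : ℕ) (hr : r.Prime) (hrp : r ≠ p) :
    (cycFactors F r).card * orderOf ((Fintype.card F : ℕ) : ZMod r) = r - 1 := by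
  have h1 := congrArg Polynomial.natDegree (cyc_prod (F := F) r hr hrp)
  rw [Polynomial.natDegree_prod _ _ (fun f hf => (cyc_irr r f hf).ne_zero), natDegree_cyclotomic,
    Nat.totient_prime hr] at h1
  rw [← h1, Finset.sum_congr rfl (fun f hf => cyc_natDegree r hr hrp f hf), Finset.sum_const,
    smul_eq_mul]

/-- the full factor set of `X ^ r - 1` -/
noncomputable def powFactors (F : Type u) [Field F] (r : ℕ) : Finset F[X] := by
  classical
  exact insert (X - 1 : F[X]) (cycFactors F r)

lemma powFactors_prod (r : ℕ) (hr : r.Prime) (hrp : r ≠ p) :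
    ∏ f ∈ powFactors F r, f = X ^ r - 1 := by
  classical
  have : Fact r.Prime := ⟨hr⟩
  unfold powFactors
  rw [Finset.prod_insert (X_sub_one_notMem_cyc r hr hrp), cyc_prod r hr hrp, mul_comm,
    cyclotomic_prime_mul_X_sub_one]

lemma powFactors_irr (r : ℕ) (f : F[X]) (hf : f ∈ powFactors F r) : Irreducible f := by
  classical
  unfold powFactors at hf
  rcases Finset.mem_insert.mp hf with h | h
  · rw [h]; exact X_sub_one_irr
  · exact cyc_irr r f h

lemma powFactors_coprime (r : ℕ) (hr : r.Prime) (hrp : r ≠ p) :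
    ((powFactors F r : Finset F[X]) : Set F[X]).Pairwise IsCoprime := by
  classical
  have key : ∀ g ∈ cycFactors F r, IsCoprime (X - 1 : F[X]) g := by
    intro g hg
    rw [X_sub_one_irr.coprime_iff_not_dvd]
    intro hdvd
    exact X_sub_one_not_dvd_cyc r hr hrp (hdvd.trans (cyc_dvd r g hg))
  intro f hf g hg hfg
  have hf' := Finset.mem_coe.mp hf
  have hg' := Finset.mem_coe.mp hg
  unfold powFactors at hf' hg'
  rcases Finset.mem_insert.mp hf' with h1 | h1 <;> rcases Finset.mem_insert.mp hg' with h2 | h2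
  · exact absurd (h1.trans h2.symm) hfg
  · rw [h1]; exact key g h2
  · rw [h2]; exact (key f h1).symm
  · exact cyc_coprime r (Finset.mem_coe.mpr h1) (Finset.mem_coe.mpr h2) hfg

end cyc

end Cfsg.Agent.Helper42.SemiConj
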