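import Mathlib
import Cfsg.Agent.Lib.Helper14.SPIDefs
import Cfsg.Agent.Lib.Helper66.SPIFIX
import Cfsg.Agent.Lib.Helper29.SPICDVD

set_option autoImplicit false

/-!
SPI (IDC) for helper14's server (S5961): if every part of an orthogonal decomposition is
invariant, the codimension of the fixed space is a sum of multiples of `c`, each at most `a`.
-/

namespace Cfsg.Agent.Helper42.SPI

open Module Polynomial Cfsg.Agent.Helper14.SPI

/-- dimension of a finite sup of an independent family -/
theorem idc_finrank_biSup {F V : Type*} [Field F] [AddCommGroup V] [Module F V]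
    [FiniteDimensional F V] {K : Type*} (W : K → Submodule F V) (hind : iSupIndep W)
    (S : Finset K) :
    finrank F ↥(⨆ k ∈ S, W k) = ∑ k ∈ S, finrank F (W k) := by
  classical
  induction S using Finset.induction_on with
  | empty => simp
  | insert a S ha ih =>
    rw [Finset.iSup_insert, Finset.sum_insert ha, ← ih]
    have hdis : Disjoint (W a) (⨆ k ∈ S, W k) := by
      have := hind.disjoint_biSup (x := a) (y := (S : Set K)) (by simpa using ha)
      simpa using this
    have h1 := Submodule.finrank_sup_add_finrank_inf_eq (W a) (⨆ k ∈ S, W k)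
    rw [hdis.eq_bot, finrank_bot, add_zero] at h1
    exact h1

/-- dimension of the sup of an independent family over a fintype -/
theorem idc_finrank_iSup {F V : Type*} [Field F] [AddCommGroup V] [Module F V]
    [FiniteDimensional F V] {K : Type*} [Fintype K] (W : K → Submodule F V)
    (hind : iSupIndep W) :
    finrank F ↥(⨆ k, W k) = ∑ k, finrank F (W k) := by
  have h := idc_finrank_biSup W hind Finset.univ
  have h2 : (⨆ k ∈ (Finset.univ : Finset K), W k) = ⨆ k, W k := by simp
  rw [h2] at h
  exact h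

/-- (IDC) if every part is invariant: `ρ j = finrank ((D j).map (x-1))`, (FIX) + (CDVD) on `D j`. -/
theorem id_case {F V : Type*} [Field F] [Fintype F] [AddCommGroup V] [Module F V]
    [FiniteDimensional F V] (B : LinearMap.BilinForm F V) (hB : B.IsAlt)
    (x : V →ₗ[F] V) (hx : IsIsom B x) (r : ℕ) [Fact r.Prime] (hr0 : (r : F) ≠ 0)
    (hrq : ¬ r ∣ Fintype.card F) (hxr : x ^ r = 1)
    {t : ℕ} (a : ℕ) (D : Fin t → Submodule F V) (hD : IsOrthFam B ⊤ D)
    (hDa : ∀ j, finrank F (D j) = a) (hσ : ∀ j, (D j).map x ≤ D j) :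
    ∃ ρ : Fin t → ℕ, (∀ j, cOf (Fintype.card F) r ∣ ρ j ∧ ρ j ≤ a) ∧
      finrank F (LinearMap.ker (x - 1)) + ∑ j, ρ j = finrank F V := by
  classical
  have hle : ∀ j, (D j).map (x - 1) ≤ D j := by
    intro j y hy
    obtain ⟨v, hv, rfl⟩ := Submodule.mem_map.mp hy
    rw [LinearMap.sub_apply, Module.End.one_apply]
    exact Submodule.sub_mem _ (hσ j (Submodule.mem_map_of_mem hv)) hv
  refine ⟨fun j => finrank F ((D j).map (x - 1)), ?_, ?_⟩
  · intro j
    obtain ⟨h1, h2, h3, h4, h5, h6, h7⟩ :=
      Cfsg.Agent.Helper66.SPI.fix_decomp B hB x hx r hr0 hxr (D j) (hσ j) (hD.nondeg j)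
    refine ⟨Cfsg.Agent.Helper29.SPI.c_dvd_finrank B hB x r hrq hxr ((D j).map (x - 1)) h6 h5 h7,
      ?_⟩
    rw [← hDa j]
    exact Submodule.finrank_mono (hle j)
  · have hind : iSupIndep (fun j => (D j).map (x - 1)) := hD.indep.mono hle
    have hrange : LinearMap.range (x - 1) = ⨆ j, (D j).map (x - 1) := by
      rw [LinearMap.range_eq_map, ← hD.sup, Submodule.map_iSup]
    have h1 := LinearMap.finrank_range_add_finrank_ker (x - 1)
    rw [hrange, idc_finrank_iSup _ hind] at h1
    rw [add_comm]
    exact h1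

end Cfsg.Agent.Helper42.SPI
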