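import Mathlib
import Cfsg.Agent.Lib.Helper14.GLIDefs
import Cfsg.Agent.Lib.Helper42.SemiConj4
import Cfsg.Agent.Lib.Helper42.SemiConj6

set_option autoImplicit false

/-!
GLI (GBLK) for helper14's server (S5958): an element of `SL_n(F)` with `A^r = 1` whose fixed
space has codimension `m c`.
-/

namespace Cfsg.Agent.Helper42.GLI

open Module Polynomial Cfsg.Agent.Helper14.GLI
open Cfsg.Agent.Helper42.SemiConj

/-- second half of (POW): no nontrivial `r`-th roots of unity when `1 < c` -/
theorem gblk_root_one {F : Type*} [Field F] [Fintype F] (r : ℕ) [Fact r.Prime]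
    (hc1 : 1 < orderOf ((Fintype.card F : ℕ) : ZMod r)) (μ : F) (hμ : μ ^ r = 1) : μ = 1 := by
  have hr : r.Prime := Fact.out
  by_contra hne
  have hμ0 : μ ≠ 0 := by
    intro h0
    rw [h0, zero_pow hr.ne_zero] at hμ
    exact zero_ne_one hμ
  have h1 : orderOf μ ∣ r := orderOf_dvd_of_pow_eq_one hμ
  have h2 : orderOf μ = r := by
    rcases (Nat.dvd_prime hr).mp h1 with h | h
    · exact absurd (orderOf_eq_one_iff.mp h) hne
    · exact h
  have h3 : orderOf μ ∣ Fintype.card F - 1 :=
    orderOf_dvd_of_pow_eq_one (FiniteField.pow_card_sub_one_eq_one μ hμ0)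
  rw [h2] at h3
  have hq : 1 ≤ Fintype.card F := Fintype.card_pos
  have h4 : ((Fintype.card F : ℕ) : ZMod r) = 1 := by
    have h5 : (1 : ℕ) ≡ Fintype.card F [MOD r] := (Nat.modEq_iff_dvd' hq).mpr h3
    have h6 := (ZMod.natCast_eq_natCast_iff _ _ _).mpr h5
    rw [← h6, Nat.cast_one]
  rw [h4, orderOf_one] at hc1
  exact lt_irrefl _ hc1

/-- (GBLK) Helper42.SemiConj `exists_matrix_of_kd` with `S = powFactors F r`; `det = 1` because
`det ^ r = 1` and (POW). -/
theorem exists_sl_block {F : Type*} [Field F] [Fintype F] {p : ℕ} [Fact p.Prime] [CharP F p]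
    (n r : ℕ) [Fact r.Prime] (hrp : r ≠ p)
    (hc1 : 1 < orderOf ((Fintype.card F : ℕ) : ZMod r)) (m : ℕ)
    (hm : m * orderOf ((Fintype.card F : ℕ) : ZMod r) ≤ n) :
    ∃ A : Matrix.SpecialLinearGroup (Fin n) F, A ^ r = 1 ∧
      finrank F (LinearMap.ker (Matrix.toLin' (A : Matrix (Fin n) (Fin n) F) - 1))
        + m * orderOf ((Fintype.card F : ℕ) : ZMod r) = n := by
  classical
  have hr : r.Prime := Fact.out
  set e := orderOf ((Fintype.card F : ℕ) : ZMod r) with he
  have hcard := cyc_card (F := F) (p := p) r hr hrp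
  rw [← he] at hcard
  have hr2 : 1 ≤ r - 1 := by
    have := hr.two_le
    omega
  have hnonempty : (cycFactors F r).Nonempty := by
    rw [Finset.nonempty_iff_ne_empty]
    intro h0
    rw [h0, Finset.card_empty, zero_mul] at hcard
    omega
  obtain ⟨f₀, hf₀⟩ := hnonempty
  have hdeg : f₀.natDegree = e := cyc_natDegree (p := p) r hr hrp f₀ hf₀
  have hfp : f₀ ∈ powFactors F r := by
    unfold powFactors
    exact Finset.mem_insert_of_mem hf₀
  have hXp : (X - 1 : F[X]) ∈ powFactors F r := by
    unfold powFactors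
    exact Finset.mem_insert_self _ _
  have hne1 : f₀ ≠ X - 1 := by
    intro h
    rw [h] at hf₀
    exact X_sub_one_notMem_cyc (p := p) r hr hrp hf₀
  have hX1 : (X - 1 : F[X]).natDegree = 1 := by
    have h1 : (X - 1 : F[X]) = X - C 1 := by rw [map_one]
    rw [h1]; exact natDegree_X_sub_C 1
  let mm : F[X] → ℕ := fun f => if f = f₀ then m else if f = X - 1 then n - m * e else 0
  have hmm : ∀ f, mm f = if f = f₀ then m else if f = X - 1 then n - m * e else 0 := fun f => rfl
  have hsum : ∑ f ∈ powFactors F r, f.natDegree * mm f = n := by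
    have h1 : ∀ f ∈ powFactors F r, f.natDegree * mm f =
        (if f = f₀ then e * m else 0) + (if f = X - 1 then n - m * e else 0) := by
      intro f _
      by_cases h : f = f₀
      · subst h
        simp [hmm, hne1, hdeg]
      · by_cases h' : f = X - 1
        · subst h'
          simp [hmm, h, hX1]
        · simp [hmm, h, h']
    rw [Finset.sum_congr rfl h1, Finset.sum_add_distrib, Finset.sum_ite_eq' (powFactors F r) f₀,
      if_pos hfp, Finset.sum_ite_eq' (powFactors F r) (X - 1 : F[X]), if_pos hXp]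
    have : e * m = m * e := mul_comm _ _
    omega
  obtain ⟨A, hA1, hA2⟩ := exists_matrix_of_kd (powFactors F r)
    (fun f hf => powFactors_irr r f hf) (powFactors_coprime (p := p) r hr hrp) mm hsum
  rw [powFactors_prod (p := p) r hr hrp, map_sub, map_pow, aeval_X, map_one, sub_eq_zero] at hA1
  have hdet : A.det = 1 := by
    apply gblk_root_one r hc1
    rw [← Matrix.det_pow, hA1, Matrix.det_one]
  let A' : Matrix.SpecialLinearGroup (Fin n) F := ⟨A, hdet⟩
  refine ⟨A', ?_, ?_⟩
  · have hpow : (A' ^ r).1 = A ^ r := Matrix.SpecialLinearGroup.coe_pow A' r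
    apply Subtype.ext
    rw [hpow, hA1]
    rfl
  · have h6 := hA2 (X - 1) hXp
    have h7 : kd A (X - 1) = finrank F (LinearMap.ker (Matrix.toLin' A - 1)) := by
      unfold kd
      rw [map_sub, aeval_X, map_one]
    show finrank F (LinearMap.ker (Matrix.toLin' A - 1)) + m * e = n
    rw [← h7, h6, hX1, one_mul, hmm, if_neg (Ne.symm hne1), if_pos rfl]
    omega

end Cfsg.Agent.Helper42.GLI
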