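import Mathlib

set_option autoImplicit false

namespace Cfsg.Agent.Helper42.Jordan

open Module

universe u v w

variable {K : Type u} [Field K]

section rk

variable {V : Type v} [AddCommGroup V] [Module K V]

/-- rank of the `k`-th power of an endomorphism -/
noncomputable def rk (T : Module.End K V) (k : ℕ) : ℕ := finrank K (LinearMap.range (T ^ k))

lemma rk_zero (T : Module.End K V) : rk T 0 = finrank K V := by
  rw [rk, pow_zero, Module.End.one_eq_id, LinearMap.range_id, finrank_top]

lemma rk_eq_zero_iff [FiniteDimensional K V] (T : Module.End K V) (k : ℕ) :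
    rk T k = 0 ↔ T ^ k = 0 := by
  rw [rk, Submodule.finrank_eq_zero, LinearMap.range_eq_bot]

lemma conj_pow_apply {V' : Type w} [AddCommGroup V'] [Module K V'] (T : Module.End K V)
    (T' : Module.End K V') (P : V ≃ₗ[K] V') (h : ∀ x, P (T x) = T' (P x)) (k : ℕ) (x : V) :
    P ((T ^ k) x) = (T' ^ k) (P x) := by
  induction k generalizing x with
  | zero => simp
  | succ k ih =>
    rw [pow_succ', pow_succ', Module.End.mul_apply, Module.End.mul_apply, h, ih]

lemma rk_conj {V' : Type w} [AddCommGroup V'] [Module K V'] (T : Module.End K V)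
    (T' : Module.End K V') (P : V ≃ₗ[K] V') (h : ∀ x, P (T x) = T' (P x)) (k : ℕ) :
    rk T k = rk T' k := by
  have hk := conj_pow_apply T T' P h k
  have e : LinearMap.range (T' ^ k) = (LinearMap.range (T ^ k)).map (P : V →ₗ[K] V') := by
    ext y
    simp only [LinearMap.mem_range, Submodule.mem_map]
    constructor
    · rintro ⟨x, rfl⟩
      refine ⟨(T ^ k) (P.symm x), ⟨_, rfl⟩, ?_⟩
      rw [LinearEquiv.coe_coe, hk]; simp
    · rintro ⟨_, ⟨x, rfl⟩, rfl⟩
      exact ⟨P x, by rw [LinearEquiv.coe_coe, hk]⟩
  rw [rk, rk, e, LinearEquiv.finrank_map_eq]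

end rk

section prod

variable {V₁ : Type v} [AddCommGroup V₁] [Module K V₁] {V₂ : Type w} [AddCommGroup V₂] [Module K V₂]

/-- product of submodules as a product type -/
def prodSubEquiv (p : Submodule K V₁) (q : Submodule K V₂) : (p.prod q) ≃ₗ[K] p × q where
  toFun x := (⟨x.1.1, x.2.1⟩, ⟨x.1.2, x.2.2⟩)
  invFun y := ⟨(y.1.1, y.2.1), ⟨y.1.2, y.2.2⟩⟩
  map_add' _ _ := rfl
  map_smul' _ _ := rfl
  left_inv _ := rfl
  right_inv _ := rfl

lemma prodMap_pow' (T₁ : Module.End K V₁) (T₂ : Module.End K V₂) (k : ℕ) :
    (T₁.prodMap T₂) ^ k = (T₁ ^ k).prodMap (T₂ ^ k) := by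
  induction k with
  | zero => simp [LinearMap.prodMap_one]
  | succ k ih => rw [pow_succ, ih, pow_succ, pow_succ, LinearMap.prodMap_mul]

lemma rk_prodMap [FiniteDimensional K V₁] [FiniteDimensional K V₂] (T₁ : Module.End K V₁)
    (T₂ : Module.End K V₂) (k : ℕ) :
    rk (T₁.prodMap T₂) k = rk T₁ k + rk T₂ k := by
  rw [rk, prodMap_pow', LinearMap.range_prodMap, (prodSubEquiv _ _).finrank_eq, Module.finrank_prod]
  rfl

end prod

/-- the shift operator on `Fin m → K` -/
def shift (K : Type u) [Field K] (m : ℕ) : Module.End K (Fin m → K) where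
  toFun c := fun j => if h : 0 < j.val then c ⟨j.val - 1, by omega⟩ else 0
  map_add' c d := by
    ext j; simp only [Pi.add_apply]; split_ifs <;> simp
  map_smul' a c := by
    ext j; simp only [Pi.smul_apply, RingHom.id_apply, smul_eq_mul]; split_ifs <;> simp

lemma shift_apply (m : ℕ) (c : Fin m → K) (j : Fin m) :
    shift K m c j = if h : 0 < j.val then c ⟨j.val - 1, by omega⟩ else 0 := rfl

lemma shift_pow_apply (m k : ℕ) (c : Fin m → K) (j : Fin m) :
    ((shift K m) ^ k) c j = if h : k ≤ j.val then c ⟨j.val - k, by omega⟩ else 0 := by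
  induction k generalizing j with
  | zero => simp
  | succ k ih =>
    rw [pow_succ', Module.End.mul_apply, shift_apply]
    by_cases h0 : 0 < j.val
    · rw [dif_pos h0, ih]
      by_cases hk : k + 1 ≤ j.val
      · rw [dif_pos hk, dif_pos (by simp; omega)]
        congr 1
        apply Fin.ext
        simp; omega
      · rw [dif_neg hk, dif_neg (by simp; omega)]
    · rw [dif_neg h0, dif_neg (by omega)]

lemma shift_single (m : ℕ) (i : Fin m) :
    shift K m (Pi.single i 1) =
      if h : i.val + 1 < m then Pi.single (⟨i.val + 1, h⟩ : Fin m) (1 : K) else 0 := by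
  ext j
  rw [shift_apply]
  by_cases h : i.val + 1 < m
  · rw [dif_pos h]
    by_cases h0 : 0 < j.val
    · rw [dif_pos h0, Pi.single_apply, Pi.single_apply]
      by_cases hj : j = ⟨i.val + 1, h⟩
      · rw [if_pos hj, if_pos]
        apply Fin.ext
        have := congrArg Fin.val hj
        simp at this ⊢; omega
      · rw [if_neg hj, if_neg]
        intro hh; apply hj; apply Fin.ext
        have := congrArg Fin.val hh
        simp at this ⊢; omega
    · rw [dif_neg h0, Pi.single_apply, if_neg]
      intro hh
      have := congrArg Fin.val hh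
      simp at this; omega
  · rw [dif_neg h]
    by_cases h0 : 0 < j.val
    · rw [dif_pos h0, Pi.single_apply, if_neg]
      · rfl
      · intro hh
        have := congrArg Fin.val hh
        simp at this
        have := j.2
        omega
    · rw [dif_neg h0]; rfl

/-- restriction to the first `m - k` coordinates -/
def resLM (K : Type u) [Field K] (m k : ℕ) : (Fin m → K) →ₗ[K] (Fin (m - k) → K) where
  toFun c := fun i => c ⟨i.val, by omega⟩
  map_add' _ _ := rfl
  map_smul' _ _ := rfl

/-- extension by zero, shifted by `k` -/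
def extLM (K : Type u) [Field K] (m k : ℕ) : (Fin (m - k) → K) →ₗ[K] (Fin m → K) where
  toFun d := fun j => if h : k ≤ j.val then d ⟨j.val - k, by omega⟩ else 0
  map_add' c d := by
    ext j; simp only [Pi.add_apply]; split_ifs <;> simp
  map_smul' a c := by
    ext j; simp only [Pi.smul_apply, RingHom.id_apply, smul_eq_mul]; split_ifs <;> simp

lemma shift_pow_eq (m k : ℕ) : (shift K m) ^ k = (extLM K m k) ∘ₗ (resLM K m k) := by
  apply LinearMap.ext
  intro c
  ext j
  rw [shift_pow_apply]
  rfl

lemma resLM_surjective (m k : ℕ) : Function.Surjective (resLM K m k) := by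
  intro d
  refine ⟨fun i => if h : i.val < m - k then d ⟨i.val, h⟩ else 0, ?_⟩
  ext i
  simp [resLM]

lemma extLM_injective (m k : ℕ) : Function.Injective (extLM K m k) := by
  intro d d' h
  ext i
  have := congrFun h ⟨i.val + k, by omega⟩
  simp only [extLM, LinearMap.coe_mk, AddHom.coe_mk] at this
  rw [dif_pos (by simp), dif_pos (by simp)] at this
  convert this using 2 <;> (apply Fin.ext; simp)

lemma rk_shift' (m k : ℕ) : finrank K (LinearMap.range ((shift K m) ^ k)) = m - k := by
  rw [shift_pow_eq, LinearMap.range_comp_of_range_eq_top _ (LinearMap.range_eq_top.mpr (resLM_surjective m k)),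
    LinearMap.finrank_range_of_inj (extLM_injective m k)]
  simp

end Cfsg.Agent.Helper42.Jordan
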