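import Mathlib
import Cfsg.Agent.Lib.Helper42.Jordan1

set_option autoImplicit false

namespace Cfsg.Agent.Helper42.Jordan

open Module

universe u v w

variable {K : Type u} [Field K] {V : Type v} [AddCommGroup V] [Module K V]

lemma rk_shift (m k : ℕ) : rk (shift K m) k = m - k := rk_shift' m k

/-- the chain map `c ↦ ∑ c_j T^j v` -/
noncomputable def chainMap (T : Module.End K V) (m : ℕ) (v : V) : (Fin m → K) →ₗ[K] V :=
  Fintype.linearCombination K (fun j : Fin m => (T ^ j.val) v)

lemma chainMap_single (T : Module.End K V) (m : ℕ) (v : V) (i : Fin m) :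
    chainMap T m v (Pi.single i 1) = (T ^ i.val) v := by
  rw [chainMap, Fintype.linearCombination_apply_single, one_smul]

lemma chainMap_apply (T : Module.End K V) (m : ℕ) (v : V) (c : Fin m → K) :
    chainMap T m v c = ∑ j, c j • (T ^ j.val) v := by
  rw [chainMap, Fintype.linearCombination_apply]

/-- the dual chain map `w ↦ (φ (T^(m-1-j) w))_j` -/
def coMap (T : Module.End K V) (m : ℕ) (φ : V →ₗ[K] K) : V →ₗ[K] (Fin m → K) :=
  LinearMap.pi (fun j : Fin m => φ ∘ₗ (T ^ (m - 1 - j.val)))

lemma coMap_apply (T : Module.End K V) (m : ℕ) (φ : V →ₗ[K] K) (w : V) (j : Fin m) :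
    coMap T m φ w j = φ ((T ^ (m - 1 - j.val)) w) := rfl

lemma T_chainMap (T : Module.End K V) (m : ℕ) (hT : T ^ m = 0) (v : V) (c : Fin m → K) :
    T (chainMap T m v c) = chainMap T m v (shift K m c) := by
  have : T ∘ₗ chainMap T m v = chainMap T m v ∘ₗ shift K m := by
    apply (Pi.basisFun K (Fin m)).ext
    intro i
    rw [Pi.basisFun_apply, LinearMap.comp_apply, LinearMap.comp_apply, chainMap_single, shift_single]
    by_cases h : i.val + 1 < m
    · rw [dif_pos h, chainMap_single, ← Module.End.mul_apply, ← pow_succ']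
    · rw [dif_neg h, map_zero, ← Module.End.mul_apply, ← pow_succ']
      have : i.val + 1 = m := by have := i.2; omega
      rw [this, hT]; rfl
  exact LinearMap.congr_fun this c

lemma coMap_T (T : Module.End K V) (m : ℕ) (hT : T ^ m = 0) (φ : V →ₗ[K] K) (w : V) :
    coMap T m φ (T w) = shift K m (coMap T m φ w) := by
  ext j
  rw [coMap_apply, shift_apply, ← Module.End.mul_apply, ← pow_succ]
  by_cases h0 : 0 < j.val
  · rw [dif_pos h0, coMap_apply]
    have : m - 1 - j.val + 1 = m - 1 - (j.val - 1) := by have := j.2; omega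
    simp only [this]
  · rw [dif_neg h0]
    have : m - 1 - j.val + 1 = m := by have := j.2; omega
    rw [this, hT]; simp

lemma pow_eq_zero_of_le' (T : Module.End K V) (m : ℕ) (hT : T ^ m = 0) (e : ℕ) (he : m ≤ e) :
    T ^ e = 0 := pow_eq_zero_of_le he hT

lemma coMap_chainMap_injective (T : Module.End K V) (m : ℕ) (hT : T ^ m = 0) (v : V)
    (φ : V →ₗ[K] K) (hφ : φ ((T ^ (m - 1)) v) ≠ 0) :
    Function.Injective ((coMap T m φ) ∘ₗ (chainMap T m v)) := by
  rw [← LinearMap.ker_eq_bot, LinearMap.ker_eq_bot']
  intro c hc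
  have key : ∀ (n : ℕ) (h : n < m), c ⟨n, h⟩ = 0 := by
    intro n
    induction n using Nat.strong_induction_on with
    | _ n ih =>
      intro h
      have h1 := congrFun hc ⟨n, h⟩
      rw [LinearMap.comp_apply, coMap_apply, chainMap_apply, map_sum, map_sum] at h1
      rw [Finset.sum_eq_single (⟨n, h⟩ : Fin m)] at h1
      · rw [map_smul, map_smul, smul_eq_mul, ← Module.End.mul_apply, ← pow_add] at h1
        have e : m - 1 - n + n = m - 1 := by omega
        simp only [e] at h1
        rcases mul_eq_zero.mp h1 with h2 | h2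
        · exact h2
        · exact absurd h2 hφ
      · intro i _ hi
        rcases lt_or_gt_of_ne (fun hh => hi (Fin.ext hh) : i.val ≠ n) with hlt | hgt
        · have : c i = 0 := ih i.val hlt i.2
          rw [this, zero_smul, map_zero, map_zero]
        · rw [map_smul, ← Module.End.mul_apply, ← pow_add,
            pow_eq_zero_of_le' T m hT _ (by simp; omega)]
          simp
      · intro h'; exact absurd (Finset.mem_univ _) h'
  ext j
  exact key j.val j.2

end Cfsg.Agent.Helper42.Jordan
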