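import Mathlib
import Cfsg.Agent.Lib.Helper42.Jordan2

set_option autoImplicit false

namespace Cfsg.Agent.Helper42.Jordan

open Module

universe u v w

variable {K : Type u} [Field K] {V : Type v} [AddCommGroup V] [Module K V]

theorem exists_split [FiniteDimensional K V] (T : Module.End K V) (m : ℕ)
    (hT : T ^ m = 0) (v : V) (hv : (T ^ (m - 1)) v ≠ 0) :
    ∃ (C : Submodule K V) (hC : ∀ x ∈ C, T x ∈ C) (P : V ≃ₗ[K] (Fin m → K) × C),
      ∀ w, P (T w) = ((shift K m).prodMap (T.restrict hC)) (P w) := by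
  obtain ⟨φ, hφ⟩ : ∃ φ : Module.Dual K V, φ ((T ^ (m - 1)) v) ≠ 0 := by
    by_contra hcon
    push Not at hcon
    exact hv ((Module.forall_dual_apply_eq_zero_iff K _).mp hcon)
  set ι := chainMap T m v with hι
  set Φ := coMap T m φ with hΦ
  have hinj := coMap_chainMap_injective T m hT v φ hφ
  set Ψ : (Fin m → K) ≃ₗ[K] (Fin m → K) := LinearEquiv.ofInjectiveEndo (Φ ∘ₗ ι) hinj with hΨ
  have hΨa : ∀ c, Ψ c = Φ (ι c) := fun c => rfl
  have hΨS : ∀ c, Ψ (shift K m c) = shift K m (Ψ c) := by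
    intro c
    rw [hΨa, hΨa, ← T_chainMap T m hT, coMap_T T m hT]
  have hΨsS : ∀ c, Ψ.symm (shift K m c) = shift K m (Ψ.symm c) := by
    intro c
    apply Ψ.injective
    rw [Ψ.apply_symm_apply, hΨS, Ψ.apply_symm_apply]
  -- E = Ψ⁻¹ Φ
  set E : V →ₗ[K] (Fin m → K) := (Ψ.symm : (Fin m → K) →ₗ[K] (Fin m → K)) ∘ₗ Φ with hE
  have hEa : ∀ w, E w = Ψ.symm (Φ w) := fun w => rfl
  have hEι : ∀ c, E (ι c) = c := by
    intro c
    rw [hEa, ← hΨa, Ψ.symm_apply_apply]
  have hET : ∀ w, E (T w) = shift K m (E w) := by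
    intro w
    rw [hEa, hEa, coMap_T T m hT, hΨsS]
  have hTι : ∀ c, T (ι c) = ι (shift K m c) := T_chainMap T m hT v
  set C : Submodule K V := LinearMap.ker Φ with hCdef
  have hC : ∀ x ∈ C, T x ∈ C := by
    intro x hx
    rw [hCdef, LinearMap.mem_ker] at hx ⊢
    rw [coMap_T T m hT, hx, map_zero]
  have hEC : ∀ x ∈ C, E x = 0 := by
    intro x hx
    rw [hCdef, LinearMap.mem_ker] at hx
    rw [hEa, hx, map_zero]
  have hproj : ∀ w, w - ι (E w) ∈ C := by
    intro w
    rw [hCdef, LinearMap.mem_ker, map_sub, ← hΨa, hEa, Ψ.apply_symm_apply, sub_self]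
  -- forward and backward maps
  set f : V →ₗ[K] (Fin m → K) × C :=
    LinearMap.prod E (LinearMap.codRestrict C (LinearMap.id - ι ∘ₗ E) (fun w => by
      simpa using hproj w)) with hf
  set g : (Fin m → K) × C →ₗ[K] V := LinearMap.coprod ι C.subtype with hg
  have hfa : ∀ w, f w = (E w, ⟨w - ι (E w), hproj w⟩) := fun w => rfl
  have hga : ∀ y, g y = ι y.1 + (y.2 : V) := fun y => rfl
  have h1 : f ∘ₗ g = LinearMap.id := by
    apply LinearMap.ext
    rintro ⟨c, x⟩
    rw [LinearMap.comp_apply, hga, hfa, LinearMap.id_apply]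
    have e1 : E (ι c + (x : V)) = c := by
      rw [map_add, hEι, hEC _ x.2, add_zero]
    apply Prod.ext
    · exact e1
    · apply Subtype.ext
      simp only [e1]
      simp
  have h2 : g ∘ₗ f = LinearMap.id := by
    apply LinearMap.ext
    intro w
    rw [LinearMap.comp_apply, hfa, hga, LinearMap.id_apply]
    simp
  refine ⟨C, hC, LinearEquiv.ofLinearMap f g h1 h2, ?_⟩
  intro w
  change f (T w) = ((shift K m).prodMap (T.restrict hC)) (f w)
  rw [hfa, hfa, LinearMap.prodMap_apply]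
  apply Prod.ext
  · exact hET w
  · apply Subtype.ext
    simp only [LinearMap.coe_restrict_apply]
    rw [hET, ← hTι, map_sub]


theorem rk_split [FiniteDimensional K V] (T : Module.End K V) (m : ℕ) (C : Submodule K V)
    (hC : ∀ x ∈ C, T x ∈ C) (P : V ≃ₗ[K] (Fin m → K) × C)
    (hP : ∀ w, P (T w) = ((shift K m).prodMap (T.restrict hC)) (P w)) (k : ℕ) :
    rk T k = (m - k) + rk (T.restrict hC) k := by
  rw [rk_conj T _ P hP, rk_prodMap, rk_shift]

theorem finrank_split [FiniteDimensional K V] (m : ℕ) (C : Submodule K V)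
    (P : V ≃ₗ[K] (Fin m → K) × C) : finrank K V = m + finrank K C := by
  rw [P.finrank_eq, Module.finrank_prod]
  simp

/-- data of the nilpotency index -/
theorem exists_index [FiniteDimensional K V] [Nontrivial V] (T : Module.End K V)
    (hT : IsNilpotent T) :
    ∃ m : ℕ, 0 < m ∧ T ^ m = 0 ∧ (∀ k, k < m → T ^ k ≠ 0) ∧ ∃ v : V, (T ^ (m - 1)) v ≠ 0 := by
  classical
  have hex : ∃ k, T ^ k = 0 := hT
  refine ⟨Nat.find hex, ?_, Nat.find_spec hex, fun k hk => Nat.find_min hex hk, ?_⟩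
  · rw [Nat.find_pos]
    rw [pow_zero]
    exact one_ne_zero
  · have hpos : 0 < Nat.find hex := by
      rw [Nat.find_pos, pow_zero]
      exact one_ne_zero
    have : T ^ (Nat.find hex - 1) ≠ 0 := Nat.find_min hex (by omega)
    by_contra hcon
    push Not at hcon
    exact this (LinearMap.ext hcon)

end Cfsg.Agent.Helper42.Jordan
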