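import Mathlib
import Cfsg.Agent.Lib.Helper42.Jordan3

set_option autoImplicit false

namespace Cfsg.Agent.Helper42.Jordan

open Module

universe u v w

variable {K : Type u} [Field K]

/-- Completeness of the rank invariants for nilpotent operators. -/
theorem exists_conj_of_rk_eq : ∀ (d : ℕ) (V V' : Type v) [AddCommGroup V] [Module K V]
    [FiniteDimensional K V] [AddCommGroup V'] [Module K V'] [FiniteDimensional K V']
    (T : Module.End K V) (T' : Module.End K V'), finrank K V = d → IsNilpotent T →
    (∀ k, rk T k = rk T' k) → ∃ P : V ≃ₗ[K] V', ∀ x, P (T x) = T' (P x) := by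
  intro d
  induction d using Nat.strong_induction_on with
  | _ d ih =>
    intro V V' _ _ _ _ _ _ T T' hd hnil hrk
    have hd' : finrank K V' = d := by
      rw [← rk_zero T', ← hrk 0, rk_zero, hd]
    by_cases hd0 : d = 0
    · subst hd0
      have : Subsingleton V := Module.finrank_zero_iff.mp hd
      have : Subsingleton V' := Module.finrank_zero_iff.mp hd'
      refine ⟨LinearEquiv.ofSubsingleton V V', fun x => Subsingleton.elim _ _⟩
    · have : Nontrivial V := Module.nontrivial_of_finrank_pos (R := K) (by omega)
      obtain ⟨m, hm0, hTm, hmin, v, hv⟩ := exists_index T hnil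
      have hTm' : T' ^ m = 0 := by
        rw [← rk_eq_zero_iff, ← hrk, rk_eq_zero_iff, hTm]
      have hT'm1 : T' ^ (m - 1) ≠ 0 := by
        intro h0
        have := hmin (m - 1) (by omega)
        apply this
        rw [← rk_eq_zero_iff, hrk, rk_eq_zero_iff, h0]
      obtain ⟨v', hv'⟩ : ∃ v' : V', (T' ^ (m - 1)) v' ≠ 0 := by
        by_contra hcon
        push Not at hcon
        exact hT'm1 (LinearMap.ext hcon)
      obtain ⟨C, hC, P, hP⟩ := exists_split T m hTm v hv
      obtain ⟨C', hC', P', hP'⟩ := exists_split T' m hTm' v' hv'
      have hrkC : ∀ k, rk (T.restrict hC) k = rk (T'.restrict hC') k := by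
        intro k
        have h1 := rk_split T m C hC P hP k
        have h2 := rk_split T' m C' hC' P' hP' k
        have := hrk k
        omega
      have hfC : finrank K C < d := by
        have := finrank_split m C P
        omega
      have hnilC : IsNilpotent (T.restrict hC) := by
        refine ⟨m, ?_⟩
        rw [← rk_eq_zero_iff]
        have h1 := rk_split T m C hC P hP m
        have : rk T m = 0 := by rw [rk_eq_zero_iff, hTm]
        omega
      obtain ⟨Q, hQ⟩ := ih (finrank K C) hfC C C' (T.restrict hC) (T'.restrict hC') rfl hnilC hrkC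
      refine ⟨(P.trans ((LinearEquiv.refl K (Fin m → K)).prodCongr Q)).trans P'.symm, ?_⟩
      intro x
      simp only [LinearEquiv.trans_apply]
      rw [hP]
      apply P'.injective
      rw [P'.apply_symm_apply, hP', P'.apply_symm_apply]
      apply Prod.ext
      · simp
      · simp only [LinearMap.prodMap_apply, LinearEquiv.prodCongr_apply, hQ]


/-- Realizability: the rank sequence of a nilpotent operator comes from a list of positive sizes. -/
theorem exists_list_rk : ∀ (d : ℕ) (V : Type v) [AddCommGroup V] [Module K V]
    [FiniteDimensional K V] (T : Module.End K V), finrank K V = d → IsNilpotent T →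
    ∃ L : List ℕ, (∀ e ∈ L, 0 < e) ∧ L.sum = d ∧ ∀ k, rk T k = (L.map (fun e => e - k)).sum := by
  intro d
  induction d using Nat.strong_induction_on with
  | _ d ih =>
    intro V _ _ _ T hd hnil
    by_cases hd0 : d = 0
    · subst hd0
      refine ⟨[], by simp, by simp, ?_⟩
      intro k
      have : Subsingleton V := Module.finrank_zero_iff.mp hd
      rw [(rk_eq_zero_iff _ _).mpr (Subsingleton.elim _ _)]
      simp
    · have : Nontrivial V := Module.nontrivial_of_finrank_pos (R := K) (by omega)
      obtain ⟨m, hm0, hTm, hmin, v, hv⟩ := exists_index T hnil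
      obtain ⟨C, hC, P, hP⟩ := exists_split T m hTm v hv
      have hfC : finrank K V = m + finrank K C := finrank_split m C P
      have hnilC : IsNilpotent (T.restrict hC) := by
        refine ⟨m, ?_⟩
        rw [← rk_eq_zero_iff]
        have h1 := rk_split T m C hC P hP m
        have : rk T m = 0 := by rw [rk_eq_zero_iff, hTm]
        omega
      obtain ⟨L, hL0, hLs, hLr⟩ := ih (finrank K C) (by omega) C (T.restrict hC) rfl hnilC
      refine ⟨m :: L, ?_, ?_, ?_⟩
      · intro e he
        rcases List.mem_cons.mp he with rfl | he
        · exact hm0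
        · exact hL0 e he
      · rw [List.sum_cons, hLs]; omega
      · intro k
        rw [rk_split T m C hC P hP k, hLr k, List.map_cons, List.sum_cons]

/-- Construction: every list of sizes is realized. -/
theorem exists_model (L : List ℕ) : ∃ (V : Type u) (_ : AddCommGroup V) (_ : Module K V)
    (_ : FiniteDimensional K V) (T : Module.End K V),
    finrank K V = L.sum ∧ ∀ k, rk T k = (L.map (fun e => e - k)).sum := by
  induction L with
  | nil =>
    refine ⟨PUnit, inferInstance, inferInstance, inferInstance, 0, by
      rw [List.sum_nil]; exact Module.finrank_zero_of_subsingleton, ?_⟩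
    intro k
    rw [(rk_eq_zero_iff _ _).mpr (Subsingleton.elim _ _)]
    simp
  | cons m L ih =>
    obtain ⟨V, i1, i2, i3, T, hf, hr⟩ := ih
    refine ⟨(Fin m → K) × V, inferInstance, inferInstance, inferInstance,
      (shift K m).prodMap T, ?_, ?_⟩
    · rw [Module.finrank_prod, hf, List.sum_cons]; simp
    · intro k
      rw [rk_prodMap, rk_shift, hr k, List.map_cons, List.sum_cons]

/-- matrix version of the construction -/
theorem exists_matrix (n : ℕ) (L : List ℕ) (hL : L.sum = n) :
    ∃ N : Matrix (Fin n) (Fin n) K,
      ∀ k, rk (Matrix.toLin' N) k = (L.map (fun e => e - k)).sum := by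
  obtain ⟨V, i1, i2, i3, T, hf, hr⟩ := exists_model (K := K) L
  rw [hL] at hf
  let b : Basis (Fin n) K V := Module.finBasisOfFinrankEq K V hf
  refine ⟨LinearMap.toMatrix b b T, ?_⟩
  intro k
  rw [← hr k]
  symm
  apply rk_conj T _ b.equivFun
  intro x
  rw [Matrix.toLin'_apply]
  exact (LinearMap.toMatrix_mulVec_repr b b T x).symm

lemma sum_tsub_succ (M : Multiset ℕ) (k : ℕ) :
    (M.map (fun e => e - k)).sum =
      (M.map (fun e => e - (k + 1))).sum + (M.filter (fun e => k < e)).card := by
  induction M using Multiset.induction_on with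
  | empty => simp
  | cons a M ih =>
    rw [Multiset.map_cons, Multiset.sum_cons, Multiset.map_cons, Multiset.sum_cons, ih,
      Multiset.filter_cons]
    by_cases h : k < a
    · simp [h]; omega
    · simp [h]; omega

lemma card_filter_lt_succ (M : Multiset ℕ) (i : ℕ) :
    (M.filter (fun e => i < e)).card = (M.filter (fun e => i + 1 < e)).card + M.count (i + 1) := by
  induction M using Multiset.induction_on with
  | empty => simp
  | cons a M ih =>
    rw [Multiset.filter_cons, Multiset.filter_cons, Multiset.count_cons]
    by_cases h1 : i + 1 < a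
    · have h2 : i < a := by omega
      have h3 : i + 1 ≠ a := by omega
      simp [h1, h2, h3, ih]; omega
    · by_cases h2 : i < a
      · have h3 : i + 1 = a := by omega
        simp [h2, h3, ih]
        omega
      · have h3 : i + 1 ≠ a := by omega
        simp [h1, h2, h3, ih]

theorem multiset_eq_of_sums (M M' : Multiset ℕ) (h0 : ∀ e ∈ M, 0 < e) (h0' : ∀ e ∈ M', 0 < e)
    (h : ∀ k, (M.map (fun e => e - k)).sum = (M'.map (fun e => e - k)).sum) : M = M' := by
  have hg : ∀ k, (M.filter (fun e => k < e)).card = (M'.filter (fun e => k < e)).card := by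
    intro k
    have h1 := sum_tsub_succ M k
    have h2 := sum_tsub_succ M' k
    have h3 := h k
    have h4 := h (k + 1)
    omega
  ext j
  rcases Nat.eq_zero_or_pos j with rfl | hj
  · rw [Multiset.count_eq_zero_of_notMem, Multiset.count_eq_zero_of_notMem]
    · intro hh; exact absurd (h0' 0 hh) (lt_irrefl 0)
    · intro hh; exact absurd (h0 0 hh) (lt_irrefl 0)
  · obtain ⟨i, rfl⟩ : ∃ i, j = i + 1 := ⟨j - 1, by omega⟩
    have h1 := card_filter_lt_succ M i
    have h2 := card_filter_lt_succ M' i
    have h3 := hg i
    have h4 := hg (i + 1)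
    omega


end Cfsg.Agent.Helper42.Jordan
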