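import Mathlib
import Cfsg.Agent.Lib.Helper42.Jordan4

set_option autoImplicit false

namespace Cfsg.Agent.Helper42.Jordan

open Module

universe u

variable {F : Type u} [Field F] {n : ℕ}

/-- matrix rank sequence -/
noncomputable def mrk (N : Matrix (Fin n) (Fin n) F) (k : ℕ) : ℕ := rk (Matrix.toLin' N) k

lemma mrk_eq_zero_iff (N : Matrix (Fin n) (Fin n) F) (k : ℕ) : mrk N k = 0 ↔ N ^ k = 0 := by
  rw [mrk, rk_eq_zero_iff, ← Matrix.toLin'_pow]
  constructor
  · intro h
    apply Matrix.toLin'.injective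
    rw [h, map_zero]
  · intro h
    rw [h, map_zero]

lemma isNilpotent_toLin' (N : Matrix (Fin n) (Fin n) F) :
    IsNilpotent (Matrix.toLin' N) ↔ IsNilpotent N := by
  constructor
  · rintro ⟨k, hk⟩
    refine ⟨k, ?_⟩
    rw [← mrk_eq_zero_iff, mrk, rk_eq_zero_iff, hk]
  · rintro ⟨k, hk⟩
    refine ⟨k, ?_⟩
    rw [← rk_eq_zero_iff]
    exact (mrk_eq_zero_iff N k).mpr hk

/-- the linear equivalence of an invertible matrix -/
noncomputable def glEquiv (P : GL (Fin n) F) : (Fin n → F) ≃ₗ[F] (Fin n → F) :=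
  LinearEquiv.ofLinearMap (Matrix.toLin' P.val) (Matrix.toLin' P⁻¹.val)
    (by rw [← Matrix.toLin'_mul]; simp) (by rw [← Matrix.toLin'_mul]; simp)

lemma glEquiv_apply (P : GL (Fin n) F) (x : Fin n → F) : glEquiv P x = P.val.mulVec x := rfl

lemma mrk_conj (P : GL (Fin n) F) (N : Matrix (Fin n) (Fin n) F) (k : ℕ) :
    mrk (P.val * N * P⁻¹.val) k = mrk N k := by
  symm
  apply rk_conj _ _ (glEquiv P)
  intro x
  rw [glEquiv_apply, glEquiv_apply, Matrix.toLin'_apply, Matrix.toLin'_apply, Matrix.mulVec_mulVec,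
    Matrix.mulVec_mulVec]
  congr 1
  rw [Matrix.mul_assoc, Matrix.mul_assoc]
  have : P⁻¹.val * P.val = 1 := by
    rw [← Units.val_mul]; simp
  rw [this, Matrix.mul_one]

/-- the invertible matrix of a linear equivalence -/
noncomputable def glOfLinEquiv (e : (Fin n → F) ≃ₗ[F] (Fin n → F)) : GL (Fin n) F :=
  ⟨LinearMap.toMatrix' e.toLinearMap, LinearMap.toMatrix' e.symm.toLinearMap,
    by rw [← LinearMap.toMatrix'_comp]; simp, by rw [← LinearMap.toMatrix'_comp]; simp⟩

lemma exists_conj_of_mrk_eq (N N' : Matrix (Fin n) (Fin n) F) (hN : IsNilpotent N)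
    (h : ∀ k, mrk N k = mrk N' k) : ∃ P : GL (Fin n) F, P.val * N * P⁻¹.val = N' := by
  obtain ⟨e, he⟩ := exists_conj_of_rk_eq (K := F) n (Fin n → F) (Fin n → F) (Matrix.toLin' N)
    (Matrix.toLin' N') (by simp) ((isNilpotent_toLin' N).mpr hN) h
  refine ⟨glOfLinEquiv e, ?_⟩
  have h1 : (glOfLinEquiv e).val * N = N' * (glOfLinEquiv e).val := by
    apply Matrix.toLin'.injective
    apply LinearMap.ext
    intro x
    simp only [glOfLinEquiv, Matrix.toLin'_mul, Matrix.toLin'_toMatrix', LinearMap.comp_apply,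
      LinearEquiv.coe_coe]
    exact he x
  rw [h1, Matrix.mul_assoc]
  have : (glOfLinEquiv e).val * (glOfLinEquiv e)⁻¹.val = 1 := by
    rw [← Units.val_mul]; simp
  rw [this, Matrix.mul_one]

lemma exists_partition (N : Matrix (Fin n) (Fin n) F) (hN : IsNilpotent N) :
    ∃ μ : Nat.Partition n, ∀ k, mrk N k = (μ.parts.map (fun e => e - k)).sum := by
  obtain ⟨L, hL0, hLs, hLr⟩ := exists_list_rk (K := F) n (Fin n → F) (Matrix.toLin' N) (by simp)
    ((isNilpotent_toLin' N).mpr hN)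
  refine ⟨⟨(L : Multiset ℕ), fun {i} hi => hL0 i (by simpa using hi), by simpa using hLs⟩, ?_⟩
  intro k
  rw [mrk, hLr k]
  simp

lemma exists_matrix_of_partition (μ : Nat.Partition n) :
    ∃ N : Matrix (Fin n) (Fin n) F, IsNilpotent N ∧
      ∀ k, mrk N k = (μ.parts.map (fun e => e - k)).sum := by
  obtain ⟨N, hN⟩ := exists_matrix (K := F) n μ.parts.toList (by
    rw [← Multiset.sum_coe, Multiset.coe_toList, μ.parts_sum])
  have hN' : ∀ k, mrk N k = (μ.parts.map (fun e => e - k)).sum := by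
    intro k
    rw [mrk, hN k, ← Multiset.sum_coe, ← Multiset.map_coe, Multiset.coe_toList]
  refine ⟨N, ⟨n, ?_⟩, hN'⟩
  rw [← mrk_eq_zero_iff, hN' n, Multiset.sum_eq_zero_iff]
  intro x hx
  obtain ⟨e, he, rfl⟩ := Multiset.mem_map.mp hx
  have := Nat.Partition.le_of_mem_parts he
  omega

lemma partition_unique (μ ν : Nat.Partition n)
    (h : ∀ k, (μ.parts.map (fun e => e - k)).sum = (ν.parts.map (fun e => e - k)).sum) :
    μ = ν := by
  apply Nat.Partition.ext
  exact multiset_eq_of_sums _ _ (fun e he => μ.parts_pos he) (fun e he => ν.parts_pos he) h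

open Classical in
/-- the Jordan type of a (nilpotent) matrix -/
noncomputable def jt (N : Matrix (Fin n) (Fin n) F) : Nat.Partition n :=
  if h : IsNilpotent N then Classical.choose (exists_partition N h) else default

lemma jt_spec (N : Matrix (Fin n) (Fin n) F) (hN : IsNilpotent N) (k : ℕ) :
    mrk N k = ((jt N).parts.map (fun e => e - k)).sum := by
  rw [jt, dif_pos hN]
  exact Classical.choose_spec (exists_partition N hN) k

lemma isNilpotent_conj (P : GL (Fin n) F) (N : Matrix (Fin n) (Fin n) F) (hN : IsNilpotent N) :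
    IsNilpotent (P.val * N * P⁻¹.val) := by
  obtain ⟨k, hk⟩ := hN
  refine ⟨k, ?_⟩
  rw [← mrk_eq_zero_iff, mrk_conj, mrk_eq_zero_iff, hk]

lemma jt_conj (P : GL (Fin n) F) (N : Matrix (Fin n) (Fin n) F) (hN : IsNilpotent N) :
    jt (P.val * N * P⁻¹.val) = jt N := by
  apply partition_unique
  intro k
  rw [← jt_spec _ (isNilpotent_conj P N hN), ← jt_spec _ hN, mrk_conj]

lemma exists_conj_of_jt_eq (N N' : Matrix (Fin n) (Fin n) F) (hN : IsNilpotent N)
    (hN' : IsNilpotent N') (h : jt N = jt N') : ∃ P : GL (Fin n) F, P.val * N * P⁻¹.val = N' := by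
  apply exists_conj_of_mrk_eq N N' hN
  intro k
  rw [jt_spec N hN, jt_spec N' hN', h]

lemma exists_jt_eq (μ : Nat.Partition n) :
    ∃ N : Matrix (Fin n) (Fin n) F, IsNilpotent N ∧ jt N = μ := by
  obtain ⟨N, hN, hr⟩ := exists_matrix_of_partition (F := F) μ
  refine ⟨N, hN, ?_⟩
  apply partition_unique
  intro k
  rw [← jt_spec N hN, hr]

end Cfsg.Agent.Helper42.Jordan
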