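import Mathlib
import Cfsg.Agent.Lib.Helper42.Jordan5

set_option autoImplicit false

namespace Cfsg.Agent.Helper42.Jordan

open Module

universe u

variable {F : Type u} [Field F] {n : ℕ}

/-- unipotent element of a nilpotent matrix -/
noncomputable def unipOf (N : Matrix (Fin n) (Fin n) F) (hN : IsNilpotent N) : GL (Fin n) F :=
  (hN.isUnit_one_add).unit

lemma unipOf_val (N : Matrix (Fin n) (Fin n) F) (hN : IsNilpotent N) :
    (unipOf N hN).val = 1 + N := rfl

lemma pow_eq_zero_iff_parts (N : Matrix (Fin n) (Fin n) F) (hN : IsNilpotent N) (k : ℕ) :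
    N ^ k = 0 ↔ ∀ e ∈ (jt N).parts, e ≤ k := by
  rw [← mrk_eq_zero_iff, jt_spec N hN, Multiset.sum_eq_zero_iff]
  constructor
  · intro h e he
    have := h (e - k) (Multiset.mem_map.mpr ⟨e, he, rfl⟩)
    omega
  · intro h x hx
    obtain ⟨e, he, rfl⟩ := Multiset.mem_map.mp hx
    have := h e he
    omega

lemma conj_sub_one (P g : GL (Fin n) F) :
    (P * g * P⁻¹).val - 1 = P.val * (g.val - 1) * P⁻¹.val := by
  rw [Units.val_mul, Units.val_mul, Matrix.mul_sub, Matrix.sub_mul, Matrix.mul_one]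
  congr 1
  rw [← Units.val_mul]; simp

theorem card_classes (R : Nat.Partition n → Prop) :
    Nat.card {C : ConjClasses (GL (Fin n) F) // ∃ g : GL (Fin n) F,
      ConjClasses.mk g = C ∧ IsNilpotent (g.val - 1) ∧ R (jt (g.val - 1))} =
    Nat.card {μ : Nat.Partition n // R μ} := by
  classical
  let f : {C : ConjClasses (GL (Fin n) F) // ∃ g : GL (Fin n) F,
      ConjClasses.mk g = C ∧ IsNilpotent (g.val - 1) ∧ R (jt (g.val - 1))} →
      {μ : Nat.Partition n // R μ} :=
    fun C => ⟨jt ((Classical.choose C.2).val - 1), (Classical.choose_spec C.2).2.2⟩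
  apply Nat.card_eq_of_bijective f
  constructor
  · intro C C' h
    have h1 := Classical.choose_spec C.2
    have h2 := Classical.choose_spec C'.2
    have h3 : jt ((Classical.choose C.2).val - 1) = jt ((Classical.choose C'.2).val - 1) :=
      congrArg Subtype.val h
    obtain ⟨P, hP⟩ := exists_conj_of_jt_eq _ _ h1.2.1 h2.2.1 h3
    apply Subtype.ext
    rw [← h1.1, ← h2.1, ConjClasses.mk_eq_mk_iff_isConj, isConj_iff]
    refine ⟨P, ?_⟩
    apply Units.ext
    have := conj_sub_one P (Classical.choose C.2)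
    rw [hP] at this
    exact sub_left_injective this
  · rintro ⟨μ, hμ⟩
    obtain ⟨N, hN, hjt⟩ := exists_jt_eq (F := F) μ
    have hval : (unipOf N hN).val - 1 = N := by rw [unipOf_val]; simp
    have hmem : ∃ g : GL (Fin n) F, ConjClasses.mk g = ConjClasses.mk (unipOf N hN) ∧
        IsNilpotent (g.val - 1) ∧ R (jt (g.val - 1)) :=
      ⟨unipOf N hN, rfl, by rw [hval]; exact hN, by rw [hval, hjt]; exact hμ⟩
    refine ⟨⟨ConjClasses.mk (unipOf N hN), hmem⟩, ?_⟩
    apply Subtype.ext
    change jt ((Classical.choose hmem).val - 1) = μ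
    have h1 := Classical.choose_spec hmem
    rw [ConjClasses.mk_eq_mk_iff_isConj, isConj_iff] at h1
    obtain ⟨P, hP⟩ := h1.1
    have h4 : N = P.val * ((Classical.choose hmem).val - 1) * P⁻¹.val := by
      rw [← conj_sub_one, hP, hval]
    rw [← hjt]
    exact ((congrArg jt h4).trans (jt_conj _ _ h1.2.1)).symm

/-- the partition into ones -/
def onesPartition (n : ℕ) : Nat.Partition n :=
  ⟨Multiset.replicate n 1, fun {i} hi => by rw [Multiset.eq_of_mem_replicate hi]; exact Nat.one_pos,
    by simp⟩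

lemma forall_le_one_iff (μ : Nat.Partition n) : (∀ a ∈ μ.parts, a ≤ 1) ↔ μ = onesPartition n := by
  constructor
  · intro h
    apply Nat.Partition.ext
    have h1 : ∀ a ∈ μ.parts, a = 1 := by
      intro a ha
      have := h a ha
      have := μ.parts_pos ha
      omega
    have h2 : μ.parts = Multiset.replicate (Multiset.card μ.parts) 1 :=
      Multiset.eq_replicate_card.mpr h1
    have h3 : Multiset.card μ.parts = n := by
      have := μ.parts_sum
      rw [h2] at this
      simpa using this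
    rw [h2, h3]
    rfl
  · rintro rfl a ha
    rw [Multiset.eq_of_mem_replicate ha]

theorem card_partitions_le (p : ℕ) (hp : 1 ≤ p) :
    Nat.card {μ : Nat.Partition n // (∀ a ∈ μ.parts, a ≤ p) ∧ ¬ ∀ a ∈ μ.parts, a ≤ 1} =
      (Finset.univ.filter (fun μ : Nat.Partition n => ∀ a ∈ μ.parts, a ≤ p)).card - 1 := by
  classical
  rw [Nat.card_eq_fintype_card, Fintype.card_subtype]
  have hmem : onesPartition n ∈ Finset.univ.filter (fun μ : Nat.Partition n => ∀ a ∈ μ.parts, a ≤ p) := by
    rw [Finset.mem_filter]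
    refine ⟨Finset.mem_univ _, ?_⟩
    intro a ha
    have := (forall_le_one_iff (onesPartition n)).mpr rfl a ha
    omega
  rw [← Finset.card_erase_of_mem hmem]
  congr 1
  ext μ
  simp only [Finset.mem_filter, Finset.mem_univ, true_and, Finset.mem_erase]
  rw [forall_le_one_iff]
  tauto


lemma sub_one_pow_char (p : ℕ) [Fact p.Prime] [CharP F p] (A : Matrix (Fin n) (Fin n) F) (k : ℕ) :
    (A - 1) ^ p ^ k = A ^ p ^ k - 1 := by
  rcases Nat.eq_zero_or_pos n with rfl | hn
  · exact Subsingleton.elim _ _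
  · have : NeZero n := ⟨by omega⟩
    rw [sub_pow_char_pow_of_commute p k (Commute.one_right _), one_pow]

lemma exists_orderOf_pow_iff (p : ℕ) [Fact p.Prime] [CharP F p] (g : GL (Fin n) F) :
    (∃ k : ℕ, orderOf g = p ^ k) ↔ IsNilpotent (g.val - 1) := by
  have hp : p.Prime := Fact.out
  constructor
  · rintro ⟨k, hk⟩
    refine ⟨p ^ k, ?_⟩
    rw [sub_one_pow_char, ← Units.val_pow_eq_pow_val, ← hk, pow_orderOf_eq_one]
    simp
  · rintro ⟨m, hm⟩
    have hle : m ≤ p ^ m := (Nat.lt_pow_self hp.one_lt).le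
    have h1 : (g.val - 1) ^ p ^ m = 0 := by
      obtain ⟨d, hd⟩ := Nat.exists_eq_add_of_le hle
      rw [hd, pow_add, hm, zero_mul]
    rw [sub_one_pow_char, sub_eq_zero] at h1
    have h2 : g ^ p ^ m = 1 := by
      apply Units.ext
      rw [Units.val_pow_eq_pow_val, h1]; rfl
    exact (Nat.dvd_prime_pow hp).mp (orderOf_dvd_of_pow_eq_one h2) |>.imp fun j hj => hj.2

lemma orderOf_eq_prime_iff_jt (p : ℕ) [Fact p.Prime] [CharP F p] (g : GL (Fin n) F) :
    orderOf g = p ↔ IsNilpotent (g.val - 1) ∧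
      ((∀ a ∈ (jt (g.val - 1)).parts, a ≤ p) ∧ ¬ ∀ a ∈ (jt (g.val - 1)).parts, a ≤ 1) := by
  have hp : p.Prime := Fact.out
  have key : (g.val - 1) ^ p = g.val ^ p - 1 := by
    have := sub_one_pow_char p g.val 1
    rwa [pow_one] at this
  constructor
  · intro h
    have h1 : g ^ p = 1 := by rw [← h]; exact pow_orderOf_eq_one g
    have h2 : g ≠ 1 := by
      rintro rfl
      rw [orderOf_one] at h
      exact hp.one_lt.ne h
    have h3 : (g.val - 1) ^ p = 0 := by
      rw [key, ← Units.val_pow_eq_pow_val, h1]; simp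
    have hnil : IsNilpotent (g.val - 1) := ⟨p, h3⟩
    refine ⟨hnil, (pow_eq_zero_iff_parts _ hnil p).mp h3, ?_⟩
    intro hall
    have := (pow_eq_zero_iff_parts _ hnil 1).mpr hall
    rw [pow_one, sub_eq_zero] at this
    exact h2 (Units.ext this)
  · rintro ⟨hnil, hle, hne⟩
    have h3 := (pow_eq_zero_iff_parts _ hnil p).mpr hle
    rw [key, sub_eq_zero] at h3
    apply orderOf_eq_prime
    · apply Units.ext
      rw [Units.val_pow_eq_pow_val, h3]; rfl
    · rintro rfl
      apply hne
      rw [← pow_eq_zero_iff_parts _ hnil 1]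
      simp

end Cfsg.Agent.Helper42.Jordan
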