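import Mathlib

set_option autoImplicit false
set_option linter.unusedSectionVars false

namespace Cfsg.Agent.Helper42.SemiConj

section count

/-- stars and bars -/
lemma card_compositions (α : Type*) [Fintype α] (N : ℕ) :
    Nat.card {P : α → ℕ // ∑ i, P i = N} = (Fintype.card α + N - 1).choose N := by
  classical
  rw [← Nat.card_congr (Sym.equivNatSumOfFintype α N), Nat.card_eq_fintype_card,
    Sym.card_sym_eq_choose]

lemma card_le_compositions (κ : Type*) [Fintype κ] (N : ℕ) :
    Nat.card {m : κ → ℕ // ∑ k, m k ≤ N} = (N + Fintype.card κ).choose (Fintype.card κ) := by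
  classical
  have e : {m : κ → ℕ // ∑ k, m k ≤ N} ≃ {P : Option κ → ℕ // ∑ o, P o = N} :=
    { toFun := fun m => ⟨fun o => o.elim (N - ∑ k, m.1 k) m.1, by
        rw [Fintype.sum_option]
        simp only [Option.elim_none, Option.elim_some]
        have := m.2
        omega⟩
      invFun := fun P => ⟨fun k => P.1 (some k), by
        have := P.2
        rw [Fintype.sum_option] at this
        dsimp only
        omega⟩
      left_inv := fun m => by
        apply Subtype.ext
        funext k
        rfl
      right_inv := fun P => by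
        apply Subtype.ext
        funext o
        cases o with
        | none =>
          have := P.2
          rw [Fintype.sum_option] at this
          simp only [Option.elim_none]
          omega
        | some k => rfl }
  rw [Nat.card_congr e, card_compositions, Fintype.card_option]
  have h1 : Fintype.card κ + 1 + N - 1 = N + Fintype.card κ := by omega
  rw [h1, Nat.choose_symm_add]

lemma card_weighted {α : Type*} [DecidableEq α] (x₀ : α) (S₀ : Finset α) (h : x₀ ∉ S₀)
    (w : α → ℕ) (hw0 : w x₀ = 1) (i : ℕ) (hi : 0 < i) (hw : ∀ f ∈ S₀, w f = i) (n : ℕ) :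
    Nat.card {m : ↥(insert x₀ S₀) → ℕ // ∑ f : ↥(insert x₀ S₀), w f.1 * m f = n} =
      (n / i + S₀.card).choose S₀.card := by
  let e := Finset.subtypeInsertEquivOption h
  have hsum : ∀ m : ↥(insert x₀ S₀) → ℕ, ∑ f : ↥(insert x₀ S₀), w f.1 * m f =
      m ⟨x₀, Finset.mem_insert_self _ _⟩ +
        i * ∑ k : ↥S₀, m ⟨k.1, Finset.mem_insert_of_mem k.2⟩ := by
    intro m
    rw [← Equiv.sum_comp e.symm, Fintype.sum_option, Finset.mul_sum]
    congr 1
    · show w x₀ * m ⟨x₀, _⟩ = _
      rw [hw0, one_mul]
    · apply Finset.sum_congr rfl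
      intro k _
      show w k.1 * m ⟨k.1, _⟩ = _
      rw [hw k.1 k.2]
  have hbij : Function.Bijective (fun m : {m : ↥(insert x₀ S₀) → ℕ //
      ∑ f : ↥(insert x₀ S₀), w f.1 * m f = n} =>
      (⟨fun k : ↥S₀ => m.1 ⟨k.1, Finset.mem_insert_of_mem k.2⟩, by
        have h1 := m.2
        rw [hsum] at h1
        rw [Nat.le_div_iff_mul_le hi]
        rw [mul_comm]
        dsimp only
        omega⟩ : {m₀ : ↥S₀ → ℕ // ∑ k, m₀ k ≤ n / i})) := by
    constructor
    · intro m m' hmm
      have h1 := m.2
      have h2 := m'.2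
      rw [hsum] at h1 h2
      have h3 : ∀ k : ↥S₀, m.1 ⟨k.1, Finset.mem_insert_of_mem k.2⟩ =
          m'.1 ⟨k.1, Finset.mem_insert_of_mem k.2⟩ := fun k =>
        congrFun (congrArg Subtype.val hmm) k
      have h4 : ∑ k : ↥S₀, m.1 ⟨k.1, Finset.mem_insert_of_mem k.2⟩ =
          ∑ k : ↥S₀, m'.1 ⟨k.1, Finset.mem_insert_of_mem k.2⟩ :=
        Finset.sum_congr rfl (fun k _ => h3 k)
      apply Subtype.ext
      funext f
      rcases Finset.mem_insert.mp f.2 with hf | hf
      · have : f = ⟨x₀, Finset.mem_insert_self _ _⟩ := Subtype.ext hf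
        rw [this]
        rw [h4] at h1
        omega
      · exact h3 ⟨f.1, hf⟩
    · rintro ⟨m₀, hm₀⟩
      rw [Nat.le_div_iff_mul_le hi] at hm₀
      refine ⟨⟨fun f => (e f).elim (n - i * ∑ k, m₀ k) m₀, ?_⟩, ?_⟩
      · rw [hsum]
        have h1 : e ⟨x₀, Finset.mem_insert_self _ _⟩ = none :=
          (e.eq_symm_apply).mp rfl
        have h2 : ∀ k : ↥S₀, e ⟨k.1, Finset.mem_insert_of_mem k.2⟩ = some k := fun k =>
          (e.eq_symm_apply).mp rfl
        simp only [h1, h2, Option.elim_none, Option.elim_some]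
        rw [mul_comm] at hm₀
        omega
      · apply Subtype.ext
        funext k
        have h2 : e ⟨k.1, Finset.mem_insert_of_mem k.2⟩ = some k :=
          (e.eq_symm_apply).mp rfl
        show (e ⟨k.1, _⟩).elim _ m₀ = m₀ k
        rw [h2]
        rfl
  have hcard := Nat.card_eq_of_bijective _ hbij
  rw [hcard, card_le_compositions, Fintype.card_coe]

end count

end Cfsg.Agent.Helper42.SemiConj
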