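import Mathlib
import Cfsg.Agent.Lib.Helper42.SemiConj5
import Cfsg.Agent.Lib.Helper42.SemiConj6
import Cfsg.Agent.Lib.Helper42.SemiConj7

set_option autoImplicit false
set_option linter.unusedSectionVars false

namespace Cfsg.Agent.Helper42.SemiConj

open Polynomial Module Matrix

universe u

section grp

/-- classes of elements of prime order versus classes of elements killed by the prime -/
theorem card_classes_orderOf {G : Type*} [Group G] [Finite G] (r : ℕ) (hr : r.Prime) :
    Nat.card {C : ConjClasses G // ∃ g : G, ConjClasses.mk g = C ∧ orderOf g = r} + 1 =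
      Nat.card {C : ConjClasses G // ∃ g : G, ConjClasses.mk g = C ∧ g ^ r = 1} := by
  classical
  have : Fact r.Prime := ⟨hr⟩
  let b₀ : {C : ConjClasses G // ∃ g : G, ConjClasses.mk g = C ∧ g ^ r = 1} :=
    ⟨ConjClasses.mk 1, 1, rfl, one_pow r⟩
  have e1 := Equiv.optionSubtypeNe b₀
  have e2 : {x : {C : ConjClasses G // ∃ g : G, ConjClasses.mk g = C ∧ g ^ r = 1} // x ≠ b₀} ≃
      {C : ConjClasses G // ∃ g : G, ConjClasses.mk g = C ∧ orderOf g = r} :=
    { toFun := fun x => ⟨x.1.1, by
        obtain ⟨g, hg1, hg2⟩ := x.1.2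
        refine ⟨g, hg1, ?_⟩
        rw [orderOf_eq_prime_iff]
        refine ⟨hg2, ?_⟩
        rintro rfl
        exact x.2 (Subtype.ext hg1.symm)⟩
      invFun := fun y => ⟨⟨y.1, by
        obtain ⟨g, hg1, hg2⟩ := y.2
        exact ⟨g, hg1, by rw [← hg2]; exact pow_orderOf_eq_one g⟩⟩, by
        obtain ⟨g, hg1, hg2⟩ := y.2
        intro h
        have h1 : ConjClasses.mk g = ConjClasses.mk (1 : G) := by
          rw [hg1]; exact congrArg Subtype.val h
        rw [ConjClasses.mk_eq_mk_iff_isConj, isConj_one_left] at h1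
        rw [h1, orderOf_one] at hg2
        exact hr.one_lt.ne hg2⟩
      left_inv := fun x => rfl
      right_inv := fun y => rfl }
  rw [← Nat.card_congr e1, Finite.card_option, Nat.card_congr e2]

end grp

section final

variable {F : Type u} [Field F] [Fintype F] {p : ℕ} [Fact p.Prime] [CharP F p]

theorem card_classes_orderOf_GL (n r i t : ℕ) (hr : r.Prime) (hrp : r ≠ p)
    (hi : i = orderOf ((Fintype.card F : ℕ) : ZMod r)) (ht : t * i = r - 1) :
    Nat.card {C : ConjClasses (GL (Fin n) F) // ∃ g : GL (Fin n) F,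
      ConjClasses.mk g = C ∧ orderOf g = r} = Nat.choose (n / i + t) t - 1 := by
  classical
  have hipos : 0 < i := by
    rcases Nat.eq_zero_or_pos i with h | h
    · rw [h, mul_zero] at ht
      have := hr.two_le
      omega
    · exact h
  have hcard : (cycFactors F r).card = t := by
    have h1 := cyc_card (F := F) r hr hrp
    rw [← hi, ← ht] at h1
    exact Nat.eq_of_mul_eq_mul_right hipos h1
  have h1 := card_classes_orderOf (G := GL (Fin n) F) r hr
  have h2 := card_classes_pow_eq_one (F := F) (n := n) (powFactors F r)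
    (powFactors_irr r) (powFactors_coprime r hr hrp) r hr.pos (powFactors_prod r hr hrp)
  have h3 := card_weighted (X - 1 : F[X]) (cycFactors F r) (X_sub_one_notMem_cyc r hr hrp)
    Polynomial.natDegree (by
      have h1 : (X - 1 : F[X]) = X - C 1 := by rw [map_one]
      rw [h1, natDegree_X_sub_C]) i hipos
    (fun f hf => by rw [cyc_natDegree r hr hrp f hf, hi]) n
  rw [hcard] at h3
  have h4 : Nat.card {m : ↥(powFactors F r) → ℕ // ∑ f : ↥(powFactors F r), f.1.natDegree * m f = n}
      = (n / i + t).choose t := by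
    rw [← h3]
    rfl
  rw [h2, h4] at h1
  omega

end final

end Cfsg.Agent.Helper42.SemiConj
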