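import Mathlib
import Cfsg.Agent.Lib.Helper14.SPIDefs
import Cfsg.Agent.S0776

set_option autoImplicit false

/-!
SPI (TRANSIT) for helper14's server (S5961): `Sp_2d(F)` is transitive on ordered orthogonal
decompositions into nondegenerate `a`-spaces.
-/

namespace Cfsg.Agent.Helper42.SPI

open Module Polynomial Cfsg.Agent.Helper14.SPI

/-- a nondegenerate subspace has even dimension -/
theorem transit_even {F : Type*} [Field F] {d : ℕ} (U : Submodule F (Fin d ⊕ Fin d → F))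
    (hU : ∀ u ∈ U, u ≠ 0 → ∃ v ∈ U, Cfsg.sympForm d F u v ≠ 0) :
    ∃ r, finrank F U = 2 * r := by
  have hA : ((Cfsg.Agent.S0776.sB d F).restrict U).IsAlt := by
    intro u
    rw [LinearMap.BilinForm.restrict_apply, LinearMap.domRestrict_apply]
    exact Cfsg.Agent.S0776.sB_alt _
  obtain ⟨m', k', b₀, h1, h2, h3, h4⟩ :=
    Cfsg.Agent.S0752.result ((Cfsg.Agent.S0776.sB d F).restrict U) hA
  have hk' : k' = 0 := by
    by_contra hne
    have hpos : 0 < k' := Nat.pos_of_ne_zero hne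
    have hne0 : ((b₀ (Sum.inr ⟨0, hpos⟩) : U) : Fin d ⊕ Fin d → F) ≠ 0 := by
      intro h0
      exact b₀.ne_zero (Sum.inr ⟨0, hpos⟩) (Subtype.ext h0)
    obtain ⟨v, hv, hv0⟩ := hU _ (b₀ (Sum.inr ⟨0, hpos⟩)).2 hne0
    apply hv0
    have := h4 ⟨0, hpos⟩ ⟨v, hv⟩
    rw [LinearMap.BilinForm.restrict_apply, LinearMap.domRestrict_apply,
      Cfsg.Agent.S0776.sB_apply] at this
    exact this
  subst hk'
  refine ⟨m', ?_⟩
  have := Module.finrank_eq_card_basis b₀
  rw [this]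
  simp only [Fintype.card_sum, Fintype.card_fin]
  omega

/-- (TRANSIT) `Sp_2d(F)` is transitive on ordered decompositions (symplectic bases of the parts:
S0776.exists_sympBasis; model: Helper14.PolarPairs.exists_sp_map). -/
theorem exists_sp_map_decomp {F : Type*} [Field F] (d a t : ℕ)
    (D D' : Fin t → Submodule F (Fin d ⊕ Fin d → F)) (hD : OmegaProp d a D)
    (hD' : OmegaProp d a D') :
    ∃ g : Matrix.symplecticGroup (Fin d) F, ∀ j,
      (D j).map (Matrix.toLin' (g : Matrix (Fin d ⊕ Fin d) (Fin d ⊕ Fin d) F)) = D' j := by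
  classical
  obtain ⟨hM, hnd, hor⟩ := hD
  obtain ⟨hM', hnd', hor'⟩ := hD'
  have ht : 0 < t := lt_of_lt_of_le (by norm_num) hM.two_le
  obtain ⟨r, hr⟩ := transit_even (D ⟨0, ht⟩) (hnd ⟨0, ht⟩)
  rw [hM.finrank_eq] at hr
  have hndU : ∀ (E : Fin t → Submodule F (Fin d ⊕ Fin d → F))
      (hE : ∀ j, ∀ u ∈ E j, u ≠ 0 → ∃ v ∈ E j, Cfsg.sympForm d F u v ≠ 0) (j : Fin t),
      ∀ u ∈ E j, (∀ v ∈ E j, Cfsg.sympForm d F u v = 0) → u = 0 := by
    intro E hE j u hu h0
    by_contra hne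
    obtain ⟨v, hv, hv0⟩ := hE j u hu hne
    exact hv0 (h0 v hv)
  have hb : ∀ j, ∃ b : Basis (Fin r ⊕ Fin r) F (D j), ∀ x x',
      Cfsg.sympForm d F (b x : Fin d ⊕ Fin d → F) (b x') = Matrix.J (Fin r) F x x' :=
    fun j => Cfsg.Agent.S0776.exists_sympBasis (D j) r ((hM.finrank_eq j).trans hr) (hndU D hnd j)
  have hb' : ∀ j, ∃ b : Basis (Fin r ⊕ Fin r) F (D' j), ∀ x x',
      Cfsg.sympForm d F (b x : Fin d ⊕ Fin d → F) (b x') = Matrix.J (Fin r) F x x' :=
    fun j => Cfsg.Agent.S0776.exists_sympBasis (D' j) r ((hM'.finrank_eq j).trans hr)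
      (hndU D' hnd' j)
  choose b hbJ using hb
  choose b' hbJ' using hb'
  have hI : DirectSum.IsInternal D :=
    DirectSum.isInternal_submodule_of_iSupIndep_of_iSup_eq_top hM.indep hM.iSup_eq_top
  have hI' : DirectSum.IsInternal D' :=
    DirectSum.isInternal_submodule_of_iSupIndep_of_iSup_eq_top hM'.indep hM'.iSup_eq_top
  let c := hI.collectedBasis b
  let c' := hI'.collectedBasis b'
  have hc : ∀ j x, c ⟨j, x⟩ = (b j x : Fin d ⊕ Fin d → F) := by
    intro j x
    simp [c, DirectSum.IsInternal.collectedBasis_coe]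
  have hc' : ∀ j x, c' ⟨j, x⟩ = (b' j x : Fin d ⊕ Fin d → F) := by
    intro j x
    simp [c', DirectSum.IsInternal.collectedBasis_coe]
  let g : (Fin d ⊕ Fin d → F) ≃ₗ[F] (Fin d ⊕ Fin d → F) := c.equiv c' (Equiv.refl _)
  have hg : ∀ j x, g (b j x : Fin d ⊕ Fin d → F) = (b' j x : Fin d ⊕ Fin d → F) := by
    intro j x
    rw [← hc, ← hc']
    exact Basis.equiv_apply c ⟨j, x⟩ c' (Equiv.refl _)
  have hgram : ∀ (E : Fin t → Submodule F (Fin d ⊕ Fin d → F))
      (e : ∀ j, Basis (Fin r ⊕ Fin r) F (E j))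
      (he : ∀ j x x', Cfsg.sympForm d F (e j x : Fin d ⊕ Fin d → F) (e j x') =
        Matrix.J (Fin r) F x x')
      (ho : ∀ j j', j ≠ j' → ∀ u ∈ E j, ∀ v ∈ E j', Cfsg.sympForm d F u v = 0)
      (j j' : Fin t) (x x' : Fin r ⊕ Fin r),
      Cfsg.sympForm d F (e j x : Fin d ⊕ Fin d → F) (e j' x') =
        if j = j' then Matrix.J (Fin r) F x x' else 0 := by
    intro E e he ho j j' x x'
    by_cases hjj : j = j'
    · subst hjj
      rw [if_pos rfl, he]
    · rw [if_neg hjj]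
      exact ho j j' hjj _ (e j x).2 _ (e j' x').2
  have hcomp : (Cfsg.Agent.S0776.sB d F).comp g.toLinearMap g.toLinearMap =
      Cfsg.Agent.S0776.sB d F := by
    apply LinearMap.BilinForm.ext_basis c
    rintro ⟨j, x⟩ ⟨j', x'⟩
    rw [LinearMap.BilinForm.comp_apply, hc, hc, LinearEquiv.coe_coe, hg, hg,
      Cfsg.Agent.S0776.sB_apply, Cfsg.Agent.S0776.sB_apply,
      hgram D b hbJ hor, hgram D' b' hbJ' hor']
  have hmem : LinearMap.toMatrix' g.toLinearMap ∈ Matrix.symplecticGroup (Fin d) F := by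
    rw [SymplecticGroup.mem_iff']
    have h1 := LinearMap.BilinForm.toMatrix'_comp (Cfsg.Agent.S0776.sB d F)
      g.toLinearMap g.toLinearMap
    rw [hcomp] at h1
    unfold Cfsg.Agent.S0776.sB at h1
    rw [LinearMap.BilinForm.toMatrix'_toBilin'] at h1
    exact h1.symm
  refine ⟨⟨LinearMap.toMatrix' g.toLinearMap, hmem⟩, ?_⟩
  intro j
  show (D j).map (Matrix.toLin' (LinearMap.toMatrix' g.toLinearMap)) = D' j
  rw [Matrix.toLin'_toMatrix']
  apply Submodule.eq_of_le_of_finrank_eq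
  · intro y hy
    obtain ⟨v, hv, rfl⟩ := Submodule.mem_map.mp hy
    have hv' : v = ∑ x, ((b j).repr ⟨v, hv⟩ x) • (b j x : Fin d ⊕ Fin d → F) := by
      have h1 := congrArg Subtype.val ((b j).sum_repr ⟨v, hv⟩)
      rw [Submodule.coe_sum] at h1
      simp only [Submodule.coe_smul] at h1
      exact h1.symm
    rw [hv', map_sum]
    apply Submodule.sum_mem
    intro x _
    rw [map_smul, LinearEquiv.coe_coe, hg]
    exact Submodule.smul_mem _ _ (b' j x).2
  · rw [LinearEquiv.finrank_map_eq, hM.finrank_eq, hM'.finrank_eq]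

end Cfsg.Agent.Helper42.SPI
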