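import Mathlib
import Cfsg.Agent.Lib.Helper14.SPIDefs
import Cfsg.Agent.Lib.Helper44.SpTransfer

set_option autoImplicit false

/-!
SPI (BLK) for helper14's server (S5961): an element of `Sp_2d(F)` with `x^r = 1` whose fixed space
has codimension `m c`.
-/

namespace Cfsg.Agent.Helper42.SPI

open Module Polynomial Cfsg.Agent.Helper14.SPI
open Cfsg.Agent.Helper42.SemiConj Cfsg.Agent.Helper44.StarInv Cfsg.Agent.Helper44.SpBlocks

/-- (BLK) an element of `Sp_2d(F)` with `x^r = 1` whose fixed space has codimension `m c`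
(Helper44.SpBlocks `spReal_self` / `spReal_pair` / `spReal_nsmul` / `spReal_add` and
Helper44.SpTransfer `exists_sp_of_real`; model: Helper14.PolarDerange.exists_block). -/
theorem exists_m_block {F : Type*} [Field F] [Fintype F] {p : ℕ} [Fact p.Prime] [CharP F p]
    (d r : ℕ) [Fact r.Prime] (hr2 : r ≠ 2) (hrp : r ≠ p) (m : ℕ)
    (hm : m * cOf (Fintype.card F) r ≤ 2 * d) :
    ∃ A : Matrix.symplecticGroup (Fin d) F, A ^ r = 1 ∧
      finrank F (LinearMap.ker (Matrix.toLin'
        (A : Matrix (Fin d ⊕ Fin d) (Fin d ⊕ Fin d) F) - 1)) + m * cOf (Fintype.card F) r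
        = 2 * d := by
  classical
  have hr : r.Prime := Fact.out
  set q := Fintype.card F with hq
  set e := orderOf ((q : ℕ) : ZMod r) with he
  have hcard := cyc_card (F := F) (p := p) r hr hrp
  rw [← hq, ← he] at hcard
  have hr3 : 2 ≤ r - 1 := by
    have := hr.two_le
    rcases Nat.lt_or_ge 2 r with h | h
    · omega
    · exact absurd (by omega) hr2
  have hnonempty : (cycFactors F r).Nonempty := by
    rw [Finset.nonempty_iff_ne_empty]
    intro h0
    rw [h0, Finset.card_empty, zero_mul] at hcard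
    omega
  obtain ⟨f₀, hf₀⟩ := hnonempty
  have hdeg : f₀.natDegree = e := cyc_natDegree (p := p) r hr hrp f₀ hf₀
  have hfp := mem_pow_of_mem_cyc r f₀ hf₀
  have hne1 : f₀ ≠ X - 1 := by
    intro h
    rw [h] at hf₀
    exact X_sub_one_notMem_cyc (p := p) r hr hrp hf₀
  have h2 := spReal_pair (F := F) (p := p) r hr hrp (X - 1) (X_sub_one_mem_pow r)
  have hX1 : (X - 1 : F[X]).natDegree = 1 := by
    have h1 : (X - 1 : F[X]) = X - C 1 := by rw [map_one]
    rw [h1]; exact natDegree_X_sub_C 1
  have hblk : ∃ blk : F[X] → ℕ, SpReal (powFactors F r) r blk ∧ blk (X - 1) = 0 ∧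
      ∑ f ∈ powFactors F r, blk f = cOf q r := by
    by_cases hev : Even e
    · refine ⟨fun h => if h = f₀ then f₀.natDegree else 0,
        spReal_self (p := p) r hr hr2 hrp f₀ hf₀
          (star_eq_self_of_even (p := p) r hr hrp f₀ hf₀ (by rw [← hq, ← he]; exact hev)),
        if_neg (Ne.symm hne1), ?_⟩
      rw [Finset.sum_ite_eq' (powFactors F r) f₀, if_pos hfp, hdeg]
      unfold cOf
      rw [← he, if_pos hev]
    · have hsc := star_mem_cyc (p := p) r hr hrp f₀ hf₀
      have hne2 : star r f₀ ≠ X - 1 := by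
        intro h
        rw [h] at hsc
        exact X_sub_one_notMem_cyc (p := p) r hr hrp hsc
      refine ⟨fun h => (if h = f₀ then f₀.natDegree else 0) +
        (if h = star r f₀ then f₀.natDegree else 0),
        spReal_pair (p := p) r hr hrp f₀ hfp, ?_, ?_⟩
      · show (if (X - 1 : F[X]) = f₀ then f₀.natDegree else 0) +
          (if (X - 1 : F[X]) = star r f₀ then f₀.natDegree else 0) = 0
        rw [if_neg (Ne.symm hne1), if_neg (Ne.symm hne2)]
      · rw [Finset.sum_add_distrib, Finset.sum_ite_eq' (powFactors F r) f₀, if_pos hfp,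
          Finset.sum_ite_eq' (powFactors F r) (star r f₀),
          if_pos (star_mem (p := p) r hr hrp f₀ hfp), hdeg]
        unfold cOf
        rw [← he, if_neg hev]
        ring
  obtain ⟨blk, hblk1, hblk2, hblk3⟩ := hblk
  have hceven : Even (cOf q r) := by
    unfold cOf
    split_ifs with h
    · exact h
    · exact even_two_mul _
  obtain ⟨c', hc'⟩ := hceven
  have h3 := spReal_nsmul _ r _ h2 (d - m * c')
  have h4 := spReal_add _ r _ _ (spReal_nsmul _ r _ hblk1 m) h3
  have hsum : ∑ f ∈ powFactors F r, (m * blk f +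
      (d - m * c') * ((if f = X - 1 then (X - 1 : F[X]).natDegree else 0) +
        (if f = star r (X - 1) then (X - 1 : F[X]).natDegree else 0))) = 2 * d := by
    rw [Finset.sum_add_distrib, ← Finset.mul_sum, ← Finset.mul_sum, Finset.sum_add_distrib,
      star_X_sub_one, Finset.sum_ite_eq' (powFactors F r) (X - 1 : F[X]),
      if_pos (X_sub_one_mem_pow r), hX1, hblk3]
    rw [hc'] at hm ⊢
    have h5 : m * (c' + c') = 2 * (m * c') := by ring
    rw [h5] at hm ⊢
    omega
  obtain ⟨A, hA1, hA2⟩ := exists_sp_of_real (p := p) d r hr hrp _ h4 hsum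
  refine ⟨A, hA1, ?_⟩
  have h6 := hA2 (X - 1) (X_sub_one_mem_pow r)
  rw [hblk2, star_X_sub_one, if_pos rfl, hX1] at h6
  have h7 : kdi (A : Matrix (Fin d ⊕ Fin d) (Fin d ⊕ Fin d) F) (X - 1) =
      finrank F (LinearMap.ker (Matrix.toLin'
        (A : Matrix (Fin d ⊕ Fin d) (Fin d ⊕ Fin d) F) - 1)) := by
    unfold kdi
    rw [map_sub, aeval_X, map_one]
  rw [← h7, h6]
  rw [hc'] at hm ⊢
  have h5 : m * (c' + c') = 2 * (m * c') := by ring
  rw [h5] at hm ⊢
  omega

end Cfsg.Agent.Helper42.SPI
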