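import Mathlib

set_option autoImplicit false

/-!
# JPC server (helper35, S4150) piece (T13a1) `fixer_eq_zpowers`

The pointwise fixer `T` in `G` of the complement of the support of an `ℓ`-cycle `g` (`ℓ` prime) equals
`⟨g⟩` as soon as `⟨g⟩` is self-normalizing in `T`.  Burnside transfer: `T = O ⋊ ⟨g⟩`; every point
stabilizer `T_b` (`b ∈ supp g`) has order `|T|/ℓ = |O|`, prime to `ℓ`, hence lies in the kernel `O`, so
`O = T_b` fixes every point and `O = 1`.
-/

namespace Cfsg.Agent.Helper42.JPC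

open Equiv Equiv.Perm MulAction Subgroup

universe u

/-- the pointwise fixer in `G` of the complement of a finset, as a subgroup -/
theorem t13a1_exists_fixer {Ω : Type u} [Fintype Ω] [DecidableEq Ω] (G : Subgroup (Perm Ω))
    (S : Finset Ω) :
    ∃ T : Subgroup (Perm Ω), ∀ n, n ∈ T ↔ (n ∈ G ∧ ∀ t, t ∉ S → n t = t) :=
  ⟨{ carrier := {n | n ∈ G ∧ ∀ t, t ∉ S → n t = t}
     mul_mem' := by
       rintro a b ⟨ha, ha'⟩ ⟨hb, hb'⟩
       exact ⟨G.mul_mem ha hb, fun t ht => by rw [Perm.mul_apply, hb' t ht, ha' t ht]⟩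
     one_mem' := ⟨G.one_mem, fun t _ => rfl⟩
     inv_mem' := by
       rintro a ⟨ha, ha'⟩
       exact ⟨G.inv_mem ha, fun t ht => by rw [Perm.inv_eq_iff_eq, ha' t ht]⟩ },
    fun n => Iff.rfl⟩

/-- a permutation of prime order `ℓ` moves at least `ℓ` points -/
theorem t13a1_le_card_support {Ω : Type u} [Fintype Ω] [DecidableEq Ω] {ℓ : ℕ} (hℓ : ℓ.Prime)
    {h : Perm Ω} (hh : orderOf h = ℓ) : ℓ ≤ h.support.card := by
  obtain ⟨n, hn⟩ := Perm.cycleType_prime_order (σ := h) (by rw [hh]; exact hℓ)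
  rw [← Perm.sum_cycleType, hn, Multiset.sum_replicate, smul_eq_mul, hh]
  nlinarith [hℓ.pos]

/-- a permutation fixing the complement of `S` pointwise and a point of `S` does not have order
`|S|` (prime) -/
theorem t13a1_orderOf_ne {Ω : Type u} [Fintype Ω] [DecidableEq Ω] {ℓ : ℕ} (hℓ : ℓ.Prime)
    {S : Finset Ω} (hS : S.card = ℓ) {h : Perm Ω} (hfix : ∀ t, t ∉ S → h t = t) {b : Ω}
    (hb : b ∈ S) (hhb : h b = b) : orderOf h ≠ ℓ := by
  intro hh
  have h1 := t13a1_le_card_support hℓ hh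
  have h2 : h.support ⊆ S.erase b := by
    intro t ht
    rw [Perm.mem_support] at ht
    rw [Finset.mem_erase]
    refine ⟨fun htb => ht (htb ▸ hhb), ?_⟩
    by_contra htS
    exact ht (hfix t htS)
  have h3 := Finset.card_le_card h2
  rw [Finset.card_erase_of_mem hb, hS] at h3
  have := hℓ.pos
  omega

theorem fixer_eq_zpowers {Ω : Type u} [Fintype Ω] [DecidableEq Ω] (G : Subgroup (Perm Ω))
    {ℓ : ℕ} (hℓ : ℓ.Prime) {g : Perm Ω} (hgc : g.IsCycle) (hgℓ : g.support.card = ℓ)
    (hg : g ∈ G)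
    (hself : ∀ n ∈ G, (∀ t, t ∉ g.support → n t = t) → n * g * n⁻¹ ∈ zpowers g →
      n ∈ zpowers g) :
    ∀ n ∈ G, (∀ t, t ∉ g.support → n t = t) → n ∈ zpowers g := by
  classical
  have : Fact ℓ.Prime := ⟨hℓ⟩
  obtain ⟨T, hT⟩ := t13a1_exists_fixer G g.support
  have hgT : g ∈ T := (hT g).mpr ⟨hg, fun t ht => Perm.notMem_support.mp ht⟩
  -- `T` preserves the support
  have hTS : ∀ n ∈ T, ∀ t ∈ g.support, n t ∈ g.support := by
    intro n hn t ht
    by_contra hnt
    have h1 : n (n t) = n t := ((hT n).mp hn).2 _ hnt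
    have h2 : n t = t := n.injective h1
    exact hnt (h2.symm ▸ ht)
  have hsmul : ∀ (n : T) (b : Ω), n • b = (n : Perm Ω) b := fun n b => rfl
  -- orbits of `T` on the support
  have horb : ∀ b ∈ g.support, MulAction.orbit T b = (g.support : Set Ω) := by
    intro b hb
    ext c
    constructor
    · rintro ⟨n, rfl⟩
      exact hTS n.1 n.2 b hb
    · intro hc
      obtain ⟨k, hk⟩ := hgc.exists_zpow_eq (Perm.mem_support.mp hb)
        (Perm.mem_support.mp (Finset.mem_coe.mp hc))
      refine ⟨(⟨g, hgT⟩ : T) ^ k, ?_⟩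
      change ((((⟨g, hgT⟩ : T) ^ k : T) : Perm Ω)) b = c
      rw [Subgroup.coe_zpow]
      exact hk
  -- orbit-stabilizer
  have hcard : ∀ b ∈ g.support, Nat.card (stabilizer T b) * ℓ = Nat.card T := by
    intro b hb
    have h1 := MulAction.index_stabilizer T b
    rw [horb b hb, Set.ncard_coe_finset, hgℓ] at h1
    rw [← h1]
    exact Subgroup.card_mul_index _
  -- stabilizers are `ℓ'`-groups
  have hndvd : ∀ b ∈ g.support, ¬ ℓ ∣ Nat.card (stabilizer T b) := by
    intro b hb hdvd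
    obtain ⟨x, hx⟩ := exists_prime_orderOf_dvd_card' ℓ hdvd
    have hx2 : orderOf ((x : T) : Perm Ω) = ℓ := by
      rw [Subgroup.orderOf_coe, Subgroup.orderOf_coe]; exact hx
    have hxb : ((x : T) : Perm Ω) b = b := x.2
    exact t13a1_orderOf_ne hℓ hgℓ ((hT _).mp (x : T).2).2 hb hxb hx2
  obtain ⟨a, ha⟩ : g.support.Nonempty := by
    rw [← Finset.card_pos, hgℓ]; exact hℓ.pos
  -- `⟨g⟩` as a Sylow subgroup of `T`
  let γ : T := ⟨g, hgT⟩
  have hγord : orderOf γ = ℓ := by
    rw [← Subgroup.orderOf_coe]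
    change orderOf g = ℓ
    rw [hgc.orderOf, hgℓ]
  have hP0card : Nat.card (zpowers γ) = ℓ := by rw [Nat.card_zpowers, hγord]
  have hfac : (Nat.card T).factorization ℓ = 1 := by
    rw [← hcard a ha]
    have hne : Nat.card (stabilizer T a) ≠ 0 := Nat.card_pos.ne'
    rw [Nat.factorization_mul hne hℓ.ne_zero, Finsupp.add_apply,
      Nat.factorization_eq_zero_of_not_dvd (hndvd a ha), hℓ.factorization_self]
  let P : Sylow ℓ T := Sylow.ofCard (zpowers γ) (by rw [hP0card, hfac, pow_one])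
  have hPcoe : (P : Subgroup T) = zpowers γ := Sylow.coe_ofCard _ _
  have hmemP : ∀ n : T, n ∈ P ↔ (n : Perm Ω) ∈ zpowers g := by
    intro n
    change n ∈ (P : Subgroup T) ↔ _
    rw [hPcoe, Subgroup.mem_zpowers_iff, Subgroup.mem_zpowers_iff]
    constructor
    · rintro ⟨k, hk⟩
      refine ⟨k, ?_⟩
      rw [← hk, Subgroup.coe_zpow]
    · rintro ⟨k, hk⟩
      refine ⟨k, Subtype.ext ?_⟩
      rw [Subgroup.coe_zpow]; exact hk
  have hP : normalizer ((P : Subgroup T) : Set T) ≤ centralizer (P : Set T) := by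
    intro n hn
    have h1 : n * γ * n⁻¹ ∈ (P : Subgroup T) := by
      have := (Subgroup.mem_normalizer_iff.mp hn γ).mp (by rw [hPcoe]; exact mem_zpowers γ)
      exact this
    have h2 : (n : Perm Ω) * g * (n : Perm Ω)⁻¹ ∈ zpowers g := (hmemP _).mp h1
    have h3 : (n : Perm Ω) ∈ zpowers g :=
      hself n ((hT _).mp n.2).1 ((hT _).mp n.2).2 h2
    have h4 : n ∈ zpowers γ := by rw [← hPcoe]; exact (hmemP n).mpr h3
    rw [Subgroup.mem_centralizer_iff]
    intro m hm
    have hm' : m ∈ zpowers γ := by rw [← hPcoe]; exact hm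
    obtain ⟨i, rfl⟩ := Subgroup.mem_zpowers_iff.mp h4
    obtain ⟨j, rfl⟩ := Subgroup.mem_zpowers_iff.mp hm'
    exact (Commute.zpow_zpow_self γ j i).eq
  have hcompl := MonoidHom.ker_transferSylow_isComplement' P hP
  set O : Subgroup T := (MonoidHom.transferSylow P hP).ker with hO
  have hOcard : Nat.card O * ℓ = Nat.card T := by
    have := hcompl.card_mul_card
    rwa [show Nat.card (P : Subgroup T) = ℓ from by rw [hPcoe]; exact hP0card] at this
  -- stabilizers lie in `O`
  have hstabO : ∀ b ∈ g.support, stabilizer T b = O := by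
    intro b hb
    have hle : stabilizer T b ≤ O := by
      intro h hh
      rw [hO, MonoidHom.mem_ker]
      by_contra hne
      have h1 : orderOf (MonoidHom.transferSylow P hP h) ∣ ℓ := by
        have := orderOf_dvd_natCard (MonoidHom.transferSylow P hP h)
        rwa [show Nat.card (P : Subgroup T) = ℓ from by rw [hPcoe]; exact hP0card] at this
      rcases (Nat.dvd_prime hℓ).mp h1 with h1 | h1
      · exact hne (orderOf_eq_one_iff.mp h1)
      · have h2 : ℓ ∣ orderOf h := h1 ▸ orderOf_map_dvd _ h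
        have h3 : orderOf h ∣ Nat.card (stabilizer T b) := by
          have := orderOf_dvd_natCard (⟨h, hh⟩ : stabilizer T b)
          rwa [← Subgroup.orderOf_coe] at this
        exact hndvd b hb (h2.trans h3)
    refine Subgroup.eq_of_le_of_card_ge hle ?_
    have h1 := hcard b hb
    have h2 : Nat.card O * ℓ = Nat.card (stabilizer T b) * ℓ := by rw [hOcard, h1]
    exact (Nat.eq_of_mul_eq_mul_right hℓ.pos h2).le
  -- `O` is trivial
  have hObot : O = ⊥ := by
    rw [Subgroup.eq_bot_iff_forall]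
    intro o ho
    apply Subtype.ext
    apply Perm.ext
    intro t
    by_cases ht : t ∈ g.support
    · have : o ∈ stabilizer T t := by rw [hstabO t ht]; exact ho
      exact this
    · exact ((hT _).mp o.2).2 t ht
  have hPtop : (P : Subgroup T) = ⊤ := by
    rw [hObot] at hcompl
    exact Subgroup.isComplement'_bot_left.mp hcompl
  intro n hnG hnfix
  have hnT : n ∈ T := (hT n).mpr ⟨hnG, hnfix⟩
  have : (⟨n, hnT⟩ : T) ∈ (P : Subgroup T) := by rw [hPtop]; exact Subgroup.mem_top _
  exact (hmemP ⟨n, hnT⟩).mp this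

end Cfsg.Agent.Helper42.JPC
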