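import Mathlib
import Cfsg.Prelude.Def_Characters
import Cfsg.Prelude.Def_Blocks
import Cfsg.Agent.Lib.Helper80.RMKDefs
import Cfsg.Agent.Lib.Helper81.CharCorr

/-!
RMK lemma server (helper80, S4581), piece (ISO) `cnt_congr` (helper42).
-/

set_option autoImplicit false
set_option linter.style.haveILetI false

namespace Cfsg.Agent.Helper42.RMK

open Cfsg Cfsg.Agent.Helper80 Cfsg.Agent.Helper80.RMK
open scoped ComplexConjugate

universe u

/-- transport of irreducible characters along an isomorphism -/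
noncomputable def isoIrr {A B : Type u} [Group A] [Group B] (e : A ≃* B) :
    IrrCharacter A ≃ IrrCharacter B where
  toFun χ := ⟨fun b => (χ : A → ℂ) (e.symm b),
    Cfsg.Agent.Helper81.isIrrCharacter_comp_equiv e.symm χ.2⟩
  invFun ψ := ⟨fun a => (ψ : B → ℂ) (e a), Cfsg.Agent.Helper81.isIrrCharacter_comp_equiv e ψ.2⟩
  left_inv χ := by
    apply Subtype.ext
    funext a
    show (χ : A → ℂ) (e.symm (e a)) = (χ : A → ℂ) a
    rw [MulEquiv.symm_apply_apply]
  right_inv ψ := by
    apply Subtype.ext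
    funext b
    show (ψ : B → ℂ) (e (e.symm b)) = (ψ : B → ℂ) b
    rw [MulEquiv.apply_symm_apply]

theorem isoIrr_apply {A B : Type u} [Group A] [Group B] (e : A ≃* B) (χ : IrrCharacter A) (b : B) :
    (isoIrr e χ : B → ℂ) b = (χ : A → ℂ) (e.symm b) := rfl

theorem good_isoIrr (r : Bool) {A B : Type u} [Group A] [Group B] (e : A ≃* B)
    (χ : IrrCharacter A) : Good r (isoIrr e χ) ↔ Good r χ := by
  unfold Good
  have hdeg : charDegree (isoIrr e χ : B → ℂ) = charDegree (χ : A → ℂ) := by
    unfold charDegree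
    rw [isoIrr_apply, map_one]
  rw [hdeg]
  constructor
  · rintro ⟨h1, h2⟩
    refine ⟨fun hr a => ?_, h2⟩
    have h3 := h1 hr (e a)
    rw [isoIrr_apply, MulEquiv.symm_apply_apply] at h3
    exact h3
  · rintro ⟨h1, h2⟩
    refine ⟨fun hr b => ?_, h2⟩
    rw [isoIrr_apply]
    exact h1 hr _

/-- (ISO) the count is invariant under isomorphism -/
theorem cnt_congr (r : Bool) {A B : Type u} [Group A] [Group B] (e : A ≃* B) :
    cnt r A = cnt r B := by
  unfold cnt
  exact Nat.card_congr ((isoIrr e).subtypeEquiv fun χ => (good_isoIrr r e χ).symm)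

end Cfsg.Agent.Helper42.RMK
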