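import Mathlib
import Cfsg.Prelude.Def_Characters
import Cfsg.Prelude.Def_Blocks
import Cfsg.Agent.Lib.Helper80.RMKDefs
import Cfsg.Agent.Lib.Helper79.Inflation

/-!
RMK lemma server (helper80, S4581), piece (KERQ) `cnt_quotient` (helper42).
-/

set_option autoImplicit false
set_option linter.style.haveILetI false

namespace Cfsg.Agent.Helper42.RMK

open Cfsg Cfsg.Agent.Helper80 Cfsg.Agent.Helper80.RMK
open scoped ComplexConjugate

universe u

theorem good_inflate (r : Bool) {A : Type u} [Group A] [Finite A] (K : Subgroup A) [K.Normal]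
    (ψ : IrrCharacter (A ⧸ K)) :
    Good r (Cfsg.Agent.Helper79.inflate K ψ) ↔ Good r ψ := by
  unfold Good
  rw [Cfsg.Agent.Helper79.charDegree_inflate]
  constructor
  · rintro ⟨h1, h2⟩
    refine ⟨fun hr x => ?_, h2⟩
    obtain ⟨a, rfl⟩ := QuotientGroup.mk_surjective x
    have h3 := h1 hr a
    rw [Cfsg.Agent.Helper79.inflate_apply] at h3
    exact h3
  · rintro ⟨h1, h2⟩
    refine ⟨fun hr a => ?_, h2⟩
    rw [Cfsg.Agent.Helper79.inflate_apply]
    exact h1 hr _

/-- (KERQ) the good characters of `A` trivial on the normal subgroup `K` are the good characters of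
`A ⧸ K`. -/
theorem cnt_quotient (r : Bool) {A : Type u} [Group A] [Finite A] (K : Subgroup A) [K.Normal] :
    Nat.card {χ : IrrCharacter A // Good r χ ∧ ∀ k ∈ K, (χ : A → ℂ) k = (χ : A → ℂ) 1} =
      cnt r (A ⧸ K) := by
  unfold cnt
  symm
  refine Nat.card_congr ?_
  refine (((Cfsg.Agent.Helper79.inflateEquiv K).subtypeEquiv
    (p := fun ψ => Good r ψ) (q := fun χ => Good r χ.1) ?_).trans
    (Equiv.subtypeSubtypeEquivSubtypeInter
      (fun χ : IrrCharacter A => K ≤ Cfsg.Agent.Helper79.irrKer χ) (fun χ => Good r χ))).trans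
    (Equiv.subtypeEquivRight ?_)
  · intro ψ
    exact (good_inflate r K ψ).symm
  · intro χ
    constructor
    · rintro ⟨h1, h2⟩
      exact ⟨h2, fun k hk => (Cfsg.Agent.Helper79.mem_irrKer χ k).mp (h1 hk)⟩
    · rintro ⟨h1, h2⟩
      exact ⟨fun k hk => (Cfsg.Agent.Helper79.mem_irrKer χ k).mpr (h2 k hk), h1⟩

end Cfsg.Agent.Helper42.RMK
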