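import Mathlib
import Cfsg.Agent.Lib.Helper2.SR0

/-!
# SR (C10) for helper2's server (S2281): the values of `l = h u h⁻¹` (hypothesis-explicit version, from C5)
-/

set_option autoImplicit false

namespace Cfsg.Agent.Helper42.SR

open Matrix Cfsg Cfsg.Agent.Helper13 Cfsg.Agent.Helper84.SpRoot Cfsg.Agent.Helper5.SpAut
open Cfsg.Agent.Helper2.SR

section C
variable {F : Type*} [Field F] {m : ℕ}

/-- (C10) from (C5) -/
theorem l_values_of (s : F)
    (hu5 : (uEl (m := m) s).val *ᵥ bf jA = bf jA - bf jB ∧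
      (uEl (m := m) s).val *ᵥ bf jB = bf jB + s • (be jB + be jA) ∧
      ((uEl (m := m) s)⁻¹).val *ᵥ bf jA = bf jA + bf jB - s • be jB)
    (h : Matrix.symplecticGroup (Fin (m + 2)) F)
    (h1 : h.val *ᵥ bf jA = be 0) (h2 : h.val *ᵥ bf jB = be 0 - be 1)
    (h3 : h.val *ᵥ be jB = bf 1) (h4 : h.val *ᵥ be jA = - bf 0 - bf 1) :
    (h * uEl s * h⁻¹).val *ᵥ be 0 = be 1 ∧
    (h * uEl s * h⁻¹).val *ᵥ pV s = be 0 ∧
    (h * uEl s * h⁻¹).val *ᵥ be 1 = - be 0 + (2 : F) • be 1 + s • bf 0 := by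
  obtain ⟨ua, ub, uinv⟩ := hu5
  have hi0 : (h⁻¹).val *ᵥ be 0 = bf jA := by rw [← h1, inv_mulVec_mulVec]
  have hi1 : (h⁻¹).val *ᵥ be 1 = bf jA - bf jB := by
    have h5 : (be 1 : Fin (m + 2) ⊕ Fin (m + 2) → F) = h.val *ᵥ (bf jA - bf jB) := by
      rw [Matrix.mulVec_sub, h1, h2]; abel
    rw [h5, inv_mulVec_mulVec]
  refine ⟨?_, ?_, ?_⟩
  · rw [mul_act, mul_act, hi0, ua, Matrix.mulVec_sub, h1, h2]; abel
  · have hp : pV s = h.val *ᵥ (((uEl (m := m) s)⁻¹).val *ᵥ bf jA) := by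
      rw [uinv, Matrix.mulVec_sub, Matrix.mulVec_add, Matrix.mulVec_smul, h1, h2, h3]
      unfold pV
      module
    rw [hp, mul_act, mul_act, inv_mulVec_mulVec, mulVec_inv_mulVec, h1]
  · rw [mul_act, mul_act, hi1, Matrix.mulVec_sub, ua, ub, Matrix.mulVec_sub, Matrix.mulVec_sub,
      Matrix.mulVec_add, Matrix.mulVec_smul, Matrix.mulVec_add, h1, h2, h3, h4]
    module

end C

end Cfsg.Agent.Helper42.SR
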