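import Mathlib
import Cfsg.Agent.Lib.Helper7.M11LADefs

/-!
# M11LA piece (K2) (helper7 server, S0435): `sylow11_facts`

In a simple group of order 7920 with 144 Sylow 11-subgroups, `|N(Q)| = 55` and `|C(Q)| = 11`.
Also two reusable lemmas: Burnside's transfer theorem in a simple group (`k2_not_normalizer_le_centralizer`)
and N/C for a subgroup of prime order (`k2_card_normalizer_eq_mul`).
-/

set_option autoImplicit false

namespace Cfsg.Agent.Helper42.M11LA

open Subgroup Cfsg.Agent.Helper7.M11LA

variable {G : Type*} [Group G] [Finite G]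

/-- Burnside's transfer theorem in a simple group: a proper nontrivial Sylow subgroup is not central in its
normalizer. -/
theorem k2_not_normalizer_le_centralizer [IsSimpleGroup G] {p : ℕ} [Fact p.Prime] (P : Sylow p G)
    (h1 : 1 < Nat.card (P : Subgroup G)) (h2 : Nat.card (P : Subgroup G) < Nat.card G) :
    ¬ normalizer ((P : Subgroup G) : Set G) ≤ centralizer ((P : Subgroup G) : Set G) := by
  intro hP
  have hc := MonoidHom.ker_transferSylow_isComplement' P hP
  have hmul := hc.card_mul_card
  rcases (MonoidHom.transferSylow P hP).normal_ker.eq_bot_or_eq_top with hK | hK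
  · rw [hK, Subgroup.card_bot, one_mul] at hmul
    omega
  · rw [hK, Subgroup.card_top] at hmul
    have hpos : 0 < Nat.card G := Nat.card_pos
    have : Nat.card (P : Subgroup G) = 1 := by
      have h3 : Nat.card G * Nat.card (P : Subgroup G) = Nat.card G * 1 := by rw [hmul, mul_one]
      exact Nat.eq_of_mul_eq_mul_left hpos h3
    omega

/-- N/C for a subgroup of prime order `p`: `|N(P)| = |C(P)| * r` with `r ∣ p - 1`. -/
theorem k2_card_normalizer_eq_mul (p : ℕ) (hp : p.Prime) (P : Subgroup G) (hP : Nat.card P = p) :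
    ∃ r : ℕ, r ∣ p - 1 ∧ Nat.card (normalizer (P : Set G)) =
      Nat.card (centralizer (P : Set G)) * r := by
  have hpf : Fact p.Prime := ⟨hp⟩
  have hcyc : IsCyclic P := isCyclic_of_prime_card hP
  refine ⟨Nat.card P.normalizerMonoidHom.range, ?_, ?_⟩
  · have h1 : Nat.card P.normalizerMonoidHom.range ∣ Nat.card (MulAut P) :=
      Subgroup.card_subgroup_dvd_card _
    rw [IsCyclic.card_mulAut, hP, Nat.totient_prime hp] at h1
    exact h1
  · have h1 := Subgroup.card_mul_index P.normalizerMonoidHom.ker
    rw [Subgroup.index_ker, Subgroup.normalizerMonoidHom_ker] at h1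
    rw [← h1]
    congr 1
    exact Nat.card_congr (Subgroup.subgroupOfEquivOfLe
      (Subgroup.centralizer_le_normalizer (P : Set G))).toEquiv

/-- a Sylow `p`-subgroup with `|N(P)| = |C(P)|` in a simple group: contradiction. -/
theorem k2_false_of_card_eq [IsSimpleGroup G] {p : ℕ} [Fact p.Prime] (P : Sylow p G)
    (h1 : 1 < Nat.card (P : Subgroup G)) (h2 : Nat.card (P : Subgroup G) < Nat.card G)
    (h : Nat.card (normalizer ((P : Subgroup G) : Set G)) =
      Nat.card (centralizer ((P : Subgroup G) : Set G))) : False := by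
  apply k2_not_normalizer_le_centralizer P h1 h2
  have hle : centralizer ((P : Subgroup G) : Set G) ≤ normalizer ((P : Subgroup G) : Set G) :=
    Subgroup.centralizer_le_normalizer _
  have := Subgroup.eq_of_le_of_card_ge hle h.le
  rw [this]

/-- the order of a Sylow 11-subgroup of a group of order 7920. -/
theorem k2_card_sylow11 (hord : Nat.card G = 7920) (Q : Sylow 11 G) :
    Nat.card (Q : Subgroup G) = 11 := by
  have : Fact (Nat.Prime 11) := ⟨by norm_num⟩
  rw [Sylow.card_eq_multiplicity, hord]
  have : (7920 : ℕ).factorization 11 = 1 := by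
    have h1 : (7920 : ℕ) = 11 ^ 1 * 720 := by norm_num
    rw [h1, Nat.factorization_mul (by norm_num) (by norm_num)]
    simp only [Finsupp.coe_add, Pi.add_apply]
    rw [Nat.Prime.factorization_pow (by norm_num)]
    have : (720 : ℕ).factorization 11 = 0 := Nat.factorization_eq_zero_of_not_dvd (by norm_num)
    simp [this]
  rw [this, pow_one]

/-- (K2) If `n₁₁ = 144` then `|N(Q)| = 55` and `|C(Q)| = 11`. -/
theorem sylow11_facts [IsSimpleGroup G] (hord : Nat.card G = 7920)
    (h144 : Nat.card (Sylow 11 G) = 144) (Q : Sylow 11 G) :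
    Nat.card (normalizer ((Q : Subgroup G) : Set G)) = 55 ∧
      Nat.card (centralizer ((Q : Subgroup G) : Set G)) = 11 := by
  have : Fact (Nat.Prime 11) := ⟨by norm_num⟩
  have hQ := k2_card_sylow11 hord Q
  have hN : Nat.card (normalizer ((Q : Subgroup G) : Set G)) = 55 := by
    have h1 : Nat.card (Sylow 11 G) = (normalizer ((Q : Subgroup G) : Set G)).index :=
      Sylow.card_eq_index_normalizer Q
    have h2 := Subgroup.card_mul_index (normalizer ((Q : Subgroup G) : Set G))
    rw [← h1, h144, hord] at h2
    omega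
  refine ⟨hN, ?_⟩
  obtain ⟨r, hr, hNr⟩ := k2_card_normalizer_eq_mul 11 (by norm_num) (Q : Subgroup G) hQ
  rw [hN] at hNr
  have hr10 : r ∣ 10 := hr
  have hr55 : r ∣ 55 := ⟨_, by rw [hNr, mul_comm]⟩
  have hr5 : r ∣ 5 := by
    have := Nat.dvd_gcd hr10 hr55
    norm_num at this
    exact this
  have hr' : r = 1 ∨ r = 5 := by
    have := (Nat.dvd_prime (by norm_num : Nat.Prime 5)).mp hr5
    exact this
  rcases hr' with rfl | rfl
  · exfalso
    apply k2_false_of_card_eq Q (by rw [hQ]; norm_num) (by rw [hQ, hord]; norm_num)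
    rw [hN]; omega
  · omega

end Cfsg.Agent.Helper42.M11LA
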