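import Mathlib
import Cfsg.Agent.Lib.Helper74.M11Defs
import Cfsg.Agent.Lib.Helper42.M11LAK2

/-!
# M11 server (helper74, S0434): piece (Q2) `three_local`

`G` simple of order 7920, all involution centralizers of order 48, `|N(P)| = 36` for a Sylow 3-subgroup `P`:
then `C(P) = P` and some involution inverts `P`.
-/

set_option autoImplicit false

namespace Cfsg.Agent.Helper42.M11

open Cfsg.Agent.Helper74.M11 Cfsg.Agent.Helper42.M11LA

variable {G : Type*} [Group G]

theorem q2_factorization {p k n m : ℕ} (hp : p.Prime) (h : n = p ^ k * m) (hm : ¬ p ∣ m) :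
    n.factorization p = k := by
  have hm0 : m ≠ 0 := by
    rintro rfl
    exact hm (dvd_zero p)
  subst h
  rw [Nat.factorization_mul (pow_ne_zero k hp.ne_zero) hm0, Nat.Prime.factorization_pow hp]
  simp [Nat.factorization_eq_zero_of_not_dvd hm]

/-- in a subgroup of order 3, an element `≠ 1` is `k` or `k⁻¹` for any given `k ≠ 1`. -/
theorem q2_card3 (K : Subgroup G) (hK : Nat.card K = 3) (k x : G) (hk : k ∈ K) (hx : x ∈ K)
    (hk1 : k ≠ 1) (hx1 : x ≠ 1) : x = k ∨ x = k⁻¹ := by
  classical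
  have hfin : Finite K := Nat.finite_of_card_ne_zero (by rw [hK]; norm_num)
  have hp3 : Fact (Nat.Prime 3) := ⟨by norm_num⟩
  have hz : Subgroup.zpowers (⟨k, hk⟩ : K) = ⊤ :=
    zpowers_eq_top_of_prime_card hK (fun h => hk1 (congrArg Subtype.val h))
  have hmem : (⟨x, hx⟩ : K) ∈ Subgroup.zpowers (⟨k, hk⟩ : K) := by rw [hz]; exact Subgroup.mem_top _
  have ho : orderOf (⟨k, hk⟩ : K) = 3 := by
    rw [← Nat.card_zpowers, hz, Subgroup.card_top, hK]
  rw [mem_zpowers_iff_mem_range_orderOf, ho] at hmem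
  simp only [Finset.mem_image, Finset.mem_range] at hmem
  obtain ⟨i, hi, hxi⟩ := hmem
  have hxi' : k ^ i = x := by
    have := congrArg Subtype.val hxi
    simpa using this
  have hk3 : k ^ 3 = 1 := by
    have := pow_orderOf_eq_one (⟨k, hk⟩ : K)
    rw [ho] at this
    have := congrArg Subtype.val this
    simpa using this
  interval_cases i
  · exact absurd (by rw [← hxi', pow_zero]) hx1
  · left; rw [← hxi', pow_one]
  · right
    rw [← hxi']
    apply eq_inv_of_mul_eq_one_left
    rw [← pow_succ]; exact hk3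

/-- the subgroup of elements of the abelian subgroup `P` inverted by `g`. -/
def q2Inv (P : Subgroup G) (hab : ∀ x ∈ P, ∀ y ∈ P, x * y = y * x) (g : G) : Subgroup G where
  carrier := {x | x ∈ P ∧ g * x * g⁻¹ = x⁻¹}
  one_mem' := ⟨P.one_mem, by simp⟩
  mul_mem' := by
    rintro x y ⟨hx, hx'⟩ ⟨hy, hy'⟩
    refine ⟨P.mul_mem hx hy, ?_⟩
    have : g * (x * y) * g⁻¹ = (g * x * g⁻¹) * (g * y * g⁻¹) := by group
    rw [this, hx', hy', mul_inv_rev]
    exact hab _ (P.inv_mem hx) _ (P.inv_mem hy)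
  inv_mem' := by
    rintro x ⟨hx, hx'⟩
    refine ⟨P.inv_mem hx, ?_⟩
    have : g * x⁻¹ * g⁻¹ = (g * x * g⁻¹)⁻¹ := by group
    rw [this, hx']

theorem q2_mem_inv (P : Subgroup G) (hab : ∀ x ∈ P, ∀ y ∈ P, x * y = y * x) (g x : G) :
    x ∈ q2Inv P hab g ↔ x ∈ P ∧ g * x * g⁻¹ = x⁻¹ := Iff.rfl

/-- a subgroup `S ≤ P` (`|P| = 9`) containing a subgroup `K` of order 3 and an element outside `K` is `P`. -/
theorem q2_sub_eq [Finite G] (P S K : Subgroup G) (hP : Nat.card P = 9) (hSP : S ≤ P) (hK : Nat.card K = 3)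
    (hKS : K ≤ S) (l : G) (hl : l ∈ S) (hlK : l ∉ K) : S = P := by
  apply Subgroup.eq_of_le_of_card_ge hSP
  have h1 : Nat.card K ∣ Nat.card S := Subgroup.card_dvd_of_le hKS
  have h2 : Nat.card S ∣ Nat.card P := Subgroup.card_dvd_of_le hSP
  have h3 : Nat.card K < Nat.card S := by
    by_contra hcon
    rw [not_lt] at hcon
    have := Subgroup.eq_of_le_of_card_ge hKS hcon
    exact hlK (this ▸ hl)
  rw [hK] at h1 h3
  rw [hP] at h2 ⊢
  have h4 : Nat.card S ≤ 9 := Nat.le_of_dvd (by norm_num) h2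
  obtain ⟨c, hc⟩ := h1
  have : c = 2 ∨ c = 3 := by omega
  rcases this with rfl | rfl
  · rw [hc] at h2; omega
  · omega

/-- a subgroup `S ≤ P` (`|P| = 9`) containing `k ≠ 1` and an element outside `zpowers k` is `P`. -/
theorem q2_sub_eq' [Finite G] (P S : Subgroup G) (hP : Nat.card P = 9) (hSP : S ≤ P) (k l : G)
    (hk : k ∈ S) (hk1 : k ≠ 1) (hl : l ∈ S) (hlk : l ∉ Subgroup.zpowers k) : S = P := by
  apply Subgroup.eq_of_le_of_card_ge hSP
  have hKS : Subgroup.zpowers k ≤ S := by rw [Subgroup.zpowers_le]; exact hk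
  have h1 : Nat.card (Subgroup.zpowers k) ∣ Nat.card S := Subgroup.card_dvd_of_le hKS
  have h2 : Nat.card S ∣ Nat.card P := Subgroup.card_dvd_of_le hSP
  have h3 : Nat.card (Subgroup.zpowers k) < Nat.card S := by
    by_contra hcon
    rw [not_lt] at hcon
    have := Subgroup.eq_of_le_of_card_ge hKS hcon
    exact hlk (this ▸ hl)
  have h0 : Nat.card (Subgroup.zpowers k) ≠ 1 := by
    rw [Nat.card_zpowers]
    intro h
    exact hk1 (orderOf_eq_one_iff.mp h)
  have hpos : 0 < Nat.card (Subgroup.zpowers k) := Nat.card_pos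
  rw [hP] at h2 ⊢
  have h4 : Nat.card S ≤ 9 := Nat.le_of_dvd (by norm_num) h2
  have h5 : Nat.card S = 1 ∨ Nat.card S = 3 ∨ Nat.card S = 9 := by
    have hd : Nat.card S ∈ Nat.divisors 9 := Nat.mem_divisors.mpr ⟨h2, by norm_num⟩
    have h9 : Nat.divisors 9 = {1, 3, 9} := by decide
    rw [h9] at hd
    simpa using hd
  rcases h5 with h | h | h
  · omega
  · rw [h] at h1 h3
    have : Nat.card (Subgroup.zpowers k) ≤ 3 := Nat.le_of_dvd (by norm_num) h1
    have h6 : Nat.card (Subgroup.zpowers k) = 2 := by omega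
    rw [h6] at h1
    omega
  · omega

/-- the core of (Q2): an involution `a` and a commuting 2-element `b ∉ {1, a}` of `N(P)`, with `C(P) = P`
of order 9, give an involution inverting `P`. -/
theorem q2_exists_inverting [Finite G] (P : Subgroup G) (hP : Nat.card P = 9)
    (hCP : ∀ g ∈ CenS P, g ∈ P)
    (a b : G) (ha : orderOf a = 2) (haN : a ∈ NorS P) (hbN : b ∈ NorS P) (hab : a * b = b * a)
    (hb4 : b ^ 4 = 1) (hb1 : b ≠ 1) (hba : b ≠ a) :
    ∃ w : G, orderOf w = 2 ∧ ∀ x ∈ P, w * x * w⁻¹ = x⁻¹ := by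
  have hp3 : Fact (Nat.Prime 3) := ⟨by norm_num⟩
  have hPab : ∀ x ∈ P, ∀ y ∈ P, x * y = y * x := by
    intro x hx y hy
    have := (IsPGroup.isMulCommutative_of_card_eq_prime_sq (p := 3) (G := P)
      (by rw [hP]; norm_num)).is_comm.comm ⟨x, hx⟩ ⟨y, hy⟩
    exact congrArg Subtype.val this
  have ha2 : a * a = 1 := by
    have := pow_orderOf_eq_one a
    rwa [ha, pow_two] at this
  have hainv : a⁻¹ = a := inv_eq_of_mul_eq_one_right ha2
  have hconjP : ∀ g ∈ NorS P, ∀ x ∈ P, g * x * g⁻¹ ∈ P := fun g hg x hx =>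
    (Subgroup.mem_normalizer_iff.mp hg x).mp hx
  -- elements of `P` of order dividing 2 are trivial
  have hodd : ∀ x ∈ P, x * x = 1 → x = 1 := by
    intro x hx hxx
    have h1 : orderOf x ∣ 2 := orderOf_dvd_of_pow_eq_one (by rw [pow_two]; exact hxx)
    have h2 : orderOf x ∣ 9 := hP ▸ Subgroup.orderOf_dvd_natCard P hx
    have h3 : orderOf x ∣ Nat.gcd 2 9 := Nat.dvd_gcd h1 h2
    have h4 : Nat.gcd 2 9 = 1 := by norm_num
    rw [h4, Nat.dvd_one] at h3
    exact orderOf_eq_one_iff.mp h3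
  -- an involution is not in `P`
  have hnotP : ∀ w : G, orderOf w = 2 → w ∉ P := by
    intro w hw hwP
    have h2 : orderOf w ∣ 9 := hP ▸ Subgroup.orderOf_dvd_natCard P hwP
    rw [hw] at h2
    omega
  -- an element fixing `k ≠ 1` and `l ∉ zpowers k` of `P` centralizes `P`
  have hfix : ∀ g k l : G, k ∈ P → l ∈ P → k ≠ 1 → l ∉ Subgroup.zpowers k →
      g * k * g⁻¹ = k → g * l * g⁻¹ = l → g ∈ P := by
    intro g k l hk hl hk1 hlk hgk hgl
    apply hCP
    have hmem : ∀ x : G, x ∈ P ⊓ Cen g ↔ x ∈ P ∧ g * x * g⁻¹ = x := by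
      intro x
      rw [Subgroup.mem_inf, Subgroup.mem_centralizer_singleton_iff]
      constructor
      · rintro ⟨h1, h2⟩
        exact ⟨h1, by rw [← h2, mul_inv_cancel_right]⟩
      · rintro ⟨h1, h2⟩
        refine ⟨h1, ?_⟩
        have : g * x = x * g := by
          have := congrArg (· * g) h2
          simpa using this
        exact this.symm
    have hS : P ⊓ Cen g = P :=
      q2_sub_eq' P _ hP inf_le_left k l ((hmem k).mpr ⟨hk, hgk⟩) hk1 ((hmem l).mpr ⟨hl, hgl⟩) hlk
    rw [Subgroup.mem_centralizer_iff]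
    intro x hx
    have hx' : x ∈ P ⊓ Cen g := by rw [hS]; exact hx
    have := ((hmem x).mp hx').2
    have h2 : g * x = x * g := by
      have := congrArg (· * g) this
      simpa using this
    exact h2.symm
  -- an element inverting `k ≠ 1` and `l ∉ zpowers k` inverts `P`
  have hinv : ∀ g k l : G, k ∈ P → l ∈ P → k ≠ 1 → l ∉ Subgroup.zpowers k →
      g * k * g⁻¹ = k⁻¹ → g * l * g⁻¹ = l⁻¹ → ∀ x ∈ P, g * x * g⁻¹ = x⁻¹ := by
    intro g k l hk hl hk1 hlk hgk hgl x hx
    have hS : q2Inv P hPab g = P :=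
      q2_sub_eq' P _ hP (fun y hy => hy.1) k l ⟨hk, hgk⟩ hk1 ⟨hl, hgl⟩ hlk
    have hx' : x ∈ q2Inv P hPab g := by rw [hS]; exact hx
    exact hx'.2
  -- the fixed points of `a`
  set K := P ⊓ Cen a with hKdef
  have hKmem : ∀ x : G, x ∈ K ↔ x ∈ P ∧ a * x * a⁻¹ = x := by
    intro x
    rw [hKdef, Subgroup.mem_inf, Subgroup.mem_centralizer_singleton_iff]
    constructor
    · rintro ⟨h1, h2⟩
      exact ⟨h1, by rw [← h2, mul_inv_cancel_right]⟩
    · rintro ⟨h1, h2⟩
      refine ⟨h1, ?_⟩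
      have : a * x = x * a := by
        have := congrArg (· * a) h2
        simpa using this
      exact this.symm
  have hKP : K ≤ P := inf_le_left
  have hKne : K ≠ P := by
    intro h
    apply hnotP a ha
    apply hCP
    rw [Subgroup.mem_centralizer_iff]
    intro x hx
    have hx' : x ∈ K := h ▸ hx
    have := ((hKmem x).mp hx').2
    have h2 : a * x = x * a := by
      have := congrArg (· * a) this
      simpa using this
    exact h2.symm
  have hKcard : Nat.card K = 1 ∨ Nat.card K = 3 := by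
    have h2 : Nat.card K ∣ 9 := hP ▸ Subgroup.card_dvd_of_le hKP
    have hd : Nat.card K ∈ Nat.divisors 9 := Nat.mem_divisors.mpr ⟨h2, by norm_num⟩
    have h9 : Nat.divisors 9 = {1, 3, 9} := by decide
    rw [h9] at hd
    simp only [Finset.mem_insert, Finset.mem_singleton] at hd
    rcases hd with h | h | h
    · exact Or.inl h
    · exact Or.inr h
    · exfalso
      apply hKne
      exact Subgroup.eq_of_le_of_card_ge hKP (by rw [hP, h])
  -- `x * (a x a⁻¹)` is fixed by `a`
  have hfixprod : ∀ x ∈ P, x * (a * x * a⁻¹) ∈ K := by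
    intro x hx
    rw [hKmem]
    refine ⟨P.mul_mem hx (hconjP a haN x hx), ?_⟩
    have h1 : a * (x * (a * x * a⁻¹)) * a⁻¹ = (a * x * a⁻¹) * ((a * a) * x * (a * a)⁻¹) := by group
    rw [h1, ha2]
    simp only [one_mul, inv_one, mul_one]
    exact hPab _ (hconjP a haN x hx) _ hx
  rcases hKcard with hK1 | hK3
  · -- `a` inverts `P`
    refine ⟨a, ha, fun x hx => ?_⟩
    have hbot : K = ⊥ := Subgroup.card_eq_one.mp hK1
    have := hfixprod x hx
    rw [hbot, Subgroup.mem_bot] at this
    exact (inv_eq_of_mul_eq_one_right this).symm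
  · -- `|K| = 3`
    set L := q2Inv P hPab a with hLdef
    have hKL : ∀ x : G, x ∈ K → x ∈ L → x = 1 := by
      intro x hxK hxL
      have h1 := ((hKmem x).mp hxK).2
      have h2 := hxL.2
      rw [h1] at h2
      apply hodd x hxL.1
      calc x * x = x * x⁻¹ := by rw [← h2]
        _ = 1 := mul_inv_cancel x
    -- a nontrivial element of `K`
    have hKnt : Nontrivial K := by
      have hfin : Finite K := inferInstance
      exact (Finite.one_lt_card_iff_nontrivial).mp (by rw [hK3]; norm_num)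
    obtain ⟨⟨k, hkK⟩, hk1'⟩ := exists_ne (1 : K)
    have hk1 : k ≠ 1 := fun h => hk1' (Subtype.ext h)
    have hkP : k ∈ P := hKP hkK
    -- a nontrivial element of `L`
    obtain ⟨x₀, hx₀P, hx₀K⟩ := SetLike.exists_of_lt (lt_of_le_of_ne hKP hKne)
    set l := x₀ * (a * x₀ * a⁻¹)⁻¹ with hldef
    have hlP : l ∈ P := P.mul_mem hx₀P (P.inv_mem (hconjP a haN x₀ hx₀P))
    have hlL : l ∈ L := by
      refine ⟨hlP, ?_⟩
      have h1 : a * l * a⁻¹ = (a * x₀ * a⁻¹) * ((a * a) * x₀ * (a * a)⁻¹)⁻¹ := by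
        rw [hldef]; group
      rw [h1, ha2, hldef]
      simp only [one_mul, inv_one, mul_one, mul_inv_rev, inv_inv]
    have hl1 : l ≠ 1 := by
      intro h
      apply hx₀K
      rw [hKmem]
      refine ⟨hx₀P, ?_⟩
      rw [hldef] at h
      exact (mul_inv_eq_one.mp h).symm
    have hlK : l ∉ K := fun h => hl1 (hKL l h hlL)
    have hlk : l ∉ Subgroup.zpowers k := fun h =>
      hlK ((Subgroup.zpowers_le.mpr hkK) h)
    -- `|L| = 3`
    have hLP : L ≤ P := fun y hy => hy.1
    have hLcard : Nat.card L = 3 := by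
      have h2 : Nat.card L ∣ 9 := hP ▸ Subgroup.card_dvd_of_le hLP
      have hd : Nat.card L ∈ Nat.divisors 9 := Nat.mem_divisors.mpr ⟨h2, by norm_num⟩
      have h9 : Nat.divisors 9 = {1, 3, 9} := by decide
      rw [h9] at hd
      simp only [Finset.mem_insert, Finset.mem_singleton] at hd
      rcases hd with h | h | h
      · exfalso
        have hbot : L = ⊥ := Subgroup.card_eq_one.mp h
        have := hlL
        rw [hbot, Subgroup.mem_bot] at this
        exact hl1 this
      · exact h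
      · exfalso
        have hLeq : L = P := Subgroup.eq_of_le_of_card_ge hLP (by rw [hP, h])
        exact hk1 (hKL k hkK (hLeq ▸ hkP))
    -- `b` preserves `K` and `L`
    have hbinv : b⁻¹ * a = a * b⁻¹ := by
      have : b⁻¹ * (a * b) * b⁻¹ = b⁻¹ * (b * a) * b⁻¹ := by rw [hab]
      simpa [mul_assoc] using this
    have hbK : b * k * b⁻¹ ∈ K := by
      rw [hKmem]
      refine ⟨hconjP b hbN k hkP, ?_⟩
      have hk2 := ((hKmem k).mp hkK).2
      calc a * (b * k * b⁻¹) * a⁻¹ = b * (a * k * a⁻¹) * b⁻¹ := by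
            rw [hainv]
            have e1 : a * (b * k * b⁻¹) * a = (a * b) * k * (b⁻¹ * a) := by group
            rw [e1, hab, hbinv]; group
        _ = b * k * b⁻¹ := by rw [hk2]
    have hbL : b * l * b⁻¹ ∈ L := by
      refine ⟨hconjP b hbN l hlP, ?_⟩
      have hl2 := hlL.2
      calc a * (b * l * b⁻¹) * a⁻¹ = b * (a * l * a⁻¹) * b⁻¹ := by
            rw [hainv]
            have e1 : a * (b * l * b⁻¹) * a = (a * b) * l * (b⁻¹ * a) := by group
            rw [e1, hab, hbinv]; group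
        _ = (b * l * b⁻¹)⁻¹ := by rw [hl2]; group
    have hbk1 : b * k * b⁻¹ ≠ 1 := by
      intro h
      apply hk1
      have : k = b⁻¹ * (b * k * b⁻¹) * b := by group
      rw [this, h]; group
    have hbl1 : b * l * b⁻¹ ≠ 1 := by
      intro h
      apply hl1
      have : l = b⁻¹ * (b * l * b⁻¹) * b := by group
      rw [this, h]; group
    have hck := q2_card3 K hK3 k (b * k * b⁻¹) hkK hbK hk1 hbk1
    have hcl := q2_card3 L hLcard l (b * l * b⁻¹) hlL hbL hl1 hbl1
    -- `b ^ 2` fixes `k` and `l`, hence is trivial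
    have hsq : ∀ y : G, (b * y * b⁻¹ = y ∨ b * y * b⁻¹ = y⁻¹) → (b * b) * y * (b * b)⁻¹ = y := by
      intro y hy
      have e1 : (b * b) * y * (b * b)⁻¹ = b * (b * y * b⁻¹) * b⁻¹ := by group
      rw [e1]
      rcases hy with h | h
      · rw [h, h]
      · rw [h]
        have e2 : b * y⁻¹ * b⁻¹ = (b * y * b⁻¹)⁻¹ := by group
        rw [e2, h, inv_inv]
    have hbbP : b * b ∈ P := hfix (b * b) k l hkP hlP hk1 hlk (hsq k hck) (hsq l hcl)
    have hbb : b * b = 1 := by
      apply hodd _ hbbP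
      have : b * b * (b * b) = b ^ 4 := by
        rw [pow_succ, pow_succ, pow_succ, pow_one]; group
      rw [this, hb4]
    have hbo : orderOf b = 2 := orderOf_eq_prime (by rw [pow_two]; exact hbb) hb1
    have hbinv' : b⁻¹ = b := inv_eq_of_mul_eq_one_right hbb
    -- the product `a * b`
    have habab : (a * b) * (a * b) = 1 := by
      calc (a * b) * (a * b) = a * (b * a) * b := by group
        _ = a * (a * b) * b := by rw [hab]
        _ = (a * a) * (b * b) := by group
        _ = 1 := by rw [ha2, hbb, one_mul]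
    have hab1 : a * b ≠ 1 := by
      intro h
      apply hba
      have : b = a⁻¹ := (inv_eq_of_mul_eq_one_right h).symm
      rw [this, hainv]
    have habo : orderOf (a * b) = 2 := orderOf_eq_prime (by rw [pow_two]; exact habab) hab1
    have hconjab : ∀ y : G, (a * b) * y * (a * b)⁻¹ = a * (b * y * b⁻¹) * a⁻¹ := by
      intro y; group
    have hak : a * k * a⁻¹ = k := ((hKmem k).mp hkK).2
    have hal : a * l * a⁻¹ = l⁻¹ := hlL.2
    have hakinv : a * k⁻¹ * a⁻¹ = k⁻¹ := by
      have : a * k⁻¹ * a⁻¹ = (a * k * a⁻¹)⁻¹ := by group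
      rw [this, hak]
    have halinv : a * l⁻¹ * a⁻¹ = l := by
      have : a * l⁻¹ * a⁻¹ = (a * l * a⁻¹)⁻¹ := by group
      rw [this, hal, inv_inv]
    rcases hck with hck | hck <;> rcases hcl with hcl | hcl
    · -- `b` centralizes `P`
      exact absurd (hfix b k l hkP hlP hk1 hlk hck hcl) (hnotP b hbo)
    · -- `a * b` centralizes `P`
      have h1 : (a * b) * k * (a * b)⁻¹ = k := by rw [hconjab, hck, hak]
      have h2 : (a * b) * l * (a * b)⁻¹ = l := by rw [hconjab, hcl, halinv]
      exact absurd (hfix (a * b) k l hkP hlP hk1 hlk h1 h2) (hnotP (a * b) habo)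
    · -- `a * b` inverts `P`
      have h1 : (a * b) * k * (a * b)⁻¹ = k⁻¹ := by rw [hconjab, hck, hakinv]
      have h2 : (a * b) * l * (a * b)⁻¹ = l⁻¹ := by rw [hconjab, hcl, hal]
      exact ⟨a * b, habo, hinv (a * b) k l hkP hlP hk1 hlk h1 h2⟩
    · -- `b` inverts `P`
      exact ⟨b, hbo, hinv b k l hkP hlP hk1 hlk hck hcl⟩

variable [Finite G]

/-- the order of a Sylow 3-subgroup of a group of order 7920. -/
theorem q2_card_sylow3 (hc : Nat.card G = 7920) (P : Sylow 3 G) :
    Nat.card (P : Subgroup G) = 9 := by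
  have : Fact (Nat.Prime 3) := ⟨by norm_num⟩
  rw [Sylow.card_eq_multiplicity, hc,
    q2_factorization (p := 3) (k := 2) (m := 880) (by norm_num) (by norm_num) (by norm_num)]
  norm_num

/-- (Q2) `|N(P)| = 36`: `C(P) = P` and some involution inverts `P`. -/
theorem three_local (hs : IsSimpleGroup G) (hc : Nat.card G = 7920)
    (h48 : ∀ t : G, orderOf t = 2 → Nat.card (Cen t) = 48)
    (P : Sylow 3 G) (hN : Nat.card (NorS (P : Subgroup G)) = 36) :
    (∀ g ∈ CenS (P : Subgroup G), g ∈ (P : Subgroup G)) ∧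
      ∃ w : G, orderOf w = 2 ∧ ∀ x ∈ (P : Subgroup G), w * x * w⁻¹ = x⁻¹ := by
  have hp3 : Fact (Nat.Prime 3) := ⟨by norm_num⟩
  have hp2 : Fact (Nat.Prime 2) := ⟨by norm_num⟩
  have hP := q2_card_sylow3 hc P
  have hPab : ∀ x ∈ (P : Subgroup G), ∀ y ∈ (P : Subgroup G), x * y = y * x := by
    intro x hx y hy
    have := (IsPGroup.isMulCommutative_of_card_eq_prime_sq (p := 3) (G := (P : Subgroup G))
      (by rw [hP]; norm_num)).is_comm.comm ⟨x, hx⟩ ⟨y, hy⟩
    exact congrArg Subtype.val this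
  have hPC : (P : Subgroup G) ≤ CenS (P : Subgroup G) := by
    intro x hx
    rw [Subgroup.mem_centralizer_iff]
    intro y hy
    exact hPab y hy x hx
  have hCN : CenS (P : Subgroup G) ≤ NorS (P : Subgroup G) := Subgroup.centralizer_le_normalizer _
  -- part 1
  have hCcard : Nat.card (CenS (P : Subgroup G)) = 9 := by
    have h1 : 9 ∣ Nat.card (CenS (P : Subgroup G)) := hP ▸ Subgroup.card_dvd_of_le hPC
    have h2 : Nat.card (CenS (P : Subgroup G)) ∣ 36 := hN ▸ Subgroup.card_dvd_of_le hCN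
    obtain ⟨c, hcc⟩ := h1
    have hle : Nat.card (CenS (P : Subgroup G)) ≤ 36 := Nat.le_of_dvd (by norm_num) h2
    have hpos : 0 < Nat.card (CenS (P : Subgroup G)) := Nat.card_pos
    have hc4 : c = 1 ∨ c = 2 ∨ c = 3 ∨ c = 4 := by omega
    rcases hc4 with rfl | rfl | rfl | rfl
    · omega
    · -- order 18: an involution centralizing `P`
      exfalso
      obtain ⟨z, hz⟩ := exists_prime_orderOf_dvd_card' (G := CenS (P : Subgroup G)) 2
        (by rw [hcc]; norm_num)
      have hzo : orderOf ((z : CenS (P : Subgroup G)) : G) = 2 := by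
        rw [Subgroup.orderOf_coe, hz]
      have hPz : (P : Subgroup G) ≤ Cen ((z : CenS (P : Subgroup G)) : G) := by
        intro x hx
        rw [Subgroup.mem_centralizer_singleton_iff]
        exact (Subgroup.mem_centralizer_iff.mp z.2 x hx)
      have := Subgroup.card_dvd_of_le hPz
      rw [hP, h48 _ hzo] at this
      omega
    · exfalso
      rw [hcc] at h2
      omega
    · exfalso
      apply k2_false_of_card_eq P (by rw [hP]; norm_num) (by rw [hP, hc]; norm_num)
      rw [hN]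
      exact hcc.symm ▸ rfl
  have hCP : ∀ g ∈ CenS (P : Subgroup G), g ∈ (P : Subgroup G) := by
    have : (P : Subgroup G) = CenS (P : Subgroup G) :=
      Subgroup.eq_of_le_of_card_ge hPC (by rw [hP, hCcard])
    intro g hg
    rw [this]; exact hg
  refine ⟨hCP, ?_⟩
  -- part 2: a Sylow 2-subgroup of `N(P)`
  set N := NorS (P : Subgroup G) with hNdef
  obtain ⟨a', ha'⟩ := exists_prime_orderOf_dvd_card' (G := N) 2 (by rw [hN]; norm_num)
  have hza : IsPGroup 2 (Subgroup.zpowers a') := by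
    apply IsPGroup.of_card (n := 1)
    rw [Nat.card_zpowers, ha', pow_one]
  obtain ⟨T, hT⟩ := hza.exists_le_sylow
  have hTcard : Nat.card (T : Subgroup N) = 4 := by
    rw [Sylow.card_eq_multiplicity, hN,
      q2_factorization (p := 2) (k := 2) (m := 9) (by norm_num) (by norm_num) (by norm_num)]
    norm_num
  have hTab : ∀ x ∈ (T : Subgroup N), ∀ y ∈ (T : Subgroup N), x * y = y * x := by
    intro x hx y hy
    have := (IsPGroup.isMulCommutative_of_card_eq_prime_sq (p := 2) (G := (T : Subgroup N))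
      (by rw [hTcard]; norm_num)).is_comm.comm ⟨x, hx⟩ ⟨y, hy⟩
    exact congrArg Subtype.val this
  have hlt : Subgroup.zpowers a' < (T : Subgroup N) := by
    apply lt_of_le_of_ne hT
    intro h
    have h2 : Nat.card (Subgroup.zpowers a') = 2 := by rw [Nat.card_zpowers, ha']
    rw [h, hTcard] at h2
    omega
  obtain ⟨b', hb'T, hb'z⟩ := SetLike.exists_of_lt hlt
  have ha'T : a' ∈ (T : Subgroup N) := hT (Subgroup.mem_zpowers a')
  have hb'1 : b' ≠ 1 := fun h => hb'z (h ▸ Subgroup.one_mem _)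
  have hb'a : b' ≠ a' := fun h => hb'z (h ▸ Subgroup.mem_zpowers a')
  have hb'4 : b' ^ 4 = 1 := by
    have := pow_card_eq_one' (G := (T : Subgroup N)) (x := ⟨b', hb'T⟩)
    rw [hTcard] at this
    have := congrArg Subtype.val this
    simpa using this
  have hcomm : a' * b' = b' * a' := hTab a' ha'T b' hb'T
  exact q2_exists_inverting (P : Subgroup G) hP hCP (a' : G) (b' : G)
    (by rw [Subgroup.orderOf_coe, ha']) a'.2 b'.2
    (by have := congrArg Subtype.val hcomm; simpa using this)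
    (by have := congrArg Subtype.val hb'4; simpa using this)
    (fun h => hb'1 (Subtype.ext h)) (fun h => hb'a (Subtype.ext h))

end Cfsg.Agent.Helper42.M11
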