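import Mathlib
import Cfsg.Agent.Lib.Helper7.M11UDefs
import Cfsg.Agent.Lib.Helper42.M11Q2

/-!
# M11U server (helper7, S0420): piece (L3) `loc_exInv` -- some involution inverts a Sylow 3-subgroup.
Statement VERBATIM from `tools/m11u_sigs_helper7.lean.txt`.
-/

set_option autoImplicit false

namespace Cfsg.Agent.Helper42.M11U

open Subgroup Cfsg.Agent.Helper7.M11U
open scoped Pointwise

variable {G : Type*} [Group G] [Finite G]

/-- in a group of order 16 with a central involution `a` there is an element `b ∉ {1, a}` with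
`b ^ 4 = 1`. -/
theorem l3_exists_b {T : Type*} [Group T] [Finite T] (hT : Nat.card T = 16) (a : T)
    (ha : orderOf a = 2) : ∃ b : T, b ^ 4 = 1 ∧ b ≠ 1 ∧ b ≠ a := by
  have ha2 : a ^ 2 = 1 := by rw [← ha]; exact pow_orderOf_eq_one a
  -- an element outside `{1, a}`
  obtain ⟨g, hg⟩ : ∃ g : T, g ∉ Subgroup.zpowers a := by
    by_contra hcon
    have htop : Subgroup.zpowers a = ⊤ := by
      rw [eq_top_iff]; intro x _
      by_contra hx
      exact hcon ⟨x, hx⟩
    have h2 : Nat.card (Subgroup.zpowers a) = 2 := by rw [Nat.card_zpowers, ha]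
    rw [htop, Subgroup.card_top, hT] at h2
    omega
  have hg1 : g ≠ 1 := fun h => hg (h ▸ Subgroup.one_mem _)
  have hga : g ≠ a := fun h => hg (h ▸ Subgroup.mem_zpowers a)
  have hg16 : g ^ 16 = 1 := by rw [← hT]; exact pow_card_eq_one'
  by_cases h4 : g ^ 4 = 1
  · exact ⟨g, h4, hg1, hga⟩
  by_cases h8 : g ^ 8 = 1
  · refine ⟨g ^ 2, by rw [← pow_mul]; exact h8, ?_, ?_⟩
    · intro h
      apply h4
      have : g ^ 4 = (g ^ 2) ^ 2 := by rw [← pow_mul]
      rw [this, h, one_pow]
    · intro h
      apply h4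
      have : g ^ 4 = (g ^ 2) ^ 2 := by rw [← pow_mul]
      rw [this, h, ha2]
  · refine ⟨g ^ 4, by rw [← pow_mul]; exact hg16, h4, ?_⟩
    intro h
    apply h8
    have : g ^ 8 = (g ^ 4) ^ 2 := by rw [← pow_mul]
    rw [this, h, ha2]

set_option linter.unusedVariables false in
/-- (L3) some involution inverts `R`. -/
theorem loc_exInv (B : Base G)
    (hcard3 : ∀ R : Sylow 3 G, Nat.card (R : Subgroup G) = 9)
    (hcomm : ∀ R : Sylow 3 G, ∀ x ∈ (R : Subgroup G), ∀ y ∈ (R : Subgroup G), x * y = y * x)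
    (hcent : ∀ R : Sylow 3 G, ∀ g : G, g ∈ centralizer ((R : Subgroup G) : Set G) → g ∈ (R : Subgroup G)) :
    ∀ R : Sylow 3 G, ∃ t : G, orderOf t = 2 ∧ Inverts t (R : Subgroup G) := by
  intro R
  have hp2 : Fact (Nat.Prime 2) := ⟨by norm_num⟩
  set N := normalizer ((R : Subgroup G) : Set G) with hNdef
  have hN : Nat.card N = 144 := B.h144 R
  obtain ⟨T⟩ : Nonempty (Sylow 2 N) := Sylow.nonempty
  have hTcard : Nat.card (T : Subgroup N) = 16 := by
    rw [Sylow.card_eq_multiplicity, hN,
      Cfsg.Agent.Helper42.M11.q2_factorization (p := 2) (k := 4) (m := 9) (by norm_num)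
        (by norm_num) (by norm_num)]
    norm_num
  -- a central involution of `T`
  have hTnt : Nontrivial (T : Subgroup N) := by
    rw [← Finite.one_lt_card_iff_nontrivial, hTcard]; norm_num
  have hcen : Nontrivial (Subgroup.center (T : Subgroup N)) := IsPGroup.center_nontrivial T.2
  have h2c : 2 ∣ Nat.card (Subgroup.center (T : Subgroup N)) := by
    obtain ⟨k, hk⟩ := IsPGroup.iff_card.mp (T.2.to_subgroup (Subgroup.center (T : Subgroup N)))
    rw [hk]
    have hk0 : k ≠ 0 := by
      rintro rfl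
      rw [pow_zero] at hk
      have := Finite.one_lt_card_iff_nontrivial.mpr hcen
      omega
    exact dvd_pow_self 2 hk0
  obtain ⟨a, ha⟩ := exists_prime_orderOf_dvd_card' (G := Subgroup.center (T : Subgroup N)) 2 h2c
  -- `a : center T`, of order 2
  have hao : orderOf ((a : (T : Subgroup N)) ) = 2 := by rw [Subgroup.orderOf_coe, ha]
  obtain ⟨b, hb4, hb1, hba⟩ := l3_exists_b hTcard (a : (T : Subgroup N)) hao
  have hab : (a : (T : Subgroup N)) * b = b * (a : (T : Subgroup N)) :=
    ((Subgroup.mem_center_iff.mp a.2) b).symm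
  -- transfer to `G`
  have key := Cfsg.Agent.Helper42.M11.q2_exists_inverting (R : Subgroup G) (hcard3 R)
    (fun g hg => hcent R g hg)
    (((a : (T : Subgroup N)) : N) : G) ((b : N) : G)
    (by rw [Subgroup.orderOf_coe, Subgroup.orderOf_coe]; exact hao)
    ((a : (T : Subgroup N)) : N).2 (b : N).2
    (by
      have := congrArg (fun x : (T : Subgroup N) => ((x : N) : G)) hab
      simpa using this)
    (by
      have := congrArg (fun x : (T : Subgroup N) => ((x : N) : G)) hb4
      simpa using this)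
    (fun h => hb1 (Subtype.ext (Subtype.ext h)))
    (fun h => hba (Subtype.ext (Subtype.ext h)))
  exact key

end Cfsg.Agent.Helper42.M11U
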