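import Mathlib
import Cfsg.Agent.Lib.Helper7.M11UDefs
import Cfsg.Agent.Lib.Helper77.M11LAK6

/-!
# M11U server (helper7, S0420): counting infrastructure for the pieces (L6), (L7):
the 165 involutions, and double counting of pairs (involution, Sylow 3-subgroup).
-/

set_option autoImplicit false

namespace Cfsg.Agent.Helper42.M11U

open Subgroup Cfsg.Agent.Helper7.M11U
open scoped Pointwise

variable {G : Type*} [Group G]

theorem uc_mem_smul {p : ℕ} (g : G) (R : Sylow p G) (x : G) :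
    x ∈ ((g • R : Sylow p G) : Subgroup G) ↔ g⁻¹ * x * g ∈ (R : Subgroup G) := by
  rw [Sylow.coe_subgroup_smul, Subgroup.mem_pointwise_smul_iff_inv_smul_mem]
  simp [MulAut.smul_def]

theorem uc_sq_of_orderOf_two {t : G} (ht : orderOf t = 2) : t * t = 1 := by
  have := pow_orderOf_eq_one t
  rwa [ht, pow_two] at this

theorem uc_inv_of_orderOf_two {t : G} (ht : orderOf t = 2) : t⁻¹ = t :=
  inv_eq_of_mul_eq_one_right (uc_sq_of_orderOf_two ht)

theorem uc_orderOf_conj (g s : G) : orderOf (g * s * g⁻¹) = orderOf s := by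
  have : g * s * g⁻¹ = MulAut.conj g s := rfl
  rw [this, MulEquiv.orderOf_eq]

variable [Finite G]

/-- a simple group of order 7920 (with `Base`) has exactly 165 involutions. -/
theorem uc_card_invol (B : Base G) : Nat.card {s : G // orderOf s = 2} = 165 := by
  have h2 : (2 : ℕ) ∣ Nat.card G := by rw [B.card]; norm_num
  obtain ⟨t, ht⟩ := exists_prime_orderOf_dvd_card' (G := G) 2 h2
  have hcls := Cfsg.Agent.Helper77.M11LA.cls_mul_card_centralizer t
  rw [B.h48 t ht, B.card] at hcls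
  have h165 : Cfsg.Agent.Helper7.M11LA.cls t = 165 := by omega
  rw [← h165]
  unfold Cfsg.Agent.Helper7.M11LA.cls
  apply Nat.card_congr
  refine ⟨fun s => ⟨s.1, ?_⟩, fun s => ⟨s.1, ?_⟩, fun s => rfl, fun s => rfl⟩
  · obtain ⟨g, hg⟩ := B.hconj t s.1 ht s.2
    exact isConj_iff.mpr ⟨g, hg⟩
  · obtain ⟨g, hg⟩ := isConj_iff.mp s.2
    rw [← hg, uc_orderOf_conj, ht]

/-- double counting of the pairs (involution, Sylow 3-subgroup) in a conjugation-invariant
relation. -/
theorem uc_double_count (B : Base G) (Rel : G → Sylow 3 G → Prop)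
    (hRel : ∀ (g s : G) (R : Sylow 3 G), Rel s R → Rel (g * s * g⁻¹) (g • R))
    (k : ℕ) (hk : ∀ R : Sylow 3 G, Nat.card {t : G // orderOf t = 2 ∧ Rel t R} = k)
    (hn55 : Nat.card (Sylow 3 G) = 55) :
    ∀ t : G, orderOf t = 2 → 165 * Nat.card {R : Sylow 3 G // Rel t R} = 55 * k := by
  classical
  intro t ht
  let _ : Fintype (Sylow 3 G) := Fintype.ofFinite _
  let _ : Fintype {s : G // orderOf s = 2} := Fintype.ofFinite _
  -- all involutions are related to the same number of Sylow subgroups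
  have hconst : ∀ s : {s : G // orderOf s = 2},
      Nat.card {R : Sylow 3 G // Rel s.1 R} = Nat.card {R : Sylow 3 G // Rel t R} := by
    intro s
    obtain ⟨g, hg⟩ := B.hconj t s.1 ht s.2
    apply Nat.card_congr
    refine ⟨fun R => ⟨g⁻¹ • R.1, ?_⟩, fun R => ⟨g • R.1, ?_⟩, fun R => ?_, fun R => ?_⟩
    · have := hRel g⁻¹ s.1 R.1 R.2
      have h2 : g⁻¹ * s.1 * g⁻¹⁻¹ = t := by rw [← hg]; group
      rwa [h2] at this
    · have := hRel g t R.1 R.2
      rwa [hg] at this
    · apply Subtype.ext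
      simp
    · apply Subtype.ext
      simp
  have hequiv : (Σ R : Sylow 3 G, {t : G // orderOf t = 2 ∧ Rel t R}) ≃
      (Σ s : {s : G // orderOf s = 2}, {R : Sylow 3 G // Rel s.1 R}) :=
    ⟨fun x => ⟨⟨x.2.1, x.2.2.1⟩, ⟨x.1, x.2.2.2⟩⟩, fun y => ⟨y.2.1, ⟨y.1.1, y.1.2, y.2.2⟩⟩,
      fun x => rfl, fun y => rfl⟩
  have h1 : Nat.card (Σ R : Sylow 3 G, {t : G // orderOf t = 2 ∧ Rel t R}) = 55 * k := by
    rw [Nat.card_sigma]
    simp only [hk, Finset.sum_const, Finset.card_univ, smul_eq_mul]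
    rw [← Nat.card_eq_fintype_card, hn55]
  have h2 : Nat.card (Σ s : {s : G // orderOf s = 2}, {R : Sylow 3 G // Rel s.1 R}) =
      165 * Nat.card {R : Sylow 3 G // Rel t R} := by
    rw [Nat.card_sigma]
    simp only [hconst, Finset.sum_const, Finset.card_univ, smul_eq_mul]
    rw [← Nat.card_eq_fintype_card, uc_card_invol B]
  rw [← h1, ← h2]
  exact (Nat.card_congr hequiv).symm

end Cfsg.Agent.Helper42.M11U
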