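import Mathlib
import Cfsg.Agent.Lib.Helper7.M11UDefs
import Cfsg.Agent.Lib.Helper42.M11UCount
import Cfsg.Agent.Lib.Helper42.M11Q2

/-!
# M11U server (helper7, S0420): piece (L5) `loc_c18` -- `|C(z)| = 18` for `o(z) = 3`.
Statement VERBATIM from `tools/m11u_sigs_helper7.lean.txt`.
-/

set_option autoImplicit false

namespace Cfsg.Agent.Helper42.M11U

open Subgroup Cfsg.Agent.Helper7.M11U
open scoped Pointwise

variable {G : Type*} [Group G] [Finite G]

/-- `|N| ≤ |R| · |C(z)|` when `N` conjugates `z` into `R`. -/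
theorem l5_card_le (N R : Subgroup G) (z : G) (hN : ∀ g ∈ N, g * z * g⁻¹ ∈ R) :
    Nat.card N ≤ Nat.card R * Nat.card (centralizer ({z} : Set G)) := by
  classical
  rw [← Nat.card_prod]
  let rep : R → G := fun r => if h : ∃ g : G, g * z * g⁻¹ = r.1 then h.choose else 1
  have hrep : ∀ (g : G) (hg : g * z * g⁻¹ ∈ R),
      rep ⟨g * z * g⁻¹, hg⟩ * z * (rep ⟨g * z * g⁻¹, hg⟩)⁻¹ = g * z * g⁻¹ := by
    intro g hg
    have h : ∃ g' : G, g' * z * g'⁻¹ = (⟨g * z * g⁻¹, hg⟩ : R).1 := ⟨g, rfl⟩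
    have h1 : rep ⟨g * z * g⁻¹, hg⟩ = h.choose := dif_pos h
    rw [h1]
    exact h.choose_spec
  have hmem : ∀ (g : G) (hg : g * z * g⁻¹ ∈ R),
      (rep ⟨g * z * g⁻¹, hg⟩)⁻¹ * g ∈ centralizer ({z} : Set G) := by
    intro g hg
    rw [Subgroup.mem_centralizer_singleton_iff]
    have h1 := hrep g hg
    set q := rep ⟨g * z * g⁻¹, hg⟩ with hq
    have h2 : z = q⁻¹ * (g * z * g⁻¹) * q := by rw [← h1]; group
    calc q⁻¹ * g * z = q⁻¹ * (g * z * g⁻¹) * q * (q⁻¹ * g) := by group
      _ = z * (q⁻¹ * g) := by rw [← h2]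
  apply Nat.card_le_card_of_injective
    (fun g : N => ((⟨g.1 * z * g.1⁻¹, hN g.1 g.2⟩ : R),
      (⟨(rep ⟨g.1 * z * g.1⁻¹, hN g.1 g.2⟩)⁻¹ * g.1, hmem g.1 (hN g.1 g.2)⟩ :
        centralizer ({z} : Set G))))
  intro g g' h
  simp only [Prod.mk.injEq, Subtype.mk.injEq] at h
  obtain ⟨h1, h2⟩ := h
  have h3 : rep ⟨g.1 * z * g.1⁻¹, hN g.1 g.2⟩ = rep ⟨g'.1 * z * g'.1⁻¹, hN g'.1 g'.2⟩ := by
    congr 1
    exact Subtype.ext h1
  rw [h3] at h2
  exact Subtype.ext (mul_left_cancel h2)

theorem loc_c18 (B : Base G)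
    (hcard3 : ∀ R : Sylow 3 G, Nat.card (R : Subgroup G) = 9)
    (hcomm : ∀ R : Sylow 3 G, ∀ x ∈ (R : Subgroup G), ∀ y ∈ (R : Subgroup G), x * y = y * x)
    (hcent : ∀ R : Sylow 3 G, ∀ g : G, g ∈ centralizer ((R : Subgroup G) : Set G) → g ∈ (R : Subgroup G))
    (hti : ∀ R R' : Sylow 3 G, R ≠ R' → ∀ x : G, x ∈ (R : Subgroup G) → x ∈ (R' : Subgroup G) → x = 1) :
    ∀ z : G, orderOf z = 3 → Nat.card (centralizer ({z} : Set G)) = 18 := by
  intro z hz
  have hp3 : Fact (Nat.Prime 3) := ⟨by norm_num⟩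
  have hp2 : Fact (Nat.Prime 2) := ⟨by norm_num⟩
  have hz1 : z ≠ 1 := by
    intro h
    rw [h, orderOf_one] at hz
    omega
  -- (1) `z` lies in a Sylow 3-subgroup
  have hzp : IsPGroup 3 (Subgroup.zpowers z) := by
    apply IsPGroup.of_card (n := 1)
    rw [Nat.card_zpowers, hz, pow_one]
  obtain ⟨R, hR⟩ := hzp.exists_le_sylow
  have hzR : z ∈ (R : Subgroup G) := hR (Subgroup.mem_zpowers z)
  set C := centralizer ({z} : Set G) with hC
  -- (2) `R ≤ C(z)`
  have hRC : (R : Subgroup G) ≤ C := by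
    intro x hx
    rw [hC, Subgroup.mem_centralizer_singleton_iff]
    exact hcomm R x hx z hzR
  -- (3) `C(z) ≤ N(R)`
  have hCN : C ≤ normalizer ((R : Subgroup G) : Set G) := by
    intro g hg
    rw [hC, Subgroup.mem_centralizer_singleton_iff] at hg
    have hiff := Sylow.smul_eq_iff_mem_normalizer (g := g) (P := R)
    refine hiff.mp ?_
    by_contra hne
    apply hz1
    apply hti (g • R) R hne z _ hzR
    rw [uc_mem_smul]
    have : g⁻¹ * z * g = z := by
      rw [mul_assoc, ← hg, inv_mul_cancel_left]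
    rw [this]
    exact hzR
  -- (4) divisibility
  have h9 : 9 ∣ Nat.card C := hcard3 R ▸ Subgroup.card_dvd_of_le hRC
  have h144 : Nat.card C ∣ 144 := B.h144 R ▸ Subgroup.card_dvd_of_le hCN
  -- (6) lower bound
  have hlow : 144 ≤ 9 * Nat.card C := by
    have h := l5_card_le (normalizer ((R : Subgroup G) : Set G)) (R : Subgroup G) z (by
      intro g hg
      exact (Subgroup.mem_normalizer_iff.mp hg z).mp hzR)
    rw [B.h144 R, hcard3 R] at h
    exact h
  -- (5) `4 ∤ |C(z)|`
  have h4 : ¬ 4 ∣ Nat.card C := by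
    intro h4
    have h4' : 2 ^ 2 ∣ Nat.card C := by norm_num; exact h4
    obtain ⟨T, hT⟩ := Sylow.exists_subgroup_card_pow_prime 2 h4'
    have hTcard : Nat.card T = 4 := by rw [hT]; norm_num
    have hTab : ∀ x y : T, x * y = y * x := by
      intro x y
      exact (IsPGroup.isMulCommutative_of_card_eq_prime_sq (p := 2) (G := T)
        (by rw [hTcard]; norm_num)).is_comm.comm x y
    obtain ⟨a', ha'⟩ := exists_prime_orderOf_dvd_card' (G := T) 2 (by rw [hTcard]; norm_num)
    have hlt : Subgroup.zpowers a' < (⊤ : Subgroup T) := by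
      apply lt_of_le_of_ne le_top
      intro h
      have h2 : Nat.card (Subgroup.zpowers a') = 2 := by rw [Nat.card_zpowers, ha']
      rw [h, Subgroup.card_top, hTcard] at h2
      omega
    obtain ⟨b', -, hb'z⟩ := SetLike.exists_of_lt hlt
    have hb'1 : b' ≠ 1 := fun h => hb'z (h ▸ Subgroup.one_mem _)
    have hb'a : b' ≠ a' := fun h => hb'z (h ▸ Subgroup.mem_zpowers a')
    have hb'4 : b' ^ 4 = 1 := by
      have := pow_card_eq_one' (G := T) (x := b')
      rwa [hTcard] at this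
    have hcomm' : a' * b' = b' * a' := hTab a' b'
    -- work inside the group `C`
    set P' : Subgroup C := (R : Subgroup G).subgroupOf C with hP'
    have hP'card : Nat.card P' = 9 := by
      rw [hP', Nat.card_congr (Subgroup.subgroupOfEquivOfLe hRC).toEquiv, hcard3 R]
    have hCP' : ∀ g ∈ Cfsg.Agent.Helper74.M11.CenS P', g ∈ P' := by
      intro g hg
      rw [hP', Subgroup.mem_subgroupOf]
      apply hcent R
      rw [Subgroup.mem_centralizer_iff]
      intro x hx
      have h1 := Subgroup.mem_centralizer_iff.mp hg ⟨x, hRC hx⟩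
        (by rw [SetLike.mem_coe, hP', Subgroup.mem_subgroupOf]; exact hx)
      exact congrArg Subtype.val h1
    have hnorm : ∀ g : C, g ∈ Cfsg.Agent.Helper74.M11.NorS P' := by
      intro g
      rw [Subgroup.mem_normalizer_iff]
      intro x
      rw [hP', Subgroup.mem_subgroupOf, Subgroup.mem_subgroupOf]
      exact Subgroup.mem_normalizer_iff.mp (hCN g.2) x.1
    obtain ⟨w, -, hw⟩ := Cfsg.Agent.Helper42.M11.q2_exists_inverting P' hP'card hCP'
      (a' : C) (b' : C) (by rw [Subgroup.orderOf_coe, ha']) (hnorm _) (hnorm _)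
      (by have := congrArg Subtype.val hcomm'; simpa using this)
      (by have := congrArg Subtype.val hb'4; simpa using this)
      (fun h => hb'1 (Subtype.ext h)) (fun h => hb'a (Subtype.ext h))
    have hzC : z ∈ C := hRC hzR
    have h1 := hw ⟨z, hzC⟩ (by rw [hP', Subgroup.mem_subgroupOf]; exact hzR)
    have h2 : (w : G) * z * (w : G)⁻¹ = z⁻¹ := by
      have := congrArg Subtype.val h1
      simpa using this
    have h3 : (w : G) * z = z * (w : G) := Subgroup.mem_centralizer_singleton_iff.mp w.2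
    rw [h3, mul_inv_cancel_right] at h2
    -- `z = z⁻¹` contradicts order 3
    have h5 : z ^ 2 = 1 := by
      rw [pow_two]
      nth_rewrite 1 [h2]
      exact inv_mul_cancel z
    have := orderOf_dvd_of_pow_eq_one h5
    rw [hz] at this
    omega
  -- conclusion
  obtain ⟨c, hc⟩ := h9
  have hle : Nat.card C ≤ 144 := Nat.le_of_dvd (by norm_num) h144
  rw [hc] at h144 hlow h4 hle ⊢
  have hc16 : c ≤ 16 := by omega
  have hc2 : 2 ≤ c := by omega
  interval_cases c <;> first | rfl | (exfalso; omega)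

end Cfsg.Agent.Helper42.M11U
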