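import Mathlib
import Cfsg.Agent.Lib.Helper7.M11LADefs
import Cfsg.Agent.Lib.Helper42.M11LAK2

/-!
# M11LA piece (K4b) (helper7 server, S0435): `np_card`

In a simple group of order 7920 with `n₅ · f = 1584`, `f ≤ 14`: `|N(P)| = 20` for a Sylow 5-subgroup `P`.
-/

set_option autoImplicit false

namespace Cfsg.Agent.Helper42.M11LA

open Subgroup Cfsg.Agent.Helper7.M11LA

variable {G : Type*} [Group G] [Finite G]

/-- the order of a Sylow 5-subgroup of a group of order 7920. -/
theorem k4b_card_sylow5 (hord : Nat.card G = 7920) (P : Sylow 5 G) :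
    Nat.card (P : Subgroup G) = 5 := by
  have : Fact (Nat.Prime 5) := ⟨by norm_num⟩
  rw [Sylow.card_eq_multiplicity, hord]
  have : (7920 : ℕ).factorization 5 = 1 := by
    have h1 : (7920 : ℕ) = 5 ^ 1 * 1584 := by norm_num
    rw [h1, Nat.factorization_mul (by norm_num) (by norm_num)]
    simp only [Finsupp.coe_add, Pi.add_apply]
    rw [Nat.Prime.factorization_pow (by norm_num)]
    have : (1584 : ℕ).factorization 5 = 0 := Nat.factorization_eq_zero_of_not_dvd (by norm_num)
    simp [this]
  rw [this, pow_one]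

/-- arithmetic: `n ≡ 1 (mod 5)`, `n · f = 1584`, `f ≤ 14` force `n = 176` or `n = 396`. -/
theorem k4b_arith (n f : ℕ) (h : n * f = 1584) (hf : f ≤ 14) (hmod : n % 5 = 1) :
    n = 176 ∨ n = 396 := by
  have hf0 : f ≠ 0 := by
    rintro rfl
    simp at h
  have hf1 : 1 ≤ f := Nat.one_le_iff_ne_zero.mpr hf0
  interval_cases f <;> omega

/-- (K4b) `|N(P)| = 20`. -/
theorem np_card [IsSimpleGroup G] (hord : Nat.card G = 7920) (P : Sylow 5 G)
    (hphi : ∃ f : ℕ, Nat.card (Sylow 5 G) * f = 1584 ∧ f ≤ 14) :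
    Nat.card (normalizer ((P : Subgroup G) : Set G)) = 20 := by
  have : Fact (Nat.Prime 5) := ⟨by norm_num⟩
  obtain ⟨f, hf, hf14⟩ := hphi
  have hP := k4b_card_sylow5 hord P
  have hmod : Nat.card (Sylow 5 G) % 5 = 1 := by
    have := card_sylow_modEq_one 5 G
    exact this
  have h1 : Nat.card (Sylow 5 G) = (normalizer ((P : Subgroup G) : Set G)).index :=
    Sylow.card_eq_index_normalizer P
  have h2 := Subgroup.card_mul_index (normalizer ((P : Subgroup G) : Set G))
  rw [← h1, hord] at h2
  rcases k4b_arith _ f hf hf14 hmod with h176 | h396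
  · exfalso
    rw [h176] at h2
    have hN : Nat.card (normalizer ((P : Subgroup G) : Set G)) = 45 := by omega
    obtain ⟨r, hr, hNr⟩ := k2_card_normalizer_eq_mul 5 (by norm_num) (P : Subgroup G) hP
    rw [hN] at hNr
    have hr4 : r ∣ 4 := hr
    have hr45 : r ∣ 45 := ⟨_, by rw [hNr, mul_comm]⟩
    have hr1 : r = 1 := by
      have := Nat.dvd_gcd hr4 hr45
      norm_num at this
      exact this
    subst hr1
    apply k2_false_of_card_eq P (by rw [hP]; norm_num) (by rw [hP, hord]; norm_num)
    rw [hN]; omega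
  · rw [h396] at h2
    omega

end Cfsg.Agent.Helper42.M11LA
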