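import Mathlib

/-! ORD7920 piece (Dz) for helper83's S2490 server: a central involution of the normalizer of a
subgroup of order 11 whose normalizer has order `2 ^ a * 11` and whose centralizer has even order. -/

namespace Cfsg.Agent.Helper42.Ord7920

/-- conjugating an element of the centralizer by an element of the normalizer stays in the
centralizer. -/
theorem conj_mem_centralizer_of_mem_normalizer {G : Type*} [Group G] (P : Subgroup G) {r c : G}
    (hr : r ∈ Subgroup.normalizer (P : Set G)) (hc : c ∈ Subgroup.centralizer (P : Set G)) :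
    r * c * r⁻¹ ∈ Subgroup.centralizer (P : Set G) := by
  rw [Subgroup.mem_centralizer_iff] at hc ⊢
  intro p hp
  have hp' : r⁻¹ * p * r ∈ P := by
    have h1 : r⁻¹ ∈ Subgroup.normalizer (P : Set G) := inv_mem hr
    rw [Subgroup.mem_normalizer_iff] at h1
    have := (h1 p).1 hp
    simpa using this
  have h2 := hc (r⁻¹ * p * r) hp'
  calc p * (r * c * r⁻¹) = r * ((r⁻¹ * p * r) * c) * r⁻¹ := by group
    _ = r * (c * (r⁻¹ * p * r)) * r⁻¹ := by rw [h2]
    _ = r * c * r⁻¹ * p := by group

/-- (Dz) a central involution of the normalizer. -/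
theorem exists_central_involution {G : Type*} [Group G] [Finite G] (P : Subgroup G)
    (hP : Nat.card P = 11) {a : ℕ} (h2 : Nat.card (Subgroup.normalizer (P : Set G)) = 2 ^ a * 11)
    (hC : Even (Nat.card (Subgroup.centralizer (P : Set G)))) :
    ∃ z : G, orderOf z = 2 ∧ z ∈ Subgroup.centralizer (P : Set G) ∧
      ∀ n ∈ Subgroup.normalizer (P : Set G), n * z = z * n := by
  classical
  have : Fact (Nat.Prime 2) := ⟨Nat.prime_two⟩
  -- a Sylow 2-subgroup of the normalizer, pushed to `G`
  obtain ⟨R⟩ : Nonempty (Sylow 2 (Subgroup.normalizer (P : Set G))) := inferInstance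
  have hRcard : Nat.card R = 2 ^ a := by
    rw [Sylow.card_eq_multiplicity, h2]
    congr 1
    rw [Nat.factorization_mul (by positivity) (by norm_num), Nat.factorization_pow]
    have h11 : (11 : ℕ).factorization 2 = 0 := by
      apply Nat.factorization_eq_zero_of_not_dvd; norm_num
    simp [h11, Nat.Prime.factorization_self Nat.prime_two]
  set R' : Subgroup G := (R : Subgroup (Subgroup.normalizer (P : Set G))).map
    (Subgroup.normalizer (P : Set G)).subtype with hR'
  have hR'N : R' ≤ Subgroup.normalizer (P : Set G) := by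
    rintro _ ⟨x, -, rfl⟩
    exact x.2
  have hR'card : Nat.card R' = 2 ^ a := by
    rw [hR', Subgroup.card_map_of_injective (Subgroup.subtype_injective _)]
    exact hRcard
  have hR'p : IsPGroup 2 R' := IsPGroup.of_card hR'card
  -- the conjugation action of `R'` on the centralizer
  let act : MulAction R' (Subgroup.centralizer (P : Set G)) :=
    { smul := fun r c => ⟨(r : G) * c * (r : G)⁻¹,
        conj_mem_centralizer_of_mem_normalizer P (hR'N r.2) c.2⟩
      one_smul := fun c => by
        apply Subtype.ext
        show ((1 : R') : G) * c * ((1 : R') : G)⁻¹ = c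
        simp
      mul_smul := fun r s c => by
        apply Subtype.ext
        show ((r * s : R') : G) * c * ((r * s : R') : G)⁻¹ = (r : G) * ((s : G) * c * (s : G)⁻¹) * (r : G)⁻¹
        simp only [Subgroup.coe_mul, mul_inv_rev, mul_assoc] }
  have hsmul : ∀ (r : R') (c : Subgroup.centralizer (P : Set G)),
      ((r • c : Subgroup.centralizer (P : Set G)) : G) = (r : G) * c * (r : G)⁻¹ := fun _ _ => rfl
  have hmod := hR'p.card_modEq_card_fixedPoints (Subgroup.centralizer (P : Set G))
  -- the fixed points form the subgroup `D`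
  set D : Subgroup G := Subgroup.centralizer (P : Set G) ⊓ Subgroup.centralizer (R' : Set G) with hD
  have hcardD : Nat.card D =
      Nat.card (MulAction.fixedPoints R' (Subgroup.centralizer (P : Set G))) := by
    refine Nat.card_congr
      { toFun := fun d => ⟨⟨d.1, d.2.1⟩, fun r => ?_⟩
        invFun := fun x => ⟨x.1.1, ⟨x.1.2, ?_⟩⟩
        left_inv := fun d => rfl
        right_inv := fun x => rfl }
    · apply Subtype.ext
      rw [hsmul]
      have h : (d : G) ∈ Subgroup.centralizer (R' : Set G) := d.2.2
      rw [Subgroup.mem_centralizer_iff] at h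
      have := h (r : G) r.2
      show (r : G) * (d : G) * (r : G)⁻¹ = (d : G)
      rw [this, mul_inv_cancel_right]
    · show (x.1 : G) ∈ Subgroup.centralizer (R' : Set G)
      rw [Subgroup.mem_centralizer_iff]
      intro r hr
      have := x.2 ⟨r, hr⟩
      have h3 := congrArg (fun c : Subgroup.centralizer (P : Set G) => (c : G)) this
      simp only [hsmul] at h3
      calc r * (x.1 : G) = (r * (x.1 : G) * r⁻¹) * r := by group
        _ = (x.1 : G) * r := by rw [h3]
  have hDeven : 2 ∣ Nat.card D := by
    rw [hcardD]
    have h1 : 2 ∣ Nat.card (Subgroup.centralizer (P : Set G)) := hC.two_dvd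
    exact (Nat.modEq_zero_iff_dvd.mp ((hmod.symm.trans (Nat.modEq_zero_iff_dvd.mpr h1))))
  obtain ⟨z, hz⟩ := exists_prime_orderOf_dvd_card' 2 hDeven
  refine ⟨(z : G), ?_, z.2.1, ?_⟩
  · rw [Subgroup.orderOf_coe]; exact hz
  · -- `N = P ⊔ R'` and both centralize `z`
    have hPN : P ≤ Subgroup.normalizer (P : Set G) := Subgroup.le_normalizer
    have hsup : P ⊔ R' = Subgroup.normalizer (P : Set G) := by
      apply Subgroup.eq_of_le_of_card_ge (sup_le hPN hR'N)
      have h11 : 11 ∣ Nat.card (P ⊔ R' : Subgroup G) := by
        rw [← hP]; exact Subgroup.card_dvd_of_le le_sup_left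
      have h2a : 2 ^ a ∣ Nat.card (P ⊔ R' : Subgroup G) := by
        rw [← hR'card]; exact Subgroup.card_dvd_of_le le_sup_right
      have hcop : Nat.Coprime (2 ^ a) 11 := Nat.Coprime.pow_left _ (by norm_num)
      have hdvd := hcop.mul_dvd_of_dvd_of_dvd h2a h11
      rw [h2]
      exact Nat.le_of_dvd Nat.card_pos hdvd
    have hle : P ⊔ R' ≤ Subgroup.centralizer ({(z : G)} : Set G) := by
      apply sup_le
      · intro p hp
        rw [Subgroup.mem_centralizer_iff]
        intro y hy
        rw [Set.mem_singleton_iff] at hy
        subst hy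
        have h : (z : G) ∈ Subgroup.centralizer (P : Set G) := z.2.1
        rw [Subgroup.mem_centralizer_iff] at h
        exact (h p hp).symm
      · intro r hr
        rw [Subgroup.mem_centralizer_iff]
        intro y hy
        rw [Set.mem_singleton_iff] at hy
        subst hy
        have h : (z : G) ∈ Subgroup.centralizer (R' : Set G) := z.2.2
        rw [Subgroup.mem_centralizer_iff] at h
        exact (h r hr).symm
    intro n hn
    have hn' : n ∈ Subgroup.centralizer ({(z : G)} : Set G) := hle (hsup ▸ hn)
    rw [Subgroup.mem_centralizer_iff] at hn'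
    exact (hn' z rfl).symm

end Cfsg.Agent.Helper42.Ord7920
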