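import Mathlib
import Cfsg.Agent.Lib.Helper31.G2Defs
import Cfsg.Agent.Lib.Helper20.SGKEYLemmas

/-!
# G2 server (helper31, S3795): piece (KEYNIL), part a: the subgroup `[M, τ]`

`knK τ := closure {m⁻¹ τ(m)}` is normal, invariant under every automorphism commuting with `τ`, and when
`τ² = 1` and `X` is a `τ`-invariant subgroup of odd order, every `m⁻¹ τ(m) ∈ X` is `k⁻¹ τ(k)` with `k ∈ X`.
-/

set_option autoImplicit false

namespace Cfsg.Agent.Helper42.G2

open Subgroup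

variable {M : Type*} [Group M]

/-- `[M, τ]` -/
def knK (τ : MulAut M) : Subgroup M := closure {c : M | ∃ m : M, c = m⁻¹ * τ m}

theorem kn_gen_mem (τ : MulAut M) (m : M) : m⁻¹ * τ m ∈ knK τ :=
  subset_closure ⟨m, rfl⟩

theorem kn_conj (τ : MulAut M) (m g : M) :
    g * (m⁻¹ * τ m) * g⁻¹ =
      ((m * g⁻¹)⁻¹ * τ (m * g⁻¹)) * ((g⁻¹)⁻¹ * τ g⁻¹)⁻¹ := by
  simp only [map_mul, map_inv]; group

instance knK_normal (τ : MulAut M) : (knK τ).Normal := by
  refine ⟨fun y hy g => ?_⟩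
  induction hy using closure_induction with
  | mem c hc =>
    obtain ⟨m, rfl⟩ := hc
    rw [kn_conj]
    exact (knK τ).mul_mem (kn_gen_mem τ _) ((knK τ).inv_mem (kn_gen_mem τ _))
  | one => simp
  | mul a b _ _ ha hb =>
    have : g * (a * b) * g⁻¹ = (g * a * g⁻¹) * (g * b * g⁻¹) := by group
    rw [this]; exact (knK τ).mul_mem ha hb
  | inv a _ ha =>
    have : g * a⁻¹ * g⁻¹ = (g * a * g⁻¹)⁻¹ := by group
    rw [this]; exact (knK τ).inv_mem ha

theorem knK_invariant (σ τ : MulAut M) (hcomm : ∀ m : M, σ (τ m) = τ (σ m)) :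
    ∀ y ∈ knK τ, σ y ∈ knK τ := by
  intro y hy
  induction hy using closure_induction with
  | mem c hc =>
    obtain ⟨m, rfl⟩ := hc
    rw [map_mul, map_inv, hcomm]
    exact kn_gen_mem τ _
  | one => rw [map_one]; exact (knK τ).one_mem
  | mul a b _ _ ha hb => rw [map_mul]; exact (knK τ).mul_mem ha hb
  | inv a _ ha => rw [map_inv]; exact (knK τ).inv_mem ha

theorem knK_le (τ : MulAut M) (N : Subgroup M) (h : ∀ m : M, m⁻¹ * τ m ∈ N) : knK τ ≤ N := by
  rw [knK, closure_le]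
  rintro c ⟨m, rfl⟩
  exact h m

/-- an involutory automorphism has a fixed point on every invariant coset of an invariant subgroup of odd
order: `m⁻¹ τ(m) ∈ X` is `k⁻¹ τ(k)` for some `k ∈ X`. -/
theorem kn_exists (τ : MulAut M) (hτ2 : ∀ m : M, τ (τ m) = m) (X : Subgroup M) [Finite X]
    (hXodd : ¬ 2 ∣ Nat.card X) (hXτ : ∀ y ∈ X, τ y ∈ X) (m : M) (hm : m⁻¹ * τ m ∈ X) :
    ∃ k ∈ X, m⁻¹ * τ m = k⁻¹ * τ k := by
  classical
  have hp2 : Fact (Nat.Prime 2) := ⟨Nat.prime_two⟩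
  let f : X → X := fun r => ⟨(m⁻¹ * τ m) * τ r, X.mul_mem hm (hXτ r r.2)⟩
  have hf : Function.Involutive f := by
    intro r
    apply Subtype.ext
    show (m⁻¹ * τ m) * τ ((m⁻¹ * τ m) * τ r) = r
    rw [map_mul, map_mul, map_inv, hτ2, hτ2]
    group
  let _ : Fintype X := Fintype.ofFinite X
  have hcard : ¬ 2 ∣ Fintype.card X := by rwa [← Nat.card_eq_fintype_card]
  have hpow : (hf.toPerm f) ^ 2 ^ 1 = 1 := by
    ext r
    rw [pow_one, pow_two, Equiv.Perm.mul_apply, Function.Involutive.coe_toPerm, hf r]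
    rfl
  obtain ⟨r, hr⟩ := Equiv.Perm.exists_fixed_point_of_prime (p := 2) (n := 1) hcard hpow
  have hr' : (m⁻¹ * τ m) * τ (r : M) = r := congrArg Subtype.val hr
  refine ⟨(r : M)⁻¹, X.inv_mem r.2, ?_⟩
  rw [map_inv, inv_inv]
  exact eq_mul_inv_of_mul_eq hr'

end Cfsg.Agent.Helper42.G2
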