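import Mathlib
import Cfsg.Agent.Lib.Helper31.G2Defs
import Cfsg.Agent.Lib.Helper20.SGKEYLemmas
import Cfsg.Agent.Lib.Helper42.G2KEYNILa

/-!
# G2 server (helper31, S3795): piece (KEYNIL), part b: the faithful step of (KEY2), with the nilpotency
criterion (NILCRIT) as a hypothesis `NilCritStmt`.
-/

set_option autoImplicit false

namespace Cfsg.Agent.Helper42.G2

open Subgroup Cfsg.Agent.Helper31.G2 Cfsg.Agent.Helper52 Cfsg.Agent.Helper20.SG

universe u

/-- the statement of piece (NILCRIT) of the G2 server, as a proposition. -/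
def NilCritStmt.{v} : Prop :=
  ∀ {K : Type v} [Group K] [Finite K], Odd (Nat.card K) → ∀ (t : MulAut K),
    t ^ 2 = 1 → ∀ (L : Subgroup K) [L.Normal], (∀ g ∈ L, t g ∈ L) →
    Group.IsNilpotent L → (∃ k : ℕ, (⊤ : Subgroup K).lowerCentralSeries k ≤ L) →
    Subgroup.closure {c : K | ∃ k : K, c = k⁻¹ * t k} = ⊤ →
    (∀ q : ℕ, q.Prime → ∃ P : Subgroup K, IsPGroup q P ∧
      (∀ P' : Subgroup K, IsPGroup q P' → P ≤ P' → P' = P) ∧ (∀ g ∈ P, t g ∈ P) ∧
      ∀ g ∈ P, ∀ (s e : ℕ), s.Prime → s ≠ q → ∀ a ∈ L, a ^ s ^ e = 1 →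
        (g⁻¹ * t g) * a = a * (g⁻¹ * t g)) →
    Group.IsNilpotent K

/-- an element of `2`-power order in a group of odd order is trivial. -/
theorem kn_eq_one_of_two_pow {M : Type*} [Group M] [Finite M] (h2 : ¬ 2 ∣ Nat.card M) (a : M) (e : ℕ)
    (ha : a ^ 2 ^ e = 1) : a = 1 := by
  have h1 : orderOf a ∣ 2 ^ e := orderOf_dvd_of_pow_eq_one ha
  have h3 : orderOf a ∣ Nat.card M := orderOf_dvd_natCard a
  have hcop : Nat.Coprime (2 ^ e) (Nat.card M) :=
    Nat.Coprime.pow_left e ((Nat.Prime.coprime_iff_not_dvd Nat.prime_two).mpr h2)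
  have h4 : orderOf a = 1 := Nat.eq_one_of_dvd_coprimes hcop h1 h3
  exact orderOf_eq_one_iff.mp h4

/-- (KEYNIL) with (NILCRIT) as a hypothesis. -/
theorem g2_key_nil_of (NIL : NilCritStmt.{u}) (TOW : TowerStmt.{u}) {M V : Type u} [Group M]
    [Finite M] [Group V] [Finite V] [Nontrivial V]
    (hV : ∀ a b : V, a * b = b * a) (r : ℕ) (hr : r.Prime) (hexp : ∀ v : V, v ^ r = 1)
    (act : M →* MulAut V) (hinj : Function.Injective act) (σM : MulAut M) (x : MulAut V) (n : ℕ)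
    (hσ : σM ^ 2 ^ (n + 1) = 1) (hx : x ^ 2 ^ (n + 1) = 1)
    (hcompat : ∀ m : M, x * act m = act (σM m) * x)
    (hfM : ∀ m : M, σM m = m → m = 1) (hfV : ∀ v : V, x v = v → v = 1)
    (hmin : ∀ W : Subgroup V, (∀ m : M, ∀ w ∈ W, act m w ∈ W) → (∀ w ∈ W, x w ∈ W) →
      W ≠ ⊥ → W = ⊤)
    (L N : Subgroup M) (hLN : L ≤ N) (hLn : L.Normal) (hNn : N.Normal)
    (hLσ : ∀ m ∈ L, σM m ∈ L) (hNσ : ∀ m ∈ N, σM m ∈ N) (hLnil : Group.IsNilpotent L)
    (hNL : ∃ k : ℕ, N.lowerCentralSeries k ≤ L)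
    (hc : ∀ m : M, m⁻¹ * (σM ^ 2 ^ n) m ∈ N) :
    ∃ X : Subgroup M, X.Normal ∧ (∀ m ∈ X, σM m ∈ X) ∧ Group.IsNilpotent X ∧
      ∀ m : M, m⁻¹ * (σM ^ 2 ^ n) m ∈ X := by
  classical
  have hrF : Fact r.Prime := ⟨hr⟩
  set τ : MulAut M := σM ^ 2 ^ n with hτdef
  have hτ2' : τ ^ 2 = 1 := by
    rw [hτdef, ← pow_mul, ← pow_succ]; exact hσ
  have hτ2 : ∀ m : M, τ (τ m) = m := by
    intro m
    have := congrArg (fun f : MulAut M => f m) hτ2'
    simpa [pow_two, MulAut.mul_apply] using this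
  have hcomm : ∀ m : M, σM (τ m) = τ (σM m) := by
    intro m
    have h1 : σM * τ = τ * σM := by
      rw [hτdef]; exact (pow_mul_comm' σM (2 ^ n)).symm
    have := congrArg (fun f : MulAut M => f m) h1
    simpa [MulAut.mul_apply] using this
  have hτinv : ∀ H : Subgroup M, (∀ m ∈ H, σM m ∈ H) → ∀ m ∈ H, τ m ∈ H := by
    intro H hH m hm
    rw [hτdef, mulAut_pow_apply]
    exact iterate_mem (φ := (σM : M ≃* M)) hH _ m hm
  set X := knK τ with hX
  have hXn : X.Normal := knK_normal τ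
  have hXσ : ∀ y ∈ X, σM y ∈ X := knK_invariant σM τ hcomm
  have hXτ : ∀ y ∈ X, τ y ∈ X := knK_invariant τ τ (fun m => rfl)
  have hXN : X ≤ N := knK_le τ N hc
  refine ⟨X, hXn, hXσ, ?_, fun m => kn_gen_mem τ m⟩
  -- oddness
  have h2M : ¬ 2 ∣ Nat.card M := not_dvd_card_of_fpf_ppow Nat.prime_two σM (n + 1) hσ hfM
  have h2V : ¬ 2 ∣ Nat.card V := not_dvd_card_of_fpf_ppow Nat.prime_two x (n + 1) hx hfV
  have h2X : ¬ 2 ∣ Nat.card X := fun h => h2M (h.trans (Subgroup.card_subgroup_dvd_card X))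
  have hr2 : r ≠ 2 := by
    rintro rfl
    obtain ⟨v, hv⟩ := exists_ne (1 : V)
    have h1 : orderOf v = 2 := orderOf_eq_prime (hexp v) hv
    exact h2V (h1 ▸ orderOf_dvd_natCard v)
  have hVr : IsPGroup r V := fun v => ⟨1, by rw [pow_one]; exact hexp v⟩
  -- conjugation by powers of `x`
  have hconj : ∀ y : M, x * act y * x⁻¹ = act (σM y) := by
    intro y
    rw [hcompat, mul_inv_cancel_right]
  have hconjpow : ∀ (k : ℕ) (y : M), x ^ k * act y * (x ^ k)⁻¹ = act ((σM ^ k) y) := by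
    intro k
    induction k with
    | zero => intro y; simp
    | succ k ih =>
      intro y
      have : x ^ (k + 1) * act y * (x ^ (k + 1))⁻¹ = x * (x ^ k * act y * (x ^ k)⁻¹) * x⁻¹ := by
        rw [pow_succ']; group
      rw [this, ih, hconj, pow_succ' σM, MulAut.mul_apply]
  have hcompatv : ∀ (m : M) (v : V), x (act m v) = act (σM m) (x v) := by
    intro m v
    have := congrArg (fun f : MulAut V => f v) (hcompat m)
    simpa [MulAut.mul_apply] using this
  -- restricted automorphisms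
  let σK : X ≃* X := restrictEquiv (σM : M ≃* M) X hXσ
  let t : MulAut X := restrictEquiv (τ : M ≃* M) X hXτ
  have ht_apply : ∀ k : X, ((t k : X) : M) = τ k := fun k => rfl
  have hσK_apply : ∀ k : X, ((σK k : X) : M) = σM k := fun k => rfl
  have ht2 : t ^ 2 = 1 := by
    rw [mulAut_pow_eq_one_iff]
    apply restrictEquiv_iterate_eq_id
    funext m
    show τ (τ m) = m
    exact hτ2 m
  have hσKfpf : MonoidHom.FixedPointFree ((σK : X ≃* X) : X →* X) :=
    restrictEquiv_fpf (σM : M ≃* M) hfM X hXσ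
  have hoddX : Odd (Nat.card X) := Nat.odd_iff.mpr (by omega)
  -- the subgroup `L' = L ∩ X` of `X`
  set L' : Subgroup X := L.subgroupOf X with hL'
  have hL'n : L'.Normal := hLn.subgroupOf X
  have hL't : ∀ g ∈ L', t g ∈ L' := by
    intro g hg
    rw [hL', mem_subgroupOf] at hg ⊢
    rw [ht_apply]
    exact hτinv L hLσ _ hg
  have hL'nil : Group.IsNilpotent L' := by
    let f : L' →* L := (X.subtype.comp L'.subtype).codRestrict L (fun y => y.2)
    have hfinj : Function.Injective f := by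
      intro a b hab
      have h1 : ((a : X) : M) = ((b : X) : M) := congrArg (fun z : L => (z : M)) hab
      exact Subtype.ext (Subtype.ext h1)
    have hker : f.ker ≤ Subgroup.center L' := by
      rw [(MonoidHom.ker_eq_bot_iff f).mpr hfinj]
      exact bot_le
    exact Subgroup.isNilpotent_of_ker_le_center f hker
  have hKL' : ∃ k : ℕ, (⊤ : Subgroup X).lowerCentralSeries k ≤ L' := by
    obtain ⟨k, hk⟩ := hNL
    refine ⟨k, fun y hy => ?_⟩
    rw [hL', mem_subgroupOf]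
    apply hk
    have h1 : X.lowerCentralSeries k ≤ N.lowerCentralSeries k :=
      Subgroup.lowerCentralSeries_mono k hXN
    apply h1
    rw [← top_subtype_lowerCentralSeries X k]
    exact ⟨y, hy, rfl⟩
  have hgen' : Subgroup.closure {c : X | ∃ k : X, c = k⁻¹ * t k} = ⊤ := by
    apply Subgroup.map_injective X.subtype_injective
    rw [MonoidHom.map_closure, ← MonoidHom.range_eq_map, Subgroup.range_subtype]
    apply le_antisymm
    · rw [closure_le]
      rintro _ ⟨c, ⟨k, rfl⟩, rfl⟩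
      exact (k⁻¹ * t k).2
    · show knK τ ≤ _
      rw [knK, closure_le]
      rintro _ ⟨m, rfl⟩
      obtain ⟨k, hk, hmk⟩ := kn_exists τ hτ2 X h2X hXτ m (kn_gen_mem τ m)
      apply Subgroup.subset_closure
      refine ⟨(⟨k, hk⟩ : X)⁻¹ * t ⟨k, hk⟩, ⟨⟨k, hk⟩, rfl⟩, ?_⟩
      rw [hmk]
      rfl
  -- the nilpotency criterion
  refine NIL hoddX t ht2 L' hL't hL'nil hKL' hgen' ?_
  intro q hq
  have hqF : Fact q.Prime := ⟨hq⟩
  obtain ⟨P, hP⟩ := exists_fpf_invariant_sylow σK hσKfpf q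
  have hPt : ∀ g ∈ (P : Subgroup X), t g ∈ (P : Subgroup X) := by
    intro g hg
    have h1 : t g = (⇑σK)^[2 ^ n] g := by
      apply Subtype.ext
      rw [ht_apply, restrictEquiv_iterate, hτdef, mulAut_pow_apply]
    rw [h1]
    exact iterate_mem (φ := σK) hP _ g hg
  refine ⟨(P : Subgroup X), P.isPGroup', fun P' hP' hle => P.is_maximal' hP' hle, hPt, ?_⟩
  intro g hg s e hs hsq a ha hae
  have hsF : Fact s.Prime := ⟨hs⟩
  apply Subtype.ext
  show ((g : M)⁻¹ * τ (g : M)) * (a : M) = (a : M) * ((g : M)⁻¹ * τ (g : M))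
  have haeM : (a : M) ^ s ^ e = 1 := by
    have := congrArg Subtype.val hae
    simpa using this
  have haL : (a : M) ∈ L := by
    rw [hL', mem_subgroupOf] at ha
    exact ha
  -- trivial cases
  by_cases hs2 : s = 2
  · subst hs2
    rw [kn_eq_one_of_two_pow h2M (a : M) e haeM, mul_one, one_mul]
  by_cases hq2 : q = 2
  · subst hq2
    obtain ⟨k, hk⟩ := P.isPGroup' ⟨g, hg⟩
    have hkM : (g : M) ^ 2 ^ k = 1 := by
      have := congrArg (fun z : (P : Subgroup X) => ((z : X) : M)) hk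
      simpa using this
    rw [kn_eq_one_of_two_pow h2M (g : M) k hkM]
    simp
  -- the Sylow `s`-subgroup of `X ⊓ L`
  set LK : Subgroup M := X ⊓ L with hLK
  have hLKn : LK.Normal := Subgroup.normal_inf_normal X L
  have hLKσ : ∀ y ∈ LK, σM y ∈ LK := fun y hy => ⟨hXσ y hy.1, hLσ y hy.2⟩
  have hLKnil : Group.IsNilpotent LK := by
    obtain ⟨k, hk⟩ := (isNilpotent_iff_lowerCentralSeries L).mp hLnil
    apply isNilpotent_of_lowerCentralSeries_eq_bot (n := k)
    rw [eq_bot_iff, ← hk]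
    exact Subgroup.lowerCentralSeries_mono k inf_le_right
  obtain ⟨Qs⟩ : Nonempty (Sylow s LK) := inferInstance
  have hchar := mem_map_sylow_iff_of_isNilpotent LK s Qs
  set S := (Qs : Subgroup LK).map LK.subtype with hS
  have hSσ : ∀ y ∈ S, σM y ∈ S := by
    intro y hy
    obtain ⟨hyN, k, hk⟩ := (hchar y).mp hy
    exact (hchar _).mpr ⟨hLKσ y hyN, k, by rw [← map_pow, hk, map_one]⟩
  have hSconj : ∀ (z : M), ∀ y ∈ S, z * y * z⁻¹ ∈ S := by
    intro z y hy
    obtain ⟨hyN, k, hk⟩ := (hchar y).mp hy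
    exact (hchar _).mpr ⟨hLKn.conj_mem y hyN z, k, by
      rw [conj_pow, hk, mul_one, mul_inv_cancel]⟩
  have hSs : IsPGroup s S := Qs.isPGroup'.map _
  have haS : (a : M) ∈ S := (hchar _).mpr ⟨⟨a.2, haL⟩, e, haeM⟩
  have hSmap : S.map ((σM : M ≃* M) : M →* M) = S := map_eq_of_invariant σM S hSσ
  by_cases hsr : s = r
  · -- `S` is trivial
    have hSr : IsPGroup r S := hsr ▸ hSs
    let W : Subgroup V :=
      { carrier := {v | ∀ y ∈ S, act y v = v}
        one_mem' := fun y _ => map_one _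
        mul_mem' := by
          intro a b ha hb y hy
          rw [map_mul, ha y hy, hb y hy]
        inv_mem' := by
          intro a ha y hy
          rw [map_inv, ha y hy] }
    have hWM : ∀ z : M, ∀ w ∈ W, act z w ∈ W := by
      intro z w hw y hy
      have h1 : z⁻¹ * y * z⁻¹⁻¹ ∈ S := hSconj z⁻¹ y hy
      have h2 := hw _ h1
      have h3 : y * z = z * (z⁻¹ * y * z⁻¹⁻¹) := by group
      calc act y (act z w) = act (y * z) w := by rw [map_mul, MulAut.mul_apply]
        _ = act z (act (z⁻¹ * y * z⁻¹⁻¹) w) := by rw [h3, map_mul, MulAut.mul_apply]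
        _ = act z w := by rw [h2]
    have hWt : ∀ w ∈ W, x w ∈ W := by
      intro w hw y hy
      have hy' : y ∈ S.map ((σM : M ≃* M) : M →* M) := by rw [hSmap]; exact hy
      obtain ⟨y', hy'S, rfl⟩ := hy'
      show act (σM y') (x w) = x w
      rw [← hcompatv, hw y' hy'S]
    have hWne : W ≠ ⊥ := by
      obtain ⟨v, hv1, hv⟩ := exists_fixed_ne_one hVr S hSr act
      intro hcon
      apply hv1
      have : v ∈ W := hv
      rw [hcon, mem_bot] at this
      exact this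
    have hWtop := hmin W hWM hWt hWne
    have h1 : act (a : M) = 1 := by
      ext v
      have hv : v ∈ W := by rw [hWtop]; exact mem_top v
      rw [hv _ haS]
      rfl
    have h2 : (a : M) = 1 := hinj (by rw [h1, map_one])
    rw [h2, mul_one, one_mul]
  · -- the three-level statement
    set P' : Subgroup M := (P : Subgroup X).map X.subtype with hP'
    have hgP' : (g : M) ∈ P' := ⟨g, hg, rfl⟩
    have hP'q : IsPGroup q P' := P.isPGroup'.map _
    have hP'σ : ∀ y ∈ P', σM y ∈ P' := by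
      rintro _ ⟨p, hp, rfl⟩
      exact ⟨σK p, hP p hp, rfl⟩
    have hQS : ∀ g' ∈ P'.map act, ∀ a' ∈ S.map act, g' * a' * g'⁻¹ ∈ S.map act := by
      rintro _ ⟨p, -, rfl⟩ _ ⟨y, hy, rfl⟩
      exact ⟨p * y * p⁻¹, hSconj p y hy, by rw [map_mul, map_mul, map_inv]⟩
    have hxS : ∀ a' ∈ S.map act, x * a' * x⁻¹ ∈ S.map act := by
      rintro _ ⟨y, hy, rfl⟩
      exact ⟨σM y, hSσ y hy, (hconj y).symm⟩
    have hxQ : ∀ g' ∈ P'.map act, x * g' * x⁻¹ ∈ P'.map act := by
      rintro _ ⟨y, hy, rfl⟩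
      exact ⟨σM y, hP'σ y hy, (hconj y).symm⟩
    have hfS : ∀ a' ∈ S.map act, x * a' * x⁻¹ = a' → a' = 1 := by
      rintro _ ⟨y, -, rfl⟩ h
      rw [hconj] at h
      rw [hfM y (hinj h), map_one]
    have hfQ : ∀ g' ∈ P'.map act, x * g' * x⁻¹ = g' → g' = 1 := by
      rintro _ ⟨y, -, rfl⟩ h
      rw [hconj] at h
      rw [hfM y (hinj h), map_one]
    have key := TOW V hV q s r hq hs hr hq2 hs2 hr2 (Ne.symm hsq) hsr hexp (S.map act)
      (P'.map act) (hSs.map _) (hP'q.map _) hQS x n hx hxS hxQ hfV hfS hfQ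
      (act (g : M)) ⟨_, hgP', rfl⟩ (act (a : M)) ⟨_, haS, rfl⟩
    have hcm : cm (x ^ 2 ^ n) (act (g : M)) = act ((g : M)⁻¹ * τ (g : M)) := by
      unfold cm
      rw [hconjpow, map_mul, map_inv]
    rw [hcm, ← map_mul, ← map_mul] at key
    exact hinj key

end Cfsg.Agent.Helper42.G2
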