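import Mathlib
import Cfsg.Agent.Lib.Helper98.WR0
import Cfsg.Agent.Lib.Helper13.Symp

set_option autoImplicit false

/-!
WR (W3) for helper98's server (S2347): the Gauss-sum operator intertwining the Weyl operators
with a symplectic transvection.  Self-contained (own copies of W1, W1b).
-/

namespace Cfsg.Agent.Helper42.WR

open Matrix Cfsg.Agent.Helper98.WR Cfsg.Agent.Helper13

section WEYL
variable {F : Type*} [Field F] {n : ℕ} (ψ : AddChar F ℂ)

theorem w3_sympForm_eq (u v : Fin n ⊕ Fin n → F) :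
    Cfsg.sympForm n F u v = (v ∘ Sum.inl) ⬝ᵥ (u ∘ Sum.inr) - (u ∘ Sum.inl) ⬝ᵥ (v ∘ Sum.inr) := by
  unfold Cfsg.sympForm
  simp only [dotProduct, Fintype.sum_sum_type, Matrix.J, Matrix.mulVec, Function.comp,
    Matrix.fromBlocks_apply₁₁, Matrix.fromBlocks_apply₁₂, Matrix.fromBlocks_apply₂₁,
    Matrix.fromBlocks_apply₂₂, Matrix.zero_apply, Matrix.neg_apply, Matrix.one_apply]
  simp only [zero_mul, Finset.sum_const_zero, zero_add, add_zero, neg_mul, ite_mul, one_mul,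
    Finset.sum_neg_distrib, Finset.sum_ite_eq, Finset.mem_univ, if_true, mul_neg]
  rw [sub_eq_add_neg, add_comm]
  congr 1
  · apply Finset.sum_congr rfl
    intro i _
    ring

theorem w3_wOp_mul (h2 : (2 : F) ≠ 0) (u v : Fin n ⊕ Fin n → F) :
    wOp ψ u * wOp ψ v = ψ (Cfsg.sympForm n F u v / 2) • wOp ψ (u + v) := by
  apply LinearMap.ext
  intro f
  funext x
  rw [Module.End.mul_apply, wOp_apply, wOp_apply, LinearMap.smul_apply, Pi.smul_apply, wOp_apply,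
    smul_eq_mul, ← mul_assoc, ← mul_assoc, ← AddChar.map_add_eq_mul, ← AddChar.map_add_eq_mul]
  have hx : x + u ∘ Sum.inr + v ∘ Sum.inr = x + (u + v) ∘ Sum.inr := by
    rw [add_assoc]; rfl
  rw [hx]
  congr 2
  rw [w3_sympForm_eq]
  have h1 : (u + v) ∘ Sum.inl = u ∘ Sum.inl + v ∘ Sum.inl := rfl
  have h2' : (u + v) ∘ Sum.inr = u ∘ Sum.inr + v ∘ Sum.inr := rfl
  rw [h1, h2']
  simp only [add_dotProduct, dotProduct_add]
  field_simp
  ring

theorem w3_wOp_zero : wOp ψ (0 : Fin n ⊕ Fin n → F) = 1 := by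
  apply LinearMap.ext
  intro f
  funext x
  rw [wOp_apply]
  have h1 : (0 : Fin n ⊕ Fin n → F) ∘ Sum.inl = 0 := rfl
  have h2 : (0 : Fin n ⊕ Fin n → F) ∘ Sum.inr = 0 := rfl
  rw [h1, h2]
  simp

theorem w3_line_mul (h2 : (2 : F) ≠ 0) (w : Fin n ⊕ Fin n → F) (s s' : F) :
    wOp ψ (s • w) * wOp ψ (s' • w) = wOp ψ ((s + s') • w) := by
  rw [w3_wOp_mul ψ h2, sympForm_smul_left, sympForm_smul_right, sympForm_self, mul_zero, mul_zero,
    zero_div, AddChar.map_zero_eq_one, one_smul, add_smul]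

variable [Fintype F]

/-- the Gauss-sum operator -/
noncomputable def w3A (w : Fin n ⊕ Fin n → F) (c : F) : Module.End ℂ ((Fin n → F) → ℂ) :=
  ∑ s : F, ψ (s ^ 2 / (2 * c)) • wOp ψ (s • w)

theorem w3_sum_mul (h2 : (2 : F) ≠ 0) (w : Fin n ⊕ Fin n → F) (α β : F → ℂ) :
    (∑ s, α s • wOp ψ (s • w)) * (∑ s, β s • wOp ψ (s • w)) =
      ∑ r, (∑ s, α s * β (r - s)) • wOp ψ (r • w) := by
  rw [Finset.sum_mul]
  simp_rw [Finset.mul_sum, smul_mul_smul_comm, w3_line_mul ψ h2]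
  have h : ∀ s, ∑ s', (α s * β s') • wOp ψ ((s + s') • w) =
      ∑ r, (α s * β (r - s)) • wOp ψ (r • w) := by
    intro s
    symm
    apply Fintype.sum_equiv (Equiv.subRight s)
    intro r
    simp [Equiv.subRight_apply]
  simp_rw [h]
  rw [Finset.sum_comm]
  apply Finset.sum_congr rfl
  intro r _
  rw [Finset.sum_smul]

theorem w3_gauss_aux (h2 : (2 : F) ≠ 0) (c : F) (hc : c ≠ 0) (r : F) :
    ∑ s, ψ (s ^ 2 / (2 * c)) * ψ ((r - s) ^ 2 / (2 * (-c))) =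
      ψ (-(r ^ 2 / (2 * c))) * ∑ s, AddChar.mulShift ψ (r / c) s := by
  have h : ∀ s, ψ (s ^ 2 / (2 * c)) * ψ ((r - s) ^ 2 / (2 * (-c))) =
      ψ (-(r ^ 2 / (2 * c))) * AddChar.mulShift ψ (r / c) s := by
    intro s
    rw [AddChar.mulShift_apply, ← AddChar.map_add_eq_mul, ← AddChar.map_add_eq_mul]
    congr 1
    field_simp
    ring
  simp_rw [h]
  rw [← Finset.mul_sum]

theorem w3_gauss_zero (h2 : (2 : F) ≠ 0) (c : F) (hc : c ≠ 0) :
    ∑ s, ψ (s ^ 2 / (2 * c)) * ψ (((0 : F) - s) ^ 2 / (2 * (-c))) = (Fintype.card F : ℂ) := by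
  rw [w3_gauss_aux ψ h2 c hc]
  simp

theorem w3_gauss_ne (h2 : (2 : F) ≠ 0) (hψ : ψ 1 ≠ 1) (c : F) (hc : c ≠ 0) (r : F) (hr : r ≠ 0) :
    ∑ s, ψ (s ^ 2 / (2 * c)) * ψ ((r - s) ^ 2 / (2 * (-c))) = 0 := by
  rw [w3_gauss_aux ψ h2 c hc]
  have hne : AddChar.mulShift ψ (r / c) ≠ 1 := by
    intro h1
    have h3 := DFunLike.congr_fun h1 (c / r)
    rw [AddChar.mulShift_apply, AddChar.one_apply] at h3
    apply hψ
    rw [← h3]
    congr 1
    field_simp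
  rw [AddChar.sum_eq_zero_of_ne_one hne, mul_zero]

theorem w3A_mul (h2 : (2 : F) ≠ 0) (hψ : ψ 1 ≠ 1) (w : Fin n ⊕ Fin n → F) (c : F) (hc : c ≠ 0) :
    w3A ψ w c * w3A ψ w (-c) = (Fintype.card F : ℂ) • (1 : Module.End ℂ ((Fin n → F) → ℂ)) := by
  unfold w3A
  rw [w3_sum_mul ψ h2]
  rw [Finset.sum_eq_single 0]
  · rw [w3_gauss_zero ψ h2 c hc, zero_smul, w3_wOp_zero]
  · intro r _ hr
    rw [w3_gauss_ne ψ h2 hψ c hc r hr, zero_smul]
  · intro h
    exact absurd (Finset.mem_univ _) h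

theorem w3A_intertwine (h2 : (2 : F) ≠ 0) (w : Fin n ⊕ Fin n → F) (c : F) (hc : c ≠ 0)
    (x : Fin n ⊕ Fin n → F) :
    w3A ψ w c * wOp ψ x = wOp ψ (x + (c * Cfsg.sympForm n F x w) • w) * w3A ψ w c := by
  unfold w3A
  rw [Finset.sum_mul, Finset.mul_sum]
  simp_rw [smul_mul_assoc, mul_smul_comm, w3_wOp_mul ψ h2, smul_smul]
  symm
  apply Fintype.sum_equiv (Equiv.addLeft (c * Cfsg.sympForm n F x w))
  intro s'
  rw [Equiv.coe_addLeft]
  have hv : x + (c * Cfsg.sympForm n F x w) • w + s' • w =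
      (c * Cfsg.sympForm n F x w + s') • w + x := by
    rw [add_smul]; abel
  rw [hv]
  congr 1
  rw [← AddChar.map_add_eq_mul, ← AddChar.map_add_eq_mul]
  congr 1
  rw [sympForm_add_left, sympForm_smul_left, sympForm_smul_right, sympForm_smul_right,
    sympForm_self, sympForm_smul_left, sympForm_swap w x]
  field_simp
  ring

/-- piece W3 [HARD, the long pole] of helper98's WR server (S2347). -/
theorem exists_transvection_op (h2 : (2 : F) ≠ 0) (hψ : ψ 1 ≠ 1) (w : Fin n ⊕ Fin n → F) (c : F) :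
    ∃ A : (Module.End ℂ ((Fin n → F) → ℂ))ˣ, ∀ v : Fin n ⊕ Fin n → F,
      (A : Module.End ℂ ((Fin n → F) → ℂ)) * wOp ψ v =
        wOp ψ (Cfsg.sympTransvection n w c *ᵥ v) * (A : Module.End ℂ ((Fin n → F) → ℂ)) := by
  by_cases hc : c = 0
  · subst hc
    refine ⟨1, fun v => ?_⟩
    rw [sympTransvection_mulVec, zero_mul, zero_smul, add_zero, Units.val_one, one_mul, mul_one]
  · have hq : (Fintype.card F : ℂ) ≠ 0 := Nat.cast_ne_zero.mpr Fintype.card_ne_zero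
    have h1 : w3A ψ w c * ((Fintype.card F : ℂ)⁻¹ • w3A ψ w (-c)) = 1 := by
      rw [mul_smul_comm, w3A_mul ψ h2 hψ w c hc, smul_smul, inv_mul_cancel₀ hq, one_smul]
    have h3 : ((Fintype.card F : ℂ)⁻¹ • w3A ψ w (-c)) * w3A ψ w c = 1 := by
      have h4 := w3A_mul ψ h2 hψ w (-c) (neg_ne_zero.mpr hc)
      rw [neg_neg] at h4
      rw [smul_mul_assoc, h4, smul_smul, inv_mul_cancel₀ hq, one_smul]
    refine ⟨⟨w3A ψ w c, (Fintype.card F : ℂ)⁻¹ • w3A ψ w (-c), h1, h3⟩, fun v => ?_⟩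
    rw [sympTransvection_mulVec]
    exact w3A_intertwine ψ h2 w c hc v

end WEYL
end Cfsg.Agent.Helper42.WR
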