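import Mathlib
import Cfsg.Agent.S1017
import Cfsg.Agent.Lib.Helper17.Simple
import Cfsg.Agent.Lib.Helper17.SylowCount
import Cfsg.Agent.Lib.Helper85.O4320BASE2
import Cfsg.Agent.Lib.Helper25.N5400Defs

/-!
# N5400 (K36) for helper25's sub-server (order 5400 of helper17's O6232 server, S0983)

In a simple group of order 5400 a subgroup `F` of order 5 is not contained in every Sylow 5-subgroup: otherwise the normal
closure of `F` lies in a fixed Sylow 5-subgroup.
-/

set_option autoImplicit false

namespace Cfsg.Agent.Helper42.N5400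

open Cfsg MulAction Cfsg.Agent.Helper25.N5400

universe u

section Simple

variable {G : Type u} [Group G] [Finite G] [IsSimpleGroup G]

/-- (K36) [S-M] otherwise every conjugate of `F` lies in a fixed Sylow `P` (all Sylow 5-subgroups are conjugate to `P`), so
`Subgroup.normalClosure F ≤ P`: a normal subgroup `≠ ⊥` (contains `F`) and `≠ ⊤` (`25 < 5400`). -/
theorem exists_not_le (hG : Nat.card G = 5400) (hP25 : ∀ Q : Sylow 5 G, Nat.card (Q : Subgroup G) = 25)
    (F : Subgroup G) (hF : Nat.card F = 5) : ∃ Q : Sylow 5 G, ¬ F ≤ (Q : Subgroup G) := by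
  by_contra hcon
  push Not at hcon
  have h5 : Fact (Nat.Prime 5) := ⟨by norm_num⟩
  obtain ⟨P⟩ : Nonempty (Sylow 5 G) := inferInstance
  have hle : Subgroup.normalClosure (F : Set G) ≤ (P : Subgroup G) := by
    unfold Subgroup.normalClosure
    rw [Subgroup.closure_le]
    intro x hx
    rw [Group.mem_conjugatesOfSet_iff] at hx
    obtain ⟨a, ha, hax⟩ := hx
    rw [isConj_iff] at hax
    obtain ⟨c, rfl⟩ := hax
    have h1 : a ∈ ((c⁻¹ • P : Sylow 5 G) : Subgroup G) := hcon _ ha
    rw [Cfsg.Agent.S1017.mem_smul_sylow_iff, inv_inv] at h1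
    exact h1
  have hFle : F ≤ Subgroup.normalClosure (F : Set G) := Subgroup.le_normalClosure
  have hc1 := Subgroup.card_le_of_le hFle
  have hc2 := Subgroup.card_le_of_le hle
  rw [hF] at hc1
  rw [hP25 P] at hc2
  apply Cfsg.Agent.Helper17.normal_card_absurd (Subgroup.normalClosure (F : Set G))
    Subgroup.normalClosure_normal
  · omega
  · rw [hG]; omega

end Simple

end Cfsg.Agent.Helper42.N5400
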