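import Mathlib
import Cfsg.Agent.S1017
import Cfsg.Agent.Lib.Helper17.Simple
import Cfsg.Agent.Lib.Helper17.SylowCount
import Cfsg.Agent.Lib.Helper85.O4320BASE2
import Cfsg.Agent.Lib.Helper25.N5400Defs
import Cfsg.Agent.Lib.Helper75.FixKill

/-!
# N5400 (N5) for helper25's sub-server (order 5400 of helper17's O6232 server, S0983)

In a simple group of order 5400: `n_5 = 36`, `|P| = 25`, `|N(P)| = 150`.
-/

set_option autoImplicit false

namespace Cfsg.Agent.Helper42.N5400

open Cfsg MulAction Cfsg.Agent.Helper25.N5400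

universe u

section Simple

variable {G : Type u} [Group G] [Finite G] [IsSimpleGroup G]

/-- (N5) [M] `n_5 ∣ 216`, `n_5 ≡ 1 mod 5`: `n_5 ∈ {1, 6, 36, 216}`; `1`: simple; `6`: `2 * 5400 ∤ 6!`; `216`: `N(P) = P` abelian,
Burnside. `|P| = 25` by `sylow_card_eq`, `|N(P)| * n_5 = 5400`. -/
theorem n5_data (hG : Nat.card G = 5400) :
    Nat.card (Sylow 5 G) = 36 ∧ ∀ P : Sylow 5 G, Nat.card (P : Subgroup G) = 25 ∧
      Nat.card (Subgroup.normalizer ((P : Subgroup G) : Set G)) = 150 := by
  have h5 : Fact (Nat.Prime 5) := ⟨by norm_num⟩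
  have hna : ¬ IsMulCommutative G := by
    apply Cfsg.Agent.Helper17.not_comm_of_not_prime
    rw [hG]; norm_num
  have hG5 : Nat.card G = 5 ^ 2 * 216 := by rw [hG]; norm_num
  obtain ⟨hd, hm⟩ := Cfsg.Agent.Helper17.sylow_count (G := G) (p := 5) hG5 (by norm_num)
  have hnb := Cfsg.Agent.Helper75.FixKill.not_bad (G := G) hna 5 2 216 (by norm_num) (by norm_num) hG5
    (by norm_num)
  have h36 : Nat.card (Sylow 5 G) = 36 := by
    have hle : Nat.card (Sylow 5 G) ≤ 216 := Nat.le_of_dvd (by norm_num) hd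
    generalize Nat.card (Sylow 5 G) = n at *
    interval_cases n <;> first | rfl | omega | (exfalso; revert hnb; decide)
  refine ⟨h36, fun P => ?_⟩
  have hP : Nat.card (P : Subgroup G) = 25 := by
    have := Cfsg.Agent.Helper17.sylow_card_eq P hG5 (by norm_num)
    simpa using this
  refine ⟨hP, ?_⟩
  have := Cfsg.Agent.S1017.card_sylow_mul_card_normalizer P
  rw [h36, hG] at this
  omega

end Simple

end Cfsg.Agent.Helper42.N5400
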