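import Mathlib
import Cfsg.Agent.S1017
import Cfsg.Agent.Lib.Helper17.Simple
import Cfsg.Agent.Lib.Helper17.SylowCount
import Cfsg.Agent.Lib.Helper85.O4320BASE2
import Cfsg.Agent.Lib.Helper25.N5400Defs

/-!
# N5400 (SIX) for helper25's sub-server (order 5400 of helper17's O6232 server, S0983)

A Sylow 5-subgroup of order 25 has at most 6 shared subgroups of order 5: distinct subgroups of order 5 meet
trivially, each has 4 nonidentity elements, `P` has 24.
-/

set_option autoImplicit false

namespace Cfsg.Agent.Helper42.N5400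

open Cfsg MulAction Cfsg.Agent.Helper25.N5400

universe u

section NoSimple

variable {G : Type u} [Group G] [Finite G]

/-- (SIX) [M] distinct subgroups of order 5 meet trivially, each has 4 nonidentity elements, `P` has 24: `4 l ≤ 24`. -/
theorem card_shared_le (P : Sylow 5 G) (hP : Nat.card (P : Subgroup G) = 25) :
    Nat.card {F : Subgroup G // Shared P F} ≤ 6 := by
  classical
  have h5 : Fact (Nat.Prime 5) := ⟨by norm_num⟩
  have hfin : Fintype {F : Subgroup G // Shared P F} := Fintype.ofFinite _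
  let f : (Σ F : {F : Subgroup G // Shared P F}, {x : ↥F.1 // x ≠ 1}) →
      {y : ↥(P : Subgroup G) // y ≠ 1} :=
    fun z => ⟨⟨z.2.1.1, z.1.2.1 z.2.1.2⟩, fun h => z.2.2 (by
      apply Subtype.ext
      have := congrArg Subtype.val h
      exact this)⟩
  have hf : Function.Injective f := by
    rintro ⟨⟨F, hF⟩, ⟨⟨x, hx⟩, hx1⟩⟩ ⟨⟨F', hF'⟩, ⟨⟨x', hx'⟩, hx1'⟩⟩ h
    have hxx : x = x' := by
      have := congrArg (fun y : {y : ↥(P : Subgroup G) // y ≠ 1} => (y.1 : G)) h
      exact this
    subst hxx
    have hne : x ≠ 1 := fun h1 => hx1 (Subtype.ext h1)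
    have e1 := (Cfsg.Agent.S1017.zpowers_eq_of_card_prime F hF.2.1 x hx hne).1
    have e2 := (Cfsg.Agent.S1017.zpowers_eq_of_card_prime F' hF'.2.1 x hx' hne).1
    have hFF : F = F' := e1.symm.trans e2
    subst hFF
    rfl
  have hle := Nat.card_le_card_of_injective f hf
  have hcard1 : Nat.card {y : ↥(P : Subgroup G) // y ≠ 1} = 24 := by
    rw [Cfsg.Agent.S1017.card_ne_subtype, hP]
  have hcard2 : Nat.card (Σ F : {F : Subgroup G // Shared P F}, {x : ↥F.1 // x ≠ 1}) =
      4 * Nat.card {F : Subgroup G // Shared P F} := by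
    rw [Nat.card_sigma]
    have : ∀ F : {F : Subgroup G // Shared P F}, Nat.card {x : ↥F.1 // x ≠ 1} = 4 := by
      intro F
      rw [Cfsg.Agent.S1017.card_ne_subtype, F.2.2.1]
    simp only [this, Finset.sum_const, Finset.card_univ, smul_eq_mul, Nat.card_eq_fintype_card]
    ring
  rw [hcard1, hcard2] at hle
  omega

end NoSimple

end Cfsg.Agent.Helper42.N5400
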