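import Mathlib
import Cfsg.Agent.Lib.Helper32.N5Defs

/-!
# N5 server (helper32, S1904): auxiliary lemmas for piece (BETA1) `beta_exists_N`

* `n5b_comm_mul_right`: class-2 bilinearity of commutators.
* `n5b_comm_eq`: in a group `Y` with `SpData Z`, `|Z| = 4`, `|Y| ∣ 16` all nontrivial commutators coincide.
* `n5b_orbit`: a fixed-point-free automorphism of a four-group permutes the three involutions transitively.
-/

set_option autoImplicit false

namespace Cfsg.Agent.Helper42.N5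

open Cfsg Cfsg.Agent.Helper32.N5
open scoped commutatorElement

variable {Y : Type*} [Group Y]

/-- if `⁅a, y⁆` is central then `⁅a, x * y⁆ = ⁅a, x⁆ * ⁅a, y⁆`. -/
theorem n5b_comm_mul_right (a x y : Y) (hc : ∀ g : Y, g * ⁅a, y⁆ = ⁅a, y⁆ * g) :
    ⁅a, x * y⁆ = ⁅a, x⁆ * ⁅a, y⁆ := by
  have h1 : ⁅a, x * y⁆ = ⁅a, x⁆ * (x * ⁅a, y⁆ * x⁻¹) := by
    simp only [commutatorElement_def]; group
  rw [h1, hc x, mul_inv_cancel_right]

/-- elements of `Z` are central. -/
theorem n5b_central {Z : Subgroup Y} (hd : SpData Z) (z : Y) (hz : z ∈ Z) (g : Y) :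
    g * z = z * g := by
  have : z ∈ Subgroup.center Y := hd.eqc ▸ hz
  exact (Subgroup.mem_center_iff.mp this) g

/-- elements of `Z` are their own inverses. -/
theorem n5b_inv_eq {Z : Subgroup Y} (hd : SpData Z) (z : Y) (hz : z ∈ Z) : z⁻¹ = z := by
  have := hd.el z hz
  rw [pow_two] at this
  exact inv_eq_of_mul_eq_one_right this

/-- the commutator is symmetric (values are involutions of `Z`). -/
theorem n5b_comm_symm {Z : Subgroup Y} (hd : SpData Z) (a x : Y) : ⁅x, a⁆ = ⁅a, x⁆ := by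
  rw [← commutatorElement_inv, n5b_inv_eq hd _ (hd.comm a x)]

variable [Finite Y]

/-- (F): for fixed `a` the nontrivial commutators `⁅a, x⁆` coincide, when `|Z| = 4` and `|Y| ∣ 16`. -/
theorem n5b_comm_eq_left {Z : Subgroup Y} (hd : SpData Z) (hZ4 : Nat.card Z = 4)
    (h16 : Nat.card Y ∣ 16) (a x x' : Y) (hx : ⁅a, x⁆ ≠ 1) (hx' : ⁅a, x'⁆ ≠ 1) :
    ⁅a, x⁆ = ⁅a, x'⁆ := by
  set C := Subgroup.centralizer ({a} : Set Y) with hC
  have hmemC : ∀ g : Y, g ∈ C ↔ ⁅a, g⁆ = 1 := by
    intro g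
    rw [hC, Subgroup.mem_centralizer_singleton_iff, commutatorElement_eq_one_iff_commute]
    exact ⟨fun h => h.symm, fun h => h.symm⟩
  have hxC : x ∉ C := fun h => hx ((hmemC x).mp h)
  have hx'C : x' ∉ C := fun h => hx' ((hmemC x').mp h)
  have hZC : Z ≤ C := by
    intro z hz
    rw [hmemC, commutatorElement_eq_one_iff_commute]
    exact (n5b_central hd z hz a)
  have haC : a ∈ C := by
    rw [hmemC, commutatorElement_eq_one_iff_commute]
  have haZ : a ∉ Z := by
    intro haZ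
    apply hx
    rw [commutatorElement_eq_one_iff_commute]
    exact (n5b_central hd a haZ x).symm
  have hlt : Z < C := lt_of_le_of_ne hZC (fun h => haZ (h ▸ haC))
  have hd1 : Nat.card Z ∣ Nat.card C := Subgroup.card_dvd_of_le hZC
  have hd2 : Nat.card C ∣ Nat.card Y := Subgroup.card_subgroup_dvd_card C
  have hlt' : Nat.card Z < Nat.card C := by
    by_contra hcon
    rw [not_lt] at hcon
    exact hlt.ne (Subgroup.eq_of_le_of_card_ge hZC hcon)
  have hCne : C ≠ ⊤ := by
    intro h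
    apply hxC
    rw [h]; exact Subgroup.mem_top x
  have hClt : Nat.card C < Nat.card Y := by
    by_contra hcon
    rw [not_lt] at hcon
    apply hCne
    have : (⊤ : Subgroup Y) = C := by
      symm
      apply Subgroup.eq_of_le_of_card_ge le_top
      rw [Subgroup.card_top]; exact hcon
    exact this.symm
  have hidx : C.index = 2 := by
    have h1 := Subgroup.card_mul_index C
    rw [hZ4] at hd1 hlt'
    have hYpos : 0 < Nat.card Y := Nat.card_pos
    have hY16 : Nat.card Y ≤ 16 := Nat.le_of_dvd (by norm_num) h16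
    obtain ⟨k, hk⟩ := hd1
    obtain ⟨m, hm⟩ := h16
    -- |C| = 4k, 4 < 4k < |Y| ≤ 16, |C| * idx = |Y|, |Y| * m = 16
    have hk2 : k = 2 ∨ k = 3 := by omega
    rcases hk2 with rfl | rfl
    · -- |C| = 8, |Y| ∈ (8,16], |Y| ∣ 16 → 16
      have hY : Nat.card Y = 16 := by
        have : m = 1 := by
          rcases Nat.eq_zero_or_pos m with h0 | h0
          · subst h0; omega
          · by_contra hm1
            have : 2 ≤ m := by omega
            nlinarith
        subst this; omega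
      rw [hk, hY] at h1
      omega
    · -- |C| = 12 does not divide a divisor of 16
      exfalso
      rw [hk] at hd2
      have : 12 ∣ 16 := hd2.trans ⟨m, hm⟩
      omega
  have hmem : x⁻¹ * x' ∈ C := by
    rw [Subgroup.mul_mem_iff_of_index_two hidx, inv_mem_iff]
    exact ⟨fun h => absurd h hxC, fun h => absurd h hx'C⟩
  have h1 : ⁅a, x⁻¹ * x'⁆ = 1 := (hmemC _).mp hmem
  have h2 : ⁅a, x'⁆ = ⁅a, x * (x⁻¹ * x')⁆ := by rw [mul_inv_cancel_left]
  rw [h2, n5b_comm_mul_right a x (x⁻¹ * x') (by rw [h1]; intro g; simp), h1, mul_one]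

/-- all nontrivial commutators coincide when `|Z| = 4` and `|Y| ∣ 16`. -/
theorem n5b_comm_eq {Z : Subgroup Y} (hd : SpData Z) (hZ4 : Nat.card Z = 4)
    (h16 : Nat.card Y ∣ 16) (a x b y : Y) (hx : ⁅a, x⁆ ≠ 1) (hy : ⁅b, y⁆ ≠ 1) :
    ⁅a, x⁆ = ⁅b, y⁆ := by
  have hF := n5b_comm_eq_left hd hZ4 h16
  -- first case: ⁅a, y⁆ ≠ 1
  have case1 : ∀ a x b y : Y, ⁅a, x⁆ ≠ 1 → ⁅b, y⁆ ≠ 1 → ⁅a, y⁆ ≠ 1 → ⁅a, x⁆ = ⁅b, y⁆ := by
    intro a x b y hx hy hay
    have h1 : ⁅a, x⁆ = ⁅a, y⁆ := hF a x y hx hay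
    have h2 : ⁅y, a⁆ = ⁅y, b⁆ :=
      hF y a b (by rw [n5b_comm_symm hd]; exact hay) (by rw [n5b_comm_symm hd]; exact hy)
    rw [h1, n5b_comm_symm hd y a, h2]
    exact n5b_comm_symm hd b y
  by_cases hay : ⁅a, y⁆ = 1
  · by_cases hbx : ⁅b, x⁆ = 1
    · have hcen : ∀ u v : Y, ∀ g : Y, g * ⁅u, v⁆ = ⁅u, v⁆ * g :=
        fun u v g => n5b_central hd _ (hd.comm u v) g
      have h1 : ⁅a, x * y⁆ = ⁅a, x⁆ := by
        rw [n5b_comm_mul_right a x y (hcen a y), hay, mul_one]
      have h2 : ⁅b, x * y⁆ = ⁅b, y⁆ := by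
        rw [n5b_comm_mul_right b x y (hcen b y), hbx, one_mul]
      have := case1 a (x * y) b (x * y) (by rw [h1]; exact hx) (by rw [h2]; exact hy)
        (by rw [h1]; exact hx)
      rw [h1, h2] at this
      exact this
    · exact (case1 b y a x hy hx hbx).symm
  · exact case1 a x b y hx hy hay

/-- a fixed-point-free automorphism of a central four-group permutes its three involutions transitively. -/
theorem n5b_orbit {X : Type*} [Group X] {V : Subgroup X} {σ : MulAut X} (hV : VData V σ)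
    (v₀ : X) (hv₀ : v₀ ∈ V) (hne : v₀ ≠ 1) (v : X) (hv : v ∈ V) (hv1 : v ≠ 1) :
    v = v₀ ∨ v = σ v₀ ∨ v = σ (σ v₀) := by
  classical
  by_contra hcon
  rw [not_or, not_or] at hcon
  obtain ⟨h1, h2, h3⟩ := hcon
  have hfin : Finite V := Nat.finite_of_card_ne_zero (by rw [hV.card]; norm_num)
  have hs1 : σ v₀ ∈ V := hV.inv v₀ hv₀
  have hs2 : σ (σ v₀) ∈ V := hV.inv _ hs1
  have e1 : σ v₀ ≠ 1 := by
    intro h
    apply hne
    have : σ v₀ = σ 1 := by rw [h, map_one]
    exact σ.injective this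
  have e2 : σ (σ v₀) ≠ 1 := by
    intro h
    apply e1
    have : σ (σ v₀) = σ 1 := by rw [h, map_one]
    exact σ.injective this
  have e3 : σ v₀ ≠ v₀ := fun h => hne (hV.fpf v₀ hv₀ h)
  have e4 : σ (σ v₀) ≠ σ v₀ := fun h => e1 (hV.fpf _ hs1 h)
  have e5 : σ (σ v₀) ≠ v₀ := by
    intro h
    have hw : v₀ * σ v₀ ∈ V := V.mul_mem hv₀ hs1
    have hcomm : σ v₀ * v₀ = v₀ * σ v₀ := by
      have : v₀ ∈ Subgroup.center X := hV.cen hv₀
      exact (Subgroup.mem_center_iff.mp this) (σ v₀)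
    have hfix : σ (v₀ * σ v₀) = v₀ * σ v₀ := by
      rw [map_mul, h, hcomm]
    have hw1 := hV.fpf _ hw hfix
    have hinv : v₀⁻¹ = v₀ := by
      have := hV.el v₀ hv₀
      rw [pow_two] at this
      exact inv_eq_of_mul_eq_one_right this
    apply e3
    have h5 : σ v₀ = v₀⁻¹ := (inv_eq_of_mul_eq_one_right hw1).symm
    rw [h5, hinv]
  let T : Finset X := {v, 1, v₀, σ v₀, σ (σ v₀)}
  have hT : T.card = 5 := by
    have a1 : σ v₀ ∉ ({σ (σ v₀)} : Finset X) := by
      rw [Finset.mem_singleton]; exact fun h => e4 h.symm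
    have a2 : v₀ ∉ ({σ v₀, σ (σ v₀)} : Finset X) := by
      simp only [Finset.mem_insert, Finset.mem_singleton, not_or]
      exact ⟨fun h => e3 h.symm, fun h => e5 h.symm⟩
    have a3 : (1 : X) ∉ ({v₀, σ v₀, σ (σ v₀)} : Finset X) := by
      simp only [Finset.mem_insert, Finset.mem_singleton, not_or]
      exact ⟨fun h => hne h.symm, fun h => e1 h.symm, fun h => e2 h.symm⟩
    have a4 : v ∉ ({1, v₀, σ v₀, σ (σ v₀)} : Finset X) := by
      simp only [Finset.mem_insert, Finset.mem_singleton, not_or]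
      exact ⟨hv1, h1, h2, h3⟩
    rw [Finset.card_insert_of_notMem a4, Finset.card_insert_of_notMem a3,
      Finset.card_insert_of_notMem a2, Finset.card_insert_of_notMem a1, Finset.card_singleton]
  have hsub : (↑T : Set X) ⊆ (V : Set X) := by
    intro t ht
    simp only [T, Finset.coe_insert, Finset.coe_singleton, Set.mem_insert_iff,
      Set.mem_singleton_iff] at ht
    rcases ht with rfl | rfl | rfl | rfl | rfl
    · exact hv
    · exact V.one_mem
    · exact hv₀
    · exact hs1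
    · exact hs2
  have hle := Set.ncard_le_ncard hsub (Set.toFinite _)
  rw [Set.ncard_coe_finset, hT] at hle
  have : (V : Set X).ncard = Nat.card V := (Nat.card_coe_set_eq (V : Set X)).symm
  rw [this, hV.card] at hle
  omega

end Cfsg.Agent.Helper42.N5
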