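import Mathlib
import Cfsg.Agent.Lib.Helper32.N5Defs
import Cfsg.Agent.Lib.Helper42.N5BetaBase

/-!
# N5 server (helper32, S1904): piece (BETA1) `beta_exists_N`

`B = V` is maximal: a special subgroup `N` of order 64 inside the second centre.
-/

set_option autoImplicit false

namespace Cfsg.Agent.Helper42.N5

open Cfsg Cfsg.Agent.Helper32.N5
open scoped commutatorElement

universe u

variable {X : Type u} [Group X] [Finite X]

omit [Finite X] in
/-- products `s * v`, `t * v'` with `s`, `t` commuting and `v`, `v'` central commute. -/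
theorem n5b_comm_of_central (s t v v' : X) (hst : s * t = t * s) (hv : ∀ g : X, g * v = v * g)
    (hv' : ∀ g : X, g * v' = v' * g) : (s * v) * (t * v') = (t * v') * (s * v) := by
  calc s * v * (t * v') = s * (v * t) * v' := by group
    _ = s * (t * v) * v' := by rw [← hv t]
    _ = (s * t) * (v * v') := by group
    _ = (t * s) * (v' * v) := by rw [hst, hv' v]
    _ = t * (s * v') * v := by group
    _ = t * (v' * s) * v := by rw [hv' s]
    _ = t * v' * (s * v) := by group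

omit [Finite X] in
/-- an involution `n` with `[n, X] ≤ V` lies in `V` (apply (K) to `⟨V, n⟩`). -/
theorem n5b_invol_mem (V : Subgroup X) (hVn : V.Normal) (hVc : V ≤ Subgroup.center X)
    (hK : ∀ N : Subgroup X, N.Normal → Ab N → V ≤ N → ∀ x ∈ N, x ^ 2 = 1 → x ∈ V)
    (n : X) (hn : ∀ x : X, ⁅n, x⁆ ∈ V) (hn2 : n ^ 2 = 1) : n ∈ V := by
  have hcenV : ∀ v ∈ V, ∀ g : X, g * v = v * g := fun v hv g =>
    (Subgroup.mem_center_iff.mp (hVc hv)) g
  let π := QuotientGroup.mk' V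
  have hπn : ∀ g : X ⧸ V, g * π n = π n * g := by
    intro g
    obtain ⟨x, rfl⟩ := QuotientGroup.mk'_surjective V g
    rw [← map_mul, ← map_mul]
    change ((x * n : X) : X ⧸ V) = ((n * x : X) : X ⧸ V)
    rw [QuotientGroup.eq]
    have h1 : (x * n)⁻¹ * (n * x) = n⁻¹ * ⁅n, x⁻¹⁆⁻¹ * n := by
      simp only [commutatorElement_def]; group
    rw [h1]
    exact hVn.conj_mem' _ (V.inv_mem (hn x⁻¹)) n |> fun h => by simpa [mul_assoc] using h
  let W := (Subgroup.zpowers (π n)).comap π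
  have hZn : (Subgroup.zpowers (π n)).Normal := by
    refine ⟨fun h hh g => ?_⟩
    obtain ⟨k, rfl⟩ := Subgroup.mem_zpowers_iff.mp hh
    have : g * π n ^ k * g⁻¹ = π n ^ k := by
      have hc : Commute g (π n) := hπn g
      rw [(hc.zpow_right k).eq, mul_inv_cancel_right]
    rw [this]
    exact Subgroup.zpow_mem_zpowers _ k
  have hWn : W.Normal := hZn.comap π
  have hVW : V ≤ W := by
    intro v hv
    change π v ∈ Subgroup.zpowers (π n)
    have : π v = 1 := (QuotientGroup.eq_one_iff v).mpr hv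
    rw [this]; exact Subgroup.one_mem _
  have hnW : n ∈ W := by
    change π n ∈ Subgroup.zpowers (π n)
    exact Subgroup.mem_zpowers _
  have hdecomp : ∀ a ∈ W, ∃ k : ℤ, ∃ v ∈ V, a = n ^ k * v := by
    intro a ha
    obtain ⟨k, hk⟩ := Subgroup.mem_zpowers_iff.mp ha
    refine ⟨k, (n ^ k)⁻¹ * a, ?_, by group⟩
    have : ((n ^ k : X) : X ⧸ V) = (a : X ⧸ V) := by
      change π (n ^ k) = π a
      rw [map_zpow, hk]
    exact QuotientGroup.eq.mp this
  have hWab : Ab W := by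
    intro a ha b hb
    obtain ⟨k, v, hv, rfl⟩ := hdecomp a ha
    obtain ⟨l, v', hv', rfl⟩ := hdecomp b hb
    exact n5b_comm_of_central _ _ _ _ (zpow_mul_comm n k l) (hcenV v hv) (hcenV v' hv')
  exact hK W hWn hWab hVW n hnW hn2

/-- restriction of an automorphism `φ` with `φ N ≤ N`, `φ⁻¹ N ≤ N` to `N`. -/
def n5bRestrict (N : Subgroup X) (φ : MulAut X) (h1 : ∀ x ∈ N, φ x ∈ N)
    (h2 : ∀ x ∈ N, φ⁻¹ x ∈ N) : N ≃* N where
  toFun x := ⟨φ x, h1 x x.2⟩
  invFun x := ⟨φ⁻¹ x, h2 x x.2⟩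
  left_inv x := by
    apply Subtype.ext
    simp
  right_inv x := by
    apply Subtype.ext
    simp
  map_mul' x y := by
    apply Subtype.ext
    simp

omit [Finite X] in
/-- the case `|N| = 32` of (BETA1) is impossible. -/
theorem n5b_not_32 (A : Subgroup (MulAut X)) (V : Subgroup X) (hVn : V.Normal) (hVi : AInv A V)
    (hVc : V ≤ Subgroup.center X) (hV4 : Nat.card V = 4)
    (hmax : ∀ B' : Subgroup X, B'.Normal → AInv A B' → Ab B' → V ≤ B' → B' = V)
    (N : Subgroup X) (hNn : N.Normal) (hNi : AInv A N) (h32 : Nat.card N = 32)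
    (hex : ∃! M : Subgroup N, M.index = 2 ∧ Ab M) : False := by
  obtain ⟨M, ⟨hMidx, hMab⟩, hMuniq⟩ := hex
  have hcenV : ∀ v ∈ V, ∀ g : X, g * v = v * g := fun v hv g =>
    (Subgroup.mem_center_iff.mp (hVc hv)) g
  have hchar : ∀ e : N ≃* N, M.map (e : N →* N) = M := by
    intro e
    apply hMuniq
    refine ⟨by rw [Subgroup.index_map_equiv, hMidx], ?_⟩
    rintro _ ⟨a, ha, rfl⟩ _ ⟨b, hb, rfl⟩
    change e a * e b = e b * e a
    rw [← map_mul, ← map_mul, hMab a ha b hb]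
  set M' := M.map N.subtype with hM'
  have hM'mem : ∀ x : X, x ∈ M' ↔ ∃ m : N, m ∈ M ∧ (m : X) = x := by
    intro x
    rw [hM', Subgroup.mem_map]
    rfl
  have hM'n : M'.Normal := by
    refine ⟨fun x hx g => ?_⟩
    obtain ⟨m, hm, rfl⟩ := (hM'mem x).mp hx
    rw [hM'mem]
    refine ⟨MulAut.conjNormal g m, ?_, MulAut.conjNormal_apply g m⟩
    have := hchar (MulAut.conjNormal g)
    rw [← this]
    exact Subgroup.mem_map_of_mem _ hm
  have hM'i : AInv A M' := by
    intro φ hφ x hx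
    obtain ⟨m, hm, rfl⟩ := (hM'mem x).mp hx
    rw [hM'mem]
    let e := n5bRestrict N φ (hNi φ hφ) (hNi φ⁻¹ (A.inv_mem hφ))
    refine ⟨e m, ?_, rfl⟩
    have := hchar e
    rw [← this]
    exact Subgroup.mem_map_of_mem _ hm
  have hM'ab : Ab M' := by
    intro a ha b hb
    obtain ⟨m, hm, rfl⟩ := (hM'mem a).mp ha
    obtain ⟨m', hm', rfl⟩ := (hM'mem b).mp hb
    have := hMab m hm m' hm'
    exact congrArg Subtype.val this
  have hBn : (M' ⊔ V).Normal := Subgroup.sup_normal M' V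
  have hdecomp : ∀ x ∈ M' ⊔ V, ∃ m ∈ M', ∃ v ∈ V, m * v = x := fun x hx =>
    Subgroup.mem_sup_of_normal_right.mp hx
  have hBi : AInv A (M' ⊔ V) := by
    intro φ hφ x hx
    obtain ⟨m, hm, v, hv, rfl⟩ := hdecomp x hx
    rw [map_mul]
    exact Subgroup.mul_mem _ (Subgroup.mem_sup_left (hM'i φ hφ m hm))
      (Subgroup.mem_sup_right (hVi φ hφ v hv))
  have hBab : Ab (M' ⊔ V) := by
    intro a ha b hb
    obtain ⟨m, hm, v, hv, rfl⟩ := hdecomp a ha
    obtain ⟨m', hm', v', hv', rfl⟩ := hdecomp b hb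
    exact n5b_comm_of_central _ _ _ _ (hM'ab m hm m' hm') (hcenV v hv) (hcenV v' hv')
  have hB := hmax (M' ⊔ V) hBn hBi hBab le_sup_right
  have hM'V : M' ≤ V := hB ▸ le_sup_left
  have hc1 : Nat.card M' = Nat.card M := by
    rw [hM']
    exact Subgroup.card_map_of_injective N.subtype_injective
  have hc2 : Nat.card M = 16 := by
    have := Subgroup.card_mul_index M
    rw [hMidx, h32] at this
    omega
  have hfinV : Finite V := Nat.finite_of_card_ne_zero (by rw [hV4]; norm_num)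
  have := Subgroup.card_le_of_le hM'V
  rw [hc1, hc2, hV4] at this
  omega

/-- (BETA1) `B = V` is maximal: a special subgroup `N` of order 64 inside the second centre. -/
theorem beta_exists_N (hX : IsPGroup 2 X) (A : Subgroup (MulAut X))
    (V : Subgroup X) (σ : MulAut X) (hσA : σ ∈ A) (hV : VData V σ) (hVi : AInv A V) (hVn : V.Normal)
    (hK : ∀ N : Subgroup X, N.Normal → Ab N → V ≤ N → ∀ x ∈ N, x ^ 2 = 1 → x ∈ V)
    (hmin : ∀ B C : Subgroup X, B.Normal → AInv A B → C.Normal → AInv A C → B < C →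
      ∃ N : Subgroup X, N.Normal ∧ AInv A N ∧ B < N ∧ N ≤ C ∧ (∀ n ∈ N, ∀ x : X, ⁅n, x⁆ ∈ B) ∧
        (∀ n ∈ N, n ^ 2 ∈ B) ∧
        ∀ M : Subgroup X, M.Normal → AInv A M → B ≤ M → M ≤ N → M = B ∨ M = N)
    (hSb : ∀ (Y : Type u) [Group Y] [Finite Y] (Z : Subgroup Y), SpData Z → Nat.card Z = 4 →
      (∀ y : Y, y ^ 2 = 1 → y ∈ Z) → Nat.card Y ≤ 64)
    (hSc : ∀ (Y : Type u) [Group Y] [Finite Y] (Z : Subgroup Y), SpData Z → Nat.card Z = 4 →
      Nat.card Y = 32 → ∃! M : Subgroup Y, M.index = 2 ∧ Ab M)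
    (hmax : ∀ B' : Subgroup X, B'.Normal → AInv A B' → Ab B' → V ≤ B' → B' = V)
    (hne : ∃ x : X, x ∉ V) :
    ∃ N : Subgroup X, N.Normal ∧ AInv A N ∧ V ≤ N ∧ (∀ n ∈ N, ∀ x : X, ⁅n, x⁆ ∈ V) ∧
      (∀ n ∈ N, n ^ 2 ∈ V) ∧ (∀ n ∈ N, n ^ 2 = 1 → n ∈ V) ∧
      N ⊓ Subgroup.centralizer (N : Set X) = V ∧ Nat.card N = 64 ∧
      ∀ v ∈ V, v ≠ 1 → ∃ n ∈ N, n ∉ V ∧ n ^ 2 = v := by
  have hp2 : Fact (Nat.Prime 2) := ⟨Nat.prime_two⟩
  have hcenV : ∀ v ∈ V, ∀ g : X, g * v = v * g := fun v hv g =>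
    (Subgroup.mem_center_iff.mp (hV.cen hv)) g
  -- the minimal invariant subgroup above `V`
  have hVtop : V < ⊤ := by
    obtain ⟨x, hx⟩ := hne
    exact lt_of_le_of_ne le_top (fun h => hx (h ▸ Subgroup.mem_top x))
  have htopi : AInv A ⊤ := fun _ _ _ _ => Subgroup.mem_top _
  obtain ⟨N, hNn, hNi, hVN, -, hcomm, hsq, -⟩ :=
    hmin V ⊤ hVn hVi inferInstance htopi hVtop
  -- `N` is not abelian
  have hNab : ¬ Ab N := fun hab => hVN.ne (hmax N hNn hNi hab hVN.le).symm
  -- the centre of `N` is `V`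
  have hZN : N ⊓ Subgroup.centralizer (N : Set X) = V := by
    have hcn : (Subgroup.centralizer (N : Set X)).Normal := Subgroup.normal_centralizer
    apply hmax
    · exact Subgroup.normal_inf_normal N _
    · intro φ hφ x hx
      rw [Subgroup.mem_inf] at hx ⊢
      refine ⟨hNi φ hφ x hx.1, ?_⟩
      rw [Subgroup.mem_centralizer_iff]
      intro m hm
      have hm' : φ⁻¹ m ∈ N := hNi φ⁻¹ (A.inv_mem hφ) m hm
      have h1 := (Subgroup.mem_centralizer_iff.mp hx.2) (φ⁻¹ m) hm'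
      have h2 := congrArg φ h1
      rw [map_mul, map_mul] at h2
      simpa using h2
    · intro a ha b hb
      rw [Subgroup.mem_inf] at ha hb
      exact ((Subgroup.mem_centralizer_iff.mp ha.2) b hb.1).symm
    · exact le_inf hVN.le (hV.cen.trans (Subgroup.center_le_centralizer _))
  -- involutions of `N` lie in `V`
  have hinvN : ∀ n ∈ N, n ^ 2 = 1 → n ∈ V := fun n hn hn2 =>
    n5b_invol_mem V hVn hV.cen hK n (hcomm n hn) hn2
  -- special data for `V` inside `N`
  set VN : Subgroup N := V.subgroupOf N with hVNdef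
  have hsp : SpData VN := by
    refine ⟨?_, ?_, ?_, ?_⟩
    · ext ⟨x, hx⟩
      rw [hVNdef, Subgroup.mem_subgroupOf, Subgroup.mem_center_iff]
      constructor
      · intro hxV g
        apply Subtype.ext
        exact hcenV x hxV g
      · intro h
        rw [← hZN, Subgroup.mem_inf]
        refine ⟨hx, ?_⟩
        rw [Subgroup.mem_centralizer_iff]
        intro m hm
        exact congrArg Subtype.val (h ⟨m, hm⟩)
    · intro x
      rw [hVNdef, Subgroup.mem_subgroupOf]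
      exact hsq x x.2
    · intro x y
      rw [hVNdef, Subgroup.mem_subgroupOf]
      exact hcomm x x.2 y
    · intro z hz
      rw [hVNdef, Subgroup.mem_subgroupOf] at hz
      apply Subtype.ext
      exact hV.el z hz
  have hVN4 : Nat.card VN = 4 := by
    rw [← hV.card]
    exact Nat.card_congr (Subgroup.subgroupOfEquivOfLe hVN.le).toEquiv
  have hinvVN : ∀ y : N, y ^ 2 = 1 → y ∈ VN := by
    intro y hy
    rw [hVNdef, Subgroup.mem_subgroupOf]
    apply hinvN y y.2
    have := congrArg Subtype.val hy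
    simpa using this
  have h64 : Nat.card N ≤ 64 := hSb N VN hsp hVN4 hinvVN
  -- `|N|` is a power of two bigger than 4
  obtain ⟨k, hk⟩ := (IsPGroup.iff_card).mp (hX.to_subgroup N)
  have hfinV : Finite V := Nat.finite_of_card_ne_zero (by rw [hV.card]; norm_num)
  have h4 : 4 < Nat.card N := by
    by_contra hcon
    rw [not_lt, ← hV.card] at hcon
    exact hVN.ne (Subgroup.eq_of_le_of_card_ge hVN.le hcon)
  have hk3 : 3 ≤ k := by
    by_contra h
    have : 2 ^ k ≤ 2 ^ 2 := Nat.pow_le_pow_right (by norm_num) (by omega)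
    omega
  have hk6 : k ≤ 6 := by
    by_contra h
    have : 2 ^ 7 ≤ 2 ^ k := Nat.pow_le_pow_right (by norm_num) (by omega)
    omega
  -- small cases: all nontrivial commutators coincide, impossible
  have hsmall : ¬ Nat.card N ∣ 16 := by
    intro h16
    have hex : ∃ a ∈ N, ∃ b ∈ N, a * b ≠ b * a := by
      by_contra hcon
      apply hNab
      intro a ha b hb
      by_contra hab
      exact hcon ⟨a, ha, b, hb, hab⟩
    obtain ⟨a, ha, b, hb, hab⟩ := hex
    have hc1 : ⁅a, b⁆ ≠ 1 := by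
      rw [Ne, commutatorElement_eq_one_iff_commute]
      exact hab
    have hsa : σ a ∈ N := hNi σ hσA a ha
    have hsb : σ b ∈ N := hNi σ hσA b hb
    have hc2 : ⁅σ a, σ b⁆ ≠ 1 := by
      rw [← map_commutatorElement]
      intro h
      apply hc1
      have : σ ⁅a, b⁆ = σ 1 := by rw [h, map_one]
      exact σ.injective this
    have key := n5b_comm_eq hsp hVN4 h16 (⟨a, ha⟩ : N) ⟨b, hb⟩ ⟨σ a, hsa⟩ ⟨σ b, hsb⟩
      (fun h => hc1 (by simpa [commutatorElement_def] using congrArg Subtype.val h))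
      (fun h => hc2 (by simpa [commutatorElement_def] using congrArg Subtype.val h))
    have key' : ⁅a, b⁆ = ⁅σ a, σ b⁆ := by
      have := congrArg Subtype.val key
      simpa [commutatorElement_def] using this
    rw [← map_commutatorElement] at key'
    exact hc1 (hV.fpf _ (hcomm a ha b) key'.symm)
  have hk5 : Nat.card N ≠ 32 := by
    intro h32
    exact n5b_not_32 A V hVn hVi hV.cen hV.card hmax N hNn hNi h32
      (hSc N VN hsp hVN4 h32)
  have hcard : Nat.card N = 64 := by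
    interval_cases k
    · exact absurd (by rw [hk]; norm_num) hsmall
    · exact absurd (by rw [hk]; norm_num) hsmall
    · exact absurd hk hk5
    · rw [hk]; norm_num
  -- squares
  refine ⟨N, hNn, hNi, hVN.le, hcomm, hsq, hinvN, hZN, hcard, ?_⟩
  intro v hv hv1
  obtain ⟨n₀, hn₀N, hn₀V⟩ := SetLike.exists_of_lt hVN
  have hv₀ : n₀ ^ 2 ∈ V := hsq n₀ hn₀N
  have hv₀1 : n₀ ^ 2 ≠ 1 := fun h => hn₀V (hinvN n₀ hn₀N h)
  have hσV : ∀ x : X, σ x ∈ V → x ∈ V := by
    intro x hx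
    have := hVi σ⁻¹ (A.inv_mem hσA) (σ x) hx
    simpa using this
  rcases n5b_orbit hV (n₀ ^ 2) hv₀ hv₀1 v hv hv1 with h | h | h
  · exact ⟨n₀, hn₀N, hn₀V, h.symm⟩
  · refine ⟨σ n₀, hNi σ hσA n₀ hn₀N, fun hc => hn₀V (hσV _ hc), ?_⟩
    rw [h, map_pow]
  · refine ⟨σ (σ n₀), hNi σ hσA _ (hNi σ hσA n₀ hn₀N),
      fun hc => hn₀V (hσV _ (hσV _ hc)), ?_⟩
    rw [h, map_pow, map_pow]

end Cfsg.Agent.Helper42.N5
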