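import Mathlib

set_option autoImplicit false

namespace Cfsg.Agent.Helper42.PrimeCent

open Module

variable {F : Type*} [Field F] [Finite F] {V : Type*} [AddCommGroup V] [Module F V]
  [Module.Finite F V]

lemma pow_mem_of_invariant (T : V →ₗ[F] V) (U : Submodule F V) (hU : ∀ u ∈ U, T u ∈ U) (k : ℕ) :
    ∀ u ∈ U, (T ^ k) u ∈ U := by
  induction k with
  | zero => intro u hu; simpa using hu
  | succ k ih =>
    intro u hu
    rw [pow_succ', Module.End.mul_apply]
    exact hU _ (ih u hu)

/-- a cyclic group of prime order `r` acting freely on the nonzero vectors of an invariant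
subspace `U` forces `r ∣ q^(dim U) - 1`. -/
lemma dvd_card_sub_one_of_free (T : V →ₗ[F] V) (r : ℕ) [Fact r.Prime] (hT : T ^ r = 1)
    (U : Submodule F V) (hU : ∀ u ∈ U, T u ∈ U) (hfree : ∀ u ∈ U, T u = u → u = 0) :
    r ∣ Nat.card F ^ finrank F U - 1 := by
  classical
  have : Finite V := Module.finite_of_finite F
  let _ : Fintype U := Fintype.ofFinite U
  let f : Function.End U := fun u => ⟨T u.1, hU u.1 u.2⟩
  have hfk : ∀ (k : ℕ) (u : U), ((f ^ k) u : V) = (T ^ k) u.1 := by
    intro k
    induction k with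
    | zero => intro u; rfl
    | succ k ih =>
      intro u
      rw [pow_succ', pow_succ', Module.End.mul_apply, ← ih]
      rfl
  have hf : f ^ r ^ 1 = 1 := by
    rw [pow_one]
    funext u
    apply Subtype.ext
    rw [hfk, hT]
    rfl
  have h1 := Equiv.Perm.card_fixedPoints_modEq (p := r) (n := 1) hf
  have h2 : Fintype.card (Function.fixedPoints f) = 1 := by
    rw [Fintype.card_eq_one_iff]
    refine ⟨⟨0, ?_⟩, ?_⟩
    · change f 0 = 0
      apply Subtype.ext
      simp [f]
    · rintro ⟨u, hu⟩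
      apply Subtype.ext
      change f u = u at hu
      have : T u.1 = u.1 := congrArg Subtype.val hu
      have := hfree u.1 u.2 this
      exact Subtype.ext this
  rw [h2, ← Nat.card_eq_fintype_card, Module.natCard_eq_pow_finrank (K := F)] at h1
  exact (Nat.modEq_iff_dvd' (Nat.one_le_pow _ _ Nat.card_pos)).mp h1.symm


/-- nilpotent operator has a nonzero kernel vector in any nonzero invariant subspace -/
lemma exists_ker_of_nilpotent (N : V →ₗ[F] V) (hN : IsNilpotent N) (W : Submodule F V)
    (hW : ∀ w ∈ W, N w ∈ W) (hW0 : W ≠ ⊥) : ∃ u ∈ W, u ≠ 0 ∧ N u = 0 := by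
  classical
  obtain ⟨w, hw, hw0⟩ := (Submodule.ne_bot_iff W).mp hW0
  obtain ⟨m, hm⟩ := hN
  have hex : ∃ k, (N ^ k) w = 0 := ⟨m, by rw [hm]; rfl⟩
  have hpos : 0 < Nat.find hex := by
    rw [Nat.find_pos]
    simpa using hw0
  refine ⟨(N ^ (Nat.find hex - 1)) w, pow_mem_of_invariant N W hW _ w hw,
    Nat.find_min hex (by omega), ?_⟩
  rw [← Module.End.mul_apply, ← pow_succ']
  have : Nat.find hex - 1 + 1 = Nat.find hex := by omega
  rw [this]
  exact Nat.find_spec hex

theorem core (r : ℕ) [Fact r.Prime] (hr : (r : F) ≠ 0)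
    (A B : V →ₗ[F] V) (hA : IsNilpotent (A - 1)) (hA1 : A ≠ 1) (hB : B ^ r = 1) (hB1 : B ≠ 1)
    (hAB : A * B = B * A) (hn : 3 ≤ finrank F V) :
    ∃ j, 1 ≤ j ∧ j + 2 ≤ finrank F V ∧ r ∣ Nat.card F ^ j - 1 := by
  by_contra hcon
  push Not at hcon
  set n := finrank F V with hndef
  set N := A - 1 with hNdef
  have hNB : N * B = B * N := by
    rw [hNdef, sub_mul, mul_sub, hAB, one_mul, mul_one]
  have hNBa : ∀ x, N (B x) = B (N x) := fun x => by
    rw [← Module.End.mul_apply, hNB, Module.End.mul_apply]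
  set W : Submodule F V := LinearMap.range (B - 1) with hWdef
  set V1 : Submodule F V := LinearMap.ker (B - 1) with hV1def
  have hdim : finrank F W + finrank F V1 = n := LinearMap.finrank_range_add_finrank_ker (B - 1)
  have hV1mem : ∀ v, v ∈ V1 ↔ B v = v := by
    intro v
    rw [hV1def, LinearMap.mem_ker, LinearMap.sub_apply, Module.End.one_apply, sub_eq_zero]
  -- invariance
  have hWB : ∀ w ∈ W, B w ∈ W := by
    rintro _ ⟨x, rfl⟩
    refine ⟨B x, ?_⟩
    simp [LinearMap.sub_apply]
  have hWN : ∀ w ∈ W, N w ∈ W := by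
    rintro _ ⟨x, rfl⟩
    refine ⟨N x, ?_⟩
    simp only [LinearMap.sub_apply, Module.End.one_apply, map_sub, hNBa]
  -- freeness on W
  have hgeom : (∑ i ∈ Finset.range r, B ^ i) * (B - 1) = 0 := by
    rw [geom_sum_mul, hB, sub_self]
  have hfree : ∀ w ∈ W, B w = w → w = 0 := by
    rintro _ ⟨x, rfl⟩ hw
    set w := (B - 1) x with hwdef
    have h1 : ∀ i : ℕ, (B ^ i) w = w := by
      intro i
      induction i with
      | zero => simp
      | succ i ih => rw [pow_succ, Module.End.mul_apply, hw, ih]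
    have h2 : (∑ i ∈ Finset.range r, B ^ i) w = (r : F) • w := by
      rw [LinearMap.sum_apply, Finset.sum_congr rfl (fun i _ => h1 i), Finset.sum_const,
        Finset.card_range, Nat.cast_smul_eq_nsmul]
    have h3 : (∑ i ∈ Finset.range r, B ^ i) w = 0 := by
      rw [hwdef, ← Module.End.mul_apply, hgeom]; rfl
    rw [h2] at h3
    exact (smul_eq_zero.mp h3).resolve_left hr
  have hW0 : W ≠ ⊥ := by
    intro h
    apply hB1
    rw [hWdef, LinearMap.range_eq_bot, sub_eq_zero] at h
    exact h
  have hpos : ∀ (U : Submodule F V), U ≠ ⊥ → 1 ≤ finrank F U := by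
    intro U hU
    by_contra h0
    exact hU (Submodule.finrank_eq_zero.mp (by omega))
  -- general consequence of (L1)
  have hL1 : ∀ (U : Submodule F V), U ≠ ⊥ → (∀ u ∈ U, B u ∈ U) → (∀ u ∈ U, B u = u → u = 0) →
      n < finrank F U + 2 := by
    intro U hU0 hUB hUf
    by_contra hlt
    exact hcon (finrank F U) (hpos U hU0) (by omega) (dvd_card_sub_one_of_free B r hB U hUB hUf)
  have hdW := hL1 W hW0 hWB hfree
  have hWle : finrank F W ≤ n := Submodule.finrank_le W
  -- U = ker N ⊓ W
  set U : Submodule F V := LinearMap.ker N ⊓ W with hUdef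
  have hU0 : U ≠ ⊥ := by
    obtain ⟨u, hu, hu0, hNu⟩ := exists_ker_of_nilpotent N hA W hWN hW0
    intro h
    have : u ∈ U := ⟨hNu, hu⟩
    rw [h, Submodule.mem_bot] at this
    exact hu0 this
  have hUB : ∀ u ∈ U, B u ∈ U := by
    rintro u ⟨hu1, hu2⟩
    refine ⟨?_, hWB u hu2⟩
    have hu1' : N u = 0 := hu1
    change N (B u) = 0
    rw [hNBa, hu1', map_zero]
  have hUf : ∀ u ∈ U, B u = u → u = 0 := fun u hu => hfree u hu.2
  have hdU := hL1 U hU0 hUB hUf
  have hUW : U ≤ W := inf_le_right
  by_cases hcase : U = W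
  · -- A - 1 vanishes on W
    have hWker : W ≤ LinearMap.ker N := by
      rw [← hcase]; exact inf_le_left
    have hV1N : ∀ v ∈ V1, N v ∈ V1 := by
      intro v hv
      rw [hV1mem] at hv ⊢
      rw [← hNBa, hv]
    have hV1ker : V1 ≤ LinearMap.ker N := by
      by_contra hnot
      have hV10 : V1 ≠ ⊥ := by
        intro h; apply hnot; rw [h]; exact bot_le
      have hd1 : finrank F V1 = 1 := by
        have := hpos V1 hV10
        omega
      obtain ⟨u, hu, hu0, hNu⟩ := exists_ker_of_nilpotent N hA V1 hV1N hV10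
      apply hnot
      intro v hv
      obtain ⟨c, rfl⟩ : ∃ c : F, c • u = v := by
        have h1 := (finrank_eq_one_iff_of_nonzero' (⟨u, hu⟩ : V1) (by
          intro h; exact hu0 (congrArg Subtype.val h))).mp hd1 ⟨v, hv⟩
        obtain ⟨c, hc⟩ := h1
        exact ⟨c, congrArg Subtype.val hc⟩
      rw [LinearMap.mem_ker, map_smul, hNu, smul_zero]
    have hdisj : V1 ⊓ W = ⊥ := by
      rw [eq_bot_iff]
      rintro v ⟨hv1, hv2⟩
      rw [Submodule.mem_bot]
      exact hfree v hv2 ((hV1mem v).mp hv1)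
    have hsup : V1 ⊔ W = ⊤ := by
      apply Submodule.eq_top_of_finrank_eq
      have := Submodule.finrank_sup_add_finrank_inf_eq V1 W
      rw [hdisj, finrank_bot] at this
      omega
    have : LinearMap.ker N = ⊤ := by
      rw [eq_top_iff, ← hsup]
      exact sup_le hV1ker hWker
    apply hA1
    rw [LinearMap.ker_eq_top] at this
    exact sub_eq_zero.mp this
  · have hlt : finrank F U < finrank F W :=
      Submodule.finrank_lt_finrank_of_lt (lt_of_le_of_ne hUW hcase)
    have hWtop : W = ⊤ := Submodule.eq_top_of_finrank_eq (by omega)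
    have hkle : U ≤ LinearMap.ker N := inf_le_left
    have hkdim : finrank F (LinearMap.ker N) ≠ n := by
      intro h
      apply hA1
      have := Submodule.eq_top_of_finrank_eq h
      rw [LinearMap.ker_eq_top] at this
      exact sub_eq_zero.mp this
    have hk1 : finrank F U ≤ finrank F (LinearMap.ker N) := Submodule.finrank_mono hkle
    have hk2 : finrank F (LinearMap.ker N) ≤ n := Submodule.finrank_le _
    have hrn := LinearMap.finrank_range_add_finrank_ker N
    set L : Submodule F V := LinearMap.range N with hLdef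
    have hL1' : finrank F L = 1 := by omega
    have hL0 : L ≠ ⊥ := by
      intro h
      rw [h, finrank_bot] at hL1'
      omega
    have hLB : ∀ u ∈ L, B u ∈ L := by
      rintro _ ⟨x, rfl⟩
      exact ⟨B x, hNBa x⟩
    have hLf : ∀ u ∈ L, B u = u → u = 0 := by
      intro u _ hu
      exact hfree u (by rw [hWtop]; trivial) hu
    have := hL1 L hL0 hLB hLf
    omega

end Cfsg.Agent.Helper42.PrimeCent
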