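import Mathlib
import Cfsg.Agent.Lib.Helper42.PrimeCent
import Cfsg.Agent.Lib.Helper42.Jordan6
import Cfsg.Agent.Lib.Helper5.SLCard

set_option autoImplicit false

namespace Cfsg.Agent.Helper42.PrimeCent

open Module Matrix

variable {F : Type*} [Field F] [Fintype F]

/-- `|SL_m(q)| = q^(m-1) ∏_{i<m-1} (q^m - q^i)` -/
lemma card_SL_succ (k : ℕ) :
    Nat.card (SpecialLinearGroup (Fin (k + 1)) F) =
      Fintype.card F ^ k * ∏ i : Fin k, (Fintype.card F ^ (k + 1) - Fintype.card F ^ (i : ℕ)) := by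
  set q := Fintype.card F with hq
  have hq2 : 2 ≤ q := Fintype.one_lt_card
  have h := Cfsg.Agent.Helper5.card_SL_mul (F := F) rfl (k + 1) (Nat.succ_pos k)
  rw [Fin.prod_univ_castSucc] at h
  simp only [Fin.val_castSucc, Fin.val_last] at h
  have h2 : q ^ (k + 1) - q ^ k = q ^ k * (q - 1) := by
    rw [pow_succ, Nat.mul_sub, mul_one]
  rw [h2, ← mul_assoc] at h
  have hq1 : 0 < q - 1 := by omega
  have := Nat.eq_of_mul_eq_mul_right hq1 h
  rw [this, mul_comm]

lemma dvd_card_SL_of_dvd (m : ℕ) (hm : 2 ≤ m) (r : ℕ) (j : ℕ) (hj1 : 1 ≤ j)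
    (hjm : j ≤ m) (h : r ∣ Fintype.card F ^ j - 1) :
    r ∣ Nat.card (SpecialLinearGroup (Fin m) F) := by
  set q := Fintype.card F with hq
  have hq2 : 2 ≤ q := Fintype.one_lt_card
  obtain ⟨k, rfl⟩ : ∃ k, m = k + 1 := ⟨m - 1, by omega⟩
  rw [card_SL_succ]
  -- reduce to 2 ≤ j
  have key : ∀ j, 2 ≤ j → j ≤ k + 1 → r ∣ q ^ j - 1 →
      r ∣ q ^ k * ∏ i : Fin k, (q ^ (k + 1) - q ^ (i : ℕ)) := by
    intro j hj2 hjk hd
    apply Dvd.dvd.mul_left
    have hi : k + 1 - j < k := by omega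
    have hterm : q ^ (k + 1) - q ^ (k + 1 - j) = q ^ (k + 1 - j) * (q ^ j - 1) := by
      rw [Nat.mul_sub, mul_one, ← pow_add]
      congr 2
      omega
    have hmem := Finset.dvd_prod_of_mem (fun i : Fin k => q ^ (k + 1) - q ^ (i : ℕ))
      (Finset.mem_univ (⟨k + 1 - j, hi⟩ : Fin k))
    simp only at hmem
    rw [hterm] at hmem
    exact (hd.mul_left _).trans hmem
  rcases Nat.lt_or_ge j 2 with hlt | hge
  · have hj : j = 1 := by omega
    subst hj
    apply key 2 (le_refl 2) (by omega)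
    have : q ^ 2 - 1 = (q - 1) * (q + 1) := by
      have h1 : 1 ≤ q := by omega
      zify [h1, Nat.one_le_pow 2 q h1]
      ring
    rw [this]
    rw [pow_one] at h
    exact h.mul_right _
  · exact key j hge hjm h

lemma char_dvd_card_SL (p : ℕ) [Fact p.Prime] [CharP F p] (m : ℕ) (hm : 2 ≤ m) :
    p ∣ Nat.card (SpecialLinearGroup (Fin m) F) := by
  obtain ⟨k, rfl⟩ : ∃ k, m = k + 1 := ⟨m - 1, by omega⟩
  rw [card_SL_succ]
  apply Dvd.dvd.mul_right
  obtain ⟨f, hf⟩ := FiniteField.card F p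
  have : p ∣ Fintype.card F := by
    rw [hf.2]
    exact dvd_pow_self p f.ne_zero
  exact this.trans (dvd_pow_self _ (by omega))


/-- a scalar matrix of determinant one is central in `SL_n` -/
lemma mem_center_of_scalar {n : ℕ} (g : SpecialLinearGroup (Fin n) F) (c : F)
    (h : g.val = c • (1 : Matrix (Fin n) (Fin n) F)) :
    g ∈ Subgroup.center (SpecialLinearGroup (Fin n) F) := by
  rw [Matrix.SpecialLinearGroup.mem_center_iff]
  refine ⟨c, ?_, ?_⟩
  · have := g.2
    rw [h, Matrix.det_smul, Matrix.det_one, mul_one] at this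
    simpa using this
  · rw [h]
    ext i j
    simp [Matrix.scalar_apply, Matrix.one_apply, Matrix.diagonal_apply]

lemma exists_scalar_of_mem_center {n : ℕ} (g : SpecialLinearGroup (Fin n) F)
    (h : g ∈ Subgroup.center (SpecialLinearGroup (Fin n) F)) :
    ∃ c : F, c ^ n = 1 ∧ g.val = c • (1 : Matrix (Fin n) (Fin n) F) := by
  rw [Matrix.SpecialLinearGroup.mem_center_iff] at h
  obtain ⟨c, hc, hg⟩ := h
  refine ⟨c, by simpa using hc, ?_⟩
  rw [← hg]
  ext i j
  simp [Matrix.scalar_apply, Matrix.one_apply, Matrix.diagonal_apply]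

lemma twisted_comm_pow {n : ℕ} (A B : Matrix (Fin n) (Fin n) F) (c : F)
    (h : A * B = c • (B * A)) (k : ℕ) : A ^ k * B = c ^ k • (B * A ^ k) := by
  induction k with
  | zero => simp
  | succ k ih =>
    rw [pow_succ', Matrix.mul_assoc, ih, Matrix.mul_smul, ← Matrix.mul_assoc, h, Matrix.smul_mul,
      smul_smul, Matrix.mul_assoc, ← pow_succ', ← pow_succ]

/-- the linear-algebra core for matrices -/
theorem core_matrix {n : ℕ} (hn : 3 ≤ n) (p : ℕ) [Fact p.Prime] [CharP F p] (r : ℕ) [Fact r.Prime]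
    (hrp : r ≠ p) (A B : Matrix (Fin n) (Fin n) F) (hA : A ^ p = 1) (hA1 : A ≠ 1)
    (hB : B ^ r = 1) (hB1 : B ≠ 1) (hAB : A * B = B * A) :
    ∃ j, 1 ≤ j ∧ j + 2 ≤ n ∧ r ∣ Fintype.card F ^ j - 1 := by
  have hp : p.Prime := Fact.out
  have hr : r.Prime := Fact.out
  have hrF : (r : F) ≠ 0 := by
    intro h
    have := (CharP.cast_eq_zero_iff F p r).mp h
    exact hrp ((Nat.prime_dvd_prime_iff_eq hp hr).mp this).symm
  have hnil : IsNilpotent (Matrix.toLin' A - 1) := by
    refine ⟨p, ?_⟩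
    have h1 := Cfsg.Agent.Helper42.Jordan.sub_one_pow_char p A 1
    rw [pow_one, hA, sub_self] at h1
    have : Matrix.toLin' A - 1 = Matrix.toLin' (A - 1) := by
      rw [map_sub, Matrix.toLin'_one]; rfl
    rw [this, ← Matrix.toLin'_pow, h1, map_zero]
  have h := core (F := F) (V := Fin n → F) r hrF (Matrix.toLin' A) (Matrix.toLin' B) hnil
    (by
      intro h
      apply hA1
      apply Matrix.toLin'.injective
      rw [h, Matrix.toLin'_one]; rfl)
    (by rw [← Matrix.toLin'_pow, hB, Matrix.toLin'_one]; rfl)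
    (by
      intro h
      apply hB1
      apply Matrix.toLin'.injective
      rw [h, Matrix.toLin'_one]; rfl)
    (by
      rw [Module.End.mul_eq_comp, Module.End.mul_eq_comp, ← Matrix.toLin'_mul, ← Matrix.toLin'_mul,
        hAB])
    (by simpa using hn)
  simpa [Nat.card_eq_fintype_card] using h

end Cfsg.Agent.Helper42.PrimeCent
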