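import Mathlib
import Cfsg.Prelude.Def_Involutions
import Cfsg.Agent.Lib.Helper4.AbInv.Defs
import Cfsg.Agent.Lib.Helper45.CIT

set_option autoImplicit false

/-! Groups with abelian involution centralizers (S2202, helper4's plan): basic facts (B1)-(B4). -/

namespace Cfsg.Agent.Helper42.AbInv

open Cfsg.Agent.Helper4.AbInv Cfsg.Agent.Helper45.SE Cfsg.Agent.Helper45.CIT
open Pointwise

variable {G : Type*} [Group G]

theorem mem_smul_sylow (g x : G) (Q : Sylow 2 G) :
    x ∈ ((g • Q : Sylow 2 G) : Subgroup G) ↔ g⁻¹ * x * g ∈ (Q : Subgroup G) := by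
  rw [Sylow.coe_subgroup_smul, Subgroup.mem_pointwise_smul_iff_inv_smul_mem]
  simp [MulAut.smul_def]

section
variable [Finite G]

/-- a central involution of a nontrivial Sylow 2-subgroup. -/
theorem exists_central_invol (Q : Sylow 2 G) (hQ : (Q : Subgroup G) ≠ ⊥) :
    ∃ z : G, orderOf z = 2 ∧ z ∈ (Q : Subgroup G) ∧ ∀ n ∈ (Q : Subgroup G), n * z = z * n := by
  have : Fact (Nat.Prime 2) := ⟨Nat.prime_two⟩
  have hTnt : Nontrivial (Q : Subgroup G) := (Subgroup.nontrivial_iff_ne_bot _).mpr hQ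
  have hcen : Nontrivial (Subgroup.center (Q : Subgroup G)) := Q.isPGroup'.center_nontrivial
  have hceven : Even (Nat.card (Subgroup.center (Q : Subgroup G))) := by
    have hp : IsPGroup 2 (Subgroup.center (Q : Subgroup G)) := Q.isPGroup'.to_subgroup _
    obtain ⟨n, hn⟩ := IsPGroup.iff_card.mp hp
    rw [hn]
    have hn0 : n ≠ 0 := by
      intro h0
      rw [h0, pow_zero] at hn
      have := (Nat.card_eq_one_iff_unique.mp hn).1
      exact not_subsingleton _ this
    exact (Nat.even_pow.mpr ⟨even_two, hn0⟩)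
  have h2dvd : 2 ∣ Nat.card (Subgroup.center (Q : Subgroup G)) := even_iff_two_dvd.mp hceven
  obtain ⟨z, hz⟩ := exists_prime_orderOf_dvd_card' (G := Subgroup.center (Q : Subgroup G)) 2 h2dvd
  refine ⟨((z : (Q : Subgroup G)) : G), ?_, (z : (Q : Subgroup G)).2, ?_⟩
  · rw [Subgroup.orderOf_coe, Subgroup.orderOf_coe, hz]
  · intro n hn
    have := Subgroup.mem_center_iff.mp z.2 ⟨n, hn⟩
    have h2 := congrArg (Subtype.val) this
    simpa using h2

/-- (B1) Sylow 2-subgroups are abelian. -/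
theorem sylow_comm (hab : AbInvHyp G) (Q : Sylow 2 G) :
    ∀ a ∈ (Q : Subgroup G), ∀ b ∈ (Q : Subgroup G), a * b = b * a := by
  intro a ha b hb
  by_cases hQ : (Q : Subgroup G) = ⊥
  · rw [hQ, Subgroup.mem_bot] at ha hb
    rw [ha, hb]
  · obtain ⟨z, hz, -, hzc⟩ := exists_central_invol Q hQ
    exact hab z hz a b (hzc a ha) (hzc b hb)

/-- (B2) an element commuting with an involution of `Q` centralizes `Q`. -/
theorem comm_of_comm_invol (hab : AbInvHyp G) (Q : Sylow 2 G) {t x p : G} (ht : orderOf t = 2)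
    (htQ : t ∈ (Q : Subgroup G)) (hx : x * t = t * x) (hp : p ∈ (Q : Subgroup G)) :
    x * p = p * x :=
  hab t ht x p hx (sylow_comm hab Q p hp t htQ)

/-- (B3) two Sylow 2-subgroups with a common involution coincide. -/
theorem sylow_eq_of_common_invol (hab : AbInvHyp G) (Q Q' : Sylow 2 G) {t : G}
    (ht : orderOf t = 2) (htQ : t ∈ (Q : Subgroup G)) (htQ' : t ∈ (Q' : Subgroup G)) : Q = Q' := by
  have hcomm : ∀ q' ∈ (Q' : Subgroup G), ∀ p ∈ (Q : Subgroup G), q' * p * q'⁻¹ = p := by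
    intro q' hq' p hp
    have h1 : q' * p = p * q' :=
      comm_of_comm_invol hab Q ht htQ (sylow_comm hab Q' q' hq' t htQ') hp
    rw [h1, mul_assoc, mul_inv_cancel, mul_one]
  have hle : (Q' : Subgroup G) ≤ Subgroup.normalizer ((Q : Subgroup G) : Set G) := by
    intro q' hq'
    rw [Subgroup.mem_normalizer_iff]
    intro n
    constructor
    · intro hn
      rw [hcomm q' hq' n hn]; exact hn
    · intro hn
      have h1 := hcomm q'⁻¹ ((Q' : Subgroup G).inv_mem hq') _ hn
      have h2 : q'⁻¹ * (q' * n * q'⁻¹) * q'⁻¹⁻¹ = n := by group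
      rw [h2] at h1
      rw [h1]; exact hn
  have hsup := IsPGroup.to_sup_of_normal_left' Q.isPGroup' Q'.isPGroup' hle
  have h1 := Q.is_maximal' hsup le_sup_left
  have h2 : (Q' : Subgroup G) ≤ (Q : Subgroup G) := by rw [← h1]; exact le_sup_right
  have h3 := Q'.is_maximal' Q.isPGroup' h2
  exact Sylow.ext h3

/-- (B4) the normalizer of a nontrivial non-normal Sylow 2-subgroup is strongly embedded. -/
theorem se_normalizer (hab : AbInvHyp G) (P : Sylow 2 G) (hP : (P : Subgroup G) ≠ ⊥)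
    (hnn : ¬ (P : Subgroup G).Normal) : Cfsg.IsStronglyEmbedded (NT P) := by
  obtain ⟨z, hzG, hzP, -⟩ := exists_central_invol P hP
  refine ⟨?_, ?_, ?_⟩
  · intro h'
    exact hnn (Subgroup.normalizer_eq_top_iff.mp h')
  · exact even_card_of_mem _ hzG (Subgroup.le_normalizer hzP)
  · intro g hg
    rw [← Nat.not_even_iff_odd]
    intro hev
    apply hg
    obtain ⟨s, hsmem, hs⟩ := exists_invol_of_even _ hev
    have hsP : s ∈ (P : Subgroup G) := mem_of_mem_normalizer P hs hsmem.1
    have hs' : orderOf (g⁻¹ * s * g) = 2 := by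
      have := orderOf_conj' g⁻¹ s
      rw [inv_inv] at this
      rw [this, hs]
    have hs'P : g⁻¹ * s * g ∈ (P : Subgroup G) :=
      mem_of_mem_normalizer P hs' ((mem_conj_map _ g s).mp hsmem.2)
    have hsgP : s ∈ ((g • P : Sylow 2 G) : Subgroup G) := (mem_smul_sylow g s P).mpr hs'P
    have heq : g • P = P := (sylow_eq_of_common_invol hab P (g • P) hs hsP hsgP).symm
    exact Sylow.smul_eq_iff_mem_normalizer.mp heq

end

end Cfsg.Agent.Helper42.AbInv
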