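import Mathlib
import Cfsg.Agent.Lib.Helper42.AbInvBasic

set_option autoImplicit false
set_option linter.unusedSectionVars false

/-! S2202 (helper4), task T1a-i: under the TI hypothesis, an involution `u ∉ N(P)` inverts
`D = N(P) ∩ N(P)^u`, and `D ∩ C(P) = 1`. -/

namespace Cfsg.Agent.Helper42.AbInv

open Cfsg.Agent.Helper4.AbInv Cfsg.Agent.Helper45.SE Cfsg.Agent.Helper45.CIT
open Pointwise Subgroup

variable {G : Type*} [Group G] [Finite G]

/-- the set-up of case 2 -/
structure Ctx (P : Sylow 2 G) (u : G) : Prop where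
  hab : AbInvHyp G
  hTI : TIHyp G
  hP : (P : Subgroup G) ≠ ⊥
  hnn : ¬ (P : Subgroup G).Normal
  hu : orderOf u = 2
  huN : u ∉ NT P

namespace Ctx

variable {P : Sylow 2 G} {u : G}

theorem se (c : Ctx P u) : Cfsg.IsStronglyEmbedded (NT P) := se_normalizer c.hab P c.hP c.hnn

theorem uinv (c : Ctx P u) : u⁻¹ = u := inv_self c.hu

theorem uu (c : Ctx P u) : u * u = 1 := mul_self' c.hu

theorem hxy (c : Ctx P u) : pt0 P ≠ (QuotientGroup.mk u : G ⧸ NT P) := pt0_ne_mk c.huN

/-- `D = N(P) ∩ N(P)^u` -/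
abbrev D (_c : Ctx P u) : Subgroup G := Dw P (QuotientGroup.mk u : G ⧸ NT P)

theorem mem_D (c : Ctx P u) {e : G} : e ∈ c.D ↔ e ∈ NT P ∧ u⁻¹ * e * u ∈ NT P := by
  rw [mem_Dw, smul_mk_eq_iff]

/-- `u` normalizes `D` -/
theorem conj_mem_D (c : Ctx P u) {e : G} (he : e ∈ c.D) : u * e * u⁻¹ ∈ c.D := by
  rw [c.mem_D] at he ⊢
  refine ⟨?_, ?_⟩
  · have := he.2
    rwa [c.uinv] at this ⊢
  · have : u⁻¹ * (u * e * u⁻¹) * u = e := by group
    rw [this]; exact he.1

theorem odd_orderOf (c : Ctx P u) {e : G} (he : e ∈ c.D) : Odd (orderOf e) := by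
  have hodd := c.se.2.2 u c.huN
  rw [← Dw_mk_eq] at hodd
  have h1 : orderOf (⟨e, he⟩ : c.D) ∣ Nat.card c.D := orderOf_dvd_natCard _
  have h2 : orderOf (⟨e, he⟩ : c.D) = orderOf e := by
    rw [← Subgroup.orderOf_coe]
  rw [h2] at h1
  exact Odd.of_dvd_nat hodd h1

/-- `e` centralizes `P` -/
def CP (P : Sylow 2 G) (e : G) : Prop := ∀ p ∈ (P : Subgroup G), e * p = p * e

omit [Finite G] in
theorem CP_inv {e : G} (h : CP P e) : CP P e⁻¹ := by
  intro p hp
  have := h p hp
  calc e⁻¹ * p = e⁻¹ * (p * e) * e⁻¹ := by group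
    _ = e⁻¹ * (e * p) * e⁻¹ := by rw [this]
    _ = p * e⁻¹ := by group

omit [Finite G] in
theorem CP_mul {e f : G} (he : CP P e) (hf : CP P f) : CP P (e * f) := by
  intro p hp
  rw [mul_assoc, hf p hp, ← mul_assoc, he p hp, mul_assoc]

omit [Finite G] in
/-- `N(P)` normalizes `C(P)` -/
theorem CP_conj {e b : G} (he : CP P e) (hb : b ∈ NT P) : CP P (b * e * b⁻¹) := by
  intro p hp
  have hp' : b⁻¹ * p * b ∈ (P : Subgroup G) := by
    have := conj_mem_T (T := P) ((NT P).inv_mem hb) hp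
    rwa [inv_inv] at this
  have := he _ hp'
  calc b * e * b⁻¹ * p = b * (e * (b⁻¹ * p * b)) * b⁻¹ := by group
    _ = b * ((b⁻¹ * p * b) * e) * b⁻¹ := by rw [this]
    _ = p * (b * e * b⁻¹) := by group

omit [Finite G] in
theorem CP_mem_NT {e : G} (he : CP P e) : e ∈ NT P := by
  rw [Subgroup.mem_normalizer_iff]
  intro n
  constructor
  · intro hn
    rw [he n hn, mul_assoc, mul_inv_cancel, mul_one]; exact hn
  · intro hn
    have h1 := CP_inv he _ hn
    have h2 : e⁻¹ * (e * n * e⁻¹) = n * e⁻¹ := by group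
    rw [h2] at h1
    have h3 : n = e * n * e⁻¹ := by
      have := mul_right_cancel h1
      exact this
    rw [h3]; exact hn

/-- an involution commuting with an involution of `P` lies in `P`. -/
theorem invol_mem_of_comm (c : Ctx P u) {s t : G} (hs : orderOf s = 2) (ht : orderOf t = 2)
    (htP : t ∈ (P : Subgroup G)) (hst : s * t = t * s) : s ∈ (P : Subgroup G) := by
  have h1 : CP P s := fun p hp => comm_of_comm_invol c.hab P ht htP hst hp
  exact mem_of_mem_normalizer P hs (CP_mem_NT h1)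

/-- Lemma B: `X_P ∩ X_Q = 1`. -/
theorem eq_one_of_CP_CP (c : Ctx P u) {e : G} (he : e ∈ c.D) (h1 : CP P e)
    (h2 : CP P (u⁻¹ * e * u)) : e = 1 := by
  by_contra hne
  obtain ⟨z, hz, hzP, -⟩ := exists_central_invol P c.hP
  set g : G := u * z * u⁻¹ with hg
  have hgo : orderOf g = 2 := by rw [hg, orderOf_conj', hz]
  -- `e` commutes with `g`
  have heg : g * e = e * g := by
    have := h2 z hzP
    calc g * e = u * (z * (u⁻¹ * e * u)) * u⁻¹ := by rw [hg]; group
      _ = u * ((u⁻¹ * e * u) * z) * u⁻¹ := by rw [this]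
      _ = e * g := by rw [hg]; group
  have hti := c.hTI z e g hz (h1 z hzP) (c.odd_orderOf he) hne heg
  set s : G := g * z * g⁻¹ with hs
  have hso : orderOf s = 2 := by rw [hs, orderOf_conj', hz]
  have hsP : s ∈ (P : Subgroup G) := c.invol_mem_of_comm hso hz hzP hti
  -- `s ∈ P ∩ g • P`
  have hsgP : s ∈ ((g • P : Sylow 2 G) : Subgroup G) := by
    rw [mem_smul_sylow]
    have : g⁻¹ * s * g = z := by rw [hs]; group
    rw [this]; exact hzP
  have hgP : g • P = P := (sylow_eq_of_common_invol c.hab P (g • P) hso hsP hsgP).symm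
  have hgN : g ∈ NT P := Sylow.smul_eq_iff_mem_normalizer.mp hgP
  have hgP' : g ∈ (P : Subgroup G) := mem_of_mem_normalizer P hgo hgN
  have hguP : g ∈ ((u • P : Sylow 2 G) : Subgroup G) := by
    rw [mem_smul_sylow]
    have : u⁻¹ * g * u = z := by rw [hg]; group
    rw [this]; exact hzP
  have huP : u • P = P := (sylow_eq_of_common_invol c.hab P (u • P) hgo hgP' hguP).symm
  exact c.huN (Sylow.smul_eq_iff_mem_normalizer.mp huP)

/-- Lemma C: `X_P` and `X_Q` commute elementwise. -/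
theorem comm_of_CP_CP (c : Ctx P u) {a b : G} (ha : a ∈ c.D) (hb : b ∈ c.D) (h1 : CP P a)
    (h2 : CP P (u⁻¹ * b * u)) : a * b = b * a := by
  have hcD : a * b * a⁻¹ * b⁻¹ ∈ c.D :=
    c.D.mul_mem (c.D.mul_mem (c.D.mul_mem ha hb) (c.D.inv_mem ha)) (c.D.inv_mem hb)
  have hbN : b ∈ NT P := (c.mem_D.mp hb).1
  have haN' : u⁻¹ * a * u ∈ NT P := (c.mem_D.mp ha).2
  have e1 : CP P (a * b * a⁻¹ * b⁻¹) := by
    have h3 : CP P (b * a⁻¹ * b⁻¹) := CP_conj (CP_inv h1) hbN
    have h4 := CP_mul h1 h3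
    have : a * (b * a⁻¹ * b⁻¹) = a * b * a⁻¹ * b⁻¹ := by group
    rwa [this] at h4
  have e2 : CP P (u⁻¹ * (a * b * a⁻¹ * b⁻¹) * u) := by
    have h3 : CP P ((u⁻¹ * a * u) * (u⁻¹ * b * u) * (u⁻¹ * a * u)⁻¹) := CP_conj h2 haN'
    have h4 := CP_mul h3 (CP_inv h2)
    have : (u⁻¹ * a * u) * (u⁻¹ * b * u) * (u⁻¹ * a * u)⁻¹ * (u⁻¹ * b * u)⁻¹
        = u⁻¹ * (a * b * a⁻¹ * b⁻¹) * u := by group
    rwa [this] at h4
  have := c.eq_one_of_CP_CP hcD e1 e2
  calc a * b = (a * b * a⁻¹ * b⁻¹) * (b * a) := by group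
    _ = b * a := by rw [this, one_mul]

/-- Lemma D: `D ∩ C(P) = 1`. -/
theorem eq_one_of_CP (c : Ctx P u) {a : G} (ha : a ∈ c.D) (h1 : CP P a) : a = 1 := by
  set a' : G := u * a * u⁻¹ with ha'
  have ha'D : a' ∈ c.D := c.conj_mem_D ha
  have h2 : CP P (u⁻¹ * a' * u) := by
    have : u⁻¹ * a' * u = a := by rw [ha']; group
    rw [this]; exact h1
  have hcomm : a * a' = a' * a := c.comm_of_CP_CP ha ha'D h1 h2
  set x : G := a * a' with hx
  have hxD : x ∈ c.D := c.D.mul_mem ha ha'D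
  by_cases hx1 : x = 1
  · -- `a' = a⁻¹`
    have h3 : a' = a⁻¹ := by
      have : a * a' = 1 := hx1
      exact eq_inv_of_mul_eq_one_right this
    have h4 : CP P a' := by rw [h3]; exact CP_inv h1
    have h5 := c.eq_one_of_CP_CP ha'D h4 h2
    rw [h5] at h3
    have : a⁻¹ = 1 := h3.symm
    exact inv_eq_one.mp this
  · have hxu : x * u = u * x := by
      have h3 : u * a' = a * u := by
        rw [ha']
        calc u * (u * a * u⁻¹) = (u * u) * a * u⁻¹ := by group
          _ = a * u := by rw [c.uu, one_mul, c.uinv]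
      have h4 : u * a = a' * u := by rw [ha']; group
      calc x * u = a * (a' * u) := by rw [hx]; group
        _ = a * (u * a) := by rw [h4]
        _ = (a * u) * a := by group
        _ = u * a' * a := by rw [h3]
        _ = u * (a' * a) := by group
        _ = u * x := by rw [← hcomm]
    have hax : a * x = x * a := by
      rw [hx, mul_assoc, ← hcomm, ← mul_assoc]
    have hti := c.hTI u x a c.hu hxu (c.odd_orderOf hxD) hx1 hax
    -- `u' = a u a⁻¹` commutes with `u`
    set u' : G := a * u * a⁻¹ with hu'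
    have hu'o : orderOf u' = 2 := by rw [hu', orderOf_conj', c.hu]
    set w : G := u * u' with hw
    have hww : w * w = 1 := by
      calc w * w = u * (u' * u) * u' := by rw [hw]; group
        _ = u * (u * u') * u' := by rw [hti]
        _ = (u * u) * (u' * u') := by group
        _ = 1 := by rw [c.uu, mul_self' hu'o, one_mul]
    have haN : a ∈ NT P := (c.mem_D.mp ha).1
    have hay : a • (QuotientGroup.mk u : G ⧸ NT P) = QuotientGroup.mk u := (mem_Dw.mp ha).2
    have hwx : w • pt0 P = pt0 P := by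
      have h3 : a⁻¹ • pt0 P = pt0 P := mem_NT_iff.mp ((NT P).inv_mem haN)
      rw [hw, hu', mul_smul, mul_smul, mul_smul, h3, smul_pt0, hay, ← smul_pt0, ← mul_smul, c.uu,
        one_smul]
    have hwN : w ∈ NT P := mem_NT_iff.mpr hwx
    have hw1 : w = 1 := by
      by_contra hne
      have hwo : orderOf w = 2 := orderOf_two_of hww hne
      have hwP : w ∈ (P : Subgroup G) := mem_of_mem_normalizer P hwo hwN
      -- `u` commutes with `w`
      have huw : u * w = w * u := by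
        rw [hw]
        calc u * (u * u') = u * (u' * u) := by rw [hti]
          _ = u * u' * u := by group
      have hCPu : CP P u := fun p hp => comm_of_comm_invol c.hab P hwo hwP huw hp
      exact c.huN (CP_mem_NT hCPu)
    -- so `a` commutes with `u`
    have hu'u : u' = u := by
      have : u * u' = 1 := hw1
      have h3 : u' = u⁻¹ := eq_inv_of_mul_eq_one_right this
      rw [h3, c.uinv]
    have hau : a * u = u * a := by
      have : a * u * a⁻¹ = u := hu'u
      calc a * u = (a * u * a⁻¹) * a := by group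
        _ = u * a := by rw [this]
    have h3 : CP P (u⁻¹ * a * u) := by
      have : u⁻¹ * a * u = a := by
        rw [mul_assoc, hau, ← mul_assoc, inv_mul_cancel, one_mul]
      rw [this]; exact h1
    exact c.eq_one_of_CP_CP ha h1 h3

/-- `|D| = m`, the number of involutions of `P`. -/
theorem card_D (c : Ctx P u) : Nat.card c.D = numInv (NT P) := by
  obtain ⟨z, hz, hzP, -⟩ := exists_central_invol P c.hP
  unfold numInv
  apply Nat.card_eq_of_bijective (fun e : c.D =>
    (⟨e.1 * z * e.1⁻¹, by rw [orderOf_conj', hz],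
      Subgroup.le_normalizer (conj_mem_T (T := P) (c.mem_D.mp e.2).1 hzP)⟩ :
      {t : G // orderOf t = 2 ∧ t ∈ NT P}))
  constructor
  · intro e1 e2 he
    have he' : e1.1 * z * e1.1⁻¹ = e2.1 * z * e2.1⁻¹ := congrArg Subtype.val he
    have hc : (e2.1⁻¹ * e1.1) * z = z * (e2.1⁻¹ * e1.1) := by
      calc (e2.1⁻¹ * e1.1) * z = e2.1⁻¹ * (e1.1 * z * e1.1⁻¹) * e1.1 := by group
        _ = e2.1⁻¹ * (e2.1 * z * e2.1⁻¹) * e1.1 := by rw [he']
        _ = z * (e2.1⁻¹ * e1.1) := by group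
    have hCP : CP P (e2.1⁻¹ * e1.1) := fun p hp => comm_of_comm_invol c.hab P hz hzP hc hp
    have hD : e2.1⁻¹ * e1.1 ∈ c.D := c.D.mul_mem (c.D.inv_mem e2.2) e1.2
    have := c.eq_one_of_CP hD hCP
    exact Subtype.ext (inv_mul_eq_one.mp this).symm
  · rintro ⟨t, hto, htN⟩
    have htP : t ∈ (P : Subgroup G) := mem_of_mem_normalizer P hto htN
    obtain ⟨e, hex, hey, het⟩ := exists_conj_fix c.se c.hxy hz (fix_pt0 hzP) hto (fix_pt0 htP)
    exact ⟨⟨e, mem_Dw.mpr ⟨mem_NT_iff.mpr hex, hey⟩⟩, Subtype.ext het⟩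

/-- the inverted elements of `D` correspond to the involutions swapping the two points. -/
theorem card_K (c : Ctx P u) :
    Nat.card {e : G // e ∈ c.D ∧ u * e * u⁻¹ = e⁻¹} = numInv (NT P) := by
  rw [← card_swap c.se (pt0 P) (QuotientGroup.mk u)]
  apply Nat.card_congr
  refine ⟨fun e => ⟨u * e.1, ?_, ?_⟩, fun i => ⟨u⁻¹ * i.1, ?_, ?_⟩, ?_, ?_⟩
  · obtain ⟨e, heD, hinv⟩ := e
    apply orderOf_two_of
    · calc u * e * (u * e) = (u * e * u⁻¹) * (u * u) * e := by group
        _ = 1 := by rw [hinv, c.uu, mul_one, inv_mul_cancel]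
    · intro h1
      have h2 : e = u⁻¹ := eq_inv_of_mul_eq_one_right h1
      rw [c.uinv] at h2
      apply c.huN
      rw [← h2]
      exact (c.mem_D.mp heD).1
  · obtain ⟨e, heD, hinv⟩ := e
    rw [mul_smul, mem_NT_iff.mp (c.mem_D.mp heD).1, smul_pt0]
  · obtain ⟨i, hio, hi⟩ := i
    have h1 : u⁻¹ • (QuotientGroup.mk u : G ⧸ NT P) = pt0 P := by
      rw [← smul_pt0 u, ← mul_smul, inv_mul_cancel, one_smul]
    have h2 : i • (QuotientGroup.mk u : G ⧸ NT P) = pt0 P := by
      rw [← hi, ← mul_smul, mul_self' hio, one_smul]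
    rw [mem_Dw]
    refine ⟨mem_NT_iff.mpr ?_, ?_⟩
    · rw [mul_smul, hi, h1]
    · rw [mul_smul, h2, c.uinv, smul_pt0]
  · obtain ⟨i, hio, hi⟩ := i
    show u * (u⁻¹ * i) * u⁻¹ = (u⁻¹ * i)⁻¹
    rw [mul_inv_rev, inv_inv, inv_self hio, c.uinv, ← mul_assoc, c.uu, one_mul]
  · intro e
    apply Subtype.ext
    show u⁻¹ * (u * e.1) = e.1
    group
  · intro i
    apply Subtype.ext
    show u * (u⁻¹ * i.1) = i.1
    group

/-- `u` inverts `D`. -/
theorem inverts (c : Ctx P u) {e : G} (he : e ∈ c.D) : u * e * u⁻¹ = e⁻¹ := by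
  let ι : {e : G // e ∈ c.D ∧ u * e * u⁻¹ = e⁻¹} → c.D := fun e => ⟨e.1, e.2.1⟩
  have hinj : Function.Injective ι := by
    intro a b h
    have h1 : (ι a).1 = (ι b).1 := congrArg Subtype.val h
    exact Subtype.ext h1
  have hbij := hinj.bijective_of_nat_card_le (by rw [c.card_D, c.card_K])
  obtain ⟨k, hk⟩ := hbij.2 ⟨e, he⟩
  have : k.1 = e := congrArg Subtype.val hk
  rw [← this]; exact k.2.2

end Ctx

/-- T1a-i -/
theorem case2_invert {G : Type*} [Group G] [Finite G] (hab : AbInvHyp G) (hTI : TIHyp G)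
    (P : Sylow 2 G) (hnc : ¬ IsCyclic ↥(P : Subgroup G)) (hnn : ¬ (P : Subgroup G).Normal)
    (u : G) (hu : orderOf u = 2) (huN : u ∉ normalizer ((P : Subgroup G) : Set G))
    (d : G) (hd : d ∈ normalizer ((P : Subgroup G) : Set G))
    (hd' : u⁻¹ * d * u ∈ normalizer ((P : Subgroup G) : Set G)) :
    u * d * u⁻¹ = d⁻¹ ∧ (d ∈ centralizer ((P : Subgroup G) : Set G) → d = 1) := by
  have hP : (P : Subgroup G) ≠ ⊥ := by
    intro h
    apply hnc
    rw [h]
    infer_instance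
  have c : Ctx P u := ⟨hab, hTI, hP, hnn, hu, huN⟩
  have hdD : d ∈ c.D := c.mem_D.mpr ⟨hd, hd'⟩
  refine ⟨c.inverts hdD, fun hc => c.eq_one_of_CP hdD ?_⟩
  intro p hp
  exact (Subgroup.mem_centralizer_iff.mp hc p hp).symm

end Cfsg.Agent.Helper42.AbInv
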