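import Mathlib
import Cfsg.Agent.Lib.Helper42.AbInvT1a
import Cfsg.Agent.Lib.Helper53.UniqueInvol1

set_option autoImplicit false
set_option linter.unusedSectionVars false

/-! S2202 (helper4), task T1a-ii: under the TI hypothesis `G` acts on its Sylow 2-subgroups as a
Zassenhaus group: three-point stabilizers are trivial and `C(P)` is regular on the Sylow
2-subgroups different from `P`. -/

namespace Cfsg.Agent.Helper42.AbInv

open Cfsg.Agent.Helper4.AbInv Cfsg.Agent.Helper45.SE Cfsg.Agent.Helper45.CIT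
open Pointwise Subgroup

section free
variable {G X : Type*} [Group G] [MulAction G X]

/-- a finite subgroup acting freely on a finite invariant set: its order divides the size. -/
theorem card_dvd_of_free (D : Subgroup G) [Finite D] :
    ∀ (n : ℕ) (S : Set X), S.Finite → S.ncard = n → (∀ d ∈ D, ∀ x ∈ S, d • x ∈ S) →
      (∀ d ∈ D, ∀ x ∈ S, d • x = x → d = 1) → Nat.card D ∣ S.ncard := by
  intro n
  induction n using Nat.strong_induction_on with
  | _ n ih =>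
    intro S hSf hn hinv hfree
    by_cases hS : S = ∅
    · rw [hS, Set.ncard_empty]; exact dvd_zero _
    · obtain ⟨x, hx⟩ := Set.nonempty_iff_ne_empty.mpr hS
      set T : Set X := Set.range (fun d : D => (d : G) • x) with hT
      have hTS : T ⊆ S := by
        rintro _ ⟨d, rfl⟩
        exact hinv d d.2 x hx
      have hTf : T.Finite := hSf.subset hTS
      have hTcard : T.ncard = Nat.card D := by
        rw [hT, ← Set.image_univ, Set.ncard_image_of_injective, Set.ncard_univ]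
        intro d1 d2 h
        have h1 : ((d2 : G)⁻¹ * (d1 : G)) • x = x := by
          rw [mul_smul]
          have : (d1 : G) • x = (d2 : G) • x := h
          rw [this, ← mul_smul, inv_mul_cancel, one_smul]
        have h2 := hfree _ (D.mul_mem (D.inv_mem d2.2) d1.2) x hx h1
        exact Subtype.ext (inv_mul_eq_one.mp h2).symm
      have hdiff_inv : ∀ d ∈ D, ∀ y ∈ S \ T, d • y ∈ S \ T := by
        intro d hd y hy
        refine ⟨hinv d hd y hy.1, ?_⟩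
        rintro ⟨d', hd'⟩
        apply hy.2
        refine ⟨⟨d⁻¹ * d', D.mul_mem (D.inv_mem hd) d'.2⟩, ?_⟩
        show (d⁻¹ * (d' : G)) • x = y
        have hd'' : (d' : G) • x = d • y := hd'
        rw [mul_smul, hd'', ← mul_smul, inv_mul_cancel, one_smul]
      have hdiff_free : ∀ d ∈ D, ∀ y ∈ S \ T, d • y = y → d = 1 :=
        fun d hd y hy h => hfree d hd y hy.1 h
      have hcard : (S \ T).ncard + T.ncard = S.ncard := by
        rw [Set.ncard_sdiff hTS hTf]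
        have := Set.ncard_le_ncard hTS hSf
        omega
      have hpos : 0 < Nat.card D := Nat.card_pos
      have hlt : (S \ T).ncard < n := by omega
      have h1 := ih _ hlt (S \ T) (hSf.subset Set.sdiff_subset) rfl hdiff_inv hdiff_free
      rw [← hcard, hTcard]
      exact Dvd.dvd.add h1 (dvd_refl _)

end free

variable {G : Type*} [Group G] [Finite G]

/-- a 2-element normalizing a Sylow 2-subgroup lies in it -/
theorem mem_of_two_elt (Q : Sylow 2 G) {s : G} (a : ℕ) (hs : s ^ 2 ^ a = 1)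
    (hsN : s ∈ NT Q) : s ∈ (Q : Subgroup G) := by
  have : Fact (Nat.Prime 2) := ⟨Nat.prime_two⟩
  have hd : orderOf s ∣ 2 ^ a := orderOf_dvd_of_pow_eq_one hs
  obtain ⟨k, -, hk⟩ := (Nat.dvd_prime_pow Nat.prime_two).mp hd
  have hz : IsPGroup 2 (Subgroup.zpowers s) := by
    apply IsPGroup.of_card (n := k)
    rw [Nat.card_zpowers, hk]
  have hle : Subgroup.zpowers s ≤ Subgroup.normalizer ((Q : Subgroup G) : Set G) := by
    rw [Subgroup.zpowers_le]; exact hsN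
  have hsup := IsPGroup.to_sup_of_normal_left' Q.isPGroup' hz hle
  have := Q.is_maximal' hsup le_sup_left
  have h2 : Subgroup.zpowers s ≤ (Q : Subgroup G) := by
    rw [← this]; exact le_sup_right
  exact h2 (Subgroup.mem_zpowers s)

/-- the data: all Sylow 2-subgroups are noncyclic and non-normal -/
structure Ctx2 (G : Type*) [Group G] : Prop where
  hab : AbInvHyp G
  hTI : TIHyp G
  hnc : ∀ Q : Sylow 2 G, ¬ IsCyclic ↥(Q : Subgroup G)
  hnn : ∀ Q : Sylow 2 G, ¬ (Q : Subgroup G).Normal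

theorem ctx2_of (hab : AbInvHyp G) (hTI : TIHyp G) (P : Sylow 2 G)
    (hnc : ¬ IsCyclic ↥(P : Subgroup G)) (hnn : ¬ (P : Subgroup G).Normal) : Ctx2 G := by
  refine ⟨hab, hTI, ?_, ?_⟩
  · intro Q hQ
    apply hnc
    obtain ⟨h, rfl⟩ := MulAction.exists_smul_eq G Q P
    have e : ↥(Q : Subgroup G) ≃* ↥((h • Q : Sylow 2 G) : Subgroup G) :=
      Subgroup.equivSMul (MulAut.conj h) (Q : Subgroup G)
    exact isCyclic_of_surjective e e.surjective
  · intro Q hQ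
    apply hnn
    obtain ⟨h, rfl⟩ := MulAction.exists_smul_eq G Q P
    have : (h • Q : Sylow 2 G) = Q := Sylow.smul_eq_of_normal
    rw [this]; exact hQ

namespace Ctx2

theorem ne_bot (c : Ctx2 G) (Q : Sylow 2 G) : (Q : Subgroup G) ≠ ⊥ := by
  intro h
  apply c.hnc Q
  rw [h]
  infer_instance

omit [Finite G] in
theorem mem_NT_iff' (Q : Sylow 2 G) (g : G) : g ∈ NT Q ↔ g • Q = Q :=
  Sylow.smul_eq_iff_mem_normalizer.symm

theorem ctx (c : Ctx2 G) (Q : Sylow 2 G) {w : G} (hw : orderOf w = 2) (hwQ : w • Q ≠ Q) :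
    Ctx Q w :=
  ⟨c.hab, c.hTI, c.ne_bot Q, c.hnn Q, hw, fun h => hwQ ((mem_NT_iff' Q w).mp h)⟩

/-- an involution moving `Q` to `Q'`. -/
theorem exists_invol_smul (c : Ctx2 G) (Q Q' : Sylow 2 G) (_hne : Q ≠ Q') :
    ∃ w : G, orderOf w = 2 ∧ w • Q = Q' := by
  have hse := se_normalizer c.hab Q (c.ne_bot Q) (c.hnn Q)
  obtain ⟨h, hh⟩ := MulAction.exists_smul_eq G Q Q'
  obtain ⟨i, hi, hix⟩ := exists_swap_pt hse (pt0 Q) (QuotientGroup.mk h)
  refine ⟨i, hi, ?_⟩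
  rw [smul_pt0, QuotientGroup.eq] at hix
  have h1 : (i⁻¹ * h) • Q = Q := (mem_NT_iff' Q _).mp hix
  rw [mul_smul, hh] at h1
  rw [← h1, ← mul_smul, mul_inv_cancel, one_smul]

omit [Finite G] in
theorem swap_back' {w : G} (hw : orderOf w = 2) {Q Q' : Sylow 2 G} (h : w • Q = Q') :
    w • Q' = Q := by
  rw [← h, ← mul_smul, mul_self' hw, one_smul]

/-- membership in `D` in terms of the action on Sylow subgroups -/
theorem mem_D_iff (c : Ctx2 G) (Q : Sylow 2 G) {w : G} (hw : orderOf w = 2) (hwQ : w • Q ≠ Q)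
    (g : G) : g ∈ (c.ctx Q hw hwQ).D ↔ g • Q = Q ∧ g • (w • Q) = w • Q := by
  rw [(c.ctx Q hw hwQ).mem_D, mem_NT_iff', mem_NT_iff']
  constructor
  · rintro ⟨h1, h2⟩
    refine ⟨h1, ?_⟩
    rw [mul_smul, mul_smul] at h2
    have h3 : w • (w⁻¹ • g • w • Q) = w • Q := congrArg (fun R : Sylow 2 G => w • R) h2
    rwa [← mul_smul w w⁻¹, mul_inv_cancel, one_smul] at h3
  · rintro ⟨h1, h2⟩
    refine ⟨h1, ?_⟩
    rw [mul_smul, mul_smul, h2, ← mul_smul, inv_mul_cancel, one_smul]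

/-- an involution moving `Q` to `Q'` inverts the stabilizer of `Q` and `Q'`. -/
theorem inverts_of_fix (c : Ctx2 G) (Q Q' : Sylow 2 G) (hne : Q ≠ Q') {w : G}
    (hw : orderOf w = 2) (hwQ : w • Q = Q') {g : G} (hgQ : g • Q = Q) (hgQ' : g • Q' = Q') :
    w * g * w⁻¹ = g⁻¹ := by
  have hwQ' : w • Q ≠ Q := by rw [hwQ]; exact hne.symm
  apply (c.ctx Q hw hwQ').inverts
  rw [c.mem_D_iff Q hw hwQ', hwQ]
  exact ⟨hgQ, hgQ'⟩

theorem odd_of_fix (c : Ctx2 G) (Q Q' : Sylow 2 G) (hne : Q ≠ Q') {g : G} (hgQ : g • Q = Q)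
    (hgQ' : g • Q' = Q') : Odd (orderOf g) := by
  obtain ⟨w, hw, hwQ⟩ := c.exists_invol_smul Q Q' hne
  have hwQ' : w • Q ≠ Q := by rw [hwQ]; exact hne.symm
  apply (c.ctx Q hw hwQ').odd_orderOf
  rw [c.mem_D_iff Q hw hwQ', hwQ]
  exact ⟨hgQ, hgQ'⟩

/-- Z2: the stabilizer of three Sylow 2-subgroups is trivial. -/
theorem triple (c : Ctx2 G) (Q₁ Q₂ Q₃ : Sylow 2 G) (h12 : Q₁ ≠ Q₂) (h23 : Q₂ ≠ Q₃) (h13 : Q₁ ≠ Q₃)
    (g : G) (hg1 : g • Q₁ = Q₁) (hg2 : g • Q₂ = Q₂) (hg3 : g • Q₃ = Q₃) : g = 1 := by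
  obtain ⟨w1, hw1, hw1Q⟩ := c.exists_invol_smul Q₁ Q₂ h12
  obtain ⟨w2, hw2, hw2Q⟩ := c.exists_invol_smul Q₂ Q₃ h23
  obtain ⟨w3, hw3, hw3Q⟩ := c.exists_invol_smul Q₃ Q₁ h13.symm
  have i1 := c.inverts_of_fix Q₁ Q₂ h12 hw1 hw1Q hg1 hg2
  have i2 := c.inverts_of_fix Q₂ Q₃ h23 hw2 hw2Q hg2 hg3
  have i3 := c.inverts_of_fix Q₃ Q₁ h13.symm hw3 hw3Q hg3 hg1
  set y : G := w3 * w2 * w1 with hy
  have hyQ : y • Q₁ = Q₁ := by rw [hy, mul_smul, mul_smul, hw1Q, hw2Q, hw3Q]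
  have hyg : y * g * y⁻¹ = g⁻¹ := by
    have e1 : y * g * y⁻¹ = w3 * (w2 * (w1 * g * w1⁻¹) * w2⁻¹) * w3⁻¹ := by rw [hy]; group
    have e2 : w2 * g⁻¹ * w2⁻¹ = g := by
      have : w2 * g⁻¹ * w2⁻¹ = (w2 * g * w2⁻¹)⁻¹ := by group
      rw [this, i2, inv_inv]
    rw [e1, i1, e2, i3]
  have hodd := c.odd_of_fix Q₁ Q₂ h12 hg1 hg2
  -- odd powers of `y` invert `g`
  have hpow : ∀ k : ℕ, y ^ (2 * k + 1) * g * (y ^ (2 * k + 1))⁻¹ = g⁻¹ := by
    have hy2 : y * g⁻¹ * y⁻¹ = g := by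
      have : y * g⁻¹ * y⁻¹ = (y * g * y⁻¹)⁻¹ := by group
      rw [this, hyg, inv_inv]
    have hsq : ∀ k : ℕ, y ^ (2 * k) * g * (y ^ (2 * k))⁻¹ = g := by
      intro k
      induction k with
      | zero => simp
      | succ k ih =>
        have : y ^ (2 * (k + 1)) = y * y * y ^ (2 * k) := by
          rw [show 2 * (k + 1) = 2 * k + 1 + 1 by ring, pow_succ', pow_succ']; group
        rw [this]
        calc y * y * y ^ (2 * k) * g * (y * y * y ^ (2 * k))⁻¹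
            = y * (y * (y ^ (2 * k) * g * (y ^ (2 * k))⁻¹) * y⁻¹) * y⁻¹ := by group
          _ = g := by rw [ih, hyg, hy2]
    intro k
    rw [pow_succ']
    calc y * y ^ (2 * k) * g * (y * y ^ (2 * k))⁻¹
        = y * (y ^ (2 * k) * g * (y ^ (2 * k))⁻¹) * y⁻¹ := by group
      _ = g⁻¹ := by rw [hsq k, hyg]
  obtain ⟨a, b, hb, hab'⟩ := Nat.exists_eq_two_pow_mul_odd (orderOf_pos y).ne'
  obtain ⟨k, hk⟩ := hb
  set s : G := y ^ b with hs
  have hs2 : s ^ 2 ^ a = 1 := by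
    rw [hs, ← pow_mul, mul_comm, ← hab', pow_orderOf_eq_one]
  have hyN : y ∈ NT Q₁ := (mem_NT_iff' Q₁ y).mpr hyQ
  have hsN : s ∈ NT Q₁ := (NT Q₁).pow_mem hyN b
  have hsQ : s ∈ (Q₁ : Subgroup G) := mem_of_two_elt Q₁ a hs2 hsN
  have hsg : s * g * s⁻¹ = g⁻¹ := by rw [hs, hk]; exact hpow k
  -- `g⁻² ∈ Q₁`
  have hgN : g ∈ NT Q₁ := (mem_NT_iff' Q₁ g).mpr hg1
  have hg2Q : g⁻¹ * g⁻¹ ∈ (Q₁ : Subgroup G) := by
    have h1 : g * s⁻¹ * g⁻¹ ∈ (Q₁ : Subgroup G) :=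
      conj_mem_T (T := Q₁) hgN ((Q₁ : Subgroup G).inv_mem hsQ)
    have h2 := (Q₁ : Subgroup G).mul_mem hsQ h1
    have : s * (g * s⁻¹ * g⁻¹) = g⁻¹ * g⁻¹ := by
      calc s * (g * s⁻¹ * g⁻¹) = (s * g * s⁻¹) * g⁻¹ := by group
        _ = g⁻¹ * g⁻¹ := by rw [hsg]
    rwa [this] at h2
  -- an element of odd order in the 2-group `Q₁` is trivial
  have hgg : g⁻¹ * g⁻¹ = 1 := by
    obtain ⟨j, hj⟩ := (IsPGroup.iff_orderOf.mp Q₁.isPGroup') ⟨g⁻¹ * g⁻¹, hg2Q⟩
    rw [Subgroup.orderOf_mk] at hj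
    have hd : orderOf (g⁻¹ * g⁻¹) ∣ orderOf g := by
      rw [← orderOf_inv g, ← pow_two]
      exact orderOf_pow_dvd 2
    have hodd2 : Odd (orderOf (g⁻¹ * g⁻¹)) := Odd.of_dvd_nat hodd hd
    rw [hj] at hodd2
    have hj0 : j = 0 := by
      by_contra h0
      have : Even (2 ^ j) := (Nat.even_pow.mpr ⟨even_two, h0⟩)
      exact (Nat.not_even_iff_odd.mpr hodd2) this
    rw [hj0, pow_zero] at hj
    exact orderOf_eq_one_iff.mp hj
  have hg2 : g ^ 2 = 1 := by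
    have : (g⁻¹ * g⁻¹)⁻¹ = g ^ 2 := by group
    rw [← this, hgg, inv_one]
  have hd : orderOf g ∣ 2 := orderOf_dvd_of_pow_eq_one hg2
  have : orderOf g = 1 := by
    rcases (Nat.dvd_prime Nat.prime_two).mp hd with h | h
    · exact h
    · rw [h] at hodd; exact absurd hodd (by decide)
  exact orderOf_eq_one_iff.mp this


omit [Finite G] in
theorem CP_of_mem {P : Sylow 2 G} {m : G} (hm : m ∈ centralizer ((P : Subgroup G) : Set G)) :
    Ctx.CP P m := fun p hp => ((Subgroup.mem_centralizer_iff.mp hm) p hp).symm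

omit [Finite G] in
theorem mem_of_CP {P : Sylow 2 G} {m : G} (hm : Ctx.CP P m) :
    m ∈ centralizer ((P : Subgroup G) : Set G) :=
  Subgroup.mem_centralizer_iff.mpr fun p hp => (hm p hp).symm

/-- Z3a: `C(P)` acts freely on the Sylow 2-subgroups different from `P`. -/
theorem cent_free (c : Ctx2 G) (P Q : Sylow 2 G) (hne : Q ≠ P) {m : G}
    (hm : m ∈ centralizer ((P : Subgroup G) : Set G)) (hmQ : m • Q = Q) : m = 1 := by
  obtain ⟨u, hu, huQ⟩ := c.exists_invol_smul P Q hne.symm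
  have huP : u • P ≠ P := by rw [huQ]; exact hne
  have hCP : Ctx.CP P m := CP_of_mem hm
  apply (c.ctx P hu huP).eq_one_of_CP _ hCP
  rw [c.mem_D_iff P hu huP, huQ]
  exact ⟨(mem_NT_iff' P m).mp (Ctx.CP_mem_NT hCP), hmQ⟩

/-- `N(P) = C(P) · (N(P) ∩ N(Q))`. -/
theorem exists_decomp (c : Ctx2 G) (P Q : Sylow 2 G) (hne : Q ≠ P) {h : G} (hh : h • P = P) :
    ∃ m e : G, m ∈ centralizer ((P : Subgroup G) : Set G) ∧ e • P = P ∧ e • Q = Q ∧
      h = m * e := by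
  obtain ⟨u, hu, huQ⟩ := c.exists_invol_smul P Q hne.symm
  have huP : u • P ≠ P := by rw [huQ]; exact hne
  have cx := c.ctx P hu huP
  obtain ⟨s, hs, hsP, -⟩ := exists_central_invol P (c.ne_bot P)
  have hhN : h ∈ NT P := (mem_NT_iff' P h).mpr hh
  have htP : h * s * h⁻¹ ∈ (P : Subgroup G) := conj_mem_T (T := P) hhN hsP
  have ht : orderOf (h * s * h⁻¹) = 2 := by rw [orderOf_conj', hs]
  obtain ⟨d, hd1, hd2, hd3⟩ := exists_conj_fix cx.se cx.hxy hs (fix_pt0 hsP) ht (fix_pt0 htP)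
  have hdD : d ∈ cx.D := mem_Dw.mpr ⟨mem_NT_iff.mpr hd1, hd2⟩
  rw [c.mem_D_iff P hu huP, huQ] at hdD
  refine ⟨h * d⁻¹, d, ?_, hdD.1, hdD.2, by group⟩
  apply mem_of_CP
  intro p hp
  apply comm_of_comm_invol c.hab P ht htP _ hp
  calc h * d⁻¹ * (h * s * h⁻¹) = h * d⁻¹ * (d * s * d⁻¹) := by rw [hd3]
    _ = h * s * h⁻¹ * (h * d⁻¹) := by group

/-- the `C(P)`-orbit of a Sylow 2-subgroup -/
def orb (P R : Sylow 2 G) : Set (Sylow 2 G) :=
  Set.range (fun m : centralizer ((P : Subgroup G) : Set G) => (m : G) • R)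

omit [Finite G] in
theorem mem_orb {P R S : Sylow 2 G} :
    S ∈ orb P R ↔ ∃ m ∈ centralizer ((P : Subgroup G) : Set G), m • R = S := by
  constructor
  · rintro ⟨m, rfl⟩
    exact ⟨m, m.2, rfl⟩
  · rintro ⟨m, hm, rfl⟩
    exact ⟨⟨m, hm⟩, rfl⟩

theorem orb_ne (P R : Sylow 2 G) (hR : R ≠ P) {S : Sylow 2 G} (hS : S ∈ orb P R) : S ≠ P := by
  obtain ⟨m, hm, rfl⟩ := mem_orb.mp hS
  intro h
  apply hR
  have hmP : m • P = P := (mem_NT_iff' P m).mp (Ctx.CP_mem_NT (CP_of_mem hm))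
  have : m • R = m • P := by rw [h, hmP]
  exact smul_left_cancel m this

theorem card_orb (c : Ctx2 G) (P R : Sylow 2 G) (hR : R ≠ P) :
    (orb P R).ncard = Nat.card (centralizer ((P : Subgroup G) : Set G)) := by
  unfold orb
  rw [← Set.image_univ, Set.ncard_image_of_injective, Set.ncard_univ]
  intro d1 d2 h
  have h' : (d1 : G) • R = (d2 : G) • R := h
  have h1 : ((d2 : G)⁻¹ * (d1 : G)) • R = R := by
    rw [mul_smul, h', ← mul_smul, inv_mul_cancel, one_smul]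
  have h2 := c.cent_free P R hR (Subgroup.mul_mem _ (Subgroup.inv_mem _ d2.2) d1.2) h1
  exact Subtype.ext (inv_mul_eq_one.mp h2).symm

/-- the orbits of `C(P)` are `N(P)`-invariant -/
theorem smul_mem_orb (c : Ctx2 G) (P R : Sylow 2 G) (hR : R ≠ P) {h : G} (hh : h • P = P)
    {S : Sylow 2 G} (hS : S ∈ orb P R) : h • S ∈ orb P R := by
  obtain ⟨m, hm, rfl⟩ := mem_orb.mp hS
  obtain ⟨m', e, hm', -, heR, rfl⟩ := c.exists_decomp P R hR hh
  have hmeN : m' * e ∈ NT P := (mem_NT_iff' P _).mpr hh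
  refine mem_orb.mpr ⟨(m' * e) * m * (m' * e)⁻¹ * m', ?_, ?_⟩
  · exact Subgroup.mul_mem _ (mem_of_CP (Ctx.CP_conj (CP_of_mem hm) hmeN)) hm'
  · have : (m' * e) * m * (m' * e)⁻¹ * m' = (m' * e) * m * e⁻¹ := by group
    have heR' : e⁻¹ • R = R := by rw [inv_smul_eq_iff, heR]
    rw [this, mul_smul (m' * e * m) e⁻¹, heR', mul_smul (m' * e) m]

/-- Z3b: `C(P)` is transitive on the Sylow 2-subgroups different from `P`. -/
theorem cent_trans (c : Ctx2 G) (P Q Q' : Sylow 2 G) (hQ : Q ≠ P) (hQ' : Q' ≠ P) :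
    ∃ m ∈ centralizer ((P : Subgroup G) : Set G), m • Q = Q' := by
  by_contra hcon
  have hQ'orb : Q' ∉ orb P Q := fun h => hcon (mem_orb.mp h)
  have hQorb : Q ∉ orb P Q' := by
    intro h
    obtain ⟨m, hm, hmQ⟩ := mem_orb.mp h
    apply hcon
    refine ⟨m⁻¹, Subgroup.inv_mem _ hm, ?_⟩
    rw [inv_smul_eq_iff, hmQ]
  obtain ⟨u, hu, huQ⟩ := c.exists_invol_smul P Q hQ.symm
  have huP : u • P ≠ P := by rw [huQ]; exact hQ
  have cx := c.ctx P hu huP
  have hD : ∀ d ∈ cx.D, d • P = P ∧ d • Q = Q := by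
    intro d hd
    rw [c.mem_D_iff P hu huP, huQ] at hd
    exact hd
  have hfin : ∀ S : Set (Sylow 2 G), S.Finite := fun S => Set.toFinite S
  -- `D` acts freely on the orbit of `Q'`
  have h1 : Nat.card cx.D ∣ (orb P Q').ncard := by
    apply card_dvd_of_free cx.D _ (orb P Q') (hfin _) rfl
    · intro d hd S hS
      exact c.smul_mem_orb P Q' hQ' (hD d hd).1 hS
    · intro d hd S hS hdS
      have hSP : S ≠ P := orb_ne P Q' hQ' hS
      have hSQ : S ≠ Q := fun h => hQorb (h ▸ hS)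
      exact c.triple P Q S hQ.symm hSQ.symm hSP.symm d (hD d hd).1 (hD d hd).2 hdS
  -- `D` acts freely on the orbit of `Q` without `Q`
  have h2 : Nat.card cx.D ∣ (orb P Q \ {Q}).ncard := by
    apply card_dvd_of_free cx.D _ (orb P Q \ {Q}) (hfin _) rfl
    · intro d hd S hS
      refine ⟨c.smul_mem_orb P Q hQ (hD d hd).1 hS.1, ?_⟩
      intro h
      apply hS.2
      have h' : d • S = Q := h
      have : d • S = d • Q := by rw [h', (hD d hd).2]
      exact smul_left_cancel d this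
    · intro d hd S hS hdS
      have hSP : S ≠ P := orb_ne P Q hQ hS.1
      have hSQ : S ≠ Q := hS.2
      exact c.triple P Q S hQ.symm hSQ.symm hSP.symm d (hD d hd).1 (hD d hd).2 hdS
  rw [c.card_orb P Q' hQ'] at h1
  have hQmem : Q ∈ orb P Q := mem_orb.mpr ⟨1, Subgroup.one_mem _, one_smul _ _⟩
  have h3 : (orb P Q \ {Q}).ncard = Nat.card (centralizer ((P : Subgroup G) : Set G)) - 1 := by
    rw [Set.ncard_sdiff_singleton_of_mem hQmem, c.card_orb P Q hQ]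
  rw [h3] at h2
  have hMpos : 0 < Nat.card (centralizer ((P : Subgroup G) : Set G)) := Nat.card_pos
  have h4 : Nat.card cx.D ∣ 1 := by
    have h6 := Nat.dvd_sub h1 h2
    have h7 : Nat.card (centralizer ((P : Subgroup G) : Set G)) -
        (Nat.card (centralizer ((P : Subgroup G) : Set G)) - 1) = 1 := by omega
    rwa [h7] at h6
  have h5 : Nat.card cx.D = 1 := Nat.dvd_one.mp h4
  rw [cx.card_D] at h5
  -- but `P` has at least two involutions
  have hnc := c.hnc P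
  apply hnc
  have : Fact (Nat.Prime 2) := ⟨Nat.prime_two⟩
  apply Cfsg.Agent.Helper53.isCyclic_of_comm_of_unique_invol P.isPGroup'
  · intro x y
    exact Subtype.ext (sylow_comm c.hab P x x.2 y y.2)
  · intro x y hx hy
    have hx' : orderOf (x : G) = 2 := by rw [Subgroup.orderOf_coe]; exact hx
    have hy' : orderOf (y : G) = 2 := by rw [Subgroup.orderOf_coe]; exact hy
    unfold numInv at h5
    have hsub := (Nat.card_eq_one_iff_unique.mp h5).1
    have h8 := hsub.elim ⟨(x : G), hx', Subgroup.le_normalizer x.2⟩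
      ⟨(y : G), hy', Subgroup.le_normalizer y.2⟩
    have h9 : (x : G) = (y : G) :=
      congrArg (fun t : {t : G // orderOf t = 2 ∧ t ∈ NT P} => (t : G)) h8
    exact Subtype.ext h9

end Ctx2

/-- T1a-ii: the Zassenhaus structure of the action on Sylow 2-subgroups. -/
theorem case2_structure {G : Type*} [Group G] [Finite G] (hab : AbInvHyp G) (hTI : TIHyp G)
    (P : Sylow 2 G) (hnc : ¬ IsCyclic ↥(P : Subgroup G)) (hnn : ¬ (P : Subgroup G).Normal) :
    (∀ Q₁ Q₂ Q₃ : Sylow 2 G, Q₁ ≠ Q₂ → Q₂ ≠ Q₃ → Q₁ ≠ Q₃ → ∀ g : G, g • Q₁ = Q₁ → g • Q₂ = Q₂ →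
      g • Q₃ = Q₃ → g = 1) ∧
    (∀ Q : Sylow 2 G, Q ≠ P → ∀ c ∈ centralizer ((P : Subgroup G) : Set G), c • Q = Q → c = 1) ∧
    (∀ Q Q' : Sylow 2 G, Q ≠ P → Q' ≠ P →
      ∃ c ∈ centralizer ((P : Subgroup G) : Set G), c • Q = Q') := by
  have c := ctx2_of hab hTI P hnc hnn
  refine ⟨?_, ?_, ?_⟩
  · intro Q₁ Q₂ Q₃ h12 h23 h13 g h1 h2 h3
    exact c.triple Q₁ Q₂ Q₃ h12 h23 h13 g h1 h2 h3
  · intro Q hQ m hm hmQ
    exact c.cent_free P Q hQ hm hmQ
  · intro Q Q' hQ hQ'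
    exact c.cent_trans P Q Q' hQ hQ'

end Cfsg.Agent.Helper42.AbInv
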