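import Mathlib
import Cfsg.Agent.Lib.Helper42.AbInvT1b
import Cfsg.Agent.Lib.Helper34.PPrimeCore
import Cfsg.Agent.Lib.Helper21.StdRankOne

set_option autoImplicit false
set_option linter.unusedSectionVars false

/-! S2202 (helper4), task R1: passing to `G / O(G)`. -/

namespace Cfsg.Agent.Helper42.AbInv

open Cfsg.Agent.Helper4.AbInv Cfsg.Agent.Helper45.SE Cfsg.Agent.Helper45.CIT
open Pointwise Subgroup

variable {G : Type*} [Group G] [Finite G]

/-- two distinct involutions in a noncyclic abelian Sylow 2-subgroup -/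
theorem exists_two_invol (hab : AbInvHyp G) (P : Sylow 2 G)
    (hnc : ¬ IsCyclic ↥(P : Subgroup G)) :
    ∃ t u : G, t ∈ (P : Subgroup G) ∧ u ∈ (P : Subgroup G) ∧ orderOf t = 2 ∧ orderOf u = 2 ∧
      t ≠ u := by
  by_contra hcon
  apply hnc
  have : Fact (Nat.Prime 2) := ⟨Nat.prime_two⟩
  apply Cfsg.Agent.Helper53.isCyclic_of_comm_of_unique_invol P.isPGroup'
  · intro x y
    exact Subtype.ext (sylow_comm hab P x x.2 y y.2)
  · intro x y hx hy
    by_contra hne
    apply hcon
    refine ⟨(x : G), (y : G), x.2, y.2, ?_, ?_, fun h => hne (Subtype.ext h)⟩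
    · rw [Subgroup.orderOf_coe]; exact hx
    · rw [Subgroup.orderOf_coe]; exact hy

/-- `O(G)` centralizes a noncyclic Sylow 2-subgroup. -/
theorem core_le_centralizer (hab : AbInvHyp G) (P : Sylow 2 G)
    (hnc : ¬ IsCyclic ↥(P : Subgroup G)) :
    Cfsg.pPrimeCore 2 G ≤ centralizer ((P : Subgroup G) : Set G) := by
  obtain ⟨t, u, htP, huP, ht, hu, hne⟩ := exists_two_invol hab P hnc
  have htu : t * u = u * t := sylow_comm hab P t htP u huP
  have htt := mul_self' ht
  have huu := mul_self' hu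
  have htu1 : t * u ≠ 1 := by
    intro h
    apply hne
    have : t = u⁻¹ := eq_inv_of_mul_eq_one_left h
    rw [this, inv_self hu]
  have htu2 : orderOf (t * u) = 2 := by
    apply orderOf_two_of _ htu1
    calc t * u * (t * u) = t * (u * t) * u := by group
      _ = t * (t * u) * u := by rw [htu]
      _ = (t * t) * (u * u) := by group
      _ = 1 := by rw [htt, huu, one_mul]
  have key : ∀ s : G, orderOf s = 2 → s ∈ (P : Subgroup G) →
      Cfsg.pPrimeCore 2 G ⊓ centralizer {s} ≤ centralizer ((P : Subgroup G) : Set G) := by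
    intro s hs hsP c hc
    have h1 : c * s = s * c := (Subgroup.mem_centralizer_singleton_iff.mp hc.2)
    exact Ctx2.mem_of_CP (fun p hp => comm_of_comm_invol hab P hs hsP h1 hp)
  exact Cfsg.Agent.Helper21.StdRankOne.le_of_four_generation (Cfsg.pPrimeCore 2 G)
    (centralizer ((P : Subgroup G) : Set G)) inferInstance
    (Cfsg.Agent.Helper34.card_pPrimeCore_coprime 2) t u htt huu htu (ne_one' ht) (ne_one' hu) hne
    (key t ht htP) (key u hu huP) (key (t * u) htu2 ((P : Subgroup G).mul_mem htP huP))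

/-- `P ∩ O(G) = 1` -/
theorem eq_one_of_mem_core (P : Sylow 2 G) {x : G} (hxP : x ∈ (P : Subgroup G))
    (hxK : x ∈ Cfsg.pPrimeCore 2 G) : x = 1 := by
  obtain ⟨j, hj⟩ := (IsPGroup.iff_orderOf.mp P.isPGroup') ⟨x, hxP⟩
  rw [Subgroup.orderOf_mk] at hj
  have h1 : orderOf x ∣ Nat.card (Cfsg.pPrimeCore 2 G) := by
    have := orderOf_dvd_natCard (⟨x, hxK⟩ : Cfsg.pPrimeCore 2 G)
    rwa [Subgroup.orderOf_mk] at this
  have hcop := Cfsg.Agent.Helper34.card_pPrimeCore_coprime (G := G) 2
  have h2 : (orderOf x).Coprime 2 := Nat.Coprime.coprime_dvd_left h1 hcop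
  rw [hj] at h2
  have hj0 : j = 0 := by
    by_contra h0
    have h3 : 2 ∣ 2 ^ j := dvd_pow_self 2 h0
    have h4 := Nat.eq_one_of_dvd_coprimes h2 h3 (dvd_refl 2)
    omega
  rw [hj0, pow_zero] at hj
  exact orderOf_eq_one_iff.mp hj

/-- R1: passing to `G / O(G)`. -/
theorem quotient_cit {G : Type*} [Group G] [Finite G] (hab : AbInvHyp G) (P : Sylow 2 G)
    (hnc : ¬ IsCyclic ↥(P : Subgroup G)) (hnn : ¬ (P : Subgroup G).Normal)
    (hC : Concl (G ⧸ Cfsg.pPrimeCore 2 G)) :
    (∀ t c : G ⧸ Cfsg.pPrimeCore 2 G, orderOf t = 2 → c * t = t * c → c ^ 2 = 1) ∧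
    ∃ T : Sylow 2 (G ⧸ Cfsg.pPrimeCore 2 G),
      ¬ IsCyclic ↥(T : Subgroup (G ⧸ Cfsg.pPrimeCore 2 G)) ∧
      ¬ (T : Subgroup (G ⧸ Cfsg.pPrimeCore 2 G)).Normal := by
  have : Fact (Nat.Prime 2) := ⟨Nat.prime_two⟩
  set K := Cfsg.pPrimeCore 2 G with hK
  have hsurj := QuotientGroup.mk'_surjective K
  set T : Sylow 2 (G ⧸ K) := P.mapSurjective hsurj with hT
  have hTcoe : (T : Subgroup (G ⧸ K)) = (P : Subgroup G).map (QuotientGroup.mk' K) :=
    Sylow.coe_mapSurjective hsurj P
  have hTnc : ¬ IsCyclic ↥(T : Subgroup (G ⧸ K)) := by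
    intro hcyc
    apply hnc
    rw [hTcoe] at hcyc
    let φ : ↥(P : Subgroup G) →* ↥((P : Subgroup G).map (QuotientGroup.mk' K)) :=
      (QuotientGroup.mk' K).subgroupMap (P : Subgroup G)
    have hφs : Function.Surjective φ := MonoidHom.subgroupMap_surjective _ _
    have hφi : Function.Injective φ := by
      rw [injective_iff_map_eq_one]
      intro x hx
      have h1 : (QuotientGroup.mk' K) (x : G) = 1 := congrArg Subtype.val hx
      have h2 : (x : G) ∈ K := by
        rwa [QuotientGroup.mk'_apply, QuotientGroup.eq_one_iff] at h1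
      exact Subtype.ext (eq_one_of_mem_core P x.2 h2)
    let e := MulEquiv.ofBijective φ ⟨hφi, hφs⟩
    exact isCyclic_of_surjective e.symm e.symm.surjective
  have hTnn : ¬ (T : Subgroup (G ⧸ K)).Normal := by
    intro hn
    apply hnn
    have hKc := core_le_centralizer hab P hnc
    have hall : ∀ g : G, g • P = P := by
      intro g
      have hle : ((g • P : Sylow 2 G) : Subgroup G) ≤
          normalizer ((P : Subgroup G) : Set G) := by
        intro x hx
        rw [mem_smul_sylow] at hx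
        have h1 : (QuotientGroup.mk' K) (g⁻¹ * x * g) ∈ (T : Subgroup (G ⧸ K)) := by
          rw [hTcoe]; exact Subgroup.mem_map_of_mem _ hx
        have h2 : (QuotientGroup.mk' K) x ∈ (T : Subgroup (G ⧸ K)) := by
          have h := hn.conj_mem _ h1 ((QuotientGroup.mk' K) g)
          have e : (QuotientGroup.mk' K) g * (QuotientGroup.mk' K) (g⁻¹ * x * g) *
              ((QuotientGroup.mk' K) g)⁻¹ = (QuotientGroup.mk' K) x := by
            rw [← map_inv, ← map_mul, ← map_mul]
            congr 1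
            group
          rwa [e] at h
        rw [hTcoe, Subgroup.mem_map] at h2
        obtain ⟨p, hp, hpx⟩ := h2
        have h3 : p⁻¹ * x ∈ K := by
          rw [← QuotientGroup.eq]
          exact hpx
        have h4 : x = p * (p⁻¹ * x) := by group
        rw [h4]
        exact Subgroup.mul_mem _ (Subgroup.le_normalizer hp)
          (Subgroup.centralizer_le_normalizer _ (hKc h3))
      have hsup := IsPGroup.to_sup_of_normal_left' P.isPGroup' (g • P).isPGroup' hle
      have h6 := P.is_maximal' hsup le_sup_left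
      have h7 : ((g • P : Sylow 2 G) : Subgroup G) ≤ (P : Subgroup G) := by
        rw [← h6]; exact le_sup_right
      exact Sylow.ext ((g • P).is_maximal' P.isPGroup' h7).symm
    have htop : normalizer ((P : Subgroup G) : Set G) = ⊤ := by
      rw [eq_top_iff]
      intro g _
      exact Sylow.smul_eq_iff_mem_normalizer.mp (hall g)
    exact Subgroup.normalizer_eq_top_iff.mp htop
  refine ⟨?_, T, hTnc, hTnn⟩
  rcases hC with h1 | h2 | h3
  · exact absurd (h1 T) hTnc
  · exact absurd (h2 T) hTnn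
  · obtain ⟨L, B, -, hBc, hBodd, -, hLB', hcl⟩ := h3
    have hBn : B.Normal := by
      constructor
      intro b hb g
      have h := Subgroup.mem_center_iff.mp (hBc hb) g
      rw [h, mul_assoc, mul_inv_cancel, mul_one]
      exact hb
    have hB : B = ⊥ := by
      have h1 : B ≤ Cfsg.pPrimeCore 2 (G ⧸ K) :=
        Cfsg.Agent.Helper34.le_pPrimeCore hBn (Nat.coprime_two_right.mpr hBodd)
      rw [Cfsg.Agent.Helper34.pPrimeCore_quotient_eq_bot] at h1
      exact le_bot_iff.mp h1
    have hL : L = ⊤ := by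
      rw [hB, sup_bot_eq] at hLB'
      exact hLB'
    intro t c ht hct
    exact hcl t (by rw [hL]; trivial) ht c (by rw [hL]; trivial) hct

end Cfsg.Agent.Helper42.AbInv
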