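import Mathlib
import Cfsg.Agent.Lib.Helper4.AbInv.Defs

set_option autoImplicit false

/-! S2202 (helper4), task T3a: abelian involution centralizers pass to quotients by normal
subgroups of odd order. -/

namespace Cfsg.Agent.Helper42.AbInv

open Cfsg.Agent.Helper4.AbInv

variable {G : Type*} [Group G]

/-- an involution of `G ⧸ K`, `K` of odd order, lifts to an involution. -/
theorem exists_invol_lift [Finite G] (K : Subgroup G) [K.Normal] (hK : Odd (Nat.card K))
    (tb : G ⧸ K) (ht : orderOf tb = 2) :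
    ∃ t : G, orderOf t = 2 ∧ (QuotientGroup.mk t : G ⧸ K) = tb := by
  obtain ⟨g, rfl⟩ := QuotientGroup.mk_surjective tb
  set m := Nat.card K with hm
  have hsq : (QuotientGroup.mk g : G ⧸ K) ^ 2 = 1 := by
    rw [← ht]; exact pow_orderOf_eq_one _
  have hg2 : g ^ 2 ∈ K := by
    rw [← QuotientGroup.eq_one_iff, QuotientGroup.mk_pow]; exact hsq
  have hg2m : (g ^ 2) ^ m = 1 := by
    have h1 : (⟨g ^ 2, hg2⟩ : K) ^ Nat.card K = 1 := pow_card_eq_one'
    have h2 := congrArg Subtype.val h1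
    rw [SubmonoidClass.coe_pow, OneMemClass.coe_one] at h2
    exact h2
  obtain ⟨j, hj⟩ := hK
  refine ⟨g ^ m, ?_, ?_⟩
  · have hne : g ^ m ≠ 1 := by
      intro h1
      have h2 : (QuotientGroup.mk g : G ⧸ K) ^ m = 1 := by
        rw [← QuotientGroup.mk_pow, h1]; rfl
      rw [hj, pow_succ, pow_mul, hsq, one_pow, one_mul] at h2
      rw [h2, orderOf_one] at ht
      norm_num at ht
    haveI : Fact (Nat.Prime 2) := ⟨Nat.prime_two⟩
    apply orderOf_eq_prime _ hne
    rw [← pow_mul, mul_comm, pow_mul]; exact hg2m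
  · rw [QuotientGroup.mk_pow]
    rw [hj, pow_succ, pow_mul, hsq, one_pow, one_mul]

/-- an element of `G ⧸ K` commuting with the image of the involution `t` lifts to an element of
`C_G(t)`, `K` of odd order. -/
theorem exists_comm_lift [Finite G] (K : Subgroup G) [K.Normal] (hK : Odd (Nat.card K))
    (t : G) (ht : orderOf t = 2) (x : G)
    (hx : (QuotientGroup.mk x : G ⧸ K) * QuotientGroup.mk t = QuotientGroup.mk t * QuotientGroup.mk x) :
    ∃ x' : G, (QuotientGroup.mk x' : G ⧸ K) = QuotientGroup.mk x ∧ x' * t = t * x' := by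
  set m := Nat.card K with hm
  have htt : t * t = 1 := by
    have := pow_orderOf_eq_one t
    rwa [ht, pow_two] at this
  have htinv : t⁻¹ = t := inv_eq_of_mul_eq_one_left htt
  set s : G := x * t * x⁻¹ with hs
  have htt' : ∀ y : G, t * (t * y) = y := fun y => by rw [← mul_assoc, htt, one_mul]
  have hss : s * s = 1 := by
    simp [hs, mul_assoc, htt']
  have hsinv : s⁻¹ = s := inv_eq_of_mul_eq_one_left hss
  set c : G := t * s with hc
  have hcK : c ∈ K := by
    rw [← QuotientGroup.eq_one_iff, hc, hs]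
    rw [QuotientGroup.mk_mul, QuotientGroup.mk_mul, QuotientGroup.mk_mul, hx, QuotientGroup.mk_inv]
    rw [mul_assoc (QuotientGroup.mk t : G ⧸ K), mul_inv_cancel, mul_one, ← QuotientGroup.mk_mul,
      htt]
    rfl
  have hcinv : c⁻¹ = s * t := by rw [hc, mul_inv_rev, hsinv, htinv]
  have hconj : t * c * t⁻¹ = c⁻¹ := by
    rw [hcinv, hc, htinv, ← mul_assoc, htt, one_mul]
  obtain ⟨j, hj⟩ := hK
  have hcm : c ^ m = 1 := by
    have h1 : (⟨c, hcK⟩ : K) ^ Nat.card K = 1 := pow_card_eq_one'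
    have h2 := congrArg Subtype.val h1
    rw [SubmonoidClass.coe_pow, OneMemClass.coe_one] at h2
    exact h2
  set d : G := c ^ (j + 1) with hd
  have hdK : d ∈ K := K.pow_mem hcK _
  have hd2 : d * d = c := by
    rw [hd, ← pow_add, show j + 1 + (j + 1) = (2 * j + 1) + 1 by ring, ← hj, pow_succ, hcm, one_mul]
  have hdconj : t * d * t⁻¹ = d⁻¹ := by
    rw [hd, ← conj_pow, hconj, inv_pow]
  have htd : t * d = d⁻¹ * t := by
    have := congrArg (· * t) hdconj
    simpa [mul_assoc] using this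
  have hsd : s = d⁻¹ * t * d := by
    rw [mul_assoc, htd, ← mul_assoc, ← mul_inv_rev, hd2, hcinv, mul_assoc, htt, mul_one]
  refine ⟨d * x, ?_, ?_⟩
  · rw [QuotientGroup.mk_mul, (QuotientGroup.eq_one_iff d).mpr hdK, one_mul]
  · -- `(d x) t (d x)⁻¹ = t`
    have h1 : d * x * t = t * (d * x) := by
      have h2 : x * t = s * x := by rw [hs]; group
      rw [mul_assoc, h2, hsd]
      group
    exact h1

/-- T3a -/
theorem abInv_quotient {G : Type*} [Group G] [Finite G] (hab : AbInvHyp G) (K : Subgroup G)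
    [K.Normal] (hK : Odd (Nat.card K)) : AbInvHyp (G ⧸ K) := by
  intro tb htb xb yb hxb hyb
  obtain ⟨t, ht, rfl⟩ := exists_invol_lift K hK tb htb
  obtain ⟨x, rfl⟩ := QuotientGroup.mk_surjective xb
  obtain ⟨y, rfl⟩ := QuotientGroup.mk_surjective yb
  obtain ⟨x', hx', hxt⟩ := exists_comm_lift K hK t ht x hxb
  obtain ⟨y', hy', hyt⟩ := exists_comm_lift K hK t ht y hyb
  have := hab t ht x' y' hxt hyt
  rw [← hx', ← hy', ← QuotientGroup.mk_mul, ← QuotientGroup.mk_mul, this]

end Cfsg.Agent.Helper42.AbInv
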