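import Mathlib

set_option autoImplicit false

/-! S2202 (helper4), task T3b-i: in a perfect group, central elements are killed by the index of
every abelian subgroup (transfer). -/

namespace Cfsg.Agent.Helper42.AbInv

/-- T3b-i -/
theorem central_pow_index_eq_one {G : Type*} [Group G] [Finite G] (hperf : commutator G = ⊤)
    (A : Subgroup G) (hA : ∀ x ∈ A, ∀ y ∈ A, x * y = y * x) (k : G)
    (hk : k ∈ Subgroup.center G) : k ^ A.index = 1 := by
  classical
  let inst : CommGroup ↥A :=
    { (inferInstance : Group ↥A) with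
      mul_comm := fun x y => Subtype.ext (hA x x.2 y y.2) }
  have key : ∀ (j : ℕ) (g₀ : G), g₀⁻¹ * k ^ j * g₀ ∈ A → g₀⁻¹ * k ^ j * g₀ = k ^ j := by
    intro j g₀ _
    have hc : k ^ j ∈ Subgroup.center G := Subgroup.pow_mem _ hk j
    rw [Subgroup.mem_center_iff] at hc
    rw [mul_assoc, ← hc g₀, ← mul_assoc, inv_mul_cancel, one_mul]
  have h1 := @MonoidHom.transfer_eq_pow G _ A ↥A inst (MonoidHom.id ↥A) _ k key
  have h2 : @MonoidHom.transfer G _ A ↥A inst (MonoidHom.id ↥A) _ k = 1 := by
    have hker := @Abelianization.commutator_subset_ker G _ ↥A inst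
      (@MonoidHom.transfer G _ A ↥A inst (MonoidHom.id ↥A) _)
    rw [hperf] at hker
    exact hker (Subgroup.mem_top k)
  rw [h2] at h1
  have h3 := congrArg Subtype.val h1
  simpa using h3.symm

end Cfsg.Agent.Helper42.AbInv
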