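import Mathlib
import Cfsg.Agent.S0799
import Cfsg.Agent.Lib.Helper41.DicksonUse5
import Cfsg.Agent.Lib.Helper41.IcosaPSL2

/-!
# Tools for maximality proofs in `PSL₂(q)` via Dickson's theorem

* `card_psl2_congr`, `eq_top_of_full`: subfield subgroups over a field of the same order are
  everything;
* `isSolvable_of_dickson_ab`: subgroups of type (a), (b) in Dickson's list are solvable;
* `alt4_not_embed_dihedral`: `A₄` does not embed in a dihedral group;
* `card_dvd_of_le`, order arithmetic.
-/

set_option autoImplicit false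

namespace Cfsg.Agent.Helper42.PSL2Max

open Matrix Cfsg.Agent.Helper41

section alt4

/-- elements of `A₄` are products of two elements of order dividing three -/
theorem alt4_prod_cubes : ∀ x : alternatingGroup (Fin 4),
    ∃ a b : alternatingGroup (Fin 4), a ^ 3 = 1 ∧ b ^ 3 = 1 ∧ x = a * b := by
  decide

theorem alt4_not_comm : ∃ x y : alternatingGroup (Fin 4), x * y ≠ y * x := by
  decide

theorem dihedral_cube {k : ℕ} (x : DihedralGroup k) (hx : x ^ 3 = 1) :
    ∃ j, x = DihedralGroup.r j := by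
  cases x with
  | r j => exact ⟨j, rfl⟩
  | sr j =>
    exfalso
    rw [pow_succ, pow_two, DihedralGroup.sr_mul_self, one_mul, DihedralGroup.one_def] at hx
    cases hx

/-- `A₄` does not embed in a dihedral group -/
theorem alt4_not_embed_dihedral {k : ℕ} (f : alternatingGroup (Fin 4) →* DihedralGroup k)
    (hf : Function.Injective f) : False := by
  obtain ⟨x, y, hxy⟩ := alt4_not_comm
  apply hxy
  apply hf
  rw [map_mul, map_mul]
  have key : ∀ z : alternatingGroup (Fin 4), ∃ j, f z = DihedralGroup.r j := by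
    intro z
    obtain ⟨a, b, ha, hb, rfl⟩ := alt4_prod_cubes z
    obtain ⟨i, hi⟩ := dihedral_cube (f a) (by rw [← map_pow, ha, map_one])
    obtain ⟨j, hj⟩ := dihedral_cube (f b) (by rw [← map_pow, hb, map_one])
    exact ⟨i + j, by rw [map_mul, hi, hj, DihedralGroup.r_mul_r]⟩
  obtain ⟨i, hi⟩ := key x
  obtain ⟨j, hj⟩ := key y
  rw [hi, hj, DihedralGroup.r_mul_r, DihedralGroup.r_mul_r, add_comm]

/-- `A₄` does not embed in a commutative group -/
theorem alt4_not_embed_comm {A : Type*} [Group A] (hA : ∀ a b : A, a * b = b * a)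
    (f : alternatingGroup (Fin 4) →* A) (hf : Function.Injective f) : False := by
  obtain ⟨x, y, hxy⟩ := alt4_not_comm
  apply hxy
  apply hf
  rw [map_mul, map_mul, hA]

end alt4

section general

variable {F : Type*} [Field F] [Fintype F]

theorem card_psl2_congr {K : Type*} [Field K] [Fintype K]
    (h : Fintype.card K = Fintype.card F) :
    Nat.card (ProjectiveSpecialLinearGroup (Fin 2) K) =
      Nat.card (ProjectiveSpecialLinearGroup (Fin 2) F) := by
  rcases Nat.even_or_odd (Fintype.card F) with he | ho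
  · rw [Cfsg.Agent.Helper98.PSL2Card.card_psl2_even h he,
      Cfsg.Agent.Helper98.PSL2Card.card_psl2_even rfl he]
  · have h1 := Cfsg.Agent.Helper98.PSL2Card.card_psl2_odd h ho
    have h2 := Cfsg.Agent.Helper98.PSL2Card.card_psl2_odd (F := F) rfl ho
    omega

/-- Dickson's case (d) over a field of the same order: the subgroup is everything -/
theorem eq_top_of_full {K : Type*} [Field K] [Fintype K]
    (h : Fintype.card K = Fintype.card F)
    (M : Subgroup (ProjectiveSpecialLinearGroup (Fin 2) F))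
    (hM : Nonempty (M ≃* ProjectiveSpecialLinearGroup (Fin 2) K) ∨
      Nonempty (M ≃* ProjGenLinGroup (Fin 2) K)) : M = ⊤ := by
  classical
  apply Subgroup.eq_top_of_le_card
  rcases hM with ⟨⟨e⟩⟩ | ⟨⟨e⟩⟩
  · rw [Nat.card_congr e.toEquiv, card_psl2_congr h]
  · rw [Nat.card_congr e.toEquiv, ← card_psl2_congr h]
    exact card_psl2_le_card_pgl2 K

/-- the order of a subfield subgroup divides `(k² - 1) k` -/
theorem card_dvd_of_subfield {K : Type*} [Field K] [Fintype K] {k : ℕ}
    (hk : Fintype.card K = k)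
    (M : Subgroup (ProjectiveSpecialLinearGroup (Fin 2) F))
    (hM : Nonempty (M ≃* ProjectiveSpecialLinearGroup (Fin 2) K) ∨
      Nonempty (M ≃* ProjGenLinGroup (Fin 2) K)) : Nat.card M ∣ (k ^ 2 - 1) * k := by
  classical
  rcases hM with ⟨⟨e⟩⟩ | ⟨⟨e⟩⟩
  · rw [Nat.card_congr e.toEquiv]
    rcases Nat.even_or_odd k with he | ho
    · rw [Cfsg.Agent.Helper98.PSL2Card.card_psl2_even hk he]
    · exact ⟨2, (Cfsg.Agent.Helper98.PSL2Card.card_psl2_odd hk ho).symm⟩
  · rw [Nat.card_congr e.toEquiv, card_pgl2_eq K, hk]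
    have hk1 : 1 ≤ k := by rw [← hk]; exact Fintype.card_pos
    obtain ⟨r, rfl⟩ := Nat.exists_eq_add_of_le hk1
    have e1 : (1 + r) ^ 2 - 1 = r * (r + 2) := by
      rw [show (1 + r) ^ 2 = r * (r + 2) + 1 by ring]
      simp
    rw [e1, Nat.add_sub_cancel_left]
    exact ⟨1, by ring⟩

/-- the order of `PSL₂(F)` divides `(q² - 1) q` -/
theorem card_psl2_dvd {q : ℕ} (hF : Fintype.card F = q) :
    Nat.card (ProjectiveSpecialLinearGroup (Fin 2) F) ∣ (q ^ 2 - 1) * q := by
  rcases Nat.even_or_odd q with he | ho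
  · rw [Cfsg.Agent.Helper98.PSL2Card.card_psl2_even hF he]
  · exact ⟨2, (Cfsg.Agent.Helper98.PSL2Card.card_psl2_odd hF ho).symm⟩

/-- subgroups of type (a), (b) in Dickson's list are solvable -/
theorem isSolvable_of_dickson_ab {q : ℕ} (p : ℕ) [Fact p.Prime] [CharP F p]
    (M : Subgroup (ProjectiveSpecialLinearGroup (Fin 2) F))
    (h : (∃ k : ℕ, (k ∣ (q + 1) / Nat.gcd 2 (q - 1) ∨ k ∣ (q - 1) / Nat.gcd 2 (q - 1)) ∧
        ((IsCyclic M ∧ Nat.card M = k) ∨ Nonempty (M ≃* DihedralGroup k))) ∨
      (∃ (P : Sylow p (ProjectiveSpecialLinearGroup (Fin 2) F))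
        (K : Subgroup (ProjectiveSpecialLinearGroup (Fin 2) F)),
        K ≤ Subgroup.normalizer ((P : Subgroup (ProjectiveSpecialLinearGroup (Fin 2) F)) :
          Set (ProjectiveSpecialLinearGroup (Fin 2) F)) ∧ Nonempty (M ≃* K))) :
    Group.IsSolvable M := by
  classical
  rcases h with ⟨k, -, hHk⟩ | ⟨P, K, hK, ⟨e⟩⟩
  · rcases hHk with ⟨hc, -⟩ | ⟨⟨e⟩⟩
    · haveI := hc
      exact Group.isSolvable_of_comm (fun a b => by
        obtain ⟨g, hg⟩ := IsCyclic.exists_generator (α := M)
        obtain ⟨i, rfl⟩ := Subgroup.mem_zpowers_iff.mp (hg a)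
        obtain ⟨j, rfl⟩ := Subgroup.mem_zpowers_iff.mp (hg b)
        rw [← _root_.zpow_add, ← _root_.zpow_add, add_comm])
    · exact isSolvable_of_mulEquiv e (isSolvable_dihedral k)
  · haveI := isSolvable_normalizer_sylow p P
    have : Group.IsSolvable K :=
      Group.isSolvable_of_isSolvable_injective (f := Subgroup.inclusion hK)
        (Subgroup.inclusion_injective hK)
    exact isSolvable_of_mulEquiv e this

/-- a subgroup containing a copy of `A₅` is not solvable -/
theorem not_isSolvable_of_alt5_le {G : Type*} [Group G] {H M : Subgroup G} (hHM : H ≤ M)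
    (e : H ≃* alternatingGroup (Fin 5)) : ¬ Group.IsSolvable M := by
  intro hM
  have h1 : Group.IsSolvable H :=
    Group.isSolvable_of_isSolvable_injective (f := Subgroup.inclusion hHM)
      (Subgroup.inclusion_injective hHM)
  exact not_isSolvable_alt5 (isSolvable_of_mulEquiv e.symm h1)

/-- a subfield of prime order: `|K| ^ m = p` forces `|K| = p` -/
theorem card_eq_of_pow_eq_prime {K : Type*} [Fintype K] [Nontrivial K] {p m : ℕ}
    (hp : p.Prime) (h : Fintype.card K ^ m = p) : Fintype.card K = p := by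
  have hk : 1 < Fintype.card K := Fintype.one_lt_card
  have hm : m ≠ 0 := by
    rintro rfl
    rw [pow_zero] at h
    exact hp.one_lt.ne h
  have hd : Fintype.card K ∣ p := by
    rw [← h]
    exact dvd_pow_self _ hm
  rcases (Nat.dvd_prime hp).mp hd with h1 | h1
  · omega
  · exact h1

/-- a subfield of order dividing `p²`: `|K| ^ m = p²` forces `|K| = p` or `|K| = p²` -/
theorem card_eq_of_pow_eq_prime_sq {K : Type*} [Fintype K] [Nontrivial K] {p m : ℕ}
    (hp : p.Prime) (h : Fintype.card K ^ m = p ^ 2) :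
    Fintype.card K = p ∨ Fintype.card K = p ^ 2 := by
  have hk : 1 < Fintype.card K := Fintype.one_lt_card
  have hm : m ≠ 0 := by
    rintro rfl
    rw [pow_zero] at h
    have := Nat.one_lt_pow (n := 2) (by norm_num) hp.one_lt
    omega
  have hd : Fintype.card K ∣ p ^ 2 := by
    rw [← h]
    exact dvd_pow_self _ hm
  obtain ⟨a, ha, hka⟩ := (Nat.dvd_prime_pow hp).mp hd
  interval_cases a
  · rw [pow_zero] at hka; omega
  · left; rw [hka, pow_one]
  · right; exact hka

end general

end Cfsg.Agent.Helper42.PSL2Max
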