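import Mathlib
import Cfsg.Agent.Lib.Helper84.Sp4Defs

/-!
# PSP4F lemma server (helper84, S5320): piece (B1) TOR -- the torus `C(i0) = {rot a b}` of `SL₂(F)`.
Statements VERBATIM from `tools/psp4_sigs_helper84.lean.txt`.
-/

set_option autoImplicit false

namespace Cfsg.Agent.Helper42.Sp4

open Matrix Cfsg.Agent.Helper84.Sp4

variable {F : Type*} [Field F]

theorem b1_rot_mul (a b c d : F) : rot a b * rot c d = rot (a * c - b * d) (a * d + b * c) := by
  ext i j
  fin_cases i <;> fin_cases j <;> simp [rot, Matrix.mul_apply, Fin.sum_univ_two] <;> ring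

theorem b1_det_rot (a b : F) : (rot a b).det = a * a + b * b := by
  simp [rot, Matrix.det_fin_two]

theorem b1_rot_inj {a b c d : F} (h : rot a b = rot c d) : a = c ∧ b = d := by
  have h1 := congrFun (congrFun h 0) 0
  have h2 := congrFun (congrFun h 0) 1
  simp [rot] at h1 h2
  exact ⟨h1, h2⟩

theorem b1_neg_one_val : ((-1 : SL2 F) : Matrix (Fin 2) (Fin 2) F) = rot (-1) 0 := by
  ext i j
  fin_cases i <;> fin_cases j <;> simp [rot]

theorem b1_one_val : ((1 : SL2 F) : Matrix (Fin 2) (Fin 2) F) = rot 1 0 := by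
  ext i j
  fin_cases i <;> fin_cases j <;> simp [rot]

theorem mem_Tor_iff (X : SL2 F) :
    X ∈ (Tor : Subgroup (SL2 F)) ↔ ∃ a b : F, (X : Matrix (Fin 2) (Fin 2) F) = rot a b := by
  rw [Tor, Subgroup.mem_centralizer_singleton_iff]
  constructor
  · intro h
    have h' : (X : Matrix (Fin 2) (Fin 2) F) * rot 0 1 = rot 0 1 * (X : Matrix (Fin 2) (Fin 2) F) := by
      have := congrArg Subtype.val h
      simpa using this
    refine ⟨(X : Matrix (Fin 2) (Fin 2) F) 0 0, (X : Matrix (Fin 2) (Fin 2) F) 0 1, ?_⟩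
    have e1 := congrFun (congrFun h' 0) 0
    have e2 := congrFun (congrFun h' 0) 1
    simp [rot, Matrix.mul_apply, Fin.sum_univ_two] at e1 e2
    ext i j
    fin_cases i <;> fin_cases j <;> simp [rot]
    · exact e1.symm
    · exact e2.symm
  · rintro ⟨a, b, hab⟩
    apply Subtype.ext
    have : (X : Matrix (Fin 2) (Fin 2) F) * rot 0 1 = rot 0 1 * (X : Matrix (Fin 2) (Fin 2) F) := by
      rw [hab, b1_rot_mul, b1_rot_mul]
      congr 1 <;> ring
    simpa using this

theorem Tor_comm {X Y : SL2 F} (hX : X ∈ (Tor : Subgroup (SL2 F)))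
    (hY : Y ∈ (Tor : Subgroup (SL2 F))) : X * Y = Y * X := by
  obtain ⟨a, b, hab⟩ := (mem_Tor_iff X).mp hX
  obtain ⟨c, d, hcd⟩ := (mem_Tor_iff Y).mp hY
  apply Subtype.ext
  rw [Matrix.SpecialLinearGroup.coe_mul, Matrix.SpecialLinearGroup.coe_mul, hab, hcd, b1_rot_mul,
    b1_rot_mul]
  congr 1 <;> ring

theorem mem_Tor2_iff (X : SL2 F) :
    X ∈ (Tor2 : Subgroup (SL2 F)) ↔ X ∈ (Tor : Subgroup (SL2 F)) ∧ ∃ m : ℕ, X ^ (2 ^ m) = 1 := by
  constructor
  · intro h
    rw [Tor2] at h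
    induction h using Subgroup.closure_induction with
    | mem x hx => exact hx
    | one => exact ⟨Subgroup.one_mem _, 0, by simp⟩
    | mul x y _ _ hx hy =>
      obtain ⟨hxT, m, hm⟩ := hx
      obtain ⟨hyT, n, hn⟩ := hy
      refine ⟨Subgroup.mul_mem _ hxT hyT, m + n, ?_⟩
      have hc : Commute x y := Tor_comm hxT hyT
      rw [hc.mul_pow, pow_add, pow_mul, hm, one_pow, one_mul, mul_comm (2 ^ m) (2 ^ n), pow_mul, hn,
        one_pow]
    | inv x _ hx =>
      obtain ⟨hxT, m, hm⟩ := hx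
      exact ⟨Subgroup.inv_mem _ hxT, m, by rw [inv_pow, hm, inv_one]⟩
  · intro h
    exact Subgroup.subset_closure h

theorem i0_mul_i0 : (i0 : SL2 F) * i0 = -1 := by
  apply Subtype.ext
  rw [Matrix.SpecialLinearGroup.coe_mul, i0_val, b1_rot_mul, b1_neg_one_val]
  congr 1 <;> ring

theorem i0_inv : (i0 : SL2 F)⁻¹ = -i0 := by
  rw [inv_eq_iff_mul_eq_one]
  apply Subtype.ext
  rw [Matrix.SpecialLinearGroup.coe_mul, Matrix.SpecialLinearGroup.coe_neg, i0_val,
    Matrix.SpecialLinearGroup.coe_one]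
  ext i j
  fin_cases i <;> fin_cases j <;> simp [rot, Matrix.mul_apply, Fin.sum_univ_two]

theorem b1_i0_mem_Tor : (i0 : SL2 F) ∈ (Tor : Subgroup (SL2 F)) :=
  (mem_Tor_iff _).mpr ⟨0, 1, rfl⟩

theorem b1_neg_one_mul_neg_one : (-1 : SL2 F) * (-1) = 1 := by
  apply Subtype.ext
  rw [Matrix.SpecialLinearGroup.coe_mul, b1_neg_one_val, b1_rot_mul, b1_one_val]
  congr 1 <;> ring

theorem i0_mem_Tor2 : (i0 : SL2 F) ∈ (Tor2 : Subgroup (SL2 F)) := by
  rw [mem_Tor2_iff]
  refine ⟨b1_i0_mem_Tor, 2, ?_⟩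
  have : (i0 : SL2 F) ^ (2 ^ 2) = (i0 * i0) * (i0 * i0) := by
    norm_num [pow_succ, mul_assoc]
  rw [this, i0_mul_i0, b1_neg_one_mul_neg_one]

theorem neg_one_mem_Tor2 : (-1 : SL2 F) ∈ (Tor2 : Subgroup (SL2 F)) := by
  rw [mem_Tor2_iff]
  refine ⟨(mem_Tor_iff _).mpr ⟨-1, 0, b1_neg_one_val⟩, 1, ?_⟩
  rw [pow_one, pow_two, b1_neg_one_mul_neg_one]

theorem Tor_sq_eq_one (h2 : (2 : F) ≠ 0) {X : SL2 F} (hX : X ∈ (Tor : Subgroup (SL2 F)))
    (h : X * X = 1) : X = 1 ∨ X = -1 := by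
  obtain ⟨a, b, hab⟩ := (mem_Tor_iff X).mp hX
  have hdet : a * a + b * b = 1 := by
    rw [← b1_det_rot, ← hab]; exact X.2
  have h' : rot (a * a - b * b) (a * b + b * a) = rot 1 0 := by
    rw [← b1_rot_mul, ← hab, ← Matrix.SpecialLinearGroup.coe_mul, h, b1_one_val]
  obtain ⟨e1, e2⟩ := b1_rot_inj h'
  have hb : b = 0 := by
    have : (2 : F) * (b * b) = 0 := by linear_combination hdet - e1
    rcases mul_eq_zero.mp this with h | h
    · exact absurd h h2
    · exact mul_self_eq_zero.mp h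
  subst hb
  have ha : a * a = 1 := by linear_combination hdet
  rcases mul_self_eq_one_iff.mp ha with ha | ha
  · left
    apply Subtype.ext
    rw [hab, ha, b1_one_val]
  · right
    apply Subtype.ext
    rw [hab, ha, b1_neg_one_val]

theorem Tor_sq_eq_neg_one (h2 : (2 : F) ≠ 0) {X : SL2 F} (hX : X ∈ (Tor : Subgroup (SL2 F)))
    (h : X * X = -1) : X = i0 ∨ X = i0⁻¹ := by
  obtain ⟨a, b, hab⟩ := (mem_Tor_iff X).mp hX
  have hdet : a * a + b * b = 1 := by
    rw [← b1_det_rot, ← hab]; exact X.2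
  have h' : rot (a * a - b * b) (a * b + b * a) = rot (-1) 0 := by
    rw [← b1_rot_mul, ← hab, ← Matrix.SpecialLinearGroup.coe_mul, h, b1_neg_one_val]
  obtain ⟨e1, e2⟩ := b1_rot_inj h'
  have ha : a = 0 := by
    have : (2 : F) * (a * a) = 0 := by linear_combination hdet + e1
    rcases mul_eq_zero.mp this with h | h
    · exact absurd h h2
    · exact mul_self_eq_zero.mp h
  subst ha
  have hb : b * b = 1 := by linear_combination hdet
  rcases mul_self_eq_one_iff.mp hb with hb | hb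
  · left
    apply Subtype.ext
    rw [hab, hb, i0_val]
  · right
    apply Subtype.ext
    rw [hab, hb, i0_inv, Matrix.SpecialLinearGroup.coe_neg, i0_val]
    ext i j
    fin_cases i <;> fin_cases j <;> simp [rot]

end Cfsg.Agent.Helper42.Sp4
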