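import Mathlib
import Cfsg.Agent.Lib.Helper84.Sp4Defs
import Cfsg.Agent.Lib.Helper42.Sp4B1

/-!
# PSP4F lemma server (helper84, S5320): piece (B2) NTOR -- the coset `{ref x y}` of `N(Tor)` in `SL₂(F)`.
Statements VERBATIM from `tools/psp4_sigs_helper84.lean.txt`.
-/

set_option autoImplicit false

namespace Cfsg.Agent.Helper42.Sp4

open Matrix Cfsg.Agent.Helper84.Sp4

variable {F : Type*} [Field F]

theorem b2_ref_mul_rot (x y a b : F) : ref x y * rot a b = ref (x * a - y * b) (x * b + y * a) := by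
  ext i j
  fin_cases i <;> fin_cases j <;> simp [ref, rot, Matrix.mul_apply, Fin.sum_univ_two] <;> ring

theorem b2_rot_mul_ref (a b x y : F) : rot a b * ref x y = ref (a * x + b * y) (a * y - b * x) := by
  ext i j
  fin_cases i <;> fin_cases j <;> simp [ref, rot, Matrix.mul_apply, Fin.sum_univ_two] <;> ring

theorem b2_ref_mul_ref (x y u v : F) : ref x y * ref u v = rot (x * u + y * v) (x * v - y * u) := by
  ext i j
  fin_cases i <;> fin_cases j <;> simp [ref, rot, Matrix.mul_apply, Fin.sum_univ_two] <;> ring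

theorem b2_det_ref (x y : F) : (ref x y).det = -(x * x + y * y) := by
  simp [ref, Matrix.det_fin_two]; ring

theorem b2_i0_inv_val : (((i0 : SL2 F)⁻¹ : SL2 F) : Matrix (Fin 2) (Fin 2) F) = rot 0 (-1) := by
  rw [i0_inv, Matrix.SpecialLinearGroup.coe_neg, i0_val]
  ext i j
  fin_cases i <;> fin_cases j <;> simp [rot]

theorem mem_NTor_iff (X : SL2 F) : X ∈ (NTor : Set (SL2 F)) ↔ X * i0 * X⁻¹ = i0⁻¹ := by
  rw [mul_inv_eq_iff_eq_mul]
  constructor
  · rintro ⟨x, y, hxy⟩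
    apply Subtype.ext
    rw [Matrix.SpecialLinearGroup.coe_mul, Matrix.SpecialLinearGroup.coe_mul, b2_i0_inv_val, i0_val,
      hxy, b2_ref_mul_rot, b2_rot_mul_ref]
    congr 1 <;> ring
  · intro h
    have h' : (X : Matrix (Fin 2) (Fin 2) F) * rot 0 1 = rot 0 (-1) * (X : Matrix (Fin 2) (Fin 2) F) := by
      have := congrArg Subtype.val h
      rw [Matrix.SpecialLinearGroup.coe_mul, Matrix.SpecialLinearGroup.coe_mul, b2_i0_inv_val,
        i0_val] at this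
      exact this
    refine ⟨(X : Matrix (Fin 2) (Fin 2) F) 0 0, (X : Matrix (Fin 2) (Fin 2) F) 0 1, ?_⟩
    have e1 := congrFun (congrFun h' 0) 0
    have e2 := congrFun (congrFun h' 0) 1
    simp [rot, Matrix.mul_apply, Fin.sum_univ_two] at e1 e2
    ext i j
    fin_cases i <;> fin_cases j <;> simp [ref]
    · exact e1.symm
    · rw [e2]; ring

theorem b2_inv_val_of_rot {Y : SL2 F} {a b : F} (h : (Y : Matrix (Fin 2) (Fin 2) F) = rot a b) :
    ((Y⁻¹ : SL2 F) : Matrix (Fin 2) (Fin 2) F) = rot a (-b) := by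
  rw [Matrix.SpecialLinearGroup.coe_inv, h, Matrix.adjugate_fin_two]
  ext i j
  fin_cases i <;> fin_cases j <;> simp [rot]

theorem b2_inv_val_of_ref {X : SL2 F} {x y : F} (h : (X : Matrix (Fin 2) (Fin 2) F) = ref x y) :
    ((X⁻¹ : SL2 F) : Matrix (Fin 2) (Fin 2) F) = ref (-x) (-y) := by
  rw [Matrix.SpecialLinearGroup.coe_inv, h, Matrix.adjugate_fin_two]
  ext i j
  fin_cases i <;> fin_cases j <;> simp [ref]

theorem NTor_conj {X Y : SL2 F} (hX : X ∈ (NTor : Set (SL2 F)))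
    (hY : Y ∈ (Tor : Subgroup (SL2 F))) : X * Y * X⁻¹ = Y⁻¹ := by
  obtain ⟨x, y, hxy⟩ := hX
  obtain ⟨a, b, hab⟩ := (mem_Tor_iff Y).mp hY
  rw [mul_inv_eq_iff_eq_mul]
  apply Subtype.ext
  rw [Matrix.SpecialLinearGroup.coe_mul, Matrix.SpecialLinearGroup.coe_mul, b2_inv_val_of_rot hab,
    hab, hxy, b2_ref_mul_rot, b2_rot_mul_ref]
  congr 1 <;> ring

theorem NTor_mul_self {X : SL2 F} (hX : X ∈ (NTor : Set (SL2 F))) : X * X = -1 := by
  obtain ⟨x, y, hxy⟩ := hX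
  have hdet : -(x * x + y * y) = 1 := by
    rw [← b2_det_ref, ← hxy]; exact X.2
  apply Subtype.ext
  rw [Matrix.SpecialLinearGroup.coe_mul, hxy, b2_ref_mul_ref, b1_neg_one_val]
  congr 1
  · linear_combination -hdet
  · ring

theorem NTor_inv {X : SL2 F} (hX : X ∈ (NTor : Set (SL2 F))) : X⁻¹ ∈ (NTor : Set (SL2 F)) := by
  obtain ⟨x, y, hxy⟩ := hX
  exact ⟨-x, -y, b2_inv_val_of_ref hxy⟩

theorem NTor_mul_NTor {X Y : SL2 F} (hX : X ∈ (NTor : Set (SL2 F)))
    (hY : Y ∈ (NTor : Set (SL2 F))) : X * Y ∈ (Tor : Subgroup (SL2 F)) := by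
  obtain ⟨x, y, hxy⟩ := hX
  obtain ⟨u, v, huv⟩ := hY
  rw [mem_Tor_iff]
  exact ⟨_, _, by rw [Matrix.SpecialLinearGroup.coe_mul, hxy, huv, b2_ref_mul_ref]⟩

theorem NTor_mul_Tor {X Y : SL2 F} (hX : X ∈ (NTor : Set (SL2 F)))
    (hY : Y ∈ (Tor : Subgroup (SL2 F))) : X * Y ∈ (NTor : Set (SL2 F)) := by
  obtain ⟨x, y, hxy⟩ := hX
  obtain ⟨a, b, hab⟩ := (mem_Tor_iff Y).mp hY
  exact ⟨_, _, by rw [Matrix.SpecialLinearGroup.coe_mul, hxy, hab, b2_ref_mul_rot]⟩

theorem Tor_mul_NTor {X Y : SL2 F} (hX : X ∈ (Tor : Subgroup (SL2 F)))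
    (hY : Y ∈ (NTor : Set (SL2 F))) : X * Y ∈ (NTor : Set (SL2 F)) := by
  obtain ⟨a, b, hab⟩ := (mem_Tor_iff X).mp hX
  obtain ⟨x, y, hxy⟩ := hY
  exact ⟨_, _, by rw [Matrix.SpecialLinearGroup.coe_mul, hxy, hab, b2_rot_mul_ref]⟩

theorem not_mem_NTor_of_mem_Tor (h2 : (2 : F) ≠ 0) {X : SL2 F}
    (hX : X ∈ (Tor : Subgroup (SL2 F))) : X ∉ (NTor : Set (SL2 F)) := by
  obtain ⟨a, b, hab⟩ := (mem_Tor_iff X).mp hX
  rintro ⟨x, y, hxy⟩
  have hdet : a * a + b * b = 1 := by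
    rw [← b1_det_rot, ← hab]; exact X.2
  have h := hab.symm.trans hxy
  have e1 := congrFun (congrFun h 0) 0
  have e2 := congrFun (congrFun h 0) 1
  have e3 := congrFun (congrFun h 1) 0
  have e4 := congrFun (congrFun h 1) 1
  simp [rot, ref] at e1 e2 e3 e4
  have ha : a = 0 := by
    have : (2 : F) * a = 0 := by linear_combination e1 + e4
    rcases mul_eq_zero.mp this with h | h
    · exact absurd h h2
    · exact h
  have hb : b = 0 := by
    have : (2 : F) * b = 0 := by linear_combination e2 - e3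
    rcases mul_eq_zero.mp this with h | h
    · exact absurd h h2
    · exact h
  rw [ha, hb] at hdet
  simp at hdet

theorem mem_Tor_or_NTor_of_conj {g : SL2 F}
    (h : g * i0 * g⁻¹ = i0 ∨ g * i0 * g⁻¹ = i0⁻¹) :
    g ∈ (Tor : Subgroup (SL2 F)) ∨ g ∈ (NTor : Set (SL2 F)) := by
  rcases h with h | h
  · left
    rw [Tor, Subgroup.mem_centralizer_singleton_iff]
    rw [mul_inv_eq_iff_eq_mul] at h
    exact h
  · right
    exact (mem_NTor_iff g).mpr h

end Cfsg.Agent.Helper42.Sp4
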