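import Mathlib
import Cfsg.Agent.Lib.Helper84.Sp4Defs

/-!
# PSP4F lemma server (helper84, S5320): piece (B3) J0 -- `j0 ∈ NTor` (every finite field has
`x² + y² = -1`).  Statement VERBATIM from `tools/psp4_sigs_helper84.lean.txt`.
-/

set_option autoImplicit false

namespace Cfsg.Agent.Helper42.Sp4

open Matrix Cfsg.Agent.Helper84.Sp4

variable {F : Type*} [Field F]

theorem b3_exists_NTor [Finite F] : ∃ X : SL2 F, X ∈ (NTor : Set (SL2 F)) := by
  have hp : NeZero (ringChar F) := ⟨CharP.char_ne_zero_of_finite F (ringChar F)⟩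
  obtain ⟨a, b, hab⟩ := CharP.sq_add_sq F (ringChar F) (-1)
  have hdet : (ref (a : F) (b : F)).det = 1 := by
    simp only [ref, Matrix.det_fin_two_of]
    push_cast at hab
    linear_combination -hab
  exact ⟨⟨ref (a : F) (b : F), hdet⟩, (a : F), (b : F), rfl⟩

theorem j0_mem [Finite F] : (j0 : SL2 F) ∈ (NTor : Set (SL2 F)) := by
  have h := b3_exists_NTor (F := F)
  rw [j0, dif_pos h]
  exact h.choose_spec

end Cfsg.Agent.Helper42.Sp4
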