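import Mathlib
import Cfsg.Agent.Lib.Helper4.AbInv.Defs
import Cfsg.Agent.S1230
import Cfsg.Agent.S3660

set_option autoImplicit false
set_option linter.unusedSectionVars false

/-! S2202 (helper4), task T4: from the internal form `Good G` to the external conclusion
`G ≃* SL(2, F) × A`. -/

namespace Cfsg.Agent.Helper42.AbInv

open Cfsg.Agent.Helper4.AbInv
open Pointwise Subgroup

/-- a universe-zero model of a finite commutative group -/
theorem exists_small_commGroup (B₀ : Type*) [Group B₀] [Finite B₀]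
    (hc : ∀ a b : B₀, a * b = b * a) :
    ∃ (A : Type) (_ : CommGroup A) (_ : Finite A), Nonempty (A ≃* B₀) := by
  let f : B₀ ≃ Fin (Nat.card B₀) := Finite.equivFin B₀
  let cg : CommGroup B₀ := { (inferInstance : Group B₀) with mul_comm := hc }
  exact ⟨Fin (Nat.card B₀), f.symm.commGroup, inferInstance, ⟨f.symm.mulEquiv⟩⟩

variable {G : Type*} [Group G]

/-- internal direct product with a central factor -/
theorem nonempty_mulEquiv_prod {L B : Subgroup G} (hLn : L.Normal) (hBc : B ≤ center G)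
    (hLB : L ⊓ B = ⊥) (hLB' : L ⊔ B = ⊤) : Nonempty (G ≃* ↥L × ↥B) := by
  have hcomm : ∀ (l : ↥L) (b : ↥B), Commute (L.subtype l) (B.subtype b) := by
    intro l b
    exact (Subgroup.mem_center_iff.mp (hBc b.2) (l : G))
  let ψ : ↥L × ↥B →* G := MonoidHom.noncommCoprod L.subtype B.subtype hcomm
  have hψ : ∀ x : ↥L × ↥B, ψ x = (x.1 : G) * (x.2 : G) := fun x => rfl
  have hinj : Function.Injective ψ := by
    rw [injective_iff_map_eq_one]
    rintro ⟨l, b⟩ h
    rw [hψ] at h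
    have h1 : (l : G) = (b : G)⁻¹ := eq_inv_of_mul_eq_one_left h
    have h2 : (l : G) ∈ L ⊓ B := ⟨l.2, by rw [h1]; exact B.inv_mem b.2⟩
    rw [hLB, Subgroup.mem_bot] at h2
    have h3 : (b : G) = 1 := by
      have h4 : (l : G) * (b : G) = 1 := h
      rw [h2, one_mul] at h4
      exact h4
    exact Prod.ext (Subtype.ext h2) (Subtype.ext h3)
  have hsurj : Function.Surjective ψ := by
    intro g
    have hg : g ∈ ((L ⊔ B : Subgroup G) : Set G) := by rw [hLB']; trivial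
    rw [Subgroup.normal_mul L B, Set.mem_mul] at hg
    obtain ⟨x, hx, y, hy, hxy⟩ := hg
    exact ⟨(⟨x, hx⟩, ⟨y, hy⟩), hxy⟩
  exact ⟨(MulEquiv.ofBijective ψ ⟨hinj, hsurj⟩).symm⟩

variable [Finite G]

/-- in `G = L × B` with `B` central of odd order the `2`-elements lie in `L` -/
theorem mem_of_two_pow {L B : Subgroup G} (hLn : L.Normal) (hBc : B ≤ center G)
    (hBodd : Odd (Nat.card B)) (hLB : L ⊓ B = ⊥) (hLB' : L ⊔ B = ⊤) {x : G} {n : ℕ}
    (hx : x ^ 2 ^ n = 1) : x ∈ L := by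
  have hg : x ∈ ((L ⊔ B : Subgroup G) : Set G) := by rw [hLB']; trivial
  rw [Subgroup.normal_mul L B, Set.mem_mul] at hg
  obtain ⟨l, hl, b, hb, rfl⟩ := hg
  have hcomm : Commute l b := (Subgroup.mem_center_iff.mp (hBc hb) l)
  rw [hcomm.mul_pow] at hx
  have h1 : b ^ 2 ^ n = (l ^ 2 ^ n)⁻¹ := eq_inv_of_mul_eq_one_right hx
  have h2 : b ^ 2 ^ n ∈ L ⊓ B :=
    ⟨by rw [h1]; exact L.inv_mem (L.pow_mem hl _), B.pow_mem hb _⟩
  rw [hLB, Subgroup.mem_bot] at h2
  have h3 : orderOf b ∣ 2 ^ n := orderOf_dvd_of_pow_eq_one h2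
  have h4 : orderOf b ∣ Nat.card B := by
    have := orderOf_dvd_natCard (⟨b, hb⟩ : B)
    rwa [Subgroup.orderOf_mk] at this
  have h5 : (orderOf b).Coprime (2 ^ n) :=
    Nat.Coprime.pow_right n (Nat.Coprime.coprime_dvd_left h4 (Nat.coprime_two_right.mpr hBodd))
  have h6 : orderOf b = 1 := h5.eq_one_of_dvd h3
  rw [orderOf_eq_one_iff.mp h6, mul_one]
  exact hl

omit [Finite G] in
theorem comm_of_sq' {H : Type*} [Group H] {a b : H} (ha : a ^ 2 = 1) (hb : b ^ 2 = 1)
    (hab : (a * b) ^ 2 = 1) : a * b = b * a := by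
  have h1 : a * b * (a * b) = 1 := by rw [← pow_two]; exact hab
  have h2 : a * b = (a * b)⁻¹ := eq_inv_of_mul_eq_one_left h1
  have ha' : a⁻¹ = a := by
    rw [inv_eq_iff_eq_inv]
    exact eq_inv_of_mul_eq_one_left (by rw [← pow_two]; exact ha)
  have hb' : b⁻¹ = b := by
    rw [inv_eq_iff_eq_inv]
    exact eq_inv_of_mul_eq_one_left (by rw [← pow_two]; exact hb)
  rw [h2, mul_inv_rev, ha', hb']

/-- T4: from `Good G` to the external conclusion. -/
theorem good_to_external {G : Type*} [Group G] [Finite G] (hG : Good G)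
    (hnc : ¬ ∀ P : Sylow 2 G, IsCyclic ↥(P : Subgroup G))
    (hnn : ¬ ∀ P : Sylow 2 G, (P : Subgroup G).Normal) :
    ∃ (F : Type) (_ : Field F) (_ : Fintype F) (A : Type) (_ : CommGroup A) (_ : Finite A),
      CharP F 2 ∧ Odd (Nat.card A) ∧
        Nonempty (G ≃* Matrix.SpecialLinearGroup (Fin 2) F × A) := by
  have : Fact (Nat.Prime 2) := ⟨Nat.prime_two⟩
  obtain ⟨L, B, hLn, hBc, hBodd, hLB, hLB', hcl⟩ := hG
  push Not at hnc hnn
  obtain ⟨P, hP⟩ := hnc
  obtain ⟨P', hP'⟩ := hnn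
  have hPnn : ¬ (P : Subgroup G).Normal := by
    intro hn
    apply hP'
    obtain ⟨g, rfl⟩ := MulAction.exists_smul_eq G P P'
    have h1 : (g • P : Sylow 2 G) = P := Sylow.smul_eq_of_normal
    rw [h1]; exact hn
  have hPL : (P : Subgroup G) ≤ L := by
    intro x hx
    obtain ⟨n, hn⟩ := (IsPGroup.iff_orderOf.mp P.isPGroup') ⟨x, hx⟩
    rw [Subgroup.orderOf_mk] at hn
    exact mem_of_two_pow hLn hBc hBodd hLB hLB' (n := n)
      (by rw [← hn]; exact pow_orderOf_eq_one x)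
  set T : Sylow 2 ↥L := P.subtype hPL with hT
  have hTcoe : (T : Subgroup ↥L) = (P : Subgroup G).subgroupOf L := Sylow.coe_subtype P hPL
  have hTnc : ¬ IsCyclic ↥(T : Subgroup ↥L) := by
    intro hcyc
    apply hP
    rw [hTcoe] at hcyc
    let e := Subgroup.subgroupOfEquivOfLe hPL
    exact isCyclic_of_surjective e e.surjective
  have hTnn : ¬ (T : Subgroup ↥L).Normal := by
    intro hn
    apply hPnn
    constructor
    intro x hx g
    have hg : g ∈ ((L ⊔ B : Subgroup G) : Set G) := by rw [hLB']; trivial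
    rw [Subgroup.normal_mul L B, Set.mem_mul] at hg
    obtain ⟨l, hl, b, hb, rfl⟩ := hg
    have hbc := Subgroup.mem_center_iff.mp (hBc hb)
    have h1 : l * b * x * (l * b)⁻¹ = l * x * l⁻¹ := by
      calc l * b * x * (l * b)⁻¹ = l * (b * x * b⁻¹) * l⁻¹ := by group
        _ = l * x * l⁻¹ := by rw [← hbc x, mul_assoc x, mul_inv_cancel, mul_one]
    have hxT : (⟨x, hPL hx⟩ : ↥L) ∈ (T : Subgroup ↥L) := by
      rw [hTcoe]; exact Subgroup.mem_subgroupOf.mpr hx
    have h2 := hn.conj_mem ⟨x, hPL hx⟩ hxT ⟨l, hl⟩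
    rw [hTcoe, Subgroup.mem_subgroupOf] at h2
    rw [h1]; exact h2
  have hC : ∀ t : ↥L, orderOf t = 2 →
      IsMulCommutative (Subgroup.centralizer ({t} : Set ↥L)) ∧
        ∀ c ∈ Subgroup.centralizer ({t} : Set ↥L), c ^ 2 = 1 := by
    intro t ht
    have hsq : ∀ c ∈ Subgroup.centralizer ({t} : Set ↥L), c ^ 2 = 1 := by
      intro c hc
      have h1 : c * t = t * c := Subgroup.mem_centralizer_singleton_iff.mp hc
      have ht' : orderOf (t : G) = 2 := by rw [Subgroup.orderOf_coe]; exact ht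
      have h2 : (c : G) * (t : G) = (t : G) * (c : G) := by
        have := congrArg Subtype.val h1
        simpa using this
      have h3 := hcl (t : G) t.2 ht' (c : G) c.2 h2
      apply Subtype.ext
      rw [Subgroup.coe_pow, h3, Subgroup.coe_one]
    refine ⟨⟨⟨fun a b => ?_⟩⟩, hsq⟩
    apply Subtype.ext
    have ha : (a : ↥L) ^ 2 = 1 := hsq a a.2
    have hb : (b : ↥L) ^ 2 = 1 := hsq b b.2
    have hab : ((a : ↥L) * (b : ↥L)) ^ 2 = 1 := hsq _ (Subgroup.mul_mem _ a.2 b.2)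
    exact comm_of_sq' ha hb hab
  obtain ⟨F, instF, instFt, hcard, ⟨e1⟩⟩ := Cfsg.Agent.S1230.result T hTnc hTnn hC
  have hchar : CharP F 2 := by
    obtain ⟨p, hp⟩ := CharP.exists F
    obtain ⟨n, hpp, hn⟩ := FiniteField.card F p
    obtain ⟨k, hk⟩ := IsPGroup.iff_card.mp T.isPGroup'
    rw [hcard, hk] at hn
    have h1 : p ∣ 2 ^ k := by rw [hn]; exact dvd_pow_self p n.ne_zero
    have h2 : p ∣ 2 := hpp.dvd_of_dvd_pow h1
    have h3 : p = 2 := (Nat.prime_dvd_prime_iff_eq hpp Nat.prime_two).mp h2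
    rw [← h3]; exact hp
  have hBcomm : ∀ a b : ↥B, a * b = b * a := by
    intro a b
    apply Subtype.ext
    exact Subgroup.mem_center_iff.mp (hBc b.2) (a : G)
  obtain ⟨A, instA, instAf, ⟨e2⟩⟩ := exists_small_commGroup ↥B hBcomm
  have hodd : Odd (Nat.card A) := by
    rw [Nat.card_congr e2.toEquiv]; exact hBodd
  obtain ⟨e0⟩ := nonempty_mulEquiv_prod hLn hBc hLB hLB'
  exact ⟨F, instF, instFt, A, instA, instAf, hchar, hodd,
    ⟨e0.trans (MulEquiv.prodCongr (e1.trans (Cfsg.Agent.S3660.pslEquiv (F := F))) e2.symm)⟩⟩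

end Cfsg.Agent.Helper42.AbInv
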