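import Mathlib

set_option autoImplicit false

namespace Cfsg.Agent.Helper42

/-! ### The numeric bound for the symmetric group -/

/-- the largest product of a partition of `n` -/
def fS : ℕ → ℕ
  | 0 => 1
  | 1 => 1
  | 2 => 2
  | 3 => 3
  | 4 => 4
  | (n + 5) => 3 * fS (n + 2)

theorem fS_zero : fS 0 = 1 := by simp [fS]
theorem fS_one : fS 1 = 1 := by simp [fS]
theorem fS_two : fS 2 = 2 := by simp [fS]
theorem fS_three : fS 3 = 3 := by simp [fS]
theorem fS_four : fS 4 = 4 := by simp [fS]
theorem fS_add_five (n : ℕ) : fS (n + 5) = 3 * fS (n + 2) := by simp [fS]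

theorem fS_add_three {n : ℕ} (hn : 2 ≤ n) : fS (n + 3) = 3 * fS n := by
  obtain ⟨m, rfl⟩ : ∃ m, n = m + 2 := ⟨n - 2, by omega⟩
  exact fS_add_five m

theorem fS_pos (n : ℕ) : 0 < fS n := by
  induction n using Nat.strong_induction_on with
  | _ n ih =>
    match n with
    | 0 => simp [fS_zero]
    | 1 => simp [fS_one]
    | 2 => simp [fS_two]
    | 3 => simp [fS_three]
    | 4 => simp [fS_four]
    | (m + 5) =>
      rw [fS_add_five]
      have := ih (m + 2) (by omega)
      omega

theorem le_fS (n : ℕ) : n ≤ fS n := by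
  induction n using Nat.strong_induction_on with
  | _ n ih =>
    match n with
    | 0 => simp
    | 1 => simp [fS_one]
    | 2 => simp [fS_two]
    | 3 => simp [fS_three]
    | 4 => simp [fS_four]
    | (m + 5) =>
      rw [fS_add_five]
      have := ih (m + 2) (by omega)
      omega

theorem fS_mul_le (a b : ℕ) : fS a * fS b ≤ fS (a + b) := by
  induction hn : a + b using Nat.strong_induction_on generalizing a b with
  | _ n ih =>
    by_cases ha : 5 ≤ a
    · obtain ⟨a', rfl⟩ : ∃ a', a = a' + 3 := ⟨a - 3, by omega⟩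
      have h1 : fS (a' + 3) = 3 * fS a' := fS_add_three (by omega)
      have h2 : fS (a' + 3 + b) = 3 * fS (a' + b) := by
        rw [show a' + 3 + b = (a' + b) + 3 by omega]
        exact fS_add_three (by omega)
      have := ih (a' + b) (by omega) a' b rfl
      rw [← hn, h1, h2]
      nlinarith
    · by_cases hb : 5 ≤ b
      · obtain ⟨b', rfl⟩ : ∃ b', b = b' + 3 := ⟨b - 3, by omega⟩
        have h1 : fS (b' + 3) = 3 * fS b' := fS_add_three (by omega)
        have h2 : fS (a + (b' + 3)) = 3 * fS (a + b') := by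
          rw [show a + (b' + 3) = (a + b') + 3 by omega]
          exact fS_add_three (by omega)
        have := ih (a + b') (by omega) a b' rfl
        rw [← hn, h1, h2]
        nlinarith
      · rw [← hn]
        have ha' : a ≤ 4 := by omega
        have hb' : b ≤ 4 := by omega
        interval_cases a <;> interval_cases b <;> simp [fS]

theorem fS_three_mul (k : ℕ) : fS (3 * k) = 3 ^ k := by
  induction k with
  | zero => simp [fS_zero]
  | succ k ih =>
    rcases Nat.eq_zero_or_pos k with rfl | hk
    · simp [fS_three]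
    · rw [show 3 * (k + 1) = 3 * k + 3 by ring, fS_add_three (by omega), ih, pow_succ]
      ring

theorem fS_three_mul_add_one (k : ℕ) (hk : 1 ≤ k) : fS (3 * k + 1) = 4 * 3 ^ (k - 1) := by
  induction k with
  | zero => omega
  | succ k ih =>
    rcases Nat.eq_zero_or_pos k with rfl | hk'
    · simp [fS_four]
    · rw [show 3 * (k + 1) + 1 = (3 * k + 1) + 3 by ring, fS_add_three (by omega), ih hk']
      obtain ⟨j, rfl⟩ : ∃ j, k = j + 1 := ⟨k - 1, by omega⟩
      simp [pow_succ]
      ring

theorem fS_three_mul_add_two (k : ℕ) : fS (3 * k + 2) = 2 * 3 ^ k := by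
  induction k with
  | zero => simp [fS_two]
  | succ k ih =>
    rw [show 3 * (k + 1) + 2 = (3 * k + 2) + 3 by ring, fS_add_three (by omega), ih, pow_succ]
    ring

theorem prod_le_fS_sum {ι : Type*} (s : Finset ι) (n : ι → ℕ) :
    ∏ i ∈ s, n i ≤ fS (∑ i ∈ s, n i) := by
  classical
  induction s using Finset.induction_on with
  | empty => simp [fS_zero]
  | insert a s ha ih =>
    rw [Finset.prod_insert ha, Finset.sum_insert ha]
    calc n a * ∏ i ∈ s, n i ≤ fS (n a) * fS (∑ i ∈ s, n i) := Nat.mul_le_mul (le_fS _) ih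
      _ ≤ _ := fS_mul_le _ _


/-! ### The orbit-product bound -/

open MulAction

/-- An abelian group acting faithfully on a finite set has order at most the product of its
orbit lengths. -/
theorem card_le_prod_orbits {G α : Type*} [CommGroup G] [MulAction G α] [FaithfulSMul G α]
    [Finite α] :
    Nat.card G ≤ fS (Nat.card α) := by
  classical
  have : Fintype α := Fintype.ofFinite α
  let Ω := orbitRel.Quotient G α
  have : Fintype Ω := Fintype.ofFinite Ω
  let φ : G → (∀ ω : Ω, orbit G (Quotient.out ω : α)) :=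
    fun a ω => ⟨a • (Quotient.out ω : α), mem_orbit _ a⟩
  have hφ : Function.Injective φ := by
    intro a b hab
    apply FaithfulSMul.eq_of_smul_eq_smul (α := α)
    intro y
    have hy : y ∈ orbit G (Quotient.out (Quotient.mk'' y : Ω) : α) := by
      have h1 : (Quotient.mk'' (Quotient.out (Quotient.mk'' y : Ω) : α) : Ω) = Quotient.mk'' y :=
        Quotient.out_eq' _
      have h2 : (Quotient.out (Quotient.mk'' y : Ω) : α) ∈ orbit G y := Quotient.exact' h1
      exact mem_orbit_symm.mp h2
    obtain ⟨g, hg⟩ := hy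
    have h3 := congrArg (fun F => (F (Quotient.mk'' y : Ω)).1) hab
    simp only [φ] at h3
    rw [← hg]
    show a • g • _ = b • g • _
    rw [smul_comm a g, smul_comm b g, h3]
  have h1 : Nat.card G ≤ Nat.card (∀ ω : Ω, orbit G (Quotient.out ω : α)) :=
    Nat.card_le_card_of_injective φ hφ
  rw [Nat.card_pi] at h1
  have h2 : Nat.card α = ∑ ω : Ω, Nat.card (orbit G (Quotient.out ω : α)) := by
    rw [Nat.card_congr (selfEquivSigmaOrbits G α), Nat.card_sigma]
  rw [h2]
  exact h1.trans (prod_le_fS_sum _ _)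

theorem card_abelian_le {α : Type*} [Finite α] (A : Subgroup (Equiv.Perm α))
    (hA : IsMulCommutative A) : Nat.card A ≤ fS (Nat.card α) := by
  let _ : CommGroup A := { (inferInstance : Group A) with mul_comm := hA.is_comm.comm }
  exact card_le_prod_orbits (G := A) (α := α)


/-! ### Realising abelian subgroups -/

open Equiv

/-- there is an abelian subgroup of `Perm α` of order `c` -/
def RealS (α : Type*) (c : ℕ) : Prop :=
  ∃ A : Subgroup (Perm α), IsMulCommutative A ∧ Nat.card A = c

/-- there is an abelian subgroup of `Perm α` consisting of even permutations, of order `c` -/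
def RealA (α : Type*) [Fintype α] [DecidableEq α] (c : ℕ) : Prop :=
  ∃ A : Subgroup (Perm α), A ≤ alternatingGroup α ∧ IsMulCommutative A ∧ Nat.card A = c

theorem RealA.realS {α : Type*} [Fintype α] [DecidableEq α] {c : ℕ} (h : RealA α c) : RealS α c := by
  obtain ⟨A, -, h1, h2⟩ := h
  exact ⟨A, h1, h2⟩

theorem RealA.congr {α β : Type*} [Fintype α] [DecidableEq α] [Fintype β] [DecidableEq β]
    (e : α ≃ β) {c : ℕ} (h : RealA α c) : RealA β c := by
  obtain ⟨A, hle, hcomm, hcard⟩ := h
  refine ⟨A.map (e.permCongrHom : Perm α →* Perm β), ?_, ?_, ?_⟩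
  · rintro _ ⟨σ, hσ, rfl⟩
    rw [Perm.mem_alternatingGroup]
    show Perm.sign (e.permCongr σ) = 1
    rw [Perm.sign_permCongr]
    exact Perm.mem_alternatingGroup.mp (hle hσ)
  · exact Subgroup.map_isMulCommutative A _
  · rw [Subgroup.card_map_of_injective (e.permCongrHom.injective), hcard]

theorem prod_isMulCommutative {G H : Type*} [Group G] [Group H] (A : Subgroup G) (B : Subgroup H)
    (hA : IsMulCommutative A) (hB : IsMulCommutative B) : IsMulCommutative (A.prod B) := by
  refine ⟨⟨?_⟩⟩
  rintro ⟨⟨a, b⟩, ha, hb⟩ ⟨⟨a', b'⟩, ha', hb'⟩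
  apply Subtype.ext
  have h1 : a * a' = a' * a := by
    have := hA.is_comm.comm ⟨a, ha⟩ ⟨a', ha'⟩
    exact congrArg Subtype.val this
  have h2 : b * b' = b' * b := by
    have := hB.is_comm.comm ⟨b, hb⟩ ⟨b', hb'⟩
    exact congrArg Subtype.val this
  show (a * a', b * b') = (a' * a, b' * b)
  rw [h1, h2]

theorem RealA.sum {α β : Type*} [Fintype α] [DecidableEq α] [Fintype β] [DecidableEq β]
    {c d : ℕ} (h1 : RealA α c) (h2 : RealA β d) : RealA (α ⊕ β) (c * d) := by
  obtain ⟨A, hleA, hcommA, hcardA⟩ := h1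
  obtain ⟨B, hleB, hcommB, hcardB⟩ := h2
  refine ⟨(A.prod B).map (Perm.sumCongrHom α β), ?_, ?_, ?_⟩
  · rintro _ ⟨⟨σ, τ⟩, ⟨hσ, hτ⟩, rfl⟩
    rw [Perm.mem_alternatingGroup]
    show Perm.sign (Equiv.sumCongr σ τ) = 1
    rw [Perm.sign_sumCongr, Perm.mem_alternatingGroup.mp (hleA hσ),
      Perm.mem_alternatingGroup.mp (hleB hτ), one_mul]
  · have := prod_isMulCommutative A B hcommA hcommB
    exact Subgroup.map_isMulCommutative _ _
  · rw [Subgroup.card_map_of_injective Perm.sumCongrHom_injective,
      Nat.card_congr (Subgroup.prodEquiv A B).toEquiv, Nat.card_prod, hcardA, hcardB]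

theorem RealA.add {a b c d : ℕ} (h1 : RealA (Fin a) c) (h2 : RealA (Fin b) d) :
    RealA (Fin (a + b)) (c * d) :=
  (h1.sum h2).congr finSumFinEquiv

theorem RealA.cast {a b c : ℕ} (h : a = b) (h1 : RealA (Fin a) c) : RealA (Fin b) c := by
  subst h; exact h1

theorem RealS.congr {α β : Type*} (e : α ≃ β) {c : ℕ} (h : RealS α c) : RealS β c := by
  obtain ⟨A, hcomm, hcard⟩ := h
  refine ⟨A.map (e.permCongrHom : Perm α →* Perm β), ?_, ?_⟩
  · exact Subgroup.map_isMulCommutative A _
  · rw [Subgroup.card_map_of_injective (e.permCongrHom.injective), hcard]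

theorem RealS.sum {α β : Type*} {c d : ℕ} (h1 : RealS α c) (h2 : RealS β d) :
    RealS (α ⊕ β) (c * d) := by
  obtain ⟨A, hcommA, hcardA⟩ := h1
  obtain ⟨B, hcommB, hcardB⟩ := h2
  refine ⟨(A.prod B).map (Perm.sumCongrHom α β), ?_, ?_⟩
  · have := prod_isMulCommutative A B hcommA hcommB
    exact Subgroup.map_isMulCommutative _ _
  · rw [Subgroup.card_map_of_injective Perm.sumCongrHom_injective,
      Nat.card_congr (Subgroup.prodEquiv A B).toEquiv, Nat.card_prod, hcardA, hcardB]

theorem RealS.add {a b c d : ℕ} (h1 : RealS (Fin a) c) (h2 : RealS (Fin b) d) :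
    RealS (Fin (a + b)) (c * d) :=
  (h1.sum h2).congr finSumFinEquiv

theorem RealS.cast {a b c : ℕ} (h : a = b) (h1 : RealS (Fin a) c) : RealS (Fin b) c := by
  subst h; exact h1

theorem realA_zero : RealA (Fin 0) 1 :=
  ⟨⊥, bot_le, inferInstance, by simp⟩

theorem realA_three : RealA (Fin 3) 3 := by
  have hcard : Nat.card (alternatingGroup (Fin 3)) = 3 := by
    have := two_mul_nat_card_alternatingGroup (α := Fin 3)
    rw [Nat.card_perm, Nat.card_fin] at this
    have h6 : (3 : ℕ).factorial = 6 := by decide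
    omega
  refine ⟨alternatingGroup (Fin 3), le_refl _, ?_, hcard⟩
  have : Fact (Nat.Prime 3) := ⟨by norm_num⟩
  have hcyc : IsCyclic (alternatingGroup (Fin 3)) := isCyclic_of_prime_card hcard
  exact ⟨⟨fun a b => hcyc.commGroup.mul_comm a b⟩⟩

theorem realA_four : RealA (Fin 4) 4 := by
  have h4 : Nat.card (Fin 4) = 4 := by simp
  refine ⟨(alternatingGroup.kleinFour (Fin 4)).map (alternatingGroup (Fin 4)).subtype, ?_, ?_, ?_⟩
  · rintro _ ⟨σ, -, rfl⟩
    exact σ.2
  · have := alternatingGroup.kleinFour_isKleinFour h4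
    have := IsKleinFour.isMulCommutative (G := alternatingGroup.kleinFour (Fin 4))
    exact Subgroup.map_isMulCommutative _ _
  · rw [Subgroup.card_map_of_injective (Subgroup.subtype_injective _),
      alternatingGroup.kleinFour_card_of_card_eq_four h4]

theorem realS_two : RealS (Fin 2) 2 := by
  have hcard : Nat.card (⊤ : Subgroup (Perm (Fin 2))) = 2 := by
    rw [Subgroup.card_top, Nat.card_perm, Nat.card_fin]; rfl
  refine ⟨⊤, ?_, hcard⟩
  have : Fact (Nat.Prime 2) := ⟨by norm_num⟩
  have hcyc : IsCyclic (⊤ : Subgroup (Perm (Fin 2))) := isCyclic_of_prime_card hcard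
  exact ⟨⟨fun a b => hcyc.commGroup.mul_comm a b⟩⟩

theorem realA_three_mul (k : ℕ) : RealA (Fin (3 * k)) (3 ^ k) := by
  induction k with
  | zero => exact realA_zero
  | succ k ih =>
    have := ih.add realA_three
    rw [← pow_succ] at this
    exact this.cast (by ring)

theorem realA_three_mul_add_one (k : ℕ) (hk : 1 ≤ k) : RealA (Fin (3 * k + 1)) (4 * 3 ^ (k - 1)) := by
  have := (realA_three_mul (k - 1)).add realA_four
  rw [show 3 ^ (k - 1) * 4 = 4 * 3 ^ (k - 1) by ring] at this
  exact this.cast (by omega)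

theorem realA_three_mul_add_two (k : ℕ) (hk : 2 ≤ k) :
    RealA (Fin (3 * k + 2)) (16 * 3 ^ (k - 2)) := by
  have := ((realA_three_mul (k - 2)).add realA_four).add realA_four
  rw [show 3 ^ (k - 2) * 4 * 4 = 16 * 3 ^ (k - 2) by ring] at this
  exact this.cast (by omega)

theorem realS_three_mul_add_two (k : ℕ) : RealS (Fin (3 * k + 2)) (2 * 3 ^ k) := by
  have := (realA_three_mul k).realS.add realS_two
  rw [show 3 ^ k * 2 = 2 * 3 ^ k by ring] at this
  exact this


/-! ### The numeric bound for the alternating group -/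

/-- the largest order of an abelian subgroup of the alternating group -/
def hA : ℕ → ℕ
  | 0 => 1
  | 1 => 1
  | 2 => 1
  | 3 => 3
  | 4 => 4
  | 5 => 5
  | 6 => 9
  | 7 => 12
  | 8 => 16
  | (n + 9) => 3 * hA (n + 6)

theorem hA_add_nine (n : ℕ) : hA (n + 9) = 3 * hA (n + 6) := by simp [hA]

theorem hA_add_three {n : ℕ} (hn : 6 ≤ n) : hA (n + 3) = 3 * hA n := by
  obtain ⟨m, rfl⟩ : ∃ m, n = m + 6 := ⟨n - 6, by omega⟩
  exact hA_add_nine m

theorem hA_small : hA 0 = 1 ∧ hA 1 = 1 ∧ hA 2 = 1 ∧ hA 3 = 3 ∧ hA 4 = 4 ∧ hA 5 = 5 ∧ hA 6 = 9 ∧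
    hA 7 = 12 ∧ hA 8 = 16 := by
  simp [hA]

theorem le_hA (n : ℕ) (hn : n ≠ 2) : n ≤ hA n := by
  induction n using Nat.strong_induction_on with
  | _ n ih =>
    by_cases h9 : 9 ≤ n
    · obtain ⟨m, rfl⟩ : ∃ m, n = m + 3 := ⟨n - 3, by omega⟩
      rw [hA_add_three (by omega)]
      have := ih m (by omega) (by omega)
      omega
    · have : n ≤ 8 := by omega
      interval_cases n <;> simp_all [hA]

theorem hA_mul_le (a b : ℕ) : hA a * hA b ≤ hA (a + b) := by
  induction hn : a + b using Nat.strong_induction_on generalizing a b with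
  | _ n ih =>
    by_cases ha : 9 ≤ a
    · obtain ⟨a', rfl⟩ : ∃ a', a = a' + 3 := ⟨a - 3, by omega⟩
      have h1 : hA (a' + 3) = 3 * hA a' := hA_add_three (by omega)
      have h2 : hA (a' + 3 + b) = 3 * hA (a' + b) := by
        rw [show a' + 3 + b = (a' + b) + 3 by omega]
        exact hA_add_three (by omega)
      have := ih (a' + b) (by omega) a' b rfl
      rw [← hn, h1, h2]
      nlinarith
    · by_cases hb : 9 ≤ b
      · obtain ⟨b', rfl⟩ : ∃ b', b = b' + 3 := ⟨b - 3, by omega⟩
        have h1 : hA (b' + 3) = 3 * hA b' := hA_add_three (by omega)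
        have h2 : hA (a + (b' + 3)) = 3 * hA (a + b') := by
          rw [show a + (b' + 3) = (a + b') + 3 by omega]
          exact hA_add_three (by omega)
        have := ih (a + b') (by omega) a b' rfl
        rw [← hn, h1, h2]
        nlinarith
      · rw [← hn]
        have ha' : a ≤ 8 := by omega
        have hb' : b ≤ 8 := by omega
        interval_cases a <;> interval_cases b <;> simp [hA]

theorem fS_le_hA (n : ℕ) : fS n ≤ hA (n + 2) := by
  induction n using Nat.strong_induction_on with
  | _ n ih =>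
    by_cases h7 : 7 ≤ n
    · obtain ⟨m, rfl⟩ : ∃ m, n = m + 3 := ⟨n - 3, by omega⟩
      rw [fS_add_three (by omega), show m + 3 + 2 = (m + 2) + 3 by omega, hA_add_three (by omega)]
      have := ih m (by omega)
      omega
    · have : n ≤ 6 := by omega
      interval_cases n <;> simp [hA, fS]

theorem hA_three_mul (k : ℕ) (hk : 2 ≤ k) : hA (3 * k) = 3 ^ k := by
  induction k with
  | zero => omega
  | succ k ih =>
    by_cases h : k = 1
    · subst h; simp [hA]
    · rw [show 3 * (k + 1) = 3 * k + 3 by ring, hA_add_three (by omega), ih (by omega), pow_succ]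
      ring

theorem hA_three_mul_add_one (k : ℕ) (hk : 2 ≤ k) : hA (3 * k + 1) = 4 * 3 ^ (k - 1) := by
  induction k with
  | zero => omega
  | succ k ih =>
    by_cases h : k = 1
    · subst h; simp [hA]
    · rw [show 3 * (k + 1) + 1 = (3 * k + 1) + 3 by ring, hA_add_three (by omega), ih (by omega)]
      obtain ⟨j, rfl⟩ : ∃ j, k = j + 1 := ⟨k - 1, by omega⟩
      simp [pow_succ]
      ring

theorem hA_three_mul_add_two (k : ℕ) (hk : 2 ≤ k) : hA (3 * k + 2) = 16 * 3 ^ (k - 2) := by
  induction k with
  | zero => omega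
  | succ k ih =>
    by_cases h : k = 1
    · subst h; simp [hA]
    · rw [show 3 * (k + 1) + 2 = (3 * k + 2) + 3 by ring, hA_add_three (by omega), ih (by omega)]
      obtain ⟨j, rfl⟩ : ∃ j, k = j + 2 := ⟨k - 2, by omega⟩
      simp [pow_succ]
      ring

theorem prod_le_hA_sum {ι : Type*} (s : Finset ι) (n : ι → ℕ) (hn : ∀ i ∈ s, n i ≠ 2) :
    ∏ i ∈ s, n i ≤ hA (∑ i ∈ s, n i) := by
  classical
  induction s using Finset.induction_on with
  | empty => simp [hA]
  | insert a s ha ih =>
    rw [Finset.prod_insert ha, Finset.sum_insert ha]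
    calc n a * ∏ i ∈ s, n i ≤ hA (n a) * hA (∑ i ∈ s, n i) :=
          Nat.mul_le_mul (le_hA _ (hn a (Finset.mem_insert_self _ _)))
            (ih (fun i hi => hn i (Finset.mem_insert_of_mem hi)))
      _ ≤ _ := hA_mul_le _ _


/-! ### The bound for abelian groups of even permutations -/

open MulAction

theorem card_le_prod_orbit_card {G α : Type*} [CommGroup G] [MulAction G α] [FaithfulSMul G α]
    [Fintype (orbitRel.Quotient G α)] [Finite α] :
    Nat.card G ≤ ∏ ω : orbitRel.Quotient G α, Nat.card (orbit G (Quotient.out ω : α)) := by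
  classical
  let Ω := orbitRel.Quotient G α
  let φ : G → (∀ ω : Ω, orbit G (Quotient.out ω : α)) :=
    fun a ω => ⟨a • (Quotient.out ω : α), mem_orbit _ a⟩
  have hφ : Function.Injective φ := by
    intro a b hab
    apply FaithfulSMul.eq_of_smul_eq_smul (α := α)
    intro y
    have hy : y ∈ orbit G (Quotient.out (Quotient.mk'' y : Ω) : α) := by
      have h1 : (Quotient.mk'' (Quotient.out (Quotient.mk'' y : Ω) : α) : Ω) = Quotient.mk'' y :=
        Quotient.out_eq' _
      have h2 : (Quotient.out (Quotient.mk'' y : Ω) : α) ∈ orbit G y := Quotient.exact' h1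
      exact mem_orbit_symm.mp h2
    obtain ⟨g, hg⟩ := hy
    have h3 := congrArg (fun F => (F (Quotient.mk'' y : Ω)).1) hab
    simp only [φ] at h3
    rw [← hg]
    show a • g • _ = b • g • _
    rw [smul_comm a g, smul_comm b g, h3]
  have h1 : Nat.card G ≤ Nat.card (∀ ω : Ω, orbit G (Quotient.out ω : α)) :=
    Nat.card_le_card_of_injective φ hφ
  rw [Nat.card_pi] at h1
  exact h1

theorem card_eq_sum_orbit_card {G α : Type*} [Group G] [MulAction G α]
    [Fintype (orbitRel.Quotient G α)] [Finite α] :
    Nat.card α = ∑ ω : orbitRel.Quotient G α, Nat.card (orbit G (Quotient.out ω : α)) := by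
  rw [Nat.card_congr (selfEquivSigmaOrbits G α), Nat.card_sigma]

/-- restriction of a subgroup of `Perm α` to the complement of an invariant set -/
def restrictCompl {α : Type*} (A : Subgroup (Equiv.Perm α)) (O : Set α)
    (hO : ∀ a ∈ A, ∀ z, (a : Equiv.Perm α) z ∉ O ↔ z ∉ O) : A →* Equiv.Perm {z // z ∉ O} where
  toFun a := (a : Equiv.Perm α).subtypePerm (hO a a.2)
  map_one' := by ext; rfl
  map_mul' a b := by ext; rfl

theorem card_abelian_even_le {α : Type*} [Fintype α] [DecidableEq α] (A : Subgroup (Equiv.Perm α))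
    (hcomm : IsMulCommutative A) (heven : A ≤ alternatingGroup α) :
    Nat.card A ≤ hA (Fintype.card α) := by
  classical
  let _ : CommGroup A := { (inferInstance : Group A) with mul_comm := hcomm.is_comm.comm }
  have : Fintype (orbitRel.Quotient A α) := Fintype.ofFinite _
  by_cases h2 : ∃ x : α, Nat.card (orbit A x) = 2
  · obtain ⟨x, hx⟩ := h2
    set O : Set α := orbit A x with hOdef
    have hO : ∀ a ∈ A, ∀ z, (a : Equiv.Perm α) z ∉ O ↔ z ∉ O := by
      intro a ha z
      have : (a : Equiv.Perm α) z ∈ O ↔ z ∈ O := by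
        have h1 : (⟨a, ha⟩ : A) • z ∈ orbit A x ↔ z ∈ orbit A x := by
          constructor
          · intro h
            have := (mem_orbit_iff.mp h)
            obtain ⟨g, hg⟩ := this
            refine ⟨(⟨a, ha⟩ : A)⁻¹ * g, ?_⟩
            show ((⟨a, ha⟩ : A)⁻¹ * g) • x = z
            rw [mul_smul, hg, inv_smul_smul]
          · rintro ⟨g, rfl⟩
            exact ⟨(⟨a, ha⟩ : A) * g, mul_smul _ _ _⟩
        exact h1
      exact not_congr this
    let r := restrictCompl A O hO
    have hr : Function.Injective r := by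
      rw [injective_iff_map_eq_one]
      intro a ha
      -- a fixes everything outside O
      have hfix : ∀ z, z ∉ O → (a : Equiv.Perm α) z = z := by
        intro z hz
        have := congrArg (fun σ : Equiv.Perm {z // z ∉ O} => (σ ⟨z, hz⟩ : α)) ha
        exact this
      have hsupp : (a : Equiv.Perm α).support ⊆ O.toFinset := by
        intro z hz
        rw [Set.mem_toFinset]
        by_contra hzO
        exact (Equiv.Perm.mem_support.mp hz) (hfix z hzO)
      have hcardO : O.toFinset.card = 2 := by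
        rw [Set.toFinset_card, ← Nat.card_eq_fintype_card]
        exact hx
      have hle : (a : Equiv.Perm α).support.card ≤ 2 := hcardO ▸ Finset.card_le_card hsupp
      by_contra hne
      have hne' : (a : Equiv.Perm α) ≠ 1 := fun h => hne (Subtype.ext h)
      have hge := Equiv.Perm.two_le_card_support_of_ne_one hne'
      have hswap : (a : Equiv.Perm α).IsSwap := Equiv.Perm.card_support_eq_two.mp (le_antisymm hle hge)
      have hsign := hswap.sign_eq
      have := Equiv.Perm.mem_alternatingGroup.mp (heven a.2)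
      rw [this] at hsign
      exact absurd hsign (by decide)
    have hrange : IsMulCommutative r.range := by
      refine ⟨⟨?_⟩⟩
      rintro ⟨_, ⟨a, rfl⟩⟩ ⟨_, ⟨b, rfl⟩⟩
      apply Subtype.ext
      show r a * r b = r b * r a
      rw [← map_mul, ← map_mul, mul_comm]
    have h1 : Nat.card A = Nat.card r.range := Nat.card_congr (MonoidHom.ofInjective hr).toEquiv
    have h3 := card_abelian_le r.range hrange
    have h4 : Nat.card {z // z ∉ O} + 2 = Fintype.card α := by
      have := Nat.card_congr (Equiv.Set.sumCompl O)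
      rw [Nat.card_sum] at this
      rw [← Nat.card_eq_fintype_card (α := α), ← this]
      have hO2 : Nat.card O = 2 := hx
      rw [hO2]
      have : Nat.card {z // z ∉ O} = Nat.card ↑Oᶜ := rfl
      omega
    rw [h1, ← h4]
    exact h3.trans (fS_le_hA _)
  · push Not at h2
    have h1 := card_le_prod_orbit_card (G := A) (α := α)
    have h3 := card_eq_sum_orbit_card (G := A) (α := α)
    rw [← Nat.card_eq_fintype_card, h3]
    exact h1.trans (prod_le_hA_sum _ _ (fun ω _ => h2 _))

end Cfsg.Agent.Helper42
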