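import Mathlib
import Cfsg.Agent.Lib.Helper42.AbelianPerm

set_option autoImplicit false
set_option linter.unusedSectionVars false

/-! Abelian subgroups of largest order in alternating groups are determined by their orbit
partition; conjugacy (used for S2506). -/

namespace Cfsg.Agent.Helper42

open Equiv MulAction


theorem hA_pos (n : ℕ) : 0 < hA n := by
  induction n using Nat.strong_induction_on with
  | _ n ih =>
    by_cases h9 : 9 ≤ n
    · obtain ⟨m, rfl⟩ : ∃ m, n = m + 3 := ⟨n - 3, by omega⟩
      rw [hA_add_three (by omega)]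
      have := ih m (by omega)
      omega
    · have : n ≤ 8 := by omega
      interval_cases n <;> simp [hA]

theorem lt_hA (m : ℕ) (hm : 6 ≤ m) : m < hA m := by
  induction m using Nat.strong_induction_on with
  | _ n ih =>
    by_cases h9 : 9 ≤ n
    · obtain ⟨m, rfl⟩ : ∃ m, n = m + 3 := ⟨n - 3, by omega⟩
      rw [hA_add_three (by omega)]
      have := ih m (by omega) (by omega)
      omega
    · have : n ≤ 8 := by omega
      interval_cases n <;> simp [hA]

theorem five_mul_hA_lt (m : ℕ) (hm : 1 ≤ m) : 5 * hA m < hA (m + 5) := by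
  induction m using Nat.strong_induction_on with
  | _ n ih =>
    by_cases h9 : 9 ≤ n
    · obtain ⟨m, rfl⟩ : ∃ m, n = m + 3 := ⟨n - 3, by omega⟩
      rw [hA_add_three (by omega), show m + 3 + 5 = (m + 5) + 3 by omega, hA_add_three (by omega)]
      have := ih m (by omega) (by omega)
      omega
    · have : n ≤ 8 := by omega
      interval_cases n <;> simp [hA]

theorem fS_lt_hA (n : ℕ) (hn : 1 ≤ n) : fS n < hA (n + 2) := by
  induction n using Nat.strong_induction_on with
  | _ n ih =>
    by_cases h7 : 7 ≤ n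
    · obtain ⟨m, rfl⟩ : ∃ m, n = m + 3 := ⟨n - 3, by omega⟩
      rw [fS_add_three (by omega), show m + 3 + 2 = (m + 2) + 3 by omega, hA_add_three (by omega)]
      have := ih m (by omega) (by omega)
      omega
    · have : n ≤ 6 := by omega
      interval_cases n <;> simp [hA, fS]

/-- equality in the product bound forces all parts to be `1`, `3`, `4` (or a single `5`) -/
theorem parts_of_prod_eq_hA {ι : Type*} (s : Finset ι) (f : ι → ℕ) (hpos : ∀ i ∈ s, 1 ≤ f i)
    (h2 : ∀ i ∈ s, f i ≠ 2) (heq : ∏ i ∈ s, f i = hA (∑ i ∈ s, f i)) (h5 : ∑ i ∈ s, f i ≠ 5) :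
    ∀ i ∈ s, f i = 1 ∨ f i = 3 ∨ f i = 4 := by
  classical
  intro i hi
  have hsplit_prod : ∏ j ∈ s, f j = f i * ∏ j ∈ s.erase i, f j := (Finset.mul_prod_erase s f hi).symm
  have hsplit_sum : ∑ j ∈ s, f j = f i + ∑ j ∈ s.erase i, f j := (Finset.add_sum_erase s f hi).symm
  have hrest : ∏ j ∈ s.erase i, f j ≤ hA (∑ j ∈ s.erase i, f j) :=
    prod_le_hA_sum _ _ (fun j hj => h2 j (Finset.mem_of_mem_erase hj))
  have hrestpos : 0 < ∏ j ∈ s.erase i, f j :=
    Finset.prod_pos (fun j hj => hpos j (Finset.mem_of_mem_erase hj))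
  have hmul := hA_mul_le (f i) (∑ j ∈ s.erase i, f j)
  by_contra hcon
  push Not at hcon
  have hfi1 := hpos i hi
  have hfi2 := h2 i hi
  by_cases h6 : 6 ≤ f i
  · have hlt := lt_hA (f i) h6
    have : f i * ∏ j ∈ s.erase i, f j < hA (f i) * hA (∑ j ∈ s.erase i, f j) := by
      calc f i * ∏ j ∈ s.erase i, f j < hA (f i) * ∏ j ∈ s.erase i, f j :=
            Nat.mul_lt_mul_of_pos_right hlt hrestpos
        _ ≤ hA (f i) * hA (∑ j ∈ s.erase i, f j) := Nat.mul_le_mul_left _ hrest
    rw [hsplit_prod, hsplit_sum] at heq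
    omega
  · have hfi5 : f i = 5 := by omega
    have hsum1 : 1 ≤ ∑ j ∈ s.erase i, f j := by
      by_contra h0
      apply h5
      rw [hsplit_sum, hfi5]
      omega
    have hlt := five_mul_hA_lt _ hsum1
    rw [hsplit_prod, hsplit_sum, hfi5] at heq
    have : 5 * ∏ j ∈ s.erase i, f j ≤ 5 * hA (∑ j ∈ s.erase i, f j) := Nat.mul_le_mul_left _ hrest
    rw [show 5 + ∑ j ∈ s.erase i, f j = (∑ j ∈ s.erase i, f j) + 5 by omega] at heq
    omega





theorem fin3_semireg_ext : ∀ g g' : Perm (Fin 3), (∀ x, g x = x → g = 1) → (∀ x, g' x = x → g' = 1) →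
    ∀ b, g b = g' b → g = g' := by
  decide

set_option synthInstance.maxHeartbeats 400000 in
set_option synthInstance.maxSize 1000 in
theorem fin4_semireg_ext : ∀ g g' : Perm (Fin 4), (∀ x, g x = x → g = 1) → (∀ x, g' x = x → g' = 1) →
    g * g = 1 → g' * g' = 1 → ∀ b, g b = g' b → g = g' := by
  decide

theorem fin4_even_semireg_sq : ∀ k : Perm (Fin 4), Perm.sign k = 1 → (∀ x, k x = x → k = 1) →
    k * k = 1 := by
  decide

section transport
variable {X : Type*} [Fintype X] [DecidableEq X]

omit [Fintype X] [DecidableEq X] in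
theorem permCongr_eq_one_iff {m : ℕ} (e : X ≃ Fin m) (g : Perm X) : e.permCongr g = 1 ↔ g = 1 := by
  constructor
  · intro h
    ext x
    have h1 := congrArg (fun σ : Perm (Fin m) => σ (e x)) h
    simp only [Equiv.permCongr_apply, Equiv.symm_apply_apply, Perm.one_apply] at h1
    simpa using e.injective h1
  · rintro rfl
    ext x
    simp

omit [Fintype X] [DecidableEq X] in
theorem permCongr_semireg {m : ℕ} (e : X ≃ Fin m) (g : Perm X) (hg : ∀ x, g x = x → g = 1) :
    ∀ y, e.permCongr g y = y → e.permCongr g = 1 := by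
  intro y hy
  rw [permCongr_eq_one_iff]
  apply hg (e.symm y)
  have h1 : e (g (e.symm y)) = y := by simpa [Equiv.permCongr_apply] using hy
  have h2 : g (e.symm y) = e.symm y := by
    apply e.injective
    rw [h1, Equiv.apply_symm_apply]
  exact h2

theorem semireg_ext_three (h : Fintype.card X = 3) (g g' : Perm X) (hg : ∀ x, g x = x → g = 1)
    (hg' : ∀ x, g' x = x → g' = 1) (b : X) (hb : g b = g' b) : g = g' := by
  have e : X ≃ Fin 3 := Fintype.equivFinOfCardEq h
  have := fin3_semireg_ext (e.permCongr g) (e.permCongr g') (permCongr_semireg e g hg)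
    (permCongr_semireg e g' hg') (e b) (by simp [Equiv.permCongr_apply, hb])
  exact e.permCongr.injective this

theorem semireg_ext_four (h : Fintype.card X = 4) (g g' : Perm X) (hg : ∀ x, g x = x → g = 1)
    (hg' : ∀ x, g' x = x → g' = 1) (hsq : ∀ x, g (g x) = x) (hsq' : ∀ x, g' (g' x) = x)
    (b : X) (hb : g b = g' b) : g = g' := by
  have e : X ≃ Fin 4 := Fintype.equivFinOfCardEq h
  have h1 : e.permCongr g * e.permCongr g = 1 := by
    ext y
    simp [Equiv.permCongr_apply, hsq]
  have h2 : e.permCongr g' * e.permCongr g' = 1 := by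
    ext y
    simp [Equiv.permCongr_apply, hsq']
  have := fin4_semireg_ext (e.permCongr g) (e.permCongr g') (permCongr_semireg e g hg)
    (permCongr_semireg e g' hg') h1 h2 (e b) (by simp [Equiv.permCongr_apply, hb])
  exact e.permCongr.injective this

theorem even_semireg_sq_four (h : Fintype.card X = 4) (k : Perm X) (hk : Perm.sign k = 1)
    (hsr : ∀ x, k x = x → k = 1) (x : X) : k (k x) = x := by
  have e : X ≃ Fin 4 := Fintype.equivFinOfCardEq h
  have h1 := fin4_even_semireg_sq (e.permCongr k) (by rw [Perm.sign_permCongr]; exact hk)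
    (permCongr_semireg e k hsr)
  have h2 := congrArg (fun σ : Perm (Fin 4) => σ (e x)) h1
  simp only [Perm.mul_apply, Equiv.permCongr_apply, Equiv.symm_apply_apply, Perm.one_apply] at h2
  exact e.injective h2

end transport





section orbitEval
variable (G α : Type*) [Group G] [MulAction G α]

/-- evaluation at the chosen base points of the orbits -/
noncomputable def orbitEval : G → (∀ ω : orbitRel.Quotient G α, orbit G (Quotient.out ω : α)) :=
  fun a ω => ⟨a • (Quotient.out ω : α), mem_orbit _ a⟩

end orbitEval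

theorem orbitEval_injective {G α : Type*} [CommGroup G] [MulAction G α] [FaithfulSMul G α] :
    Function.Injective (orbitEval G α) := by
  intro a b hab
  apply FaithfulSMul.eq_of_smul_eq_smul (α := α)
  intro y
  have hy : y ∈ orbit G (Quotient.out (Quotient.mk'' y : orbitRel.Quotient G α) : α) := by
    have h1 : (Quotient.mk'' (Quotient.out (Quotient.mk'' y : orbitRel.Quotient G α) : α) :
        orbitRel.Quotient G α) = Quotient.mk'' y := Quotient.out_eq' _
    have h2 : (Quotient.out (Quotient.mk'' y : orbitRel.Quotient G α) : α) ∈ orbit G y :=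
      Quotient.exact' h1
    exact mem_orbit_symm.mp h2
  obtain ⟨g, hg⟩ := hy
  have h3 := congrArg (fun F => (F (Quotient.mk'' y : orbitRel.Quotient G α)).1) hab
  simp only [orbitEval] at h3
  rw [← hg]
  show a • g • _ = b • g • _
  rw [smul_comm a g, smul_comm b g, h3]

/-- in the equality case of the orbit product bound the group contains, for every orbit, elements
supported on that orbit moving a point anywhere in the orbit -/
theorem exists_supported {G α : Type*} [CommGroup G] [MulAction G α] [FaithfulSMul G α]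
    [Finite α] [Fintype (orbitRel.Quotient G α)]
    (hcard : Nat.card G = ∏ ω : orbitRel.Quotient G α, Nat.card (orbit G (Quotient.out ω : α)))
    (x y : α) (hy : y ∈ orbit G x) :
    ∃ a : G, a • x = y ∧ ∀ z, z ∉ orbit G x → a • z = z := by
  classical
  have hbij : Function.Bijective (orbitEval G α) := by
    apply Function.Injective.bijective_of_nat_card_le orbitEval_injective
    rw [Nat.card_pi, hcard]
  set ω₀ : orbitRel.Quotient G α := Quotient.mk'' x with hω₀
  have hb₀ : (Quotient.out ω₀ : α) ∈ orbit G x := by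
    have h1 : (Quotient.mk'' (Quotient.out ω₀ : α) : orbitRel.Quotient G α) = Quotient.mk'' x :=
      Quotient.out_eq' _
    exact Quotient.exact' h1
  obtain ⟨c, hc⟩ := mem_orbit_symm.mp hb₀
  replace hc : c • (Quotient.out ω₀ : α) = x := hc
  have hy' : c⁻¹ • y ∈ orbit G (Quotient.out ω₀ : α) := by
    obtain ⟨d, hd⟩ := hy
    replace hd : d • x = y := hd
    refine ⟨c⁻¹ * d * c, ?_⟩
    show (c⁻¹ * d * c) • (Quotient.out ω₀ : α) = c⁻¹ • y
    rw [mul_smul, mul_smul, hc, hd]
  let F : ∀ ω : orbitRel.Quotient G α, orbit G (Quotient.out ω : α) := fun ω =>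
    if h : ω = ω₀ then ⟨c⁻¹ • y, by rw [h]; exact hy'⟩ else ⟨Quotient.out ω, mem_orbit_self _⟩
  obtain ⟨a, ha⟩ := hbij.2 F
  refine ⟨a, ?_, ?_⟩
  · have h1 := congrArg (fun F => (F ω₀).1) ha
    simp only [orbitEval, F, dite_true] at h1
    rw [← hc, smul_comm, h1, smul_inv_smul]
  · intro z hz
    set ω : orbitRel.Quotient G α := Quotient.mk'' z with hω
    have hne : ω ≠ ω₀ := by
      intro h
      apply hz
      exact Quotient.exact' h
    have hbz : (Quotient.out ω : α) ∈ orbit G z := by
      have h1 : (Quotient.mk'' (Quotient.out ω : α) : orbitRel.Quotient G α) = Quotient.mk'' z :=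
        Quotient.out_eq' _
      exact Quotient.exact' h1
    obtain ⟨d, hd⟩ := mem_orbit_symm.mp hbz
    replace hd : d • (Quotient.out ω : α) = z := hd
    have h1 := congrArg (fun F => (F ω).1) ha
    simp only [orbitEval, F, hne, dite_false] at h1
    rw [← hd, smul_comm, h1]





theorem card_le_fS_of_orbit_two {α : Type*} [Fintype α] [DecidableEq α]
    (A : Subgroup (Equiv.Perm α)) (hcomm : IsMulCommutative A) (heven : A ≤ alternatingGroup α)
    (x : α) (hx : Nat.card (orbit A x) = 2) : Nat.card A ≤ fS (Fintype.card α - 2) := by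
  classical
  set O : Set α := orbit A x with hOdef
  have hO : ∀ a ∈ A, ∀ z, (a : Equiv.Perm α) z ∉ O ↔ z ∉ O := by
    intro a ha z
    have : (a : Equiv.Perm α) z ∈ O ↔ z ∈ O := by
      have h1 : (⟨a, ha⟩ : A) • z ∈ orbit A x ↔ z ∈ orbit A x := by
        constructor
        · intro h
          have := (mem_orbit_iff.mp h)
          obtain ⟨g, hg⟩ := this
          refine ⟨(⟨a, ha⟩ : A)⁻¹ * g, ?_⟩
          show ((⟨a, ha⟩ : A)⁻¹ * g) • x = z
          rw [mul_smul, hg, inv_smul_smul]
        · rintro ⟨g, rfl⟩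
          exact ⟨(⟨a, ha⟩ : A) * g, mul_smul _ _ _⟩
      exact h1
    exact not_congr this
  let r := restrictCompl A O hO
  have hr : Function.Injective r := by
    rw [injective_iff_map_eq_one]
    intro a ha
    have hfix : ∀ z, z ∉ O → (a : Equiv.Perm α) z = z := by
      intro z hz
      have := congrArg (fun σ : Equiv.Perm {z // z ∉ O} => (σ ⟨z, hz⟩ : α)) ha
      exact this
    have hsupp : (a : Equiv.Perm α).support ⊆ O.toFinset := by
      intro z hz
      rw [Set.mem_toFinset]
      by_contra hzO
      exact (Equiv.Perm.mem_support.mp hz) (hfix z hzO)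
    have hcardO : O.toFinset.card = 2 := by
      rw [Set.toFinset_card, ← Nat.card_eq_fintype_card]
      exact hx
    have hle : (a : Equiv.Perm α).support.card ≤ 2 := hcardO ▸ Finset.card_le_card hsupp
    by_contra hne
    have hne' : (a : Equiv.Perm α) ≠ 1 := fun h => hne (Subtype.ext h)
    have hge := Equiv.Perm.two_le_card_support_of_ne_one hne'
    have hswap : (a : Equiv.Perm α).IsSwap := Equiv.Perm.card_support_eq_two.mp (le_antisymm hle hge)
    have hsign := hswap.sign_eq
    have := Equiv.Perm.mem_alternatingGroup.mp (heven a.2)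
    rw [this] at hsign
    exact absurd hsign (by decide)
  have hrange : IsMulCommutative r.range := by
    refine ⟨⟨?_⟩⟩
    rintro ⟨_, ⟨a, rfl⟩⟩ ⟨_, ⟨b, rfl⟩⟩
    apply Subtype.ext
    show r a * r b = r b * r a
    have := hcomm.is_comm.comm a b
    rw [← map_mul, ← map_mul, this]
  have h1 : Nat.card A = Nat.card r.range := Nat.card_congr (MonoidHom.ofInjective hr).toEquiv
  have h3 := card_abelian_le r.range hrange
  have h4 : Nat.card {z // z ∉ O} + 2 = Fintype.card α := by
    have := Nat.card_congr (Equiv.Set.sumCompl O)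
    rw [Nat.card_sum] at this
    rw [← Nat.card_eq_fintype_card (α := α), ← this]
    have hO2 : Nat.card O = 2 := hx
    rw [hO2]
    have : Nat.card {z // z ∉ O} = Nat.card ↑Oᶜ := rfl
    omega
  rw [h1]
  have h5 : Nat.card {z // z ∉ O} = Fintype.card α - 2 := by omega
  rw [← h5]
  exact h3

theorem extremal_structure {α : Type*} [Fintype α] [DecidableEq α]
    (A : Subgroup (Equiv.Perm α)) (hcomm : IsMulCommutative A) (heven : A ≤ alternatingGroup α)
    (hcard : Nat.card A = hA (Fintype.card α)) (h3 : 3 ≤ Fintype.card α)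
    (h5 : Fintype.card α ≠ 5) [Fintype (orbitRel.Quotient A α)] :
    (Nat.card A = ∏ ω : orbitRel.Quotient A α, Nat.card (orbit A (Quotient.out ω : α))) ∧
    (∀ x : α, Nat.card (orbit A x) = 1 ∨ Nat.card (orbit A x) = 3 ∨ Nat.card (orbit A x) = 4) := by
  classical
  let _ : CommGroup A := { (inferInstance : Group A) with mul_comm := hcomm.is_comm.comm }
  have hno2 : ∀ x : α, Nat.card (orbit A x) ≠ 2 := by
    intro x hx
    have h1 := card_le_fS_of_orbit_two A hcomm heven x hx
    have h2 := fS_lt_hA (Fintype.card α - 2) (by omega)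
    rw [show Fintype.card α - 2 + 2 = Fintype.card α by omega] at h2
    omega
  have hle := card_le_prod_orbit_card (G := A) (α := α)
  have hsum := card_eq_sum_orbit_card (G := A) (α := α)
  rw [Nat.card_eq_fintype_card] at hsum
  have hprod := prod_le_hA_sum (Finset.univ : Finset (orbitRel.Quotient A α))
    (fun ω => Nat.card (orbit A (Quotient.out ω : α))) (fun ω _ => hno2 _)
  rw [← hsum] at hprod
  have heq : Nat.card A = ∏ ω : orbitRel.Quotient A α, Nat.card (orbit A (Quotient.out ω : α)) := by
    omega
  refine ⟨heq, ?_⟩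
  have hparts := parts_of_prod_eq_hA (Finset.univ : Finset (orbitRel.Quotient A α))
    (fun ω => Nat.card (orbit A (Quotient.out ω : α)))
    (fun ω _ => by
      have : Nonempty (orbit A (Quotient.out ω : α)) := ⟨⟨_, mem_orbit_self _⟩⟩
      exact Nat.card_pos)
    (fun ω _ => hno2 _)
    (by rw [← hsum, ← heq, hcard]) (by rw [← hsum]; exact h5)
  intro x
  have h1 : orbit A x = orbit A (Quotient.out (Quotient.mk'' x : orbitRel.Quotient A α) : α) := by
    have h2 : (Quotient.mk'' (Quotient.out (Quotient.mk'' x : orbitRel.Quotient A α) : α) :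
        orbitRel.Quotient A α) = Quotient.mk'' x := Quotient.out_eq' _
    have h3 : (Quotient.out (Quotient.mk'' x : orbitRel.Quotient A α) : α) ∈ orbit A x :=
      Quotient.exact' h2
    exact (orbit_eq_iff.mpr h3).symm
  rw [h1]
  exact hparts _ (Finset.mem_univ _)





section transport
variable {X : Type*} [Fintype X] [DecidableEq X]

end transport

variable {α : Type*}

/-- permutations preserving the classes of `r`, acting semiregularly on each class and as an
involution on the classes of size four -/
def Dset (r : Setoid α) : Set (Perm α) :=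
  {g | (∀ x, r.r (g x) x) ∧ (∀ x, g x = x → ∀ y, r.r y x → g y = y) ∧
       (∀ x, Nat.card {y // r.r y x} = 4 → g (g x) = x)}

theorem Dset_class_iff (r : Setoid α) {g : Perm α} (hg : g ∈ Dset r) (b y : α) :
    r.r (g y) b ↔ r.r y b := by
  constructor
  · intro h
    exact r.trans (r.symm (hg.1 y)) h
  · intro h
    exact r.trans (hg.1 y) h

theorem Dset_conj (r r' : Setoid α) (σ : Perm α) (hσ : ∀ x y, r.r x y ↔ r'.r (σ x) (σ y))
    {g : Perm α} (hg : g ∈ Dset r) : σ * g * σ⁻¹ ∈ Dset r' := by
  have happly : ∀ x, (σ * g * σ⁻¹) (σ x) = σ (g x) := by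
    intro x
    simp
  have hsurj : ∀ x', ∃ x, σ x = x' := σ.surjective
  refine ⟨?_, ?_, ?_⟩
  · intro x'
    obtain ⟨x, rfl⟩ := hsurj x'
    rw [happly, ← hσ]
    exact hg.1 x
  · intro x' hx' y' hy'
    obtain ⟨x, rfl⟩ := hsurj x'
    obtain ⟨y, rfl⟩ := hsurj y'
    rw [happly] at hx' ⊢
    have hx : g x = x := σ.injective hx'
    rw [hg.2.1 x hx y ((hσ y x).mpr hy')]
  · intro x' hx'
    obtain ⟨x, rfl⟩ := hsurj x'
    rw [happly, happly]
    have hcard : Nat.card {y // r.r y x} = 4 := by
      rw [← hx']
      apply Nat.card_congr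
      exact
        { toFun := fun y => ⟨σ y.1, (hσ _ _).mp y.2⟩
          invFun := fun y' => ⟨σ.symm y'.1, by
            rw [hσ]
            simpa using y'.2⟩
          left_inv := fun y => by simp
          right_inv := fun y' => by simp }
    rw [hg.2.2 x hcard]

/-- restriction of a member of `Dset r` to the class of `b` -/
def DsetRestrict (r : Setoid α) (b : α) (g : Perm α) (hg : g ∈ Dset r) : Perm {y // r.r y b} :=
  g.subtypePerm (p := fun y => r.r y b) (fun y => Dset_class_iff r hg b y)

theorem DsetRestrict_apply (r : Setoid α) (b : α) (g : Perm α) (hg : g ∈ Dset r)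
    (c : {y // r.r y b}) : (DsetRestrict r b g hg c).1 = g c.1 := rfl

theorem DsetRestrict_semireg (r : Setoid α) (b : α) (g : Perm α) (hg : g ∈ Dset r)
    (c : {y // r.r y b}) (hc : DsetRestrict r b g hg c = c) : DsetRestrict r b g hg = 1 := by
  have hc1 : g c.1 = c.1 := congrArg Subtype.val hc
  ext c'
  have : g c'.1 = c'.1 := hg.2.1 c.1 hc1 c'.1 (r.trans c'.2 (r.symm c.2))
  simpa [DsetRestrict_apply] using this

theorem DsetRestrict_sq (r : Setoid α) (b : α) (g : Perm α) (hg : g ∈ Dset r)
    (h4 : Nat.card {y // r.r y b} = 4) (c : {y // r.r y b}) :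
    DsetRestrict r b g hg (DsetRestrict r b g hg c) = c := by
  have hcard : Nat.card {y // r.r y c.1} = 4 := by
    rw [← h4]
    apply Nat.card_congr
    exact
      { toFun := fun y => ⟨y.1, r.trans y.2 c.2⟩
        invFun := fun y => ⟨y.1, r.trans y.2 (r.symm c.2)⟩
        left_inv := fun y => rfl
        right_inv := fun y => rfl }
  apply Subtype.ext
  rw [DsetRestrict_apply, DsetRestrict_apply]
  exact hg.2.2 c.1 hcard

theorem card_Dset_le [Fintype α] [DecidableEq α] (r : Setoid α) [Fintype (Quotient r)]
    (hsizes : ∀ x, Nat.card {y // r.r y x} = 1 ∨ Nat.card {y // r.r y x} = 3 ∨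
      Nat.card {y // r.r y x} = 4) :
    Nat.card (Dset r) ≤ ∏ q : Quotient r, Nat.card {y : α // (Quotient.mk r y) = q} := by
  classical
  rw [← Nat.card_pi]
  let ψ : Dset r → (∀ q : Quotient r, {y : α // (Quotient.mk r y) = q}) := fun g q =>
    ⟨g.1 q.out, by
      have h1 : r.r (g.1 q.out) q.out := g.2.1 q.out
      rw [Quotient.sound h1]
      exact Quotient.out_eq q⟩
  apply Nat.card_le_card_of_injective ψ
  intro g g' hgg'
  apply Subtype.ext
  ext x
  set b : α := (Quotient.mk r x).out with hb
  have hbx : r.r b x := Quotient.exact (Quotient.out_eq (Quotient.mk r x))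
  have hgb : g.1 b = g'.1 b := by
    have := congrArg (fun F => (F (Quotient.mk r x)).1) hgg'
    exact this
  set gC := DsetRestrict r b g.1 g.2 with hgC
  set gC' := DsetRestrict r b g'.1 g'.2 with hgC'
  have hCb : gC ⟨b, r.refl b⟩ = gC' ⟨b, r.refl b⟩ := Subtype.ext hgb
  have hEq : gC = gC' := by
    rcases hsizes b with h1 | h3 | h4
    · have : Subsingleton {y // r.r y b} := (Nat.card_eq_one_iff_unique.mp h1).1
      ext c
      have h2 : gC c = gC' c := Subsingleton.elim _ _
      rw [h2]
    · rw [Nat.card_eq_fintype_card] at h3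
      exact semireg_ext_three h3 gC gC' (DsetRestrict_semireg r b g.1 g.2)
        (DsetRestrict_semireg r b g'.1 g'.2) _ hCb
    · have h4' := h4
      rw [Nat.card_eq_fintype_card] at h4'
      exact semireg_ext_four h4' gC gC' (DsetRestrict_semireg r b g.1 g.2)
        (DsetRestrict_semireg r b g'.1 g'.2) (DsetRestrict_sq r b g.1 g.2 h4)
        (DsetRestrict_sq r b g'.1 g'.2 h4) _ hCb
  have := congrArg (fun σ : Perm {y // r.r y b} => (σ ⟨x, r.symm hbx⟩).1) hEq
  exact this







theorem extremal_eq_Dset [Fintype α] [DecidableEq α]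
    (A : Subgroup (Equiv.Perm α)) (hcomm : IsMulCommutative A) (heven : A ≤ alternatingGroup α)
    (hcard : Nat.card A = hA (Fintype.card α)) (h3 : 3 ≤ Fintype.card α)
    (h5 : Fintype.card α ≠ 5) : (A : Set (Perm α)) = Dset (orbitRel A α) := by
  classical
  have : Fintype (orbitRel.Quotient A α) := Fintype.ofFinite _
  let _ : CommGroup A := { (inferInstance : Group A) with mul_comm := hcomm.is_comm.comm }
  obtain ⟨hprod, hsizes⟩ := extremal_structure A hcomm heven hcard h3 h5
  have hcommP : ∀ g ∈ A, ∀ b ∈ A, ∀ z : α, g (b z) = b (g z) := by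
    intro g hg b hb z
    have := hcomm.is_comm.comm ⟨g, hg⟩ ⟨b, hb⟩
    have h2 : g * b = b * g := congrArg Subtype.val this
    exact congrArg (fun σ : Perm α => σ z) h2
  -- (i)
  have hi : ∀ g ∈ A, ∀ x : α, (orbitRel A α).r (g x) x := by
    intro g hg x
    exact ⟨⟨g, hg⟩, rfl⟩
  -- (ii)
  have hii : ∀ g ∈ A, ∀ x : α, g x = x → ∀ y, (orbitRel A α).r y x → g y = y := by
    intro g hg x hx y hy
    obtain ⟨b, hb⟩ := hy
    have hb' : (b : Perm α) x = y := hb
    rw [← hb', hcommP g hg b.1 b.2, hx]
  have hsub : (A : Set (Perm α)) ⊆ Dset (orbitRel A α) := by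
    intro g hg
    refine ⟨hi g hg, hii g hg, ?_⟩
    intro x hx4
    have hx4' : Nat.card (orbit A x) = 4 := hx4
    obtain ⟨k, hkx, hksupp⟩ := exists_supported hprod x (g x) ⟨⟨g, hg⟩, rfl⟩
    have hkx' : (k : Perm α) x = g x := hkx
    have hksupp' : ∀ z, z ∉ orbit A x → (k : Perm α) z = z := hksupp
    -- g (g x) = k (k x)
    have h1 : (g⁻¹ * (k : Perm α)) x = x := by
      simp [hkx']
    have h2 := hii (g⁻¹ * (k : Perm α)) (A.mul_mem (A.inv_mem hg) k.2) x h1 (g x) (hi g hg x)
    have h3' : (k : Perm α) (g x) = g (g x) := by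
      have : g ((g⁻¹ * (k : Perm α)) (g x)) = g (g x) := by rw [h2]
      simpa using this
    rw [← h3', ← hkx']
    -- k (k x) = x
    have hkiff : ∀ y, (orbitRel A α).r ((k : Perm α) y) x ↔ (orbitRel A α).r y x := by
      intro y
      constructor
      · intro h
        exact (orbitRel A α).trans ((orbitRel A α).symm (hi k.1 k.2 y)) h
      · intro h
        exact (orbitRel A α).trans (hi k.1 k.2 y) h
    set kO : Perm {y // (orbitRel A α).r y x} :=
      (k : Perm α).subtypePerm (p := fun y => (orbitRel A α).r y x) hkiff with hkO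
    have hsign : Perm.sign kO = 1 := by
      rw [hkO, Perm.sign_subtypePerm]
      · exact Perm.mem_alternatingGroup.mp (heven k.2)
      · intro y hy
        by_contra hcon
        exact hy (hksupp' y hcon)
    have hsr : ∀ c, kO c = c → kO = 1 := by
      intro c hc
      have hc1 : (k : Perm α) c.1 = c.1 := congrArg Subtype.val hc
      ext c'
      have := hii k.1 k.2 c.1 hc1 c'.1 ((orbitRel A α).trans c'.2 ((orbitRel A α).symm c.2))
      simpa [hkO] using this
    have hcard4 : Fintype.card {y // (orbitRel A α).r y x} = 4 := by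
      rw [← Nat.card_eq_fintype_card]
      exact hx4
    have := even_semireg_sq_four hcard4 kO hsign hsr ⟨x, (orbitRel A α).refl x⟩
    exact congrArg Subtype.val this
  apply Set.eq_of_subset_of_ncard_le hsub _ (Set.toFinite _)
  rw [← Nat.card_coe_set_eq, ← Nat.card_coe_set_eq]
  have hle := card_Dset_le (orbitRel A α) (fun x => hsizes x)
  have hA' : Nat.card (A : Set (Perm α)) = Nat.card A := rfl
  rw [hA', hprod]
  refine hle.trans (le_of_eq ?_)
  apply Finset.prod_congr rfl
  intro q _
  apply Nat.card_congr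
  apply Equiv.subtypeEquivRight
  intro y
  constructor
  · intro h
    have h1 : (Quotient.mk (orbitRel A α) y) = Quotient.mk (orbitRel A α) (Quotient.out q) := by
      rw [h]
      exact (Quotient.out_eq q).symm
    exact Quotient.exact h1
  · intro h
    have h1 : (Quotient.mk (orbitRel A α) y) = Quotient.mk (orbitRel A α) (Quotient.out q) :=
      Quotient.sound h
    rw [h1]
    exact Quotient.out_eq q





theorem three_four_pow_inj {a b a' b' : ℕ} (h : 3 ^ a * 4 ^ b = 3 ^ a' * 4 ^ b') :
    a = a' ∧ b = b' := by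
  have hcop : ∀ x y : ℕ, Nat.Coprime (3 ^ x) (4 ^ y) := by
    intro x y
    apply Nat.Coprime.pow
    decide
  have h1 : a ≤ a' := by
    have hd : 3 ^ a ∣ 3 ^ a' * 4 ^ b' := ⟨4 ^ b, h.symm⟩
    have := (hcop a b').dvd_of_dvd_mul_right hd
    exact (Nat.pow_dvd_pow_iff_le_right (by norm_num)).mp this
  have h2 : a' ≤ a := by
    have hd : 3 ^ a' ∣ 3 ^ a * 4 ^ b := ⟨4 ^ b', h⟩
    have := (hcop a' b).dvd_of_dvd_mul_right hd
    exact (Nat.pow_dvd_pow_iff_le_right (by norm_num)).mp this
  have ha : a = a' := le_antisymm h1 h2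
  subst ha
  have h3 : 4 ^ b = 4 ^ b' := Nat.eq_of_mul_eq_mul_left (by positivity) h
  exact ⟨rfl, Nat.pow_right_injective (by norm_num) h3⟩

theorem prod_sum_counts {X : Type*} [Fintype X] (f : X → ℕ)
    (hf : ∀ x, f x = 1 ∨ f x = 3 ∨ f x = 4) :
    (∏ x, f x = 3 ^ (Finset.univ.filter (fun x => f x = 3)).card *
        4 ^ (Finset.univ.filter (fun x => f x = 4)).card) ∧
    (∑ x, f x = (Finset.univ.filter (fun x => f x = 1)).card +
        3 * (Finset.univ.filter (fun x => f x = 3)).card +
        4 * (Finset.univ.filter (fun x => f x = 4)).card) := by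
  classical
  have hmaps : ∀ x ∈ (Finset.univ : Finset X), f x ∈ ({1, 3, 4} : Finset ℕ) := by
    intro x _
    rcases hf x with h | h | h <;> simp [h]
  constructor
  · rw [← Finset.prod_fiberwise_of_maps_to hmaps]
    have : ∀ c ∈ ({1, 3, 4} : Finset ℕ), ∏ x ∈ Finset.univ.filter (fun x => f x = c), f x =
        c ^ (Finset.univ.filter (fun x => f x = c)).card := by
      intro c _
      rw [← Finset.prod_const]
      apply Finset.prod_congr rfl
      intro x hx
      exact (Finset.mem_filter.mp hx).2
    rw [Finset.prod_congr rfl this]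
    simp
  · rw [← Finset.sum_fiberwise_of_maps_to hmaps]
    have : ∀ c ∈ ({1, 3, 4} : Finset ℕ), ∑ x ∈ Finset.univ.filter (fun x => f x = c), f x =
        (Finset.univ.filter (fun x => f x = c)).card * c := by
      intro c _
      rw [← smul_eq_mul, ← Finset.sum_const]
      apply Finset.sum_congr rfl
      intro x hx
      exact (Finset.mem_filter.mp hx).2
    rw [Finset.sum_congr rfl this]
    simp
    ring

theorem counts_eq {X Y : Type*} [Fintype X] [Fintype Y] (f : X → ℕ) (g : Y → ℕ)
    (hf : ∀ x, f x = 1 ∨ f x = 3 ∨ f x = 4) (hg : ∀ y, g y = 1 ∨ g y = 3 ∨ g y = 4)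
    (hprod : ∏ x, f x = ∏ y, g y) (hsum : ∑ x, f x = ∑ y, g y) (c : ℕ) :
    Nat.card {x // f x = c} = Nat.card {y // g y = c} := by
  classical
  obtain ⟨hp1, hs1⟩ := prod_sum_counts f hf
  obtain ⟨hp2, hs2⟩ := prod_sum_counts g hg
  rw [hp1, hp2] at hprod
  obtain ⟨h3, h4⟩ := three_four_pow_inj hprod
  rw [hs1, hs2, h3, h4] at hsum
  have h1 : (Finset.univ.filter (fun x => f x = 1)).card =
      (Finset.univ.filter (fun y => g y = 1)).card := by omega
  rw [Nat.card_eq_fintype_card, Nat.card_eq_fintype_card, Fintype.card_subtype,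
    Fintype.card_subtype]
  by_cases hc1 : c = 1
  · subst hc1; exact h1
  by_cases hc3 : c = 3
  · subst hc3; exact h3
  by_cases hc4 : c = 4
  · subst hc4; exact h4
  have e1 : Finset.univ.filter (fun x => f x = c) = ∅ := by
    apply Finset.filter_eq_empty_iff.mpr
    intro x _ hx
    rcases hf x with h | h | h <;> omega
  have e2 : Finset.univ.filter (fun y => g y = c) = ∅ := by
    apply Finset.filter_eq_empty_iff.mpr
    intro y _ hy
    rcases hg y with h | h | h <;> omega
  rw [e1, e2, Finset.card_empty, Finset.card_empty]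





/-- two partitions with the same number of classes of each size are related by a permutation -/
theorem exists_perm_of_class_counts {α : Type*} [Fintype α] [DecidableEq α] (r r' : Setoid α)
    [Fintype (Quotient r)] [Fintype (Quotient r')]
    (h : ∀ c : ℕ, Nat.card {q : Quotient r // Nat.card {y : α // Quotient.mk r y = q} = c} =
      Nat.card {q' : Quotient r' // Nat.card {y : α // Quotient.mk r' y = q'} = c}) :
    ∃ σ : Perm α, ∀ x y, r.r x y ↔ r'.r (σ x) (σ y) := by
  classical
  -- matching of the classes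
  have hfib : ∀ c : ℕ, Nonempty ({q : Quotient r // Nat.card {y : α // Quotient.mk r y = q} = c} ≃
      {q' : Quotient r' // Nat.card {y : α // Quotient.mk r' y = q'} = c}) := by
    intro c
    have := h c
    rw [Nat.card_eq_fintype_card, Nat.card_eq_fintype_card] at this
    exact ⟨Fintype.equivOfCardEq this⟩
  let e : Quotient r ≃ Quotient r' := Equiv.ofFiberEquiv (fun c => (hfib c).some)
  have he : ∀ q, Nat.card {y : α // Quotient.mk r' y = e q} = Nat.card {y : α // Quotient.mk r y = q} :=
    fun q => Equiv.ofFiberEquiv_map (fun c => (hfib c).some) q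
  -- matching of the points
  have hfib2 : ∀ q' : Quotient r', Nonempty ({x : α // e (Quotient.mk r x) = q'} ≃
      {y : α // Quotient.mk r' y = q'}) := by
    intro q'
    have h1 : Nat.card {x : α // e (Quotient.mk r x) = q'} =
        Nat.card {x : α // Quotient.mk r x = e.symm q'} := by
      apply Nat.card_congr
      apply Equiv.subtypeEquivRight
      intro x
      rw [Equiv.eq_symm_apply]
    have h2 := he (e.symm q')
    rw [Equiv.apply_symm_apply] at h2
    have h3 : Nat.card {x : α // e (Quotient.mk r x) = q'} =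
        Nat.card {y : α // Quotient.mk r' y = q'} := by rw [h1, h2]
    rw [Nat.card_eq_fintype_card, Nat.card_eq_fintype_card] at h3
    exact ⟨Fintype.equivOfCardEq h3⟩
  let σ : α ≃ α := Equiv.ofFiberEquiv (f := fun x => e (Quotient.mk r x))
    (g := fun y => Quotient.mk r' y) (fun q' => (hfib2 q').some)
  have hσ : ∀ x, Quotient.mk r' (σ x) = e (Quotient.mk r x) :=
    fun x => Equiv.ofFiberEquiv_map (f := fun x => e (Quotient.mk r x))
      (g := fun y => Quotient.mk r' y) (fun q' => (hfib2 q').some) x
  refine ⟨σ, ?_⟩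
  intro x y
  constructor
  · intro hxy
    apply Quotient.exact
    rw [hσ, hσ, Quotient.sound hxy]
  · intro hxy
    have h1 : Quotient.mk r' (σ x) = Quotient.mk r' (σ y) := Quotient.sound hxy
    rw [hσ, hσ] at h1
    exact Quotient.exact (e.injective h1)







theorem card_class_eq_card_orbit (A : Subgroup (Equiv.Perm α)) (q : Quotient (orbitRel A α)) :
    Nat.card {y : α // Quotient.mk (orbitRel A α) y = q} = Nat.card (orbit A (Quotient.out q : α)) := by
  apply Nat.card_congr
  apply Equiv.subtypeEquivRight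
  intro y
  constructor
  · intro h
    have h1 : (Quotient.mk (orbitRel A α) y) = Quotient.mk (orbitRel A α) (Quotient.out q) := by
      rw [h]
      exact (Quotient.out_eq q).symm
    exact Quotient.exact h1
  · intro h
    have h1 : (Quotient.mk (orbitRel A α) y) = Quotient.mk (orbitRel A α) (Quotient.out q) :=
      Quotient.sound h
    rw [h1]
    exact Quotient.out_eq q

theorem sum_card_class [Fintype α] (r : Setoid α) [Fintype (Quotient r)] :
    ∑ q : Quotient r, Nat.card {y : α // Quotient.mk r y = q} = Fintype.card α := by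
  classical
  rw [← Nat.card_eq_fintype_card, ← Nat.card_congr (Equiv.sigmaFiberEquiv (Quotient.mk r)),
    Nat.card_sigma]

theorem extremal_conj [Fintype α] [DecidableEq α] (A B : Subgroup (Equiv.Perm α))
    (hAcomm : IsMulCommutative A) (hBcomm : IsMulCommutative B)
    (hAeven : A ≤ alternatingGroup α) (hBeven : B ≤ alternatingGroup α)
    (hAcard : Nat.card A = hA (Fintype.card α)) (hBcard : Nat.card B = hA (Fintype.card α))
    (h3 : 3 ≤ Fintype.card α) (h5 : Fintype.card α ≠ 5) :
    ∃ σ : Perm α, Perm.sign σ = 1 ∧ ∀ g, g ∈ B ↔ σ⁻¹ * g * σ ∈ A := by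
  classical
  have : Fintype (orbitRel.Quotient A α) := Fintype.ofFinite _
  have : Fintype (orbitRel.Quotient B α) := Fintype.ofFinite _
  have : Fintype (Quotient (orbitRel A α)) := Fintype.ofFinite _
  have : Fintype (Quotient (orbitRel B α)) := Fintype.ofFinite _
  obtain ⟨hprodA, hsizesA⟩ := extremal_structure A hAcomm hAeven hAcard h3 h5
  obtain ⟨hprodB, hsizesB⟩ := extremal_structure B hBcomm hBeven hBcard h3 h5
  have hDA := extremal_eq_Dset A hAcomm hAeven hAcard h3 h5
  have hDB := extremal_eq_Dset B hBcomm hBeven hBcard h3 h5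
  -- the counts agree
  have hcounts : ∀ c : ℕ,
      Nat.card {q : Quotient (orbitRel A α) //
        Nat.card {y : α // Quotient.mk (orbitRel A α) y = q} = c} =
      Nat.card {q' : Quotient (orbitRel B α) //
        Nat.card {y : α // Quotient.mk (orbitRel B α) y = q'} = c} := by
    apply counts_eq
    · intro q
      rw [card_class_eq_card_orbit]
      exact hsizesA _
    · intro q
      rw [card_class_eq_card_orbit]
      exact hsizesB _
    · have h1 : ∏ q : Quotient (orbitRel A α),
          Nat.card {y : α // Quotient.mk (orbitRel A α) y = q} = Nat.card A := by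
        rw [hprodA]
        apply Finset.prod_congr rfl
        intro q _
        exact card_class_eq_card_orbit A q
      have h2 : ∏ q : Quotient (orbitRel B α),
          Nat.card {y : α // Quotient.mk (orbitRel B α) y = q} = Nat.card B := by
        rw [hprodB]
        apply Finset.prod_congr rfl
        intro q _
        exact card_class_eq_card_orbit B q
      rw [h1, h2, hAcard, hBcard]
    · rw [sum_card_class, sum_card_class]
  obtain ⟨σ₀, hσ₀⟩ := exists_perm_of_class_counts (orbitRel A α) (orbitRel B α) hcounts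
  -- fix the parity
  obtain ⟨σ, hsign, hσ⟩ : ∃ σ : Perm α, Perm.sign σ = 1 ∧
      ∀ x y, (orbitRel A α).r x y ↔ (orbitRel B α).r (σ x) (σ y) := by
    by_cases hs : Perm.sign σ₀ = 1
    · exact ⟨σ₀, hs, hσ₀⟩
    · have hs' : Perm.sign σ₀ = -1 := (Int.units_eq_one_or _).resolve_left hs
      -- A is nontrivial
      have hAnt : ∃ a ∈ A, a ≠ (1 : Perm α) := by
        by_contra hcon
        push Not at hcon
        have hbot : A = ⊥ := by
          rw [eq_bot_iff]
          intro a ha
          rw [Subgroup.mem_bot]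
          exact hcon a ha
        rw [hbot, Subgroup.card_bot] at hAcard
        have := le_hA (Fintype.card α) (by omega)
        omega
      obtain ⟨a, ha, ha1⟩ := hAnt
      obtain ⟨x, hx⟩ : ∃ x, a x ≠ x := by
        by_contra hcon
        push Not at hcon
        exact ha1 (Equiv.ext hcon)
      have hrel : (orbitRel A α).r (a x) x := ⟨⟨a, ha⟩, rfl⟩
      set τ : Perm α := Equiv.swap x (a x) with hτ
      have hτrel : ∀ u, (orbitRel A α).r (τ u) u := by
        intro u
        by_cases hux : u = x
        · rw [hux, hτ, Equiv.swap_apply_left]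
          exact hrel
        · by_cases huy : u = a x
          · rw [huy, hτ, Equiv.swap_apply_right]
            exact (orbitRel A α).symm hrel
          · rw [hτ, Equiv.swap_apply_of_ne_of_ne hux huy]
      refine ⟨σ₀ * τ, ?_, ?_⟩
      · rw [Perm.sign_mul, hs', hτ, Perm.sign_swap (Ne.symm hx)]
        decide
      · intro u v
        rw [Perm.mul_apply, Perm.mul_apply, ← hσ₀]
        constructor
        · intro h
          exact (orbitRel A α).trans (hτrel u)
            ((orbitRel A α).trans h ((orbitRel A α).symm (hτrel v)))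
        · intro h
          exact (orbitRel A α).trans ((orbitRel A α).symm (hτrel u))
            ((orbitRel A α).trans h (hτrel v))
  refine ⟨σ, hsign, ?_⟩
  intro g
  constructor
  · intro hg
    have hg' : g ∈ Dset (orbitRel B α) := by rw [← hDB]; exact hg
    have hσinv : ∀ x y, (orbitRel B α).r x y ↔ (orbitRel A α).r (σ⁻¹ x) (σ⁻¹ y) := by
      intro x y
      rw [hσ]
      simp
    have := Dset_conj (orbitRel B α) (orbitRel A α) σ⁻¹ hσinv hg'
    rw [inv_inv] at this
    have h2 : σ⁻¹ * g * σ ∈ (A : Set (Perm α)) := by rw [hDA]; exact this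
    exact h2
  · intro hg
    have hg' : σ⁻¹ * g * σ ∈ Dset (orbitRel A α) := by rw [← hDA]; exact hg
    have := Dset_conj (orbitRel A α) (orbitRel B α) σ hσ hg'
    have h2 : σ * (σ⁻¹ * g * σ) * σ⁻¹ = g := by group
    rw [h2] at this
    have h3 : g ∈ (B : Set (Perm α)) := by rw [hDB]; exact this
    exact h3


end Cfsg.Agent.Helper42
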