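import Mathlib
import Cfsg.Agent.Lib.Helper98.BrownDefs

set_option autoImplicit false

/-!
# BROWN server (helper98, S4291), piece (U3): uniqueness of the good subgroup

`good_unique_of_hyps` is the statement of `good_unique` with the pieces (U1) and (U2) as explicit
hypotheses; the verbatim `good_unique` is in `BrownU3.lean`.
-/

namespace Cfsg.Agent.Helper42.Brown

open Cfsg.Agent.Helper98.Brown

variable {G : Type*} [Group G]

/-- the image of a normal `Z`-group under a surjective homomorphism has cyclic Sylow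
2-subgroups -/
theorem u3_sylow_map [Finite G] {Q : Type*} [Group Q] (f : G →* Q) (M : Subgroup G)
    (hZ : ZGroup M) (P : Sylow 2 (M.map f)) : IsCyclic P := by
  have hφ : Function.Surjective (f.subgroupMap M) := f.subgroupMap_surjective M
  have : Finite (M.map f) := Finite.of_surjective _ hφ
  obtain ⟨P₀⟩ : Nonempty (Sylow 2 M) := inferInstance
  have hc0 : IsCyclic P₀ := hZ 2 P₀
  have hc1 : IsCyclic (P₀.mapSurjective hφ) := by
    have hs : Function.Surjective ((f.subgroupMap M).subgroupMap (P₀ : Subgroup M)) :=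
      (f.subgroupMap M).subgroupMap_surjective _
    exact isCyclic_of_surjective _ hs
  exact isCyclic_of_surjective (Sylow.equiv (P₀.mapSurjective hφ) P) (MulEquiv.surjective _)

/-- a cyclic group of exponent two has at most two elements -/
theorem u3_card_le_two {A : Type*} [Group A] [Finite A] [IsCyclic A] (hexp : ∀ x : A, x * x = 1) :
    Nat.card A ≤ 2 := by
  obtain ⟨g, hg⟩ := IsCyclic.exists_generator (α := A)
  have h1 : orderOf g = Nat.card A := orderOf_eq_card_of_forall_mem_zpowers hg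
  have h2 : orderOf g ∣ 2 := orderOf_dvd_of_pow_eq_one (by rw [pow_two]; exact hexp g)
  rw [← h1]
  exact Nat.le_of_dvd (by norm_num) h2

theorem u3_dihedral_exp (x : DihedralGroup 2) : x * x = 1 := by
  revert x
  decide

/-- a subgroup of `V₄` with cyclic Sylow 2-subgroups has at most two elements -/
theorem u3_card_le_two_of_sylow (S : Subgroup (DihedralGroup 2))
    (hc : ∀ P : Sylow 2 S, IsCyclic P) : Nat.card S ≤ 2 := by
  have hdvd : Nat.card S ∣ 2 ^ 2 := by
    have := Subgroup.card_subgroup_dvd_card S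
    rwa [DihedralGroup.nat_card] at this
  obtain ⟨k, -, hk⟩ := (Nat.dvd_prime_pow Nat.prime_two).1 hdvd
  have hp : IsPGroup 2 (⊤ : Subgroup S) := by
    apply IsPGroup.of_card (n := k)
    rw [Subgroup.card_top, hk]
  obtain ⟨P, hP⟩ := hp.exists_le_sylow
  have hPc : IsCyclic P := hc P
  have hcyc : IsCyclic S := by
    have hs : Function.Surjective ((P : Subgroup S).subtype) := by
      intro x
      exact ⟨⟨x, hP (Subgroup.mem_top x)⟩, rfl⟩
    exact isCyclic_of_surjective _ hs
  apply u3_card_le_two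
  intro x
  apply Subtype.ext
  exact u3_dihedral_exp x.1

theorem u3_index_of_surj {Q : Type*} [Group Q] (f : G →* Q) (hf : Function.Surjective f) :
    f.ker.index = Nat.card Q := by
  rw [Subgroup.index_ker, MonoidHom.range_eq_top.2 hf, Subgroup.card_top]

/-- step (a): a normal `Z`-group is contained in a good subgroup, unless the quotient is `V₄` and
its image has order two -/
theorem u3_step [Finite G]
    (hA4 : ∀ M : Subgroup (alternatingGroup (Fin 4)), M.Normal →
      (∀ P : Sylow 2 M, IsCyclic P) → M = ⊥)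
    (hS4 : ∀ M : Subgroup (Equiv.Perm (Fin 4)), M.Normal →
      (∀ P : Sylow 2 M, IsCyclic P) → M = ⊥)
    (hA5 : ∀ M : Subgroup (alternatingGroup (Fin 5)), M.Normal →
      (∀ P : Sylow 2 M, IsCyclic P) → M = ⊥)
    (hS5 : ∀ M : Subgroup (Equiv.Perm (Fin 5)), M.Normal →
      (∀ P : Sylow 2 M, IsCyclic P) → M = ⊥)
    {N M : Subgroup G} (hN : Good N) (hM : M.Normal) (hZ : ZGroup M) :
    M ≤ N ∨ ∃ f : G →* DihedralGroup 2, Function.Surjective f ∧ f.ker = N ∧
      Nat.card (M.map f) = 2 := by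
  obtain ⟨-, -, hQ⟩ := hN
  rcases hQ with h | ⟨f, hf, hk⟩ | ⟨f, hf, hk⟩ | ⟨f, hf, hk⟩ | ⟨f, hf, hk⟩ | ⟨f, hf, hk⟩
  · left
    rw [h]
    exact le_top
  · by_cases hle : M ≤ N
    · exact Or.inl hle
    · right
      refine ⟨f, hf, hk, ?_⟩
      have h1 : Nat.card (M.map f) ≤ 2 :=
        u3_card_le_two_of_sylow _ (fun P => u3_sylow_map f M hZ P)
      have h2 : Nat.card (M.map f) ≠ 1 := by
        intro h
        apply hle
        rw [← hk, ← Subgroup.map_eq_bot_iff]
        exact Subgroup.card_eq_one.1 h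
      have h3 : 0 < Nat.card (M.map f) := Nat.card_pos
      omega
  · left
    have := hA4 (M.map f) (hM.map f hf)
      (fun P => u3_sylow_map f M hZ P)
    rw [← hk, ← Subgroup.map_eq_bot_iff]
    exact this
  · left
    have := hS4 (M.map f) (hM.map f hf)
      (fun P => u3_sylow_map f M hZ P)
    rw [← hk, ← Subgroup.map_eq_bot_iff]
    exact this
  · left
    have := hA5 (M.map f) (hM.map f hf)
      (fun P => u3_sylow_map f M hZ P)
    rw [← hk, ← Subgroup.map_eq_bot_iff]
    exact this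
  · left
    have := hS5 (M.map f) (hM.map f hf)
      (fun P => u3_sylow_map f M hZ P)
    rw [← hk, ← Subgroup.map_eq_bot_iff]
    exact this

/-- the index of a good subgroup is not two -/
theorem u3_index_ne_two {N : Subgroup G} (hN : Good N) : N.index ≠ 2 := by
  obtain ⟨-, -, hQ⟩ := hN
  rcases hQ with h | ⟨f, hf, hk⟩ | ⟨f, hf, hk⟩ | ⟨f, hf, hk⟩ | ⟨f, hf, hk⟩ | ⟨f, hf, hk⟩
  · rw [h, Subgroup.index_top]
    norm_num
  · rw [← hk, u3_index_of_surj f hf, DihedralGroup.nat_card]
    norm_num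
  · rw [← hk, u3_index_of_surj f hf, nat_card_alternatingGroup, Nat.card_eq_fintype_card,
      Fintype.card_fin]
    decide
  · rw [← hk, u3_index_of_surj f hf, Nat.card_eq_fintype_card, Fintype.card_perm,
      Fintype.card_fin]
    decide
  · rw [← hk, u3_index_of_surj f hf, nat_card_alternatingGroup, Nat.card_eq_fintype_card,
      Fintype.card_fin]
    decide
  · rw [← hk, u3_index_of_surj f hf, Nat.card_eq_fintype_card, Fintype.card_perm,
      Fintype.card_fin]
    decide

/-- the mixed case is impossible -/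
theorem u3_mixed [Finite G] {N₁ N₂ : Subgroup G} (h₂ : Good N₂)
    (f : G →* DihedralGroup 2) (hf : Function.Surjective f) (hk : f.ker = N₁)
    (hc : Nat.card (N₂.map f) = 2) (hle : N₁ ≤ N₂) : False := by
  have h1 : N₁.relIndex N₂ = 2 := by rw [← hk, Subgroup.relIndex_ker, hc]
  have h2 : N₁.index = 4 := by rw [← hk, u3_index_of_surj f hf, DihedralGroup.nat_card]
  have h3 := Subgroup.relIndex_mul_index hle
  rw [h1, h2] at h3
  exact u3_index_ne_two h₂ (by omega)

theorem good_unique_of_hyps [Finite G]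
    (hA4 : ∀ M : Subgroup (alternatingGroup (Fin 4)), M.Normal →
      (∀ P : Sylow 2 M, IsCyclic P) → M = ⊥)
    (hS4 : ∀ M : Subgroup (Equiv.Perm (Fin 4)), M.Normal →
      (∀ P : Sylow 2 M, IsCyclic P) → M = ⊥)
    (hA5 : ∀ M : Subgroup (alternatingGroup (Fin 5)), M.Normal →
      (∀ P : Sylow 2 M, IsCyclic P) → M = ⊥)
    (hS5 : ∀ M : Subgroup (Equiv.Perm (Fin 5)), M.Normal →
      (∀ P : Sylow 2 M, IsCyclic P) → M = ⊥)
    (hU2 : ∀ (R : Subgroup (DihedralGroup 2 × DihedralGroup 2)) (f : G →* R),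
      Function.Surjective f → (∀ x : R, x * x = 1) → Nat.card R = 8 → False)
    {N₁ N₂ : Subgroup G} (h₁ : Good N₁) (h₂ : Good N₂) : N₁ = N₂ := by
  rcases u3_step hA4 hS4 hA5 hS5 h₁ h₂.1 h₂.2.1 with h21 | ⟨f₁, hf₁, hk₁, hc₁⟩
  · rcases u3_step hA4 hS4 hA5 hS5 h₂ h₁.1 h₁.2.1 with h12 | ⟨f₂, hf₂, hk₂, hc₂⟩
    · exact le_antisymm h12 h21
    · exact (u3_mixed h₁ f₂ hf₂ hk₂ hc₂ h21).elim
  · rcases u3_step hA4 hS4 hA5 hS5 h₂ h₁.1 h₁.2.1 with h12 | ⟨f₂, hf₂, hk₂, hc₂⟩
    · exact (u3_mixed h₂ f₁ hf₁ hk₁ hc₁ h12).elim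
    · exfalso
      have hker : (f₁.prod f₂).ker = N₁ ⊓ N₂ := by rw [MonoidHom.ker_prod, hk₁, hk₂]
      have hidx : (N₁ ⊓ N₂).index = 8 := by
        have e1 : N₁.relIndex N₂ = 2 := by rw [← hk₁, Subgroup.relIndex_ker, hc₁]
        have e2 : N₂.index = 4 := by rw [← hk₂, u3_index_of_surj f₂ hf₂, DihedralGroup.nat_card]
        have e3 := Subgroup.relIndex_inf_mul_relIndex N₁ N₂ (⊤ : Subgroup G)
        rw [inf_top_eq, Subgroup.relIndex_top_right, Subgroup.relIndex_top_right, e1, e2] at e3
        omega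
      have hcard : Nat.card (f₁.prod f₂).range = 8 := by
        rw [← Subgroup.index_ker, hker, hidx]
      refine hU2 (f₁.prod f₂).range (f₁.prod f₂).rangeRestrict
        (f₁.prod f₂).rangeRestrict_surjective ?_ hcard
      intro x
      apply Subtype.ext
      apply Prod.ext
      · exact u3_dihedral_exp x.1.1
      · exact u3_dihedral_exp x.1.2

end Cfsg.Agent.Helper42.Brown
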