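import Mathlib
import Cfsg.Agent.Lib.Helper98.BrownDefs
import Cfsg.Agent.Lib.Helper91.BrownU1
import Cfsg.Agent.Lib.Helper51.BrownU2
import Cfsg.Agent.Lib.Helper42.BrownU3a

set_option autoImplicit false

/-!
# BROWN server (helper98, S4291), piece (U3): `good_unique`, statement verbatim from
`tools/brown_sigs_helper98.lean.txt`; (U1) = `Helper91.Brown`, (U2) = `Helper51.Brown`.
-/

namespace Cfsg.Agent.Helper42.Brown

open Cfsg.Agent.Helper98.Brown

variable {G : Type*} [Group G]

theorem good_unique [Finite G] (h : FpfLike G) {N₁ N₂ : Subgroup G} (h₁ : Good N₁)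
    (h₂ : Good N₂) : N₁ = N₂ :=
  good_unique_of_hyps Cfsg.Agent.Helper91.Brown.normal_eq_bot_A4
    Cfsg.Agent.Helper91.Brown.normal_eq_bot_S4 Cfsg.Agent.Helper91.Brown.normal_eq_bot_A5
    Cfsg.Agent.Helper91.Brown.normal_eq_bot_S5
    (fun _ f hf hexp hcard =>
      Cfsg.Agent.Helper51.Brown.no_elementary_quotient h f hf hexp hcard) h₁ h₂

end Cfsg.Agent.Helper42.Brown
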