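import Mathlib
import Cfsg.Agent.Lib.Helper32.C3Defs
import Cfsg.Agent.Lib.Helper9.C3M3Defs

set_option autoImplicit false
set_option linter.unusedSectionVars false

/-!
C3M3 (F) (A4) (G) for helper9's sub-server (C3 (M3), S4415): the permutation part `π R = V_4`,
`π G ⊇ A_4`, `|R| = 4 |D|`.
-/

namespace Cfsg.Agent.Helper42.C3M3

open Cfsg.Agent.Helper32.C3 Cfsg.Agent.Helper9.C3M3

universe u v

set_option maxRecDepth 100000 in
theorem f_fix : ∀ c : Equiv.Perm (Fin 4), c ^ 3 = 1 → c ≠ 1 → ∃ i, c i = i := by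
  decide

set_option maxRecDepth 100000 in
theorem f_v4_eq : ∀ σ τ : Equiv.Perm (Fin 4), InV4 σ → InV4 τ → ∀ i, σ i = τ i → σ = τ := by
  unfold InV4
  decide

set_option maxRecDepth 100000 in
theorem a4_dec : ∀ c σ : Equiv.Perm (Fin 4), c ^ 3 = 1 → c ≠ 1 → Equiv.Perm.sign σ = 1 →
    InV4 σ ∨ InV4 (σ * c) ∨ InV4 (σ * c * c) := by
  unfold InV4
  decide

set_option maxRecDepth 100000 in
theorem g_card : Fintype.card {σ : Equiv.Perm (Fin 4) // InV4 σ} = 4 := by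
  unfold InV4
  decide

section Perm

variable {G : Type u} [Group G] [Finite G] (R : Subgroup G) (b : G)
  (π : G →* Equiv.Perm (Fin 4))

/-- (F) [M] `π R = V_4`. -/
theorem pi_R_surj (htrans : ∀ i j : Fin 4, ∃ g : G, π g i = j) (hV4 : ∀ r ∈ R, InV4 (π r))
    (hRB : ∀ g : G, ∃ r ∈ R, ∃ i : ℕ, g = r * b ^ i) (hb3 : b ^ 3 = 1) (hb1 : π b ≠ 1) :
    ∀ σ : Equiv.Perm (Fin 4), InV4 σ → ∃ r ∈ R, π r = σ := by
  intro σ hσ
  have hc3 : (π b) ^ 3 = 1 := by rw [← map_pow, hb3, map_one]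
  obtain ⟨i₀, hi₀⟩ := f_fix (π b) hc3 hb1
  obtain ⟨g, hg⟩ := htrans i₀ (σ i₀)
  obtain ⟨r, hr, k, rfl⟩ := hRB g
  refine ⟨r, hr, ?_⟩
  apply f_v4_eq _ _ (hV4 r hr) hσ i₀
  rw [← hg, map_mul, map_pow, Equiv.Perm.mul_apply,
    Equiv.Perm.pow_apply_eq_self_of_apply_eq_self hi₀]

/-- (A4) [S-M] every even permutation is `π g`. -/
theorem pi_even (hsurj : ∀ σ : Equiv.Perm (Fin 4), InV4 σ → ∃ r ∈ R, π r = σ) (hb3 : b ^ 3 = 1)
    (hb1 : π b ≠ 1) : ∀ σ : Equiv.Perm (Fin 4), Equiv.Perm.sign σ = 1 → ∃ g : G, π g = σ := by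
  intro σ hσ
  have hc3 : (π b) ^ 3 = 1 := by rw [← map_pow, hb3, map_one]
  have hc3' : π b * (π b * π b) = 1 := by rw [← hc3, pow_succ, pow_two, mul_assoc]
  rcases a4_dec (π b) σ hc3 hb1 hσ with h | h | h
  · obtain ⟨r, _, hr⟩ := hsurj σ h
    exact ⟨r, hr⟩
  · obtain ⟨r, _, hr⟩ := hsurj _ h
    refine ⟨r * b * b, ?_⟩
    rw [map_mul, map_mul, hr, mul_assoc, mul_assoc, hc3', mul_one]
  · obtain ⟨r, _, hr⟩ := hsurj _ h
    refine ⟨r * b, ?_⟩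
    rw [map_mul, hr, mul_assoc, mul_assoc, hc3', mul_one]

/-- (G) [M] `|R| = 4 |D|`. -/
theorem card_R (hV4 : ∀ r ∈ R, InV4 (π r))
    (hsurj : ∀ σ : Equiv.Perm (Fin 4), InV4 σ → ∃ r ∈ R, π r = σ) :
    Nat.card ↥R = 4 * Nat.card ↥(R ⊓ π.ker) := by
  classical
  let φ : ↥R →* Equiv.Perm (Fin 4) := π.comp R.subtype
  have h1 := Subgroup.card_eq_card_quotient_mul_card_subgroup φ.ker
  have h2 : Nat.card (↥R ⧸ φ.ker) = Nat.card φ.range :=
    Nat.card_congr (QuotientGroup.quotientKerEquivRange φ).toEquiv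
  have h3 : Nat.card φ.range = 4 := by
    have h4 : ∀ σ : Equiv.Perm (Fin 4), σ ∈ φ.range ↔ InV4 σ := by
      intro σ
      constructor
      · rintro ⟨r, rfl⟩
        exact hV4 r.1 r.2
      · intro hσ
        obtain ⟨r, hr, hrσ⟩ := hsurj σ hσ
        exact ⟨⟨r, hr⟩, hrσ⟩
    rw [Nat.card_congr (Equiv.subtypeEquivRight h4), Nat.card_eq_fintype_card, g_card]
  have h5 : φ.ker = (R ⊓ π.ker).subgroupOf R := by
    rw [Subgroup.inf_subgroupOf_left]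
    ext x
    rw [MonoidHom.mem_ker, Subgroup.mem_subgroupOf, MonoidHom.mem_ker]
    rfl
  have h6 : Nat.card φ.ker = Nat.card ↥(R ⊓ π.ker) := by
    rw [h5]
    exact Nat.card_congr (Subgroup.subgroupOfEquivOfLe inf_le_left).toEquiv
  rw [h1, h2, h3, h6]

end Perm

end Cfsg.Agent.Helper42.C3M3
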