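import Mathlib
import Cfsg.Agent.Lib.Helper32.C3Defs
import Cfsg.Agent.Lib.Helper9.C3M3Defs

set_option autoImplicit false
set_option linter.unusedSectionVars false

/-!
C3M3 (K2) for helper9's sub-server (C3 (M3), S4415): the centre of `R` is `{1, z}`.
-/

namespace Cfsg.Agent.Helper42.C3M3

open Cfsg.Agent.Helper32.C3 Cfsg.Agent.Helper9.C3M3

universe u v

set_option maxRecDepth 100000 in
theorem k2_units : ∀ u : (ZMod 3)ˣ, u = 1 ∨ u = -1 := by decide

set_option maxRecDepth 100000 in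
theorem k2_trans : ∀ i j : Fin 4, ∃ τ : Equiv.Perm (Fin 4), InV4 τ ∧ τ i = j := by
  unfold InV4
  decide

set_option maxRecDepth 100000 in
theorem k2_eps : ∀ i k : Fin 4, i ≠ k → ∃ ε : Fin 4 → (ZMod 3)ˣ, ∏ j, ε j = 1 ∧ ε i ≠ ε k := by
  decide

section Mono2

variable {G : Type u} [Group G] [Finite G] {V : Type v} [AddCommGroup V] [Module (ZMod 3) V]
  [Finite V] (ρ : Representation (ZMod 3) G V) (R Q : Subgroup G) (b : G)
  (e : Module.Basis (Fin 4) (ZMod 3) V) (π : G →* Equiv.Perm (Fin 4))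
  (s : G → Fin 4 → (ZMod 3)ˣ)

/-- (K2) [M] the centre of `R` is `{1, z}`. -/
theorem center_facts (hsm : ∀ g h i, s (g * h) i = s h i * s g (π h i)) (hs1 : ∀ i, s 1 i = 1)
    (hinj : ∀ g h : G, π g = π h → (∀ i, s g i = s h i) → g = h)
    (hV4 : ∀ r ∈ R, InV4 (π r))
    (hsurj : ∀ σ : Equiv.Perm (Fin 4), InV4 σ → ∃ r ∈ R, π r = σ)
    (hall : ∀ ε : Fin 4 → (ZMod 3)ˣ, ∏ i, ε i = 1 → ∃ d ∈ R ⊓ π.ker, ∀ i, s d i = ε i)
    (z : G) (hzπ : π z = 1) (hzs : ∀ i, s z i = -1) :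
    ∀ r ∈ R, (∀ r' ∈ R, r * r' = r' * r) → r = 1 ∨ r = z := by
  intro r hr hc
  -- step 1: `π r = 1`
  have hπr : π r = 1 := by
    by_contra hne
    have hV := hV4 r hr
    obtain ⟨i, hi⟩ : ∃ i, π r i ≠ i := by
      by_contra hall'
      push Not at hall'
      exact hne (Equiv.ext hall')
    obtain ⟨ε, hε1, hε2⟩ := k2_eps i (π r i) (Ne.symm hi)
    obtain ⟨d, hd, hds⟩ := hall ε hε1
    have hdπ : π d = 1 := MonoidHom.mem_ker.mp hd.2
    have h1 := hc d hd.1
    have h2 : s (r * d) i = s (d * r) i := by rw [h1]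
    rw [hsm, hsm, hdπ, Equiv.Perm.one_apply, mul_comm (s r i)] at h2
    have h3 : s d i = s d (π r i) := mul_right_cancel h2
    rw [hds, hds] at h3
    exact hε2 h3
  -- step 2: the signs of `r` are constant
  have hconst : ∀ j, s r j = s r 0 := by
    intro j
    obtain ⟨τ, hτ, hτj⟩ := k2_trans 0 j
    obtain ⟨r', hr', hr'π⟩ := hsurj τ hτ
    have h1 := hc r' hr'
    have h2 : s (r * r') 0 = s (r' * r) 0 := by rw [h1]
    rw [hsm, hsm, hπr, Equiv.Perm.one_apply, hr'π, hτj, mul_comm (s r 0)] at h2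
    exact mul_left_cancel h2
  rcases k2_units (s r 0) with h0 | h0
  · left
    apply hinj
    · rw [hπr, map_one]
    · intro i
      rw [hconst, h0, hs1]
  · right
    apply hinj
    · rw [hπr, hzπ]
    · intro i
      rw [hconst, h0, hzs]

end Mono2

end Cfsg.Agent.Helper42.C3M3
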