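import Mathlib

set_option autoImplicit false

/-!
EXT (E1) for helper43's mini server (S5515): all subgroups of order 6 of `S₄` are conjugate
(they are the point stabilisers).
-/

namespace Cfsg.Agent.Helper42.EXT

open Equiv

set_option maxRecDepth 100000 in
/-- an element of order 3 of `S₄` has a unique fixed point -/
theorem e1_fix : ∀ c : Perm (Fin 4), c ^ 3 = 1 → c ≠ 1 → ∃ i, c i = i ∧ ∀ j, c j = j → j = i := by
  decide

set_option maxRecDepth 100000 in
/-- point stabilisers of `S₄` have order 6 -/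
theorem e1_card : ∀ i : Fin 4, (Finset.univ.filter (fun σ : Perm (Fin 4) => σ i = i)).card = 6 := by
  decide

theorem e1_card_stab (i : Fin 4) : Nat.card (MulAction.stabilizer (Perm (Fin 4)) i) = 6 := by
  classical
  have h1 : Nat.card (MulAction.stabilizer (Perm (Fin 4)) i) =
      Nat.card {σ : Perm (Fin 4) // σ i = i} :=
    Nat.card_congr (Equiv.subtypeEquivRight (fun σ => MulAction.mem_stabilizer_iff))
  rw [h1, Nat.card_eq_fintype_card, Fintype.card_subtype, e1_card]

/-- a subgroup of order 6 of `S₄` is a point stabiliser -/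
theorem e1_eq_stab (H : Subgroup (Perm (Fin 4))) (h : Nat.card H = 6) :
    ∃ i : Fin 4, H = MulAction.stabilizer (Perm (Fin 4)) i := by
  classical
  have : Fintype H := Fintype.ofFinite H
  have : Fact (Nat.Prime 3) := ⟨Nat.prime_three⟩
  have h3 : 3 ∣ Fintype.card H := by
    rw [← Nat.card_eq_fintype_card, h]
    norm_num
  obtain ⟨c, hc⟩ := exists_prime_orderOf_dvd_card 3 h3
  have hc3 : (c : Perm (Fin 4)) ^ 3 = 1 := by
    have h1 := pow_orderOf_eq_one c
    rw [hc] at h1
    have h2 := congrArg Subtype.val h1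
    simpa using h2
  have hc1 : (c : Perm (Fin 4)) ≠ 1 := by
    intro h1
    have h2 : c = 1 := Subtype.ext h1
    rw [h2, orderOf_one] at hc
    norm_num at hc
  obtain ⟨i, hi, _⟩ := e1_fix c hc3 hc1
  refine ⟨i, ?_⟩
  let K : Subgroup H := Subgroup.zpowers c
  have hK : Nat.card K = 3 := by
    rw [Nat.card_zpowers, hc]
  have hidx : K.index = 2 := by
    have h1 := K.card_mul_index
    rw [hK, h] at h1
    omega
  have : K.Normal := Subgroup.normal_of_index_eq_two hidx
  apply Subgroup.eq_of_le_of_card_ge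
  · intro σ hσ
    rw [MulAction.mem_stabilizer_iff]
    have hmem : (⟨σ, hσ⟩ : H) * c * (⟨σ, hσ⟩ : H)⁻¹ ∈ K :=
      Subgroup.Normal.conj_mem inferInstance c (Subgroup.mem_zpowers c) _
    obtain ⟨k, hk⟩ := Subgroup.mem_zpowers_iff.mp hmem
    have hd : ((c : Perm (Fin 4)) ^ k) = σ * c * σ⁻¹ := by
      have h1 := congrArg Subtype.val hk
      simpa using h1
    have hd3 : (σ * (c : Perm (Fin 4)) * σ⁻¹) ^ 3 = 1 := by
      rw [conj_pow, hc3, mul_one, mul_inv_cancel]
    have hd1 : σ * (c : Perm (Fin 4)) * σ⁻¹ ≠ 1 := by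
      intro h1
      apply hc1
      have h2 : (c : Perm (Fin 4)) = σ⁻¹ * (σ * c * σ⁻¹) * σ := by group
      rw [h2, h1]
      group
    obtain ⟨i', _, huniq'⟩ := e1_fix _ hd3 hd1
    have h4 : (σ * (c : Perm (Fin 4)) * σ⁻¹) i = i := by
      rw [← hd]
      exact Equiv.Perm.zpow_apply_eq_self_of_apply_eq_self hi k
    have h5 : (σ * (c : Perm (Fin 4)) * σ⁻¹) (σ i) = σ i := by
      simp [Perm.mul_apply, hi]
    show σ i = i
    exact (huniq' (σ i) h5).trans (huniq' i h4).symm
  · rw [e1_card_stab, h]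

/-- (E1) all subgroups of order 6 of `S₄` are conjugate. -/
theorem perm4_card_six_conj (H₁ H₂ : Subgroup (Equiv.Perm (Fin 4))) (h₁ : Nat.card H₁ = 6)
    (h₂ : Nat.card H₂ = 6) :
    ∃ g : Equiv.Perm (Fin 4), H₂ = H₁.map (MulAut.conj g).toMonoidHom := by
  obtain ⟨i, hi⟩ := e1_eq_stab H₁ h₁
  obtain ⟨j, hj⟩ := e1_eq_stab H₂ h₂
  refine ⟨Equiv.swap i j, ?_⟩
  rw [hi, hj]
  ext τ
  rw [Subgroup.mem_map, MulAction.mem_stabilizer_iff]
  constructor
  · intro hτ
    refine ⟨(Equiv.swap i j)⁻¹ * τ * Equiv.swap i j, ?_, ?_⟩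
    · rw [MulAction.mem_stabilizer_iff]
      show ((Equiv.swap i j)⁻¹ * τ * Equiv.swap i j) i = i
      simp only [Perm.mul_apply, Equiv.swap_apply_left, Equiv.swap_inv]
      have hτ' : τ j = j := hτ
      rw [hτ', Equiv.swap_apply_right]
    · show Equiv.swap i j * ((Equiv.swap i j)⁻¹ * τ * Equiv.swap i j) * (Equiv.swap i j)⁻¹ = τ
      group
  · rintro ⟨σ, hσ, rfl⟩
    rw [MulAction.mem_stabilizer_iff] at hσ
    have hσ' : σ i = i := hσ
    show (Equiv.swap i j * σ * (Equiv.swap i j)⁻¹) j = j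
    simp only [Perm.mul_apply, Equiv.swap_inv, Equiv.swap_apply_right, hσ',
      Equiv.swap_apply_left]

end Cfsg.Agent.Helper42.EXT
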