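import Mathlib

set_option autoImplicit false

/-! Counting `m`-dimensional subspaces of a finite vector space (Gaussian binomials),
in the product form `G * ∏ (q^m - q^i) = ∏ (q^n - q^i)`, and divisibility consequences. -/

namespace Cfsg.Agent.Helper42.Elusive

open Module

section grass
variable {F V : Type*} [Field F] [Fintype F] [AddCommGroup V] [Module F V] [Finite V]

/-- the span map from independent `m`-tuples to `m`-dimensional subspaces -/
noncomputable def spanMap (m : ℕ) (s : {s : Fin m → V // LinearIndependent F s}) :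
    {W : Submodule F V // finrank F W = m} :=
  ⟨Submodule.span F (Set.range s.1), by rw [finrank_span_eq_card s.2]; simp⟩

theorem spanMap_val (m : ℕ) (s : {s : Fin m → V // LinearIndependent F s}) :
    (spanMap m s).1 = Submodule.span F (Set.range s.1) := rfl

noncomputable def fiberEquiv (m : ℕ) (W : {W : Submodule F V // finrank F W = m}) :
    {s : {s : Fin m → V // LinearIndependent F s} // spanMap m s = W} ≃
      {t : Fin m → W.1 // LinearIndependent F t} where
  toFun s := ⟨fun j => ⟨s.1.1 j, by
      have h := congrArg Subtype.val s.2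
      rw [spanMap_val] at h
      rw [← h]; exact Submodule.subset_span ⟨j, rfl⟩⟩, by
      have h2 : LinearIndependent F s.1.1 := s.1.2
      exact LinearIndependent.of_comp W.1.subtype h2⟩
  invFun t := ⟨⟨fun j => (t.1 j : V), t.2.map' W.1.subtype (Submodule.ker_subtype _)⟩, by
      apply Subtype.ext
      rw [spanMap_val]
      have h1 : Submodule.span F (Set.range t.1) = ⊤ :=
        t.2.span_eq_top_of_card_eq_finrank' (by simp [W.2])
      have h2 : Set.range (fun j => (t.1 j : V)) = W.1.subtype '' Set.range t.1 := by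
        rw [← Set.range_comp]; rfl
      show Submodule.span F (Set.range (fun j => (t.1 j : V))) = W.1
      rw [h2, ← Submodule.map_span, h1, Submodule.map_subtype_top]⟩
  left_inv s := by apply Subtype.ext; apply Subtype.ext; rfl
  right_inv t := by apply Subtype.ext; rfl

theorem card_grass_mul (m : ℕ) (hm : m ≤ finrank F V) :
    Nat.card {W : Submodule F V // finrank F W = m} *
        ∏ i : Fin m, (Fintype.card F ^ m - Fintype.card F ^ i.val)
      = ∏ i : Fin m, (Fintype.card F ^ finrank F V - Fintype.card F ^ i.val) := by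
  classical
  rw [← card_linearIndependent hm]
  have e := Equiv.sigmaFiberEquiv (spanMap (F := F) (V := V) m)
  rw [← Nat.card_congr e]
  have : Fintype {W : Submodule F V // finrank F W = m} := Fintype.ofFinite _
  rw [Nat.card_sigma]
  have h : ∀ W : {W : Submodule F V // finrank F W = m},
      Nat.card {s // spanMap m s = W}
        = ∏ i : Fin m, (Fintype.card F ^ m - Fintype.card F ^ i.val) := by
    intro W
    rw [Nat.card_congr (fiberEquiv m W)]
    have h3 := card_linearIndependent (K := F) (V := W.1) (k := m) (by rw [W.2])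
    rw [h3, W.2]
  simp only [h, Finset.sum_const, Finset.card_univ, smul_eq_mul, Nat.card_eq_fintype_card]

end grass

/-- the `q`-factorial `∏_{j=1}^n (q^j - 1)` -/
def qf (q n : ℕ) : ℕ := ∏ j ∈ Finset.range n, (q ^ (j + 1) - 1)

/-- `∏_{i<m} (q^(n-i) - 1)` -/
def qB (q n m : ℕ) : ℕ := ∏ i ∈ Finset.range m, (q ^ (n - i) - 1)

theorem qf_succ (q n : ℕ) : qf q (n + 1) = qf q n * (q ^ (n + 1) - 1) := by
  unfold qf; rw [Finset.prod_range_succ]

theorem qf_pos {q : ℕ} (hq : 2 ≤ q) (n : ℕ) : 0 < qf q n := by
  unfold qf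
  apply Finset.prod_pos
  intro j _
  have : 2 ≤ q ^ (j + 1) := by
    calc 2 ≤ q := hq
      _ = q ^ 1 := (pow_one q).symm
      _ ≤ q ^ (j + 1) := Nat.pow_le_pow_right (by omega) (by omega)
  omega

theorem qB_succ (q n m : ℕ) : qB q n (m + 1) = qB q n m * (q ^ (n - m) - 1) := by
  unfold qB; rw [Finset.prod_range_succ]

theorem qB_mul_qf (q n : ℕ) : ∀ m, m ≤ n → qB q n m * qf q (n - m) = qf q n := by
  intro m
  induction m with
  | zero => intro _; simp [qB]
  | succ m ih =>
    intro h
    rw [qB_succ]
    have h1 : n - m = (n - (m + 1)) + 1 := by omega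
    have h2 := ih (by omega)
    rw [h1, qf_succ, ← h1] at h2
    rw [← h2]; ring

theorem qB_self (q m : ℕ) : qB q m m = qf q m := by
  have := qB_mul_qf q m m le_rfl
  simpa [qf] using this

theorem prod_pow_sub_pow (q n : ℕ) : ∀ m, m ≤ n →
    ∏ i ∈ Finset.range m, (q ^ n - q ^ i) = (∏ i ∈ Finset.range m, q ^ i) * qB q n m := by
  intro m hm
  unfold qB
  rw [← Finset.prod_mul_distrib]
  apply Finset.prod_congr rfl
  intro i hi
  have hi' : i < m := Finset.mem_range.mp hi
  have : q ^ n = q ^ i * q ^ (n - i) := by rw [← pow_add]; congr 1; omega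
  rw [this, Nat.mul_sub, mul_one]

section grass2
variable {F V : Type*} [Field F] [Fintype F] [AddCommGroup V] [Module F V] [Finite V]

/-- `G(n,m) * [m]! = ∏_{i<m} (q^(n-i) - 1)` -/
theorem card_grass_mul_qf (m : ℕ) (hm : m ≤ finrank F V) :
    Nat.card {W : Submodule F V // finrank F W = m} * qf (Fintype.card F) m
      = qB (Fintype.card F) (finrank F V) m := by
  have h := card_grass_mul (F := F) (V := V) m hm
  rw [Fin.prod_univ_eq_prod_range (fun i => Fintype.card F ^ m - Fintype.card F ^ i) m,
    Fin.prod_univ_eq_prod_range (fun i => Fintype.card F ^ finrank F V - Fintype.card F ^ i) m,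
    prod_pow_sub_pow _ _ m le_rfl, prod_pow_sub_pow _ _ m hm, qB_self] at h
  have hpos : 0 < ∏ i ∈ Finset.range m, Fintype.card F ^ i := by
    apply Finset.prod_pos
    intro i _
    exact pow_pos Fintype.card_pos i
  apply Nat.eq_of_mul_eq_mul_left hpos
  rw [← h]; ring

/-- `G(n,m) * [m]! * [n-m]! = [n]!` -/
theorem card_grass_mul_qf_qf (m : ℕ) (hm : m ≤ finrank F V) :
    Nat.card {W : Submodule F V // finrank F W = m} * qf (Fintype.card F) m
      * qf (Fintype.card F) (finrank F V - m) = qf (Fintype.card F) (finrank F V) := by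
  rw [card_grass_mul_qf m hm, qB_mul_qf _ _ m hm]

/-- a prime dividing the number of `m`-subspaces divides some `q^(n-k) - 1`, `k < m` -/
theorem exists_dvd_of_dvd_card_grass (m : ℕ) (hm : m ≤ finrank F V) (r : ℕ) (hr : r.Prime)
    (h : r ∣ Nat.card {W : Submodule F V // finrank F W = m}) :
    ∃ k, k < m ∧ r ∣ Fintype.card F ^ (finrank F V - k) - 1 := by
  have h1 : r ∣ qB (Fintype.card F) (finrank F V) m := by
    rw [← card_grass_mul_qf m hm]; exact Dvd.dvd.mul_right h _
  unfold qB at h1
  obtain ⟨k, hk, hd⟩ := (Prime.dvd_finsetProd_iff hr.prime _).mp h1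
  exact ⟨k, Finset.mem_range.mp hk, hd⟩

/-- symmetric version: a prime dividing the number of `(n-m)`-subspaces divides some
`q^(n-k) - 1`, `k < m` -/
theorem exists_dvd_of_dvd_card_grass' (m : ℕ) (hm : m ≤ finrank F V) (r : ℕ) (hr : r.Prime)
    (h : r ∣ Nat.card {W : Submodule F V // finrank F W = finrank F V - m}) :
    ∃ k, k < m ∧ r ∣ Fintype.card F ^ (finrank F V - k) - 1 := by
  have hq : 2 ≤ Fintype.card F := Fintype.one_lt_card
  have h0 := card_grass_mul_qf_qf (F := F) (V := V) (finrank F V - m) (Nat.sub_le _ _)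
  have h2 : finrank F V - (finrank F V - m) = m := by omega
  rw [h2] at h0
  have h3 := qB_mul_qf (Fintype.card F) (finrank F V) m hm
  have h4 : Nat.card {W : Submodule F V // finrank F W = finrank F V - m} * qf (Fintype.card F) m
      = qB (Fintype.card F) (finrank F V) m := by
    apply Nat.eq_of_mul_eq_mul_right (qf_pos hq (finrank F V - m))
    rw [h3, ← h0]; ring
  have h1 : r ∣ qB (Fintype.card F) (finrank F V) m := by
    rw [← h4]; exact Dvd.dvd.mul_right h _
  unfold qB at h1
  obtain ⟨k, hk, hd⟩ := (Prime.dvd_finsetProd_iff hr.prime _).mp h1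
  exact ⟨k, Finset.mem_range.mp hk, hd⟩

end grass2

end Cfsg.Agent.Helper42.Elusive
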