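import Mathlib

set_option autoImplicit false

/-! Generic linear algebra: chains of invariant subspaces built from relative minimal
polynomials. -/

namespace Cfsg.Agent.Helper42.Elusive

open Module Polynomial

section chain
variable {F V : Type*} [Field F] [AddCommGroup V] [Module F V]

theorem aeval_mem (f : Module.End F V) {W : Submodule F V} (hW : W.map f ≤ W) (P : F[X])
    {w : V} (hw : w ∈ W) : aeval f P w ∈ W := by
  induction P using Polynomial.induction_on' with
  | add p q hp hq =>
    rw [map_add, LinearMap.add_apply]; exact W.add_mem hp hq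
  | monomial n a =>
    rw [aeval_monomial, Module.End.mul_apply, Module.algebraMap_end_apply]
    apply W.smul_mem
    clear a
    induction n with
    | zero => simpa using hw
    | succ n ih =>
      rw [pow_succ', Module.End.mul_apply]
      exact hW (Submodule.mem_map_of_mem ih)

theorem pow_mem (f : Module.End F V) {W : Submodule F V} (hW : W.map f ≤ W) (k : ℕ)
    {w : V} (hw : w ∈ W) : (f ^ k) w ∈ W := by
  have := aeval_mem f hW (X ^ k) hw
  simpa using this

/-- relative minimal polynomial: some irreducible factor of `P` kills a vector modulo `Z`. -/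
theorem rel_min (f : Module.End F V) {Z : Submodule F V} :
    ∀ d : ℕ, ∀ P : F[X], P.natDegree ≤ d → P ≠ 0 → ∀ w : V, w ∉ Z → aeval f P w ∈ Z →
      ∃ g Q : F[X], Irreducible g ∧ g ∣ P ∧ aeval f Q w ∉ Z ∧ aeval f g (aeval f Q w) ∈ Z := by
  intro d
  induction d with
  | zero =>
    intro P hd hP w hw hPw
    exfalso
    have hP' : P = C (P.coeff 0) := eq_C_of_natDegree_le_zero hd
    have hc : P.coeff 0 ≠ 0 := by
      intro h0; rw [h0, map_zero] at hP'; exact hP hP'
    rw [hP', aeval_C, Module.algebraMap_end_apply] at hPw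
    apply hw
    have := Z.smul_mem (P.coeff 0)⁻¹ hPw
    rwa [smul_smul, inv_mul_cancel₀ hc, one_smul] at this
  | succ d ih =>
    intro P hd hP w hw hPw
    have hnu : ¬ IsUnit P := by
      intro hu
      obtain ⟨c, hc, rfl⟩ := Polynomial.isUnit_iff.mp hu
      rw [aeval_C, Module.algebraMap_end_apply] at hPw
      apply hw
      have := Z.smul_mem (c⁻¹) hPw
      rwa [smul_smul, inv_mul_cancel₀ hc.ne_zero, one_smul] at this
    obtain ⟨g, hg, P', rfl⟩ := WfDvdMonoid.exists_irreducible_factor hnu hP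
    have hg0 : g ≠ 0 := hg.ne_zero
    have hP'0 : P' ≠ 0 := fun h => hP (by rw [h, mul_zero])
    have hgd : 0 < g.natDegree := hg.natDegree_pos
    have hdeg : P'.natDegree ≤ d := by
      rw [natDegree_mul hg0 hP'0] at hd; omega
    by_cases hcase : aeval f P' w ∈ Z
    · obtain ⟨g', Q, hg', hdvd, h1, h2⟩ := ih P' hdeg hP'0 w hw hcase
      exact ⟨g', Q, hg', hdvd.mul_left g, h1, h2⟩
    · refine ⟨g, P', hg, dvd_mul_right g P', hcase, ?_⟩
      rw [← Module.End.mul_apply, ← map_mul]; exact hPw

variable [FiniteDimensional F V]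

/-- one step of the chain: adjoin the cyclic space of `w'` -/
theorem chain_step (f : Module.End F V) {Z : Submodule F V} (hZ : Z.map f ≤ Z)
    (g : F[X]) (hg : 0 < g.natDegree) (w' : V) (hw' : w' ∉ Z) (hgw : aeval f g w' ∈ Z) :
    ∃ Z' : Submodule F V, Z < Z' ∧ Z'.map f ≤ Z' ∧ finrank F Z' ≤ finrank F Z + g.natDegree ∧
      Z' = Z ⊔ Submodule.span F (Set.range fun k : Fin g.natDegree => (f ^ k.val) w') := by
  set d := g.natDegree with hd
  set S := Submodule.span F (Set.range fun k : Fin d => (f ^ k.val) w') with hS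
  have hlc : g.leadingCoeff ≠ 0 := by
    rw [Ne, leadingCoeff_eq_zero]; intro h; rw [hd, h] at hg; simp at hg
  have hmemS : ∀ k, k < d → (f ^ k) w' ∈ S := fun k hk =>
    Submodule.subset_span ⟨⟨k, hk⟩, rfl⟩
  -- `f^d w'` lies in `Z ⊔ S`
  have hfd : (f ^ d) w' ∈ Z ⊔ S := by
    have h1 : aeval f g w' = ∑ i ∈ Finset.range (d + 1), g.coeff i • (f ^ i) w' := by
      rw [aeval_eq_sum_range, LinearMap.sum_apply]
      rfl
    rw [Finset.sum_range_succ] at h1
    have h2 : g.coeff d • (f ^ d) w' =
        aeval f g w' - ∑ i ∈ Finset.range d, g.coeff i • (f ^ i) w' := by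
      rw [h1]; abel
    have h3 : g.coeff d • (f ^ d) w' ∈ Z ⊔ S := by
      rw [h2]
      apply Submodule.sub_mem
      · exact Submodule.mem_sup_left hgw
      · apply Submodule.sum_mem
        intro i hi
        exact Submodule.smul_mem _ _ (Submodule.mem_sup_right (hmemS i (Finset.mem_range.mp hi)))
    have hc : g.coeff d = g.leadingCoeff := rfl
    have := Submodule.smul_mem (Z ⊔ S) (g.coeff d)⁻¹ h3
    rwa [smul_smul, hc, inv_mul_cancel₀ hlc, one_smul] at this
  refine ⟨Z ⊔ S, ?_, ?_, ?_, rfl⟩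
  · refine lt_of_le_of_ne le_sup_left ?_
    intro h
    apply hw'
    rw [h]
    apply Submodule.mem_sup_right
    have := hmemS 0 hg
    simpa using this
  · rw [Submodule.map_sup]
    apply sup_le
    · exact hZ.trans le_sup_left
    · rw [hS, Submodule.map_span, Submodule.span_le]
      rintro _ ⟨_, ⟨k, rfl⟩, rfl⟩
      have hk : (f ((f ^ k.val) w')) = (f ^ (k.val + 1)) w' := by
        rw [pow_succ', Module.End.mul_apply]
      rw [hk]
      by_cases hkd : k.val + 1 < d
      · exact Submodule.mem_sup_right (hmemS _ hkd)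
      · have : k.val + 1 = d := by have := k.2; omega
        rw [this]; exact hfd
  · calc finrank F ↥(Z ⊔ S) ≤ finrank F Z + finrank F S :=
        Submodule.finrank_add_le_finrank_add_finrank Z S
      _ ≤ finrank F Z + d := by
        apply Nat.add_le_add_left
        refine (finrank_range_le_card (R := F) (fun k : Fin d => (f ^ k.val) w')).trans ?_
        simp

/-- extension step: an invariant subspace of `U` extends by exactly `d` dimensions. -/
theorem chain_ext (f : Module.End F V) (U : Submodule F V) (hU : U.map f ≤ U) (d : ℕ) (hd : 0 < d)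
    (P : F[X]) (hP0 : P ≠ 0) (hPU : ∀ u ∈ U, aeval f P u = 0)
    (hPd : ∀ g : F[X], Irreducible g → g ∣ P → g.natDegree = d)
    (hdiv : ∀ W : Submodule F V, W ≤ U → W.map f ≤ W → d ∣ finrank F W)
    (Z : Submodule F V) (hZU : Z ≤ U) (hZ : Z.map f ≤ Z) (hlt : finrank F Z + d ≤ finrank F U) :
    ∃ Z' : Submodule F V, Z ≤ Z' ∧ Z' ≤ U ∧ Z'.map f ≤ Z' ∧ finrank F Z' = finrank F Z + d := by
  have hne : Z ≠ U := by
    intro h; rw [h] at hlt; omega
  obtain ⟨w, hwU, hwZ⟩ := SetLike.exists_of_lt (lt_of_le_of_ne hZU hne)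
  have hPw : aeval f P w ∈ Z := by rw [hPU w hwU]; exact Z.zero_mem
  obtain ⟨g, Q, hg, hgP, hQw, hgQ⟩ := rel_min f P.natDegree P le_rfl hP0 w hwZ hPw
  have hgd : g.natDegree = d := hPd g hg hgP
  obtain ⟨Z', hlt', hinv, hle, hZ'⟩ := chain_step f hZ g (by omega) _ hQw hgQ
  have hw'U : aeval f Q w ∈ U := aeval_mem f hU Q hwU
  have hZ'U : Z' ≤ U := by
    rw [hZ']
    apply sup_le hZU
    rw [Submodule.span_le]
    rintro _ ⟨k, rfl⟩
    exact pow_mem f hU _ hw'U
  refine ⟨Z', hlt'.le, hZ'U, hinv, ?_⟩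
  obtain ⟨a, ha⟩ := hdiv Z hZU hZ
  obtain ⟨b, hb⟩ := hdiv Z' hZ'U hinv
  have h1 : finrank F Z < finrank F Z' := Submodule.finrank_lt_finrank_of_lt hlt'
  rw [hgd] at hle
  rw [ha, hb] at h1 hle ⊢
  have hab : a < b := by
    by_contra hcon
    have : b ≤ a := by omega
    have := Nat.mul_le_mul_left d this
    omega
  have hba : b ≤ a + 1 := by
    by_contra hcon
    have : a + 2 ≤ b := by omega
    have := Nat.mul_le_mul_left d this
    rw [Nat.mul_add] at this
    omega
  have : b = a + 1 := by omega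
  rw [this]; ring

/-- iterated extension -/
theorem chain_ext_many (f : Module.End F V) (U : Submodule F V) (hU : U.map f ≤ U) (d : ℕ)
    (hd : 0 < d)
    (P : F[X]) (hP0 : P ≠ 0) (hPU : ∀ u ∈ U, aeval f P u = 0)
    (hPd : ∀ g : F[X], Irreducible g → g ∣ P → g.natDegree = d)
    (hdiv : ∀ W : Submodule F V, W ≤ U → W.map f ≤ W → d ∣ finrank F W) :
    ∀ (k : ℕ) (Z : Submodule F V), Z ≤ U → Z.map f ≤ Z → finrank F Z + k * d ≤ finrank F U →
    ∃ Z' : Submodule F V, Z ≤ Z' ∧ Z' ≤ U ∧ Z'.map f ≤ Z' ∧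
      finrank F Z' = finrank F Z + k * d := by
  intro k
  induction k with
  | zero => intro Z hZU hZ _; exact ⟨Z, le_rfl, hZU, hZ, by simp⟩
  | succ k ih =>
    intro Z hZU hZ hlt
    obtain ⟨Z₁, h1, h2, h3, h4⟩ := ih Z hZU hZ (by rw [Nat.succ_mul] at hlt; omega)
    obtain ⟨Z₂, k1, k2, k3, k4⟩ := chain_ext f U hU d hd P hP0 hPU hPd hdiv Z₁ h2 h3
      (by rw [h4]; rw [Nat.succ_mul] at hlt; omega)
    exact ⟨Z₂, h1.trans k1, k2, k3, by rw [k4, h4, Nat.succ_mul]; ring⟩

/-- subspaces of a given dimension between two nested subspaces -/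
theorem exists_between (A B : Submodule F V) (hAB : A ≤ B) (s : ℕ) (h1 : finrank F A ≤ s)
    (h2 : s ≤ finrank F B) : ∃ E : Submodule F V, A ≤ E ∧ E ≤ B ∧ finrank F E = s := by
  induction s, h1 using Nat.le_induction with
  | base => exact ⟨A, le_rfl, hAB, rfl⟩
  | succ s hs ih =>
    obtain ⟨E, hAE, hEB, hE⟩ := ih (by omega)
    have hne : E ≠ B := by intro h; rw [h] at hE; omega
    obtain ⟨w, hwB, hwE⟩ := SetLike.exists_of_lt (lt_of_le_of_ne hEB hne)
    refine ⟨E ⊔ Submodule.span F {w}, hAE.trans le_sup_left, ?_, ?_⟩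
    · apply sup_le hEB
      rw [Submodule.span_le]; simpa using hwB
    · have hlt : E < E ⊔ Submodule.span F {w} := by
        refine lt_of_le_of_ne le_sup_left ?_
        intro h; apply hwE; rw [h]
        exact Submodule.mem_sup_right (Submodule.mem_span_singleton_self w)
      have h3 := Submodule.finrank_lt_finrank_of_lt hlt
      have h4 := Submodule.finrank_add_le_finrank_add_finrank E (Submodule.span F {w})
      have h5 : finrank F (Submodule.span F {w}) ≤ 1 := by
        have := finrank_span_le_card (R := F) ({w} : Set V)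
        simpa using this
      omega

end chain

end Cfsg.Agent.Helper42.Elusive
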