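import Mathlib
import Cfsg.Agent.Lib.Helper42.Elusive2

set_option autoImplicit false

/-! Semisimple part: endomorphisms `f` with `f ^ r = 1`, `r` a prime different from the
characteristic, over a finite field. -/

namespace Cfsg.Agent.Helper42.Elusive

open Module Polynomial

section div
variable {F V : Type*} [Field F] [Fintype F] [AddCommGroup V] [Module F V]
  [FiniteDimensional F V]

/-- orbit counting: an invariant subspace without fixed vectors has dimension divisible by
the order of `q` modulo `r`. -/
theorem div_of_no_fixed (f : Module.End F V) (r : ℕ) [Fact r.Prime] (hfr : f ^ r = 1)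
    (W : Submodule F V) (hW : W.map f ≤ W) (hfix : ∀ w ∈ W, f w = w → w = 0) :
    orderOf ((Fintype.card F : ℕ) : ZMod r) ∣ finrank F W := by
  classical
  have : Finite V := Module.finite_of_finite F
  have : Fintype W := Fintype.ofFinite _
  let g : Function.End W := fun w => ⟨f w.1, hW (Submodule.mem_map_of_mem w.2)⟩
  have hgk : ∀ (k : ℕ) (w : W), ((g ^ k) w : V) = (f ^ k) w.1 := by
    intro k
    induction k with
    | zero => intro w; rfl
    | succ k ih =>
      intro w
      rw [pow_succ', pow_succ']
      show f (((g ^ k) w : W) : V) = f ((f ^ k) w.1)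
      rw [ih]
  have hgr : g ^ r ^ 1 = 1 := by
    rw [pow_one]
    funext w
    apply Subtype.ext
    rw [hgk, hfr]; rfl
  have h1 := Equiv.Perm.card_fixedPoints_modEq (f := g) (p := r) (n := 1) hgr
  have h2 : Fintype.card (Function.fixedPoints g) = 1 := by
    rw [Fintype.card_eq_one_iff]
    refine ⟨⟨0, ?_⟩, ?_⟩
    · show g 0 = 0
      apply Subtype.ext; show f 0 = 0; simp
    · rintro ⟨w, hw⟩
      apply Subtype.ext
      have hw' : g w = w := hw
      have h3 : f w.1 = w.1 := congrArg Subtype.val hw'
      apply Subtype.ext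
      exact hfix w.1 w.2 h3
  rw [h2] at h1
  have h3 : Fintype.card W = Fintype.card F ^ finrank F W := Module.card_eq_pow_finrank
  rw [h3] at h1
  apply orderOf_dvd_of_pow_eq_one
  have h4 := (ZMod.natCast_eq_natCast_iff _ _ r).mpr h1
  push_cast at h4
  exact h4

end div

section decomp
variable {F V : Type*} [Field F] [AddCommGroup V] [Module F V]

/-- the fixed space -/
def fixS (f : Module.End F V) : Submodule F V := LinearMap.ker (f - 1)

/-- the kernel of the cyclotomic polynomial -/
noncomputable def movS (f : Module.End F V) (r : ℕ) : Submodule F V :=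
  LinearMap.ker (aeval f (cyclotomic r F))

theorem mem_fixS (f : Module.End F V) (v : V) : v ∈ fixS f ↔ f v = v := by
  unfold fixS
  rw [LinearMap.mem_ker, LinearMap.sub_apply, Module.End.one_apply, sub_eq_zero]

theorem fixS_eq (f : Module.End F V) : fixS f = LinearMap.ker (aeval f (X - C (1 : F))) := by
  unfold fixS
  congr 1
  simp

theorem aeval_comm (f : Module.End F V) (P : F[X]) (v : V) : aeval f P (f v) = f (aeval f P v) := by
  have h1 : aeval f (P * X) = aeval f (X * P) := by rw [mul_comm]
  rw [map_mul, map_mul, aeval_X] at h1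
  have := congrArg (fun g : Module.End F V => g v) h1
  simpa [Module.End.mul_apply] using this

theorem ker_aeval_invariant (f : Module.End F V) (P : F[X]) :
    (LinearMap.ker (aeval f P)).map f ≤ LinearMap.ker (aeval f P) := by
  rintro _ ⟨v, hv, rfl⟩
  rw [SetLike.mem_coe, LinearMap.mem_ker] at hv
  rw [LinearMap.mem_ker, aeval_comm, hv, map_zero]

theorem movS_invariant (f : Module.End F V) (r : ℕ) : (movS f r).map f ≤ movS f r :=
  ker_aeval_invariant f _

theorem fixS_invariant (f : Module.End F V) : (fixS f).map f ≤ fixS f := by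
  rintro _ ⟨v, hv, rfl⟩
  rw [SetLike.mem_coe, mem_fixS] at hv
  rw [mem_fixS, hv, hv]

theorem sub_fixS_invariant (f : Module.End F V) (E : Submodule F V) (hE : E ≤ fixS f) :
    E.map f ≤ E := by
  rintro _ ⟨v, hv, rfl⟩
  have := (mem_fixS f v).mp (hE hv)
  rw [this]; exact hv

theorem coprime_cyclotomic (r : ℕ) [Fact r.Prime] (hr : (r : F) ≠ 0) :
    IsCoprime (X - C (1 : F)) (cyclotomic r F) := by
  rw [(irreducible_X_sub_C (1 : F)).coprime_iff_not_dvd, dvd_iff_isRoot, IsRoot,
    eval_one_cyclotomic_prime]
  exact hr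

theorem fixS_disjoint_movS (f : Module.End F V) (r : ℕ) [Fact r.Prime] (hr : (r : F) ≠ 0) :
    Disjoint (fixS f) (movS f r) := by
  rw [fixS_eq]
  exact disjoint_ker_aeval_of_isCoprime f (coprime_cyclotomic r hr)

theorem fixS_sup_movS (f : Module.End F V) (r : ℕ) [Fact r.Prime] (hr : (r : F) ≠ 0)
    (hfr : f ^ r = 1) : fixS f ⊔ movS f r = ⊤ := by
  rw [fixS_eq]
  unfold movS
  rw [sup_ker_aeval_eq_ker_aeval_mul_of_coprime f (coprime_cyclotomic r hr), mul_comm,
    C_1, cyclotomic_prime_mul_X_sub_one]
  rw [eq_top_iff]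
  intro v _
  rw [LinearMap.mem_ker]
  simp [hfr]

theorem no_fixed_in_movS (f : Module.End F V) (r : ℕ) [Fact r.Prime] (hr : (r : F) ≠ 0)
    (w : V) (hw : w ∈ movS f r) (hfw : f w = w) : w = 0 := by
  have h := (fixS_disjoint_movS f r hr).le_bot (x := w) ⟨(mem_fixS f w).mpr hfw, hw⟩
  simpa using h

theorem finrank_fixS_add_movS [FiniteDimensional F V] (f : Module.End F V) (r : ℕ) [Fact r.Prime]
    (hr : (r : F) ≠ 0) (hfr : f ^ r = 1) :
    finrank F (fixS f) + finrank F (movS f r) = finrank F V := by
  have h := Submodule.finrank_sup_add_finrank_inf_eq (fixS f) (movS f r)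
  rw [fixS_sup_movS f r hr hfr, (fixS_disjoint_movS f r hr).eq_bot] at h
  simpa using h.symm

theorem aeval_movS_eq_zero (f : Module.End F V) (r : ℕ) (u : V) (hu : u ∈ movS f r) :
    aeval f (cyclotomic r F) u = 0 := hu

end decomp

end Cfsg.Agent.Helper42.Elusive
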