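import Mathlib
import Cfsg.Agent.Lib.Helper42.Elusive3

set_option autoImplicit false

/-! Existence and dimension constraints of invariant subspaces for `f ^ r = 1`. -/

namespace Cfsg.Agent.Helper42.Elusive

open Module Polynomial

section ss
variable {F V : Type*} [Field F] [Fintype F] [AddCommGroup V] [Module F V]
  [FiniteDimensional F V]

theorem natDegree_irr_factor (p : ℕ) [Fact p.Prime] [CharP F p] (r : ℕ) [Fact r.Prime]
    (hrp : r ≠ p) (g : F[X]) (hg : Irreducible g) (hgd : g ∣ cyclotomic r F) :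
    g.natDegree = orderOf ((Fintype.card F : ℕ) : ZMod r) := by
  obtain ⟨n, -, hn⟩ := FiniteField.card F p
  have hcop : p.Coprime r :=
    (Nat.coprime_primes (Fact.out : p.Prime) (Fact.out : r.Prime)).mpr (Ne.symm hrp)
  rw [natDegree_of_dvd_cyclotomic_of_irreducible hn hcop hgd hg, ← orderOf_units,
    ZMod.coe_unitOfCoprime, hn]

theorem orderOf_card_pos (p : ℕ) [Fact p.Prime] [CharP F p] (r : ℕ) [Fact r.Prime]
    (hrp : r ≠ p) : 0 < orderOf ((Fintype.card F : ℕ) : ZMod r) := by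
  obtain ⟨n, -, hn⟩ := FiniteField.card F p
  have hcop : p.Coprime r :=
    (Nat.coprime_primes (Fact.out : p.Prime) (Fact.out : r.Prime)).mpr (Ne.symm hrp)
  have h := orderOf_pos (ZMod.unitOfCoprime (p ^ (n : ℕ)) (hcop.pow_left n))
  rw [← orderOf_units, ZMod.coe_unitOfCoprime] at h
  rw [hn]; exact h

theorem natCast_ne_zero_of_ne (p : ℕ) [Fact p.Prime] [CharP F p] (r : ℕ) [Fact r.Prime]
    (hrp : r ≠ p) : (r : F) ≠ 0 := by
  intro h
  rw [CharP.cast_eq_zero_iff F p] at h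
  exact hrp ((Nat.prime_dvd_prime_iff_eq (Fact.out : p.Prime) (Fact.out : r.Prime)).mp h).symm

/-- invariant subspaces of `movS` have dimension divisible by `i`. -/
theorem dvd_finrank_of_le_movS (p : ℕ) [Fact p.Prime] [CharP F p] (r : ℕ) [Fact r.Prime]
    (hrp : r ≠ p) (f : Module.End F V) (hfr : f ^ r = 1) (W : Submodule F V)
    (hWU : W ≤ movS f r) (hW : W.map f ≤ W) :
    orderOf ((Fintype.card F : ℕ) : ZMod r) ∣ finrank F W :=
  div_of_no_fixed f r hfr W hW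
    (fun w hw hfw => no_fixed_in_movS f r (natCast_ne_zero_of_ne p r hrp) w (hWU hw) hfw)

theorem dvd_finrank_inf_movS (p : ℕ) [Fact p.Prime] [CharP F p] (r : ℕ) [Fact r.Prime]
    (hrp : r ≠ p) (f : Module.End F V) (hfr : f ^ r = 1) (W : Submodule F V)
    (hW : W.map f ≤ W) :
    orderOf ((Fintype.card F : ℕ) : ZMod r) ∣ finrank F ↥(W ⊓ movS f r) := by
  apply dvd_finrank_of_le_movS p r hrp f hfr _ inf_le_right
  refine (Submodule.map_inf_le f).trans ?_
  exact inf_le_inf hW (movS_invariant f r)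

/-- nested invariant subspaces of prescribed dimensions -/
theorem exists_invariant_pair (p : ℕ) [Fact p.Prime] [CharP F p] (r : ℕ) [Fact r.Prime]
    (hrp : r ≠ p) (f : Module.End F V) (hfr : f ^ r = 1)
    (t₁ t₂ s₁ s₂ : ℕ) (ht : t₁ ≤ t₂)
    (ht2 : t₂ * orderOf ((Fintype.card F : ℕ) : ZMod r) ≤ finrank F (movS f r))
    (hs : s₁ ≤ s₂) (hs2 : s₂ ≤ finrank F (fixS f)) :
    ∃ U W : Submodule F V, U ≤ W ∧ U.map f ≤ U ∧ W.map f ≤ W ∧
      finrank F U = t₁ * orderOf ((Fintype.card F : ℕ) : ZMod r) + s₁ ∧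
      finrank F W = t₂ * orderOf ((Fintype.card F : ℕ) : ZMod r) + s₂ := by
  set i := orderOf ((Fintype.card F : ℕ) : ZMod r) with hi
  have hi0 : 0 < i := orderOf_card_pos p r hrp
  have hrF := natCast_ne_zero_of_ne (F := F) p r hrp
  have hch := chain_ext_many f (movS f r) (movS_invariant f r) i hi0 (cyclotomic r F)
    (cyclotomic_ne_zero r F) (aeval_movS_eq_zero f r)
    (fun g hg hgd => natDegree_irr_factor p r hrp g hg hgd)
    (fun W hWU hW => dvd_finrank_of_le_movS p r hrp f hfr W hWU hW)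
  have ht1 : t₁ * i ≤ t₂ * i := Nat.mul_le_mul_right i ht
  obtain ⟨Z₁, -, hZ₁U, hZ₁, hZ₁d⟩ := hch t₁ ⊥ bot_le (by simp) (by simp; omega)
  simp only [finrank_bot, zero_add] at hZ₁d
  obtain ⟨Z₂, hZ₁₂, hZ₂U, hZ₂, hZ₂d⟩ := hch (t₂ - t₁) Z₁ hZ₁U hZ₁ (by
    rw [hZ₁d, Nat.sub_mul]; omega)
  have hZ₂d' : finrank F Z₂ = t₂ * i := by rw [hZ₂d, hZ₁d, Nat.sub_mul]; omega
  obtain ⟨C₂, -, hC₂, hC₂d⟩ := exists_between (⊥ : Submodule F V) (fixS f) bot_le s₂ (by simp) hs2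
  obtain ⟨C₁, -, hC₁, hC₁d⟩ := exists_between (⊥ : Submodule F V) C₂ bot_le s₁ (by simp)
    (by rw [hC₂d]; exact hs)
  have hdisj : ∀ (Z C : Submodule F V), Z ≤ movS f r → C ≤ fixS f →
      finrank F ↥(Z ⊔ C) = finrank F Z + finrank F C := by
    intro Z C hZ hC
    have h := Submodule.finrank_sup_add_finrank_inf_eq Z C
    have hd : Disjoint Z C := (fixS_disjoint_movS f r hrF).symm.mono hZ hC
    rw [hd.eq_bot] at h
    simpa using h
  refine ⟨Z₁ ⊔ C₁, Z₂ ⊔ C₂, sup_le_sup hZ₁₂ hC₁, ?_, ?_, ?_, ?_⟩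
  · rw [Submodule.map_sup]
    exact sup_le_sup hZ₁ (sub_fixS_invariant f C₁ (hC₁.trans hC₂))
  · rw [Submodule.map_sup]
    exact sup_le_sup hZ₂ (sub_fixS_invariant f C₂ hC₂)
  · rw [hdisj Z₁ C₁ hZ₁U (hC₁.trans hC₂), hZ₁d, hC₁d]
  · rw [hdisj Z₂ C₂ hZ₂U hC₂, hZ₂d', hC₂d]

/-- dimension decomposition of an invariant subspace: `dim W = t * i + s` with
`s = dim (W ⊔ V') - dim V'`. -/
theorem invariant_dim (p : ℕ) [Fact p.Prime] [CharP F p] (r : ℕ) [Fact r.Prime]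
    (hrp : r ≠ p) (f : Module.End F V) (hfr : f ^ r = 1) (W : Submodule F V)
    (hW : W.map f ≤ W) :
    ∃ t : ℕ, finrank F W + finrank F (movS f r)
      = t * orderOf ((Fintype.card F : ℕ) : ZMod r) + finrank F ↥(W ⊔ movS f r) := by
  obtain ⟨t, ht⟩ := dvd_finrank_inf_movS p r hrp f hfr W hW
  refine ⟨t, ?_⟩
  have h := Submodule.finrank_sup_add_finrank_inf_eq W (movS f r)
  rw [ht] at h
  rw [← h]; ring

end ss

end Cfsg.Agent.Helper42.Elusive
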