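import Mathlib
import Cfsg.Agent.Lib.Helper42.Elusive2

set_option autoImplicit false

/-! Endomorphisms killed by an irreducible polynomial: the module structure over the
residue field, dimension divisibility, determinant. -/

namespace Cfsg.Agent.Helper42.Elusive

open Module Polynomial

section kmod
variable {F E : Type*} [Field F] [AddCommGroup E] [Module F E]

/-- the algebra map `F[X]/(P) → End E` sending the root to `g` -/
noncomputable def kHom (P : F[X]) (g : Module.End F E) (hg : aeval g P = 0) :
    AdjoinRoot P →ₐ[F] Module.End F E :=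
  Ideal.Quotient.liftₐ (Ideal.span {P}) (aeval g) (by
    intro a ha
    obtain ⟨b, rfl⟩ := Ideal.mem_span_singleton.mp ha
    rw [map_mul, hg, zero_mul])

theorem kHom_root (P : F[X]) (g : Module.End F E) (hg : aeval g P = 0) :
    kHom P g hg (AdjoinRoot.root P) = g := by
  unfold kHom AdjoinRoot.root
  show (aeval g) X = g
  exact aeval_X g

/-- the module structure over `F[X]/(P)` -/
noncomputable def kmod (P : F[X]) (g : Module.End F E) (hg : aeval g P = 0) :
    Module (AdjoinRoot P) E :=
  Module.compHom E ((kHom P g hg : AdjoinRoot P →ₐ[F] Module.End F E) :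
    AdjoinRoot P →+* Module.End F E)

theorem kmod_smul (P : F[X]) (g : Module.End F E) (hg : aeval g P = 0) (a : AdjoinRoot P)
    (e : E) : (letI := kmod P g hg; a • e) = kHom P g hg a e := rfl

theorem kmod_tower (P : F[X]) (g : Module.End F E) (hg : aeval g P = 0) :
    letI := kmod P g hg
    IsScalarTower F (AdjoinRoot P) E := by
  letI := kmod P g hg
  refine ⟨fun a k e => ?_⟩
  show kHom P g hg (a • k) e = a • kHom P g hg k e
  rw [map_smul, LinearMap.smul_apply]

theorem kmod_root_smul (P : F[X]) (g : Module.End F E) (hg : aeval g P = 0) (e : E) :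
    (letI := kmod P g hg; (AdjoinRoot.root P) • e) = g e := by
  rw [kmod_smul, kHom_root]

end kmod

section typeB
variable {F V : Type*} [Field F] [AddCommGroup V] [Module F V] [FiniteDimensional F V]

theorem natDegree_dvd_finrank_of_aeval_eq_zero (P : F[X]) (hP : Irreducible P)
    (g : Module.End F V) (hg : aeval g P = 0) : P.natDegree ∣ finrank F V := by
  haveI : Fact (Irreducible P) := ⟨hP⟩
  letI := kmod P g hg
  haveI := kmod_tower P g hg
  have h := Module.finrank_mul_finrank F (AdjoinRoot P) V
  have h2 : finrank F (AdjoinRoot P) = P.natDegree := by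
    rw [(AdjoinRoot.powerBasis hP.ne_zero).finrank, AdjoinRoot.powerBasis_dim]
  rw [h2] at h
  exact ⟨_, h.symm⟩

/-- invariant subspaces have dimension divisible by the degree -/
theorem natDegree_dvd_finrank_invariant (P : F[X]) (hP : Irreducible P)
    (f : Module.End F V) (hf : aeval f P = 0) (W : Submodule F V) (hW : W.map f ≤ W) :
    P.natDegree ∣ finrank F W := by
  have hW' : ∀ w ∈ W, f w ∈ W := fun w hw => hW (Submodule.mem_map_of_mem hw)
  apply natDegree_dvd_finrank_of_aeval_eq_zero P hP (f.restrict hW')
  apply LinearMap.ext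
  intro w
  apply Subtype.ext
  have h1 : ∀ (Q : F[X]) (w : W), ((aeval (f.restrict hW') Q w : W) : V) = aeval f Q w.1 := by
    intro Q
    induction Q using Polynomial.induction_on' with
    | add p q hp hq =>
      intro w
      rw [map_add, map_add, LinearMap.add_apply, LinearMap.add_apply, Submodule.coe_add, hp, hq]
    | monomial n a =>
      intro w
      rw [aeval_monomial, aeval_monomial, Module.End.mul_apply, Module.End.mul_apply,
        Module.algebraMap_end_apply, Module.algebraMap_end_apply, Submodule.coe_smul]
      congr 1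
      rw [Module.End.pow_restrict n]
      rfl
  rw [h1, hf]; rfl

theorem natDegree_X_pow_sub_C' (r : ℕ) (_hr : 0 < r) (c : F) :
    (X ^ r - C c : F[X]).natDegree = r := natDegree_X_pow_sub_C

theorem aeval_X_pow_sub_C (f : Module.End F V) (r : ℕ) (c : F) (hf : f ^ r = c • 1) :
    aeval f (X ^ r - C c : F[X]) = 0 := by
  rw [map_sub, map_pow, aeval_X, aeval_C, hf, Algebra.algebraMap_eq_smul_one, sub_self]

/-- determinant of an `r`-th root of the scalar `c`, `X^r - c` irreducible. -/
theorem det_of_pow_eq_smul (f : Module.End F V) (r : ℕ) (hr : 0 < r) (c : F) (hf : f ^ r = c • 1)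
    (hP : Irreducible (X ^ r - C c : F[X])) :
    LinearMap.det f = ((-1) ^ (r + 1) * c) ^ (finrank F V / r) := by
  set P : F[X] := X ^ r - C c with hPdef
  have hg : aeval f P = 0 := aeval_X_pow_sub_C f r c hf
  haveI : Fact (Irreducible P) := ⟨hP⟩
  letI := kmod P f hg
  haveI := kmod_tower P f hg
  have hPdeg : P.natDegree = r := natDegree_X_pow_sub_C
  have hmonic : P.Monic := monic_X_pow_sub_C c hr.ne'
  have h := Module.finrank_mul_finrank F (AdjoinRoot P) V
  have h2 : finrank F (AdjoinRoot P) = r := by
    rw [(AdjoinRoot.powerBasis hP.ne_zero).finrank, AdjoinRoot.powerBasis_dim, hPdeg]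
  rw [h2] at h
  have h3 : finrank F V / r = finrank (AdjoinRoot P) V := by
    rw [← h, Nat.mul_div_cancel_left _ hr]
  -- `f` is the restriction of scalars of multiplication by the root
  let f' : V →ₗ[AdjoinRoot P] V := (AdjoinRoot.root P) • LinearMap.id
  have hff' : f = f'.restrictScalars F := by
    apply LinearMap.ext
    intro v
    show f v = (AdjoinRoot.root P) • v
    exact (kmod_root_smul P f hg v).symm
  rw [hff', LinearMap.det_restrictScalars, LinearMap.det_smul, LinearMap.det_id, mul_one,
    map_pow, ← h3]
  congr 1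
  have h4 := Algebra.PowerBasis.norm_gen_eq_coeff_zero_minpoly (AdjoinRoot.powerBasis hP.ne_zero)
  rw [AdjoinRoot.powerBasis_gen, AdjoinRoot.powerBasis_dim, AdjoinRoot.minpoly_root hP.ne_zero,
    hmonic.leadingCoeff, inv_one, C_1, mul_one, hPdeg] at h4
  rw [h4, hPdef, coeff_sub, coeff_X_pow, coeff_C_zero, if_neg hr.ne, zero_sub, pow_succ]
  ring

end typeB

end Cfsg.Agent.Helper42.Elusive
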