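import Mathlib
import Cfsg.Agent.Lib.Helper42.Elusive3

set_option autoImplicit false

/-! Constructions of endomorphisms of `Fin n → F` from residue fields `F[X]/(g)`. -/

namespace Cfsg.Agent.Helper42.Elusive

open Module Polynomial

section constr
variable {F : Type*} [Field F]

/-- multiplication by a scalar of a bigger field, as an `F`-linear map -/
def smulEnd (K M : Type*) [Field K] [Algebra F K] [AddCommGroup M] [Module K M] [Module F M]
    [IsScalarTower F K M] (a : K) : Module.End F M where
  toFun v := a • v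
  map_add' := smul_add a
  map_smul' c v := smul_comm a c v

theorem smulEnd_apply (K M : Type*) [Field K] [Algebra F K] [AddCommGroup M] [Module K M]
    [Module F M] [IsScalarTower F K M] (a : K) (v : M) : smulEnd (F := F) K M a v = a • v := rfl

theorem smulEnd_pow (K M : Type*) [Field K] [Algebra F K] [AddCommGroup M] [Module K M]
    [Module F M] [IsScalarTower F K M] (a : K) (k : ℕ) :
    (smulEnd (F := F) K M a) ^ k = smulEnd K M (a ^ k) := by
  induction k with
  | zero => apply LinearMap.ext; intro v; simp [smulEnd_apply]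
  | succ k ih =>
    apply LinearMap.ext; intro v
    rw [pow_succ, Module.End.mul_apply, ih, smulEnd_apply, smulEnd_apply, smulEnd_apply,
      smul_smul, pow_succ]

theorem smulEnd_algebraMap (K M : Type*) [Field K] [Algebra F K] [AddCommGroup M] [Module K M]
    [Module F M] [IsScalarTower F K M] (c : F) :
    smulEnd (F := F) K M (algebraMap F K c) = c • 1 := by
  apply LinearMap.ext; intro v
  rw [smulEnd_apply, algebraMap_smul, LinearMap.smul_apply, Module.End.one_apply]

/-- existence of an `r`-th root of the scalar `c` on `F^n` when `X^r - c` is irreducible and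
`r ∣ n`. -/
theorem exists_root_of_scalar (r : ℕ) (c : F)
    (hP : Irreducible (X ^ r - C c : F[X])) (n' : ℕ) :
    ∃ f : Module.End F (Fin (n' * r) → F), f ^ r = c • 1 := by
  set P : F[X] := X ^ r - C c with hPdef
  haveI : Fact (Irreducible P) := ⟨hP⟩
  have hPdeg : P.natDegree = r := natDegree_X_pow_sub_C
  have hK : finrank F (AdjoinRoot P) = r := by
    rw [(AdjoinRoot.powerBasis hP.ne_zero).finrank, AdjoinRoot.powerBasis_dim, hPdeg]
  haveI : FiniteDimensional F (AdjoinRoot P) := (AdjoinRoot.powerBasis hP.ne_zero).finite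
  have hfin : finrank F (Fin (n' * r) → F) = finrank F (Fin n' → AdjoinRoot P) := by
    rw [finrank_fin_fun, finrank_pi_fintype]
    simp [hK]
  let φ : (Fin n' → AdjoinRoot P) ≃ₗ[F] (Fin (n' * r) → F) :=
    (LinearEquiv.ofFinrankEq _ _ hfin).symm
  have hroot : (AdjoinRoot.root P) ^ r = algebraMap F (AdjoinRoot P) c := by
    have h := AdjoinRoot.eval₂_root P
    rw [hPdef, eval₂_sub, eval₂_pow, eval₂_X, eval₂_C, sub_eq_zero] at h
    exact h
  refine ⟨φ.conjAlgEquiv F (smulEnd (AdjoinRoot P) (Fin n' → AdjoinRoot P) (AdjoinRoot.root P)), ?_⟩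
  rw [← map_pow, smulEnd_pow, hroot, smulEnd_algebraMap, map_smul, map_one]

/-- an element of order `r` on `F^n` with prescribed fixed space dimension -/
theorem exists_semisimple (r : ℕ) [Fact r.Prime] (hrF : (r : F) ≠ 0) (g : F[X])
    (hg : Irreducible g) (hgd : g ∣ cyclotomic r F) (J e : ℕ) :
    ∃ f : Module.End F (Fin (J * g.natDegree + e) → F), f ^ r = 1 ∧ finrank F (fixS f) = e := by
  haveI : Fact (Irreducible g) := ⟨hg⟩
  have hK : finrank F (AdjoinRoot g) = g.natDegree := by
    rw [(AdjoinRoot.powerBasis hg.ne_zero).finrank, AdjoinRoot.powerBasis_dim]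
  haveI : FiniteDimensional F (AdjoinRoot g) := (AdjoinRoot.powerBasis hg.ne_zero).finite
  have hfin : finrank F (Fin (J * g.natDegree + e) → F)
      = finrank F ((Fin J → AdjoinRoot g) × (Fin e → F)) := by
    rw [finrank_fin_fun, finrank_prod, finrank_fin_fun, finrank_pi_fintype]
    simp [hK]
  let φ : ((Fin J → AdjoinRoot g) × (Fin e → F)) ≃ₗ[F] (Fin (J * g.natDegree + e) → F) :=
    (LinearEquiv.ofFinrankEq _ _ hfin).symm
  set α := AdjoinRoot.root g with hα
  -- `α ^ r = 1`
  have hαr : α ^ r = 1 := by
    have h1 : g ∣ X ^ r - 1 := by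
      rw [← cyclotomic_prime_mul_X_sub_one F r]; exact Dvd.dvd.mul_right hgd _
    obtain ⟨Q, hQ⟩ := h1
    have h2 := congrArg (eval₂ (AdjoinRoot.of g) α) hQ
    rw [eval₂_mul, AdjoinRoot.eval₂_root, zero_mul, eval₂_sub, eval₂_pow, eval₂_X, eval₂_one,
      sub_eq_zero] at h2
    exact h2
  -- `α ≠ 1`
  have hα1 : α - 1 ≠ 0 := by
    intro h
    have hα1 : α = 1 := sub_eq_zero.mp h
    have h1 := AdjoinRoot.eval₂_root g
    rw [← hα, hα1] at h1
    rw [eval₂_at_one] at h1
    have h3 : eval 1 g = 0 := by
      apply (AdjoinRoot.of g).injective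
      rw [h1, map_zero]
    have h4 : (X - C (1 : F)) ∣ g := dvd_iff_isRoot.mpr h3
    have h5 := dvd_iff_isRoot.mp (h4.trans hgd)
    rw [IsRoot, eval_one_cyclotomic_prime] at h5
    exact hrF h5
  let hh : Module.End F ((Fin J → AdjoinRoot g) × (Fin e → F)) :=
    LinearMap.prodMap (smulEnd (AdjoinRoot g) (Fin J → AdjoinRoot g) α) LinearMap.id
  have hhk : ∀ k : ℕ, hh ^ k
      = LinearMap.prodMap (smulEnd (AdjoinRoot g) (Fin J → AdjoinRoot g) (α ^ k)) LinearMap.id := by
    intro k
    induction k with
    | zero =>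
      apply LinearMap.ext; rintro ⟨u, v⟩
      simp [smulEnd_apply]
    | succ k ih =>
      apply LinearMap.ext; rintro ⟨u, v⟩
      rw [pow_succ, Module.End.mul_apply, ih]
      simp [hh, smulEnd_apply, pow_succ, smul_smul]
  refine ⟨φ.conjAlgEquiv F hh, ?_, ?_⟩
  · rw [← map_pow, hhk, hαr]
    have : LinearMap.prodMap (smulEnd (F := F) (AdjoinRoot g) (Fin J → AdjoinRoot g) 1)
        (LinearMap.id : (Fin e → F) →ₗ[F] (Fin e → F)) = 1 := by
      apply LinearMap.ext; rintro ⟨u, v⟩
      simp [smulEnd_apply]
    rw [this, map_one]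
  · let ψ : (Fin e → F) →ₗ[F] (Fin (J * g.natDegree + e) → F) :=
      φ.toLinearMap ∘ₗ LinearMap.inr F (Fin J → AdjoinRoot g) (Fin e → F)
    have hψinj : Function.Injective ψ := by
      intro a b hab
      have := φ.injective hab
      simpa using this
    have hrange : fixS (φ.conjAlgEquiv F hh) = LinearMap.range ψ := by
      ext w
      rw [mem_fixS, LinearEquiv.conjAlgEquiv_apply, LinearMap.mem_range]
      constructor
      · intro hw
        have h1 : hh (φ.symm w) = φ.symm w := by
          have := congrArg φ.symm hw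
          simpa using this
        rcases hφ : φ.symm w with ⟨u, v⟩
        rw [hφ] at h1
        have h2 : α • u = u := by
          have := congrArg Prod.fst h1
          simpa [hh, smulEnd_apply] using this
        have h3 : u = 0 := by
          have h4 : (α - 1) • u = 0 := by rw [sub_smul, one_smul, h2, sub_self]
          rcases smul_eq_zero.mp h4 with h5 | h5
          · exact absurd h5 hα1
          · exact h5
        refine ⟨v, ?_⟩
        show φ (0, v) = w
        rw [← h3, ← hφ]; simp
      · rintro ⟨v, rfl⟩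
        show φ (hh (φ.symm (φ (0, v)))) = φ (0, v)
        rw [LinearEquiv.symm_apply_apply]
        congr 1
        simp [hh, smulEnd_apply]
    rw [hrange, LinearMap.finrank_range_of_inj hψinj, finrank_fin_fun]

end constr

end Cfsg.Agent.Helper42.Elusive
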