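import Mathlib

set_option autoImplicit false

/-! Arithmetic of `r`-th powers in finite fields. -/

namespace Cfsg.Agent.Helper42.Elusive

theorem dvd_pow_sub_one_iff (r : ℕ) (q k : ℕ) (hq : 0 < q) :
    r ∣ q ^ k - 1 ↔ ((q : ZMod r)) ^ k = 1 := by
  have h1 : 1 ≤ q ^ k := Nat.one_le_pow _ _ hq
  rw [← Nat.modEq_iff_dvd' h1, ← ZMod.natCast_eq_natCast_iff]
  push_cast
  exact eq_comm

theorem orderOf_dvd_iff_dvd_pow_sub_one (r : ℕ) (q k : ℕ) (hq : 0 < q) :
    orderOf (q : ZMod r) ∣ k ↔ r ∣ q ^ k - 1 := by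
  rw [dvd_pow_sub_one_iff r q k hq, orderOf_dvd_iff_pow_eq_one]

theorem orderOf_eq_one_iff_dvd (r : ℕ) (q : ℕ) (hq : 0 < q) :
    orderOf (q : ZMod r) = 1 ↔ r ∣ q - 1 := by
  have := dvd_pow_sub_one_iff r q 1 hq
  rw [pow_one, pow_one] at this
  rw [this, orderOf_eq_one_iff]

section field
variable {F : Type*} [Field F] [Fintype F]

theorem exists_pow_eq_of_not_dvd (r : ℕ) [Fact r.Prime] (hr : ¬ r ∣ Fintype.card F - 1) (c : F) :
    ∃ d : F, d ^ r = c := by
  classical
  by_cases hc : c = 0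
  · exact ⟨0, by rw [hc, zero_pow (Fact.out : r.Prime).ne_zero]⟩
  · have hcop : Nat.Coprime (Nat.card Fˣ) r := by
      rw [Nat.card_eq_fintype_card, Fintype.card_units]
      exact (Nat.Coprime.symm ((Fact.out : r.Prime).coprime_iff_not_dvd.mpr hr))
    obtain ⟨d, hd⟩ := (powCoprime hcop).surjective (Units.mk0 c hc)
    refine ⟨(d : F), ?_⟩
    have := congrArg Units.val hd
    simpa using this

theorem eq_one_of_pow_eq_one_of_not_dvd (r : ℕ) [Fact r.Prime] (hr : ¬ r ∣ Fintype.card F - 1)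
    (u : F) (hu : u ^ r = 1) : u = 1 := by
  classical
  have hu0 : u ≠ 0 := by
    intro h; rw [h, zero_pow (Fact.out : r.Prime).ne_zero] at hu; exact zero_ne_one hu
  have hcop : Nat.Coprime (Nat.card Fˣ) r := by
    rw [Nat.card_eq_fintype_card, Fintype.card_units]
    exact (Nat.Coprime.symm ((Fact.out : r.Prime).coprime_iff_not_dvd.mpr hr))
  have h1 : (powCoprime hcop) (Units.mk0 u hu0) = (powCoprime hcop) 1 := by
    apply Units.ext
    simp [hu]
  have := (powCoprime hcop).injective h1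
  have := congrArg Units.val this
  simpa using this

/-- `u^n' = 1` with `v_r(n') < v_r(q-1)` forces `u` to be an `r`-th power. -/
theorem exists_pow_eq_of_pow_eq_one (r : ℕ) [Fact r.Prime] (u : F) (n' : ℕ) (hn' : n' ≠ 0)
    (hu : u ^ n' = 1) (hv : padicValNat r n' < padicValNat r (Fintype.card F - 1)) :
    ∃ b : F, b ^ r = u := by
  classical
  have hr : r.Prime := Fact.out
  have hu0 : u ≠ 0 := by
    intro h; rw [h, zero_pow hn'] at hu; exact zero_ne_one hu
  obtain ⟨γ, hγ⟩ := IsCyclic.exists_monoid_generator (α := Fˣ)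
  have hord : orderOf γ = Fintype.card F - 1 := by
    rw [← Fintype.card_units, ← Nat.card_eq_fintype_card]
    apply orderOf_eq_card_of_forall_mem_zpowers
    intro x
    obtain ⟨k, hk⟩ := hγ x
    exact ⟨k, by simpa using hk⟩
  obtain ⟨k, hk⟩ := hγ (Units.mk0 u hu0)
  have hk' : γ ^ k = Units.mk0 u hu0 := hk
  by_cases hk0 : k = 0
  · refine ⟨1, ?_⟩
    rw [hk0, pow_zero] at hk'
    have := congrArg Units.val hk'
    simp at this
    rw [one_pow]; exact this
  have h1 : γ ^ (k * n') = 1 := by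
    rw [pow_mul, hk']
    apply Units.ext
    simpa using hu
  have h2 : Fintype.card F - 1 ∣ k * n' := by
    rw [← hord]; exact orderOf_dvd_of_pow_eq_one h1
  have h3 : r ∣ k := by
    by_contra hrk
    have h4 : r ^ padicValNat r (Fintype.card F - 1) ∣ k * n' :=
      (pow_padicValNat_dvd).trans h2
    have h5 := (padicValNat_dvd_iff_le (mul_ne_zero hk0 hn')).mp h4
    rw [padicValNat.mul hk0 hn', padicValNat.eq_zero_of_not_dvd hrk] at h5
    omega
  obtain ⟨k', rfl⟩ := h3
  refine ⟨((γ ^ k' : Fˣ) : F), ?_⟩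
  have := congrArg Units.val hk'
  rw [Units.val_mk0] at this
  rw [← this]
  push_cast
  rw [← pow_mul, mul_comm]

/-- existence of a non-`r`-th-power `c` with `((-1)^(r+1) c)^(n/r) = 1` when the arithmetic
condition fails. -/
theorem exists_bad_scalar (r : ℕ) [Fact r.Prime] (hrq : r ∣ Fintype.card F - 1) (n : ℕ)
    (hn : n ≠ 0)
    (hcond : ¬ (padicValNat r n ≤ padicValNat r (Fintype.card F - 1) ∧
      (r = 2 → Even n → Fintype.card F % 4 = 1))) :
    r ∣ n ∧ ∃ c : F, (∀ b : F, b ^ r ≠ c) ∧ ((-1) ^ (r + 1) * c) ^ (n / r) = 1 := by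
  classical
  have hr : r.Prime := Fact.out
  have hq1 : 1 < Fintype.card F := Fintype.one_lt_card
  have hq0 : Fintype.card F - 1 ≠ 0 := by omega
  by_cases hB : (r = 2 → Even n → Fintype.card F % 4 = 1)
  · -- then `v_r(n) > v_r(q-1)`
    have hA : padicValNat r (Fintype.card F - 1) < padicValNat r n := by
      by_contra h
      exact hcond ⟨by omega, hB⟩
    set a := padicValNat r (Fintype.card F - 1) with ha
    have ha1 : 1 ≤ a := one_le_padicValNat_of_dvd hq0 hrq
    have h1 : r ^ (a + 1) ∣ n := (padicValNat_dvd_iff_le hn).mpr hA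
    have hrn : r ∣ n := (dvd_pow_self r (by omega)).trans h1
    refine ⟨hrn, ?_⟩
    obtain ⟨n', rfl⟩ := hrn
    have hn'0 : n' ≠ 0 := by rintro rfl; simp at hn
    rw [Nat.mul_div_cancel_left _ hr.pos]
    have h2 : r ^ a ∣ n' := by
      rw [pow_succ'] at h1
      exact Nat.dvd_of_mul_dvd_mul_left hr.pos h1
    -- the generator
    obtain ⟨γ, hγ⟩ := IsCyclic.exists_monoid_generator (α := Fˣ)
    have hord : orderOf γ = Fintype.card F - 1 := by
      rw [← Fintype.card_units, ← Nat.card_eq_fintype_card]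
      apply orderOf_eq_card_of_forall_mem_zpowers
      intro x
      obtain ⟨k, hk⟩ := hγ x
      exact ⟨k, by simpa using hk⟩
    obtain ⟨w, hw⟩ : r ^ a ∣ Fintype.card F - 1 := pow_padicValNat_dvd
    have hwr : ¬ r ∣ w := by
      intro hrw
      have h3 : r ^ (a + 1) ∣ Fintype.card F - 1 := by
        rw [hw, pow_succ]; exact Nat.mul_dvd_mul_left _ hrw
      have := (padicValNat_dvd_iff_le hq0).mp h3
      omega
    have hw0 : w ≠ 0 := by rintro rfl; simp at hwr
    refine ⟨((γ ^ w : Fˣ) : F), ?_, ?_⟩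
    · intro b hb
      have hb0 : b ≠ 0 := by
        intro h
        rw [h, zero_pow hr.ne_zero] at hb
        exact (Units.ne_zero _) hb.symm
      -- `(γ^w)^((q-1)/r) = 1`
      have h4 : ((γ ^ w : Fˣ) : F) ^ (r ^ (a - 1) * w) = 1 := by
        rw [← hb, ← pow_mul]
        have : r * (r ^ (a - 1) * w) = Fintype.card F - 1 := by
          rw [hw, ← mul_assoc, ← pow_succ']
          congr 2; omega
        rw [this]
        exact FiniteField.pow_card_sub_one_eq_one b hb0
      have h5 : (γ ^ w) ^ (r ^ (a - 1) * w) = 1 := by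
        apply Units.ext
        rw [Units.val_pow_eq_pow_val]; exact h4
      rw [← pow_mul] at h5
      have h6 := orderOf_dvd_of_pow_eq_one h5
      rw [hord, hw] at h6
      have h7 : r ^ a * w = r ^ (a - 1) * w * r := by
        have : a = (a - 1) + 1 := by omega
        conv_lhs => rw [this, pow_succ]
        ring
      rw [h7, mul_comm w (r ^ (a - 1) * w)] at h6
      have h8 : 0 < r ^ (a - 1) * w := Nat.mul_pos (pow_pos hr.pos _) (Nat.pos_of_ne_zero hw0)
      exact hwr (Nat.dvd_of_mul_dvd_mul_left h8 h6)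
    · have h3 : ((γ ^ w : Fˣ) : F) ^ n' = 1 := by
        obtain ⟨n'', rfl⟩ := h2
        rw [← Units.val_pow_eq_pow_val, ← pow_mul, ← mul_assoc, mul_comm w, ← hw, pow_mul,
          ← hord, pow_orderOf_eq_one, one_pow]
        rfl
      rw [mul_pow, h3, mul_one, ← pow_mul]
      apply Even.neg_one_pow
      rcases hr.eq_two_or_odd' with h2' | hodd
      · subst h2'
        have : 2 ∣ n' := (dvd_pow_self 2 (by omega)).trans h2
        exact Even.mul_left (even_iff_two_dvd.mpr this) _
      · exact Even.mul_right (Odd.add_one hodd) _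
  · -- `r = 2`, `n` even, `q % 4 ≠ 1`
    simp only [Classical.not_imp] at hB
    obtain ⟨hr2, hne, hq4⟩ := hB
    subst hr2
    have hrn : 2 ∣ n := even_iff_two_dvd.mp hne
    refine ⟨hrn, -1, ?_, ?_⟩
    · intro b hb
      have hq3 : Fintype.card F % 4 = 3 := by
        obtain ⟨t, ht⟩ := hrq
        omega
      have h1 : IsSquare (-1 : F) := ⟨b, by rw [← hb, sq]⟩
      rw [FiniteField.isSquare_neg_one_iff] at h1
      exact h1 hq3
    · norm_num

/-- under the arithmetic condition there is no non-`r`-th power `c` with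
`((-1)^(r+1) c)^(n/r) = 1`. -/
theorem no_bad_scalar (r : ℕ) [Fact r.Prime] (n : ℕ) (hn : n ≠ 0)
    (hA : padicValNat r n ≤ padicValNat r (Fintype.card F - 1))
    (hB : r = 2 → Even n → Fintype.card F % 4 = 1) (hrn : r ∣ n) (c : F)
    (hc : ((-1) ^ (r + 1) * c) ^ (n / r) = 1) : ∃ b : F, b ^ r = c := by
  classical
  have hr : r.Prime := Fact.out
  obtain ⟨n', rfl⟩ := hrn
  have hn'0 : n' ≠ 0 := by rintro rfl; simp at hn
  rw [Nat.mul_div_cancel_left _ hr.pos] at hc
  have hv : padicValNat r n' < padicValNat r (Fintype.card F - 1) := by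
    rw [padicValNat.mul hr.ne_zero hn'0, padicValNat_self] at hA
    omega
  obtain ⟨b, hb⟩ := exists_pow_eq_of_pow_eq_one r _ n' hn'0 hc hv
  rcases hr.eq_two_or_odd' with h2 | hodd
  · subst h2
    have hq4 := hB rfl (even_two.mul_right n')
    have hsq : IsSquare (-1 : F) := by
      rw [FiniteField.isSquare_neg_one_iff]; omega
    obtain ⟨j, hj⟩ := hsq
    refine ⟨j * b, ?_⟩
    rw [mul_pow, hb, sq, ← hj]
    norm_num
  · refine ⟨b, ?_⟩
    rw [hb, Even.neg_one_pow (Odd.add_one hodd), one_mul]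

end field

end Cfsg.Agent.Helper42.Elusive
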