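import Mathlib
import Cfsg.Agent.Lib.Helper42.Elusive1
import Cfsg.Agent.Lib.Helper42.Elusive4
import Cfsg.Agent.Lib.Helper42.Elusive5
import Cfsg.Agent.Lib.Helper42.Elusive6
import Cfsg.Agent.Lib.Helper42.Elusive7

set_option autoImplicit false

/-! Assembly lemmas for the elusive-prime statements (linear map level). -/

namespace Cfsg.Agent.Helper42.Elusive

open Module Polynomial

section bridge
variable {F : Type*} [Field F]

/-- matrices of determinant one versus endomorphisms of determinant one -/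
theorem sl_forall_iff (n r : ℕ) (Q : Module.End F (Fin n → F) → Prop) :
    (∀ x : Matrix.SpecialLinearGroup (Fin n) F,
      (∃ c : F, ((x ^ r : Matrix.SpecialLinearGroup (Fin n) F) : Matrix (Fin n) (Fin n) F)
        = c • (1 : Matrix (Fin n) (Fin n) F)) →
      (∀ c : F, (x : Matrix (Fin n) (Fin n) F) ≠ c • (1 : Matrix (Fin n) (Fin n) F)) →
      Q (Matrix.toLin' (x : Matrix (Fin n) (Fin n) F))) ↔
    (∀ f : Module.End F (Fin n → F), LinearMap.det f = 1 → (∃ c : F, f ^ r = c • 1) →
      (∀ c : F, f ≠ c • 1) → Q f) := by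
  have hpow : ∀ (M : Matrix (Fin n) (Fin n) F) (c : F),
      M ^ r = c • 1 ↔ (Matrix.toLin' M) ^ r = c • 1 := by
    intro M c
    have h1 : (Matrix.toLin' M) ^ r = Matrix.toLin' (M ^ r) := by
      have := map_pow (Matrix.toLinAlgEquiv' (R := F) (n := Fin n)) M r
      exact this.symm
    have h2 : (c • 1 : Module.End F (Fin n → F)) = Matrix.toLin' (c • (1 : Matrix (Fin n) (Fin n) F)) := by
      rw [map_smul, Matrix.toLin'_one]; rfl
    rw [h1, h2]
    exact (Matrix.toLin'.injective.eq_iff).symm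
  have hsc : ∀ (M : Matrix (Fin n) (Fin n) F) (c : F),
      M = c • 1 ↔ (Matrix.toLin' M) = c • 1 := by
    intro M c
    have h2 : (c • 1 : Module.End F (Fin n → F)) = Matrix.toLin' (c • (1 : Matrix (Fin n) (Fin n) F)) := by
      rw [map_smul, Matrix.toLin'_one]; rfl
    rw [h2]
    exact (Matrix.toLin'.injective.eq_iff).symm
  constructor
  · intro h f hdet hc hns
    have hdet' : (LinearMap.toMatrix' f).det = 1 := by rw [LinearMap.det_toMatrix']; exact hdet
    have hff : Matrix.toLin' (LinearMap.toMatrix' f) = f := Matrix.toLin'_toMatrix' f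
    set x : Matrix.SpecialLinearGroup (Fin n) F := ⟨LinearMap.toMatrix' f, hdet'⟩ with hx
    have hxv : (x : Matrix (Fin n) (Fin n) F) = LinearMap.toMatrix' f := rfl
    have := h x ?_ ?_
    · rw [hxv, hff] at this; exact this
    · obtain ⟨c, hc⟩ := hc
      refine ⟨c, ?_⟩
      rw [Matrix.SpecialLinearGroup.coe_pow, hxv, hpow, hff]; exact hc
    · intro c hcon
      apply hns c
      rw [hxv, hsc, hff] at hcon; exact hcon
  · intro h x hc hns
    apply h
    · rw [LinearMap.det_toLin']; exact x.2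
    · obtain ⟨c, hc⟩ := hc
      refine ⟨c, ?_⟩
      rw [Matrix.SpecialLinearGroup.coe_pow, hpow] at hc
      exact hc
    · intro c hcon
      apply hns c
      rw [hsc]; exact hcon

end bridge

section arith

theorem exists_ts (n m i b c₀ : ℕ) (hn : c₀ + b * i = n) (hmn : m ≤ n)
    (hmod : m % i ≤ n % i) : ∃ t s : ℕ, t ≤ b ∧ s ≤ c₀ ∧ t * i + s = m := by
  have h1 : n % i = c₀ % i := by rw [← hn, Nat.add_mul_mod_self_right]
  have h2 : c₀ % i ≤ c₀ := Nat.mod_le _ _
  have h3 := Nat.div_add_mod m i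
  by_cases hb : m / i ≤ b
  · exact ⟨m / i, m % i, hb, by omega, by rw [mul_comm]; exact h3⟩
  · have h4 : b * i ≤ (m / i) * i := Nat.mul_le_mul_right i (by omega)
    have h5 : (m / i) * i ≤ m := Nat.div_mul_le_self m i
    exact ⟨b, m - b * i, le_rfl, by omega, by omega⟩

end arith

section scalars
variable {F : Type*} [Field F]

theorem smul_one_eq_iff (n : ℕ) (hn : 0 < n) (a b : F) :
    (a • (1 : Module.End F (Fin n → F)) = b • 1) ↔ a = b := by
  constructor
  · intro h
    have h1 := congrArg (fun g : Module.End F (Fin n → F) => g (fun _ => 1) ⟨0, hn⟩) h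
    simpa using h1
  · rintro rfl; rfl

theorem smul_one_pow' (n : ℕ) (a : F) (k : ℕ) :
    (a • (1 : Module.End F (Fin n → F))) ^ k = a ^ k • 1 := by
  rw [_root_.smul_pow, one_pow]

end scalars

end Cfsg.Agent.Helper42.Elusive
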