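import Mathlib
import Cfsg.Agent.Lib.Helper42.Elusive8

set_option autoImplicit false

/-! Main theorem on invariant `m`-subspaces (linear map level). -/

namespace Cfsg.Agent.Helper42.Elusive

open Module Polynomial

section main
variable {F : Type*} [Field F] [Fintype F]

theorem char_dvd_card (p : ℕ) [Fact p.Prime] [CharP F p] : p ∣ Fintype.card F :=
  (CharP.cast_eq_zero_iff F p _).mp (Nat.cast_card_eq_zero F)

theorem not_dvd_pow_sub_one_char (p : ℕ) [Fact p.Prime] [CharP F p] (j : ℕ) (hj : j ≠ 0) :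
    ¬ p ∣ Fintype.card F ^ j - 1 := by
  intro hd
  have hp : p.Prime := Fact.out
  have h1 : p ∣ Fintype.card F ^ j := dvd_pow (char_dvd_card p) hj
  have h2 : 1 ≤ Fintype.card F ^ j := Nat.one_le_pow _ _ Fintype.card_pos
  have h3 : Fintype.card F ^ j = (Fintype.card F ^ j - 1) + 1 := by omega
  rw [h3] at h1
  have := (Nat.dvd_add_right hd).mp h1
  exact hp.one_lt.ne' (Nat.dvd_one.mp this)

/-- the characteristic does not divide the number of `m`-subspaces -/
theorem not_dvd_card_grass_char (p : ℕ) [Fact p.Prime] [CharP F p] (n m : ℕ) (hmn : m ≤ n) :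
    ¬ p ∣ Nat.card {W : Submodule F (Fin n → F) // finrank F W = m} := by
  intro h
  obtain ⟨k, hk, hd⟩ := exists_dvd_of_dvd_card_grass (F := F) (V := Fin n → F) m
    (by rw [finrank_fin_fun]; exact hmn) p Fact.out h
  rw [finrank_fin_fun] at hd
  exact not_dvd_pow_sub_one_char p (n - k) (by omega) hd

/-- a prime `r ≠ p` dividing the number of `m`-subspaces: `n % i < m` -/
theorem mod_lt_of_dvd_card_grass (n m : ℕ) (hmn : m ≤ n) (r : ℕ) [Fact r.Prime]
    (h : r ∣ Nat.card {W : Submodule F (Fin n → F) // finrank F W = m}) :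
    n % orderOf ((Fintype.card F : ℕ) : ZMod r) < m := by
  obtain ⟨k, hk, hd⟩ := exists_dvd_of_dvd_card_grass (F := F) (V := Fin n → F) m
    (by rw [finrank_fin_fun]; exact hmn) r Fact.out h
  rw [finrank_fin_fun, ← orderOf_dvd_iff_dvd_pow_sub_one r _ _ Fintype.card_pos] at hd
  obtain ⟨j, hj⟩ := hd
  have h1 : n = k + orderOf ((Fintype.card F : ℕ) : ZMod r) * j := by omega
  have h2 : n % orderOf ((Fintype.card F : ℕ) : ZMod r)
      = k % orderOf ((Fintype.card F : ℕ) : ZMod r) := by
    conv_lhs => rw [h1]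
    exact Nat.add_mul_mod_self_left _ _ _
  have h3 := Nat.mod_le k (orderOf ((Fintype.card F : ℕ) : ZMod r))
  omega

/-- type A: an `r`-th root of an `r`-th power scalar has invariant subspaces -/
theorem exists_inv_typeA (p : ℕ) [Fact p.Prime] [CharP F p] (n m r : ℕ) [Fact r.Prime]
    (hrp : r ≠ p) (hmn : m ≤ n)
    (hmod : m % orderOf ((Fintype.card F : ℕ) : ZMod r)
      ≤ n % orderOf ((Fintype.card F : ℕ) : ZMod r))
    (f : Module.End F (Fin n → F)) (d : F) (hd : d ≠ 0) (hf : f ^ r = d ^ r • 1) :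
    ∃ W : Submodule F (Fin n → F), finrank F W = m ∧ W.map f ≤ W := by
  set i := orderOf ((Fintype.card F : ℕ) : ZMod r) with hi
  set y : Module.End F (Fin n → F) := d⁻¹ • f with hy
  have hyr : y ^ r = 1 := by
    rw [hy, _root_.smul_pow, hf, smul_smul, inv_pow, inv_mul_cancel₀ (pow_ne_zero r hd), one_smul]
  have hrF := natCast_ne_zero_of_ne (F := F) p r hrp
  have hsum := finrank_fixS_add_movS y r hrF hyr
  rw [finrank_fin_fun] at hsum
  obtain ⟨b, hb⟩ := dvd_finrank_of_le_movS p r hrp y hyr (movS y r) le_rfl (movS_invariant y r)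
  obtain ⟨t, s, ht, hs, hts⟩ := exists_ts n m i b (finrank F (fixS y))
    (by rw [hb] at hsum; rw [mul_comm]; exact hsum) hmn hmod
  obtain ⟨U, -, -, hU, -, hUd, -⟩ := exists_invariant_pair p r hrp y hyr t t s s le_rfl
    (by rw [hb, mul_comm]; exact Nat.mul_le_mul_left _ ht) le_rfl hs
  refine ⟨U, by rw [hUd, ← hi, hts], ?_⟩
  rintro _ ⟨u, hu, rfl⟩
  have h1 : f u = d • y u := by
    rw [hy, LinearMap.smul_apply, smul_smul, mul_inv_cancel₀ hd, one_smul]
  rw [h1]
  exact U.smul_mem _ (hU (Submodule.mem_map_of_mem hu))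

theorem natDegree_of_irreducible_dvd (P g : F[X]) (hP : Irreducible P) (hg : Irreducible g)
    (h : g ∣ P) : g.natDegree = P.natDegree :=
  natDegree_eq_of_degree_eq (degree_eq_degree_of_associated (hg.associated_of_dvd hP h))

/-- type B: invariant subspaces of dimension divisible by `r` -/
theorem exists_inv_typeB (n m r : ℕ) [Fact r.Prime] (c : F)
    (hirr : Irreducible (X ^ r - C c : F[X])) (f : Module.End F (Fin n → F))
    (hf : f ^ r = c • 1) (hrm : r ∣ m) (hmn : m ≤ n) :
    ∃ W : Submodule F (Fin n → F), finrank F W = m ∧ W.map f ≤ W := by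
  have hr : r.Prime := Fact.out
  have hPdeg : (X ^ r - C c : F[X]).natDegree = r := natDegree_X_pow_sub_C
  have haev := aeval_X_pow_sub_C f r c hf
  obtain ⟨k, rfl⟩ := hrm
  obtain ⟨Z, -, -, hZ, hZd⟩ := chain_ext_many f ⊤ le_top r hr.pos (X ^ r - C c) hirr.ne_zero
    (fun u _ => by rw [haev]; rfl)
    (fun g hg hgd => by rw [natDegree_of_irreducible_dvd _ g hirr hg hgd, hPdeg])
    (fun W _ hW => by
      have := natDegree_dvd_finrank_invariant _ hirr f haev W hW
      rwa [hPdeg] at this)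
    k ⊥ bot_le (by simp) (by simp; rw [mul_comm]; exact hmn)
  exact ⟨Z, by rw [hZd]; simp [mul_comm], hZ⟩

end main

end Cfsg.Agent.Helper42.Elusive
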