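import Mathlib
import Cfsg.Agent.Lib.Helper42.Elusive9

set_option autoImplicit false

/-! Main theorem on invariant `m`-subspaces (linear map level): the three implications. -/

namespace Cfsg.Agent.Helper42.Elusive

open Module Polynomial

section main
variable {F : Type*} [Field F] [Fintype F]

theorem exists_semisimple' (r : ℕ) [Fact r.Prime] (hrF : (r : F) ≠ 0) (g : F[X])
    (hg : Irreducible g) (hgd : g ∣ cyclotomic r F) (J e n : ℕ) (hn : n = J * g.natDegree + e) :
    ∃ f : Module.End F (Fin n → F), f ^ r = 1 ∧ finrank F (fixS f) = e := by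
  subst hn
  exact exists_semisimple r hrF g hg hgd J e

theorem exists_root_of_scalar' (r : ℕ) (c : F)
    (hP : Irreducible (X ^ r - C c : F[X])) (n : ℕ) (hrn : r ∣ n) :
    ∃ f : Module.End F (Fin n → F), f ^ r = c • 1 := by
  obtain ⟨n', hn'⟩ := hrn
  have : n = n' * r := by rw [hn', mul_comm]
  subst this
  exact exists_root_of_scalar r c hP n'

theorem exists_irreducible_factor_cyclotomic (r : ℕ) [Fact r.Prime] :
    ∃ g : F[X], Irreducible g ∧ g ∣ cyclotomic r F := by
  have hr : r.Prime := Fact.out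
  apply WfDvdMonoid.exists_irreducible_factor _ (cyclotomic_ne_zero r F)
  intro hu
  have h1 := natDegree_eq_zero_of_isUnit hu
  rw [natDegree_cyclotomic, Nat.totient_prime hr] at h1
  have := hr.two_le
  omega

theorem rhs_imp_lhs (p : ℕ) [Fact p.Prime] [CharP F p] (n m : ℕ) (hn : 2 ≤ n) (hmn : m ≤ n)
    (r : ℕ) [Fact r.Prime] (hrp : r ≠ p)
    (hR : (orderOf ((Fintype.card F : ℕ) : ZMod r) = 1 ∧ (r ∣ m ∨
        (padicValNat r n ≤ padicValNat r (Fintype.card F - 1) ∧
          (r = 2 → Even n → Fintype.card F % 4 = 1)))) ∨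
      (2 ≤ orderOf ((Fintype.card F : ℕ) : ZMod r) ∧
        orderOf ((Fintype.card F : ℕ) : ZMod r) ≤ m ∧
        m % orderOf ((Fintype.card F : ℕ) : ZMod r) ≤ n % orderOf ((Fintype.card F : ℕ) : ZMod r)))
    (f : Module.End F (Fin n → F)) (hdet : LinearMap.det f = 1) (c : F) (hf : f ^ r = c • 1) :
    ∃ W : Submodule F (Fin n → F), finrank F W = m ∧ W.map f ≤ W := by
  have hr : r.Prime := Fact.out
  have hmod : m % orderOf ((Fintype.card F : ℕ) : ZMod r)
      ≤ n % orderOf ((Fintype.card F : ℕ) : ZMod r) := by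
    rcases hR with ⟨h1, _⟩ | ⟨_, _, h⟩
    · rw [h1, Nat.mod_one, Nat.mod_one]
    · exact h
  by_cases hc : ∃ d : F, d ^ r = c
  · obtain ⟨d, rfl⟩ := hc
    have hd : d ≠ 0 := by
      rintro rfl
      haveI : Nonempty (Fin n) := ⟨⟨0, by omega⟩⟩
      have h1 : LinearMap.det (f ^ r) = 1 := by rw [map_pow, hdet, one_pow]
      rw [hf, zero_pow hr.ne_zero, zero_smul, LinearMap.det_zero' (Pi.basisFun F (Fin n))] at h1
      · exact zero_ne_one h1
    exact exists_inv_typeA p n m r hrp hmn hmod f d hd hf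
  · push Not at hc
    have hirr : Irreducible (X ^ r - C c : F[X]) := (X_pow_sub_C_irreducible_iff_of_prime hr).mpr hc
    rcases hR with ⟨h1, h2⟩ | ⟨h1, _, _⟩
    · rcases h2 with hrm | ⟨hA, hB⟩
      · exact exists_inv_typeB n m r c hirr f hf hrm hmn
      · exfalso
        have haev := aeval_X_pow_sub_C f r c hf
        have hrn : r ∣ n := by
          have := natDegree_dvd_finrank_of_aeval_eq_zero _ hirr f haev
          rwa [natDegree_X_pow_sub_C, finrank_fin_fun] at this
        have hdet' := det_of_pow_eq_smul f r hr.pos c hf hirr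
        rw [hdet, finrank_fin_fun] at hdet'
        obtain ⟨b, hb⟩ := no_bad_scalar r n (by omega) hA hB hrn c hdet'.symm
        exact hc b hb
    · exfalso
      have hnd : ¬ r ∣ Fintype.card F - 1 := by
        rw [← orderOf_eq_one_iff_dvd r _ Fintype.card_pos]; omega
      obtain ⟨d, hd⟩ := exists_pow_eq_of_not_dvd r hnd c
      exact hc d hd

theorem lhs_imp_rhs_one (n m : ℕ) (hn : 2 ≤ n)
    (r : ℕ) [Fact r.Prime] (hrq : r ∣ Fintype.card F - 1)
    (hL : ∀ f : Module.End F (Fin n → F), LinearMap.det f = 1 → (∃ c : F, f ^ r = c • 1) →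
      (∀ c : F, f ≠ c • 1) → ∃ W : Submodule F (Fin n → F), finrank F W = m ∧ W.map f ≤ W) :
    r ∣ m ∨ (padicValNat r n ≤ padicValNat r (Fintype.card F - 1) ∧
          (r = 2 → Even n → Fintype.card F % 4 = 1)) := by
  have hr : r.Prime := Fact.out
  by_contra hcon
  rw [not_or] at hcon
  obtain ⟨hrm, hcond⟩ := hcon
  obtain ⟨hrn, c, hc, hc1⟩ := exists_bad_scalar (F := F) r hrq n (by omega) hcond
  have hirr : Irreducible (X ^ r - C c : F[X]) := (X_pow_sub_C_irreducible_iff_of_prime hr).mpr hc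
  obtain ⟨f, hf⟩ := exists_root_of_scalar' r c hirr n hrn
  have hdet := det_of_pow_eq_smul f r hr.pos c hf hirr
  rw [finrank_fin_fun, hc1] at hdet
  have hns : ∀ d : F, f ≠ d • 1 := by
    rintro d rfl
    rw [smul_one_pow', smul_one_eq_iff n (by omega)] at hf
    exact hc d hf
  obtain ⟨W, hWd, hW⟩ := hL f hdet ⟨c, hf⟩ hns
  have := natDegree_dvd_finrank_invariant _ hirr f (aeval_X_pow_sub_C f r c hf) W hW
  rw [natDegree_X_pow_sub_C, hWd] at this
  exact hrm this

theorem lhs_imp_rhs_big (p : ℕ) [Fact p.Prime] [CharP F p] (n m : ℕ) (_hm : 1 ≤ m)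
    (hmn : 2 * m ≤ n) (r : ℕ) [Fact r.Prime] (hrp : r ≠ p)
    (hi2 : 2 ≤ orderOf ((Fintype.card F : ℕ) : ZMod r))
    (hlt : n % orderOf ((Fintype.card F : ℕ) : ZMod r) < m)
    (hL : ∀ f : Module.End F (Fin n → F), LinearMap.det f = 1 → (∃ c : F, f ^ r = c • 1) →
      (∀ c : F, f ≠ c • 1) → ∃ W : Submodule F (Fin n → F), finrank F W = m ∧ W.map f ≤ W) :
    orderOf ((Fintype.card F : ℕ) : ZMod r) ≤ m ∧
      m % orderOf ((Fintype.card F : ℕ) : ZMod r) ≤ n % orderOf ((Fintype.card F : ℕ) : ZMod r) := by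
  have hr : r.Prime := Fact.out
  set i := orderOf ((Fintype.card F : ℕ) : ZMod r) with hi
  have hrF := natCast_ne_zero_of_ne (F := F) p r hrp
  have hnd : ¬ r ∣ Fintype.card F - 1 := by
    rw [← orderOf_eq_one_iff_dvd r _ Fintype.card_pos]; omega
  obtain ⟨g, hg, hgd⟩ := exists_irreducible_factor_cyclotomic (F := F) r
  have hgdeg : g.natDegree = i := natDegree_irr_factor p r hrp g hg hgd
  have hne : n = (n / i) * g.natDegree + n % i := by
    rw [hgdeg]; exact (Nat.div_add_mod' n i).symm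
  obtain ⟨f, hfr, hfix⟩ := exists_semisimple' r hrF g hg hgd (n / i) (n % i) n hne
  have hdet : LinearMap.det f = 1 := by
    apply eq_one_of_pow_eq_one_of_not_dvd r hnd
    rw [← map_pow, hfr, map_one]
  have hns : ∀ d : F, f ≠ d • 1 := by
    rintro d rfl
    have h1 := hfr
    rw [smul_one_pow', ← one_smul F (1 : Module.End F (Fin n → F)), smul_smul, mul_one,
      smul_one_eq_iff n (by omega)] at h1
    have hd1 : d = 1 := eq_one_of_pow_eq_one_of_not_dvd r hnd d h1
    have h2 : fixS (d • (1 : Module.End F (Fin n → F))) = ⊤ := by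
      rw [eq_top_iff]; intro v _
      rw [mem_fixS, hd1, one_smul, Module.End.one_apply]
    rw [h2, finrank_top, finrank_fin_fun] at hfix
    have := Nat.mod_le n i
    omega
  obtain ⟨W, hWd, hW⟩ := hL f hdet ⟨1, by rw [hfr, one_smul]⟩ hns
  obtain ⟨t, ht⟩ := invariant_dim p r hrp f hfr W hW
  have hsum := finrank_fixS_add_movS f r hrF hfr
  rw [finrank_fin_fun, hfix] at hsum
  have h1 : finrank F (movS f r) ≤ finrank F ↥(W ⊔ movS f r) :=
    Submodule.finrank_mono le_sup_right
  have h2 : finrank F ↥(W ⊔ movS f r) ≤ n := by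
    have := Submodule.finrank_le (W ⊔ movS f r)
    rwa [finrank_fin_fun] at this
  rw [hWd, ← hi] at ht
  have hei : n % i < i := Nat.mod_lt _ (by omega)
  obtain ⟨s, hs⟩ : ∃ s, finrank F ↥(W ⊔ movS f r) = finrank F (movS f r) + s :=
    ⟨_, (Nat.add_sub_cancel' h1).symm⟩
  have hms : m = s + t * i := by omega
  have hse : s ≤ n % i := by omega
  have hmod : m % i = s := by
    rw [hms, Nat.add_mul_mod_self_right, Nat.mod_eq_of_lt (by omega)]
  refine ⟨?_, by omega⟩
  by_contra hcon
  have ht0 : t = 0 := by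
    by_contra ht0
    have : i ≤ t * i := Nat.le_mul_of_pos_left i (Nat.pos_of_ne_zero ht0)
    omega
  rw [ht0] at hms
  omega

end main

end Cfsg.Agent.Helper42.Elusive
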