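import Mathlib
import Cfsg.Agent.Lib.Helper42.Elusive1

set_option autoImplicit false

/-! Counting flags `U ≤ W` of prescribed dimensions. -/

namespace Cfsg.Agent.Helper42.Elusive

open Module

section flags
variable {F V : Type*} [Field F] [Fintype F] [AddCommGroup V] [Module F V] [Finite V]

/-- flags `U ≤ W` with `dim U = a`, `dim W = b`, fibred over `W` -/
noncomputable def flagEquiv (a b : ℕ) :
    {P : Submodule F V × Submodule F V // P.1 ≤ P.2 ∧ finrank F ↥P.1 = a ∧ finrank F ↥P.2 = b} ≃
      Σ W : {W : Submodule F V // finrank F W = b}, {U : Submodule F W.1 // finrank F U = a} where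
  toFun P := ⟨⟨P.1.2, P.2.2.2⟩, ⟨P.1.1.comap P.1.2.subtype, by
    rw [(Submodule.comapSubtypeEquivOfLe P.2.1).finrank_eq]; exact P.2.2.1⟩⟩
  invFun Q := ⟨(Q.2.1.map Q.1.1.subtype, Q.1.1), Submodule.map_subtype_le _ _, by
    rw [← (Submodule.equivSubtypeMap Q.1.1 Q.2.1).finrank_eq]; exact Q.2.2, Q.1.2⟩
  left_inv P := by
    apply Subtype.ext
    apply Prod.ext
    · show (P.1.1.comap P.1.2.subtype).map P.1.2.subtype = P.1.1
      rw [Submodule.map_comap_subtype, inf_eq_right]; exact P.2.1
    · rfl
  right_inv Q := by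
    obtain ⟨W, U⟩ := Q
    apply Sigma.ext
    · rfl
    · apply heq_of_eq
      apply Subtype.ext
      show (U.1.map W.1.subtype).comap W.1.subtype = U.1
      exact Submodule.comap_map_eq_of_injective (Submodule.subtype_injective _) _

/-- `#flags * [a]! = G(n,b) * ∏_{i<a} (q^(b-i) - 1)` -/
theorem card_flags_mul (a b : ℕ) (hab : a ≤ b) :
    Nat.card {P : Submodule F V × Submodule F V //
        P.1 ≤ P.2 ∧ finrank F ↥P.1 = a ∧ finrank F ↥P.2 = b} * qf (Fintype.card F) a
      = Nat.card {W : Submodule F V // finrank F W = b} * qB (Fintype.card F) b a := by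
  classical
  have : Fintype {W : Submodule F V // finrank F W = b} := Fintype.ofFinite _
  rw [Nat.card_congr (flagEquiv a b), Nat.card_sigma, Finset.sum_mul]
  have h : ∀ W : {W : Submodule F V // finrank F W = b},
      Nat.card {U : Submodule F W.1 // finrank F U = a} * qf (Fintype.card F) a
        = qB (Fintype.card F) b a := by
    intro W
    have := card_grass_mul_qf (F := F) (V := W.1) a (by rw [W.2]; exact hab)
    rw [W.2] at this
    exact this
  simp only [h, Finset.sum_const, Finset.card_univ, smul_eq_mul, Nat.card_eq_fintype_card]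

/-- a prime dividing the number of flags `U ≤ W`, `dim U = m`, `dim W = n - m` -/
theorem exists_dvd_of_dvd_card_flags (m : ℕ) (hm : 2 * m ≤ finrank F V) (r : ℕ) (hr : r.Prime)
    (h : r ∣ Nat.card {P : Submodule F V × Submodule F V //
        P.1 ≤ P.2 ∧ finrank F ↥P.1 = m ∧ finrank F ↥P.2 = finrank F V - m}) :
    (∃ k, k < m ∧ r ∣ Fintype.card F ^ (finrank F V - k) - 1) ∨
      (∃ k, k < m ∧ r ∣ Fintype.card F ^ (finrank F V - m - k) - 1) := by
  have h1 := card_flags_mul (F := F) (V := V) m (finrank F V - m) (by omega)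
  have h2 : r ∣ Nat.card {W : Submodule F V // finrank F W = finrank F V - m} *
      qB (Fintype.card F) (finrank F V - m) m := by
    rw [← h1]; exact Dvd.dvd.mul_right h _
  rcases (Nat.Prime.dvd_mul hr).mp h2 with h3 | h3
  · left
    exact exists_dvd_of_dvd_card_grass' m (by omega) r hr h3
  · right
    unfold qB at h3
    obtain ⟨k, hk, hd⟩ := (Prime.dvd_finsetProd_iff hr.prime _).mp h3
    exact ⟨k, Finset.mem_range.mp hk, hd⟩

end flags

end Cfsg.Agent.Helper42.Elusive
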