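import Mathlib
import Cfsg.Agent.Lib.Helper42.Elusive10
import Cfsg.Agent.Lib.Helper42.Elusive11

set_option autoImplicit false

/-! Flags `U ≤ W` of dimensions `m`, `n - m` invariant under elements of prime order. -/

namespace Cfsg.Agent.Helper42.Elusive

open Module Polynomial

section arith

theorem mod_add_mod_eq (n m i : ℕ) (hi : 0 < i) (hmn : m ≤ n) (hmod : 2 * (m % i) ≤ n % i) :
    m % i + (n - m) % i = n % i := by
  have h1 := Nat.div_add_mod m i
  have h2 := Nat.div_add_mod (n - m) i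
  have hμ : m % i < i := Nat.mod_lt _ hi
  have hν : (n - m) % i < i := Nat.mod_lt _ hi
  have h3 : n = i * (m / i + (n - m) / i) + (m % i + (n - m) % i) := by
    rw [Nat.mul_add]; omega
  have h4 : n % i = (m % i + (n - m) % i) % i := by
    conv_lhs => rw [h3]
    exact Nat.mul_add_mod _ _ _
  by_cases h5 : m % i + (n - m) % i < i
  · rw [Nat.mod_eq_of_lt h5] at h4; omega
  · have h6 : (m % i + (n - m) % i) % i = m % i + (n - m) % i - i := by
      rw [Nat.mod_eq_sub_mod (by omega), Nat.mod_eq_of_lt (by omega)]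
    omega

theorem exists_ts_pair (n m i b c₀ : ℕ) (hi : 0 < i) (hn : c₀ + b * i = n) (hmn : 2 * m ≤ n)
    (hmod : 2 * (m % i) ≤ n % i) :
    ∃ t₁ t₂ s₁ s₂ : ℕ, t₁ ≤ t₂ ∧ t₂ ≤ b ∧ s₁ ≤ s₂ ∧ s₂ ≤ c₀ ∧ t₁ * i + s₁ = m ∧
      t₂ * i + s₂ = n - m := by
  have hK := mod_add_mod_eq n m i hi (by omega) hmod
  have h1 := Nat.div_add_mod m i
  have h2 := Nat.div_add_mod (n - m) i
  have hμ : m % i < i := Nat.mod_lt _ hi
  have hν : (n - m) % i < i := Nat.mod_lt _ hi
  have he : n % i = c₀ % i := by rw [← hn, Nat.add_mul_mod_self_right]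
  have he' : c₀ % i ≤ c₀ := Nat.mod_le _ _
  have haa' : m / i ≤ (n - m) / i := Nat.div_le_div_right (by omega)
  rw [mul_comm] at hn
  by_cases hc1 : (n - m) / i ≤ b
  · refine ⟨m / i, (n - m) / i, m % i, (n - m) % i, haa', hc1, by omega, by omega, ?_, ?_⟩
    · rw [mul_comm]; exact h1
    · rw [mul_comm]; exact h2
  · by_cases hc2 : m / i ≤ b
    · have h3 : i * (b + 1) ≤ i * ((n - m) / i) := Nat.mul_le_mul_left i (by omega)
      rw [Nat.mul_add, mul_one] at h3
      refine ⟨m / i, b, m % i, n - m - i * b, hc2, le_rfl, by omega, by omega, ?_, ?_⟩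
      · rw [mul_comm]; exact h1
      · rw [mul_comm]; omega
    · have h3 : i * b ≤ i * (m / i) := Nat.mul_le_mul_left i (by omega)
      refine ⟨b, b, m - i * b, n - m - i * b, le_rfl, le_rfl, by omega, by omega, ?_, ?_⟩
      · rw [mul_comm]; omega
      · rw [mul_comm]; omega

end arith

section main
variable {F : Type*} [Field F] [Fintype F]

theorem exists_pair_typeA (p : ℕ) [Fact p.Prime] [CharP F p] (n m r : ℕ) [Fact r.Prime]
    (hrp : r ≠ p) (hmn : 2 * m ≤ n)
    (hmod : 2 * (m % orderOf ((Fintype.card F : ℕ) : ZMod r))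
      ≤ n % orderOf ((Fintype.card F : ℕ) : ZMod r))
    (f : Module.End F (Fin n → F)) (d : F) (hd : d ≠ 0) (hf : f ^ r = d ^ r • 1) :
    ∃ U W : Submodule F (Fin n → F), U ≤ W ∧ finrank F U = m ∧ finrank F W = n - m ∧
      U.map f ≤ U ∧ W.map f ≤ W := by
  set i := orderOf ((Fintype.card F : ℕ) : ZMod r) with hi
  have hi0 : 0 < i := orderOf_card_pos p r hrp
  set y : Module.End F (Fin n → F) := d⁻¹ • f with hy
  have hyr : y ^ r = 1 := by
    rw [hy, _root_.smul_pow, hf, smul_smul, inv_pow, inv_mul_cancel₀ (pow_ne_zero r hd), one_smul]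
  have hrF := natCast_ne_zero_of_ne (F := F) p r hrp
  have hsum := finrank_fixS_add_movS y r hrF hyr
  rw [finrank_fin_fun] at hsum
  obtain ⟨b, hb⟩ := dvd_finrank_of_le_movS p r hrp y hyr (movS y r) le_rfl (movS_invariant y r)
  obtain ⟨t₁, t₂, s₁, s₂, ht, ht2, hs, hs2, h1, h2⟩ := exists_ts_pair n m i b
    (finrank F (fixS y)) hi0 (by rw [hb] at hsum; rw [mul_comm]; exact hsum) hmn hmod
  obtain ⟨U, W, hUW, hU, hW, hUd, hWd⟩ := exists_invariant_pair p r hrp y hyr t₁ t₂ s₁ s₂ ht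
    (by rw [hb, mul_comm]; exact Nat.mul_le_mul_left _ ht2) hs hs2
  have hfy : ∀ (Z : Submodule F (Fin n → F)), Z.map y ≤ Z → Z.map f ≤ Z := by
    intro Z hZ
    rintro _ ⟨u, hu, rfl⟩
    have h1 : f u = d • y u := by
      rw [hy, LinearMap.smul_apply, smul_smul, mul_inv_cancel₀ hd, one_smul]
    rw [h1]
    exact Z.smul_mem _ (hZ (Submodule.mem_map_of_mem hu))
  exact ⟨U, W, hUW, by rw [hUd, ← hi, h1], by rw [hWd, ← hi, h2], hfy U hU, hfy W hW⟩

theorem exists_pair_typeB (n m r : ℕ) [Fact r.Prime] (c : F)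
    (hirr : Irreducible (X ^ r - C c : F[X])) (f : Module.End F (Fin n → F))
    (hf : f ^ r = c • 1) (hrm : r ∣ m) (hmn : 2 * m ≤ n) :
    ∃ U W : Submodule F (Fin n → F), U ≤ W ∧ finrank F U = m ∧ finrank F W = n - m ∧
      U.map f ≤ U ∧ W.map f ≤ W := by
  have hr : r.Prime := Fact.out
  have hPdeg : (X ^ r - C c : F[X]).natDegree = r := natDegree_X_pow_sub_C
  have haev := aeval_X_pow_sub_C f r c hf
  have hrn : r ∣ n := by
    have := natDegree_dvd_finrank_of_aeval_eq_zero _ hirr f haev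
    rwa [natDegree_X_pow_sub_C, finrank_fin_fun] at this
  have hch := chain_ext_many f ⊤ le_top r hr.pos (X ^ r - C c) hirr.ne_zero
    (fun u _ => by rw [haev]; rfl)
    (fun g hg hgd => by rw [natDegree_of_irreducible_dvd _ g hirr hg hgd, hPdeg])
    (fun W _ hW => by
      have := natDegree_dvd_finrank_invariant _ hirr f haev W hW
      rwa [hPdeg] at this)
  obtain ⟨k, rfl⟩ := hrm
  obtain ⟨k', hk'⟩ : r ∣ n - 2 * (r * k) :=
    (Nat.dvd_sub hrn (Dvd.dvd.mul_left (dvd_mul_right r k) 2))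
  obtain ⟨U, -, -, hU, hUd⟩ := hch k ⊥ bot_le (by simp)
    (by simp; rw [mul_comm]; omega)
  simp only [finrank_bot, zero_add] at hUd
  obtain ⟨W, hUW, -, hW, hWd⟩ := hch k' U le_top hU
    (by rw [hUd, finrank_top, finrank_fin_fun, mul_comm k' r, ← hk', mul_comm k r]; omega)
  refine ⟨U, W, hUW, by rw [hUd, mul_comm], ?_, hU, hW⟩
  rw [hWd, hUd, mul_comm k' r, ← hk', mul_comm k r]; omega

/-- the characteristic does not divide the number of flags -/
theorem not_dvd_card_flags_char (p : ℕ) [Fact p.Prime] [CharP F p] (n m : ℕ) (hmn : 2 * m < n) :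
    ¬ p ∣ Nat.card {P : Submodule F (Fin n → F) × Submodule F (Fin n → F) //
        P.1 ≤ P.2 ∧ finrank F ↥P.1 = m ∧ finrank F ↥P.2 = n - m} := by
  intro h
  have h' : p ∣ Nat.card {P : Submodule F (Fin n → F) × Submodule F (Fin n → F) //
      P.1 ≤ P.2 ∧ finrank F ↥P.1 = m ∧ finrank F ↥P.2 = finrank F (Fin n → F) - m} := by
    rw [finrank_fin_fun]; exact h
  rcases exists_dvd_of_dvd_card_flags (F := F) (V := Fin n → F) m
    (by rw [finrank_fin_fun]; omega) p Fact.out h' with ⟨k, hk, hd⟩ | ⟨k, hk, hd⟩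
  · rw [finrank_fin_fun] at hd
    exact not_dvd_pow_sub_one_char p (n - k) (by omega) hd
  · rw [finrank_fin_fun] at hd
    exact not_dvd_pow_sub_one_char p (n - m - k) (by omega) hd

/-- a prime dividing the number of flags: divisibility of `n - k` or `n - m - k` by `i` -/
theorem cases_of_dvd_card_flags (n m : ℕ) (hmn : 2 * m < n) (r : ℕ) [Fact r.Prime]
    (h : r ∣ Nat.card {P : Submodule F (Fin n → F) × Submodule F (Fin n → F) //
        P.1 ≤ P.2 ∧ finrank F ↥P.1 = m ∧ finrank F ↥P.2 = n - m}) :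
    (∃ k, k < m ∧ orderOf ((Fintype.card F : ℕ) : ZMod r) ∣ n - k) ∨
      (∃ k, k < m ∧ orderOf ((Fintype.card F : ℕ) : ZMod r) ∣ n - m - k) := by
  have h' : r ∣ Nat.card {P : Submodule F (Fin n → F) × Submodule F (Fin n → F) //
      P.1 ≤ P.2 ∧ finrank F ↥P.1 = m ∧ finrank F ↥P.2 = finrank F (Fin n → F) - m} := by
    rw [finrank_fin_fun]; exact h
  rcases exists_dvd_of_dvd_card_flags (F := F) (V := Fin n → F) m
    (by rw [finrank_fin_fun]; omega) r Fact.out h' with ⟨k, hk, hd⟩ | ⟨k, hk, hd⟩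
  · left
    rw [finrank_fin_fun, ← orderOf_dvd_iff_dvd_pow_sub_one r _ _ Fintype.card_pos] at hd
    exact ⟨k, hk, hd⟩
  · right
    rw [finrank_fin_fun, ← orderOf_dvd_iff_dvd_pow_sub_one r _ _ Fintype.card_pos] at hd
    exact ⟨k, hk, hd⟩

end main

end Cfsg.Agent.Helper42.Elusive
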