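import Mathlib
import Cfsg.Agent.Lib.Helper42.Elusive12

set_option autoImplicit false

/-! Flags: the implications of the main theorem (linear map level). -/

namespace Cfsg.Agent.Helper42.Elusive

open Module Polynomial

section main
variable {F : Type*} [Field F] [Fintype F]

theorem rhs_imp_lhs_flags (p : ℕ) [Fact p.Prime] [CharP F p] (n m : ℕ) (hn : 2 ≤ n)
    (hmn : 2 * m < n)
    (r : ℕ) [Fact r.Prime] (hrp : r ≠ p)
    (hR : (orderOf ((Fintype.card F : ℕ) : ZMod r) = 1 ∧ (r ∣ m ∨
        (padicValNat r n ≤ padicValNat r (Fintype.card F - 1) ∧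
          (r = 2 → Even n → Fintype.card F % 4 = 1)))) ∨
      (2 ≤ orderOf ((Fintype.card F : ℕ) : ZMod r) ∧
        orderOf ((Fintype.card F : ℕ) : ZMod r) ≤ m ∧
        2 * (m % orderOf ((Fintype.card F : ℕ) : ZMod r))
          ≤ n % orderOf ((Fintype.card F : ℕ) : ZMod r)))
    (f : Module.End F (Fin n → F)) (hdet : LinearMap.det f = 1) (c : F) (hf : f ^ r = c • 1) :
    ∃ U W : Submodule F (Fin n → F), U ≤ W ∧ finrank F U = m ∧ finrank F W = n - m ∧
      U.map f ≤ U ∧ W.map f ≤ W := by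
  have hr : r.Prime := Fact.out
  have hmod : 2 * (m % orderOf ((Fintype.card F : ℕ) : ZMod r))
      ≤ n % orderOf ((Fintype.card F : ℕ) : ZMod r) := by
    rcases hR with ⟨h1, _⟩ | ⟨_, _, h⟩
    · rw [h1, Nat.mod_one, Nat.mod_one]
    · exact h
  by_cases hc : ∃ d : F, d ^ r = c
  · obtain ⟨d, rfl⟩ := hc
    have hd : d ≠ 0 := by
      rintro rfl
      haveI : Nonempty (Fin n) := ⟨⟨0, by omega⟩⟩
      have h1 : LinearMap.det (f ^ r) = 1 := by rw [map_pow, hdet, one_pow]
      rw [hf, zero_pow hr.ne_zero, zero_smul, LinearMap.det_zero' (Pi.basisFun F (Fin n))] at h1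
      · exact zero_ne_one h1
    exact exists_pair_typeA p n m r hrp (by omega) hmod f d hd hf
  · push Not at hc
    have hirr : Irreducible (X ^ r - C c : F[X]) := (X_pow_sub_C_irreducible_iff_of_prime hr).mpr hc
    rcases hR with ⟨h1, h2⟩ | ⟨h1, _, _⟩
    · rcases h2 with hrm | ⟨hA, hB⟩
      · exact exists_pair_typeB n m r c hirr f hf hrm (by omega)
      · exfalso
        have haev := aeval_X_pow_sub_C f r c hf
        have hrn : r ∣ n := by
          have := natDegree_dvd_finrank_of_aeval_eq_zero _ hirr f haev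
          rwa [natDegree_X_pow_sub_C, finrank_fin_fun] at this
        have hdet' := det_of_pow_eq_smul f r hr.pos c hf hirr
        rw [hdet, finrank_fin_fun] at hdet'
        obtain ⟨b, hb⟩ := no_bad_scalar r n (by omega) hA hB hrn c hdet'.symm
        exact hc b hb
    · exfalso
      have hnd : ¬ r ∣ Fintype.card F - 1 := by
        rw [← orderOf_eq_one_iff_dvd r _ Fintype.card_pos]; omega
      obtain ⟨d, hd⟩ := exists_pow_eq_of_not_dvd r hnd c
      exact hc d hd

theorem lhs_imp_rhs_big_flags (p : ℕ) [Fact p.Prime] [CharP F p] (n m : ℕ) (hm : 1 ≤ m)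
    (hmn : 2 * m < n) (r : ℕ) [Fact r.Prime] (hrp : r ≠ p)
    (hi2 : 2 ≤ orderOf ((Fintype.card F : ℕ) : ZMod r))
    (hΩ : (∃ k, k < m ∧ orderOf ((Fintype.card F : ℕ) : ZMod r) ∣ n - k) ∨
      (∃ k, k < m ∧ orderOf ((Fintype.card F : ℕ) : ZMod r) ∣ n - m - k))
    (hL : ∀ f : Module.End F (Fin n → F), LinearMap.det f = 1 → (∃ c : F, f ^ r = c • 1) →
      (∀ c : F, f ≠ c • 1) → ∃ U W : Submodule F (Fin n → F), U ≤ W ∧ finrank F U = m ∧
        finrank F W = n - m ∧ U.map f ≤ U ∧ W.map f ≤ W) :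
    orderOf ((Fintype.card F : ℕ) : ZMod r) ≤ m ∧
      2 * (m % orderOf ((Fintype.card F : ℕ) : ZMod r))
        ≤ n % orderOf ((Fintype.card F : ℕ) : ZMod r) := by
  have hr : r.Prime := Fact.out
  set i := orderOf ((Fintype.card F : ℕ) : ZMod r) with hi
  have hrF := natCast_ne_zero_of_ne (F := F) p r hrp
  have hnd : ¬ r ∣ Fintype.card F - 1 := by
    rw [← orderOf_eq_one_iff_dvd r _ Fintype.card_pos]; omega
  -- `i ≤ n`
  have hin : i ≤ n := by
    by_contra hcon
    rcases hΩ with ⟨k, hk, j, hj⟩ | ⟨k, hk, j, hj⟩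
    · have hj0 : 0 < j := by
        rcases Nat.eq_zero_or_pos j with h | h
        · rw [h, mul_zero] at hj; omega
        · exact h
      have := Nat.le_mul_of_pos_right i hj0
      omega
    · have hj0 : 0 < j := by
        rcases Nat.eq_zero_or_pos j with h | h
        · rw [h, mul_zero] at hj; omega
        · exact h
      have := Nat.le_mul_of_pos_right i hj0
      omega
  have hei : n % i < i := Nat.mod_lt _ (by omega)
  obtain ⟨g, hg, hgd⟩ := exists_irreducible_factor_cyclotomic (F := F) r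
  have hgdeg : g.natDegree = i := natDegree_irr_factor p r hrp g hg hgd
  have hne : n = (n / i) * g.natDegree + n % i := by
    rw [hgdeg]; exact (Nat.div_add_mod' n i).symm
  obtain ⟨f, hfr, hfix⟩ := exists_semisimple' r hrF g hg hgd (n / i) (n % i) n hne
  have hdet : LinearMap.det f = 1 := by
    apply eq_one_of_pow_eq_one_of_not_dvd r hnd
    rw [← map_pow, hfr, map_one]
  have hns : ∀ d : F, f ≠ d • 1 := by
    rintro d rfl
    have h1 := hfr
    rw [smul_one_pow', ← one_smul F (1 : Module.End F (Fin n → F)), smul_smul, mul_one,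
      smul_one_eq_iff n (by omega)] at h1
    have hd1 : d = 1 := eq_one_of_pow_eq_one_of_not_dvd r hnd d h1
    have h2 : fixS (d • (1 : Module.End F (Fin n → F))) = ⊤ := by
      rw [eq_top_iff]; intro v _
      rw [mem_fixS, hd1, one_smul, Module.End.one_apply]
    rw [h2, finrank_top, finrank_fin_fun] at hfix
    omega
  obtain ⟨U, W, hUW, hUd, hWd, hU, hW⟩ := hL f hdet ⟨1, by rw [hfr, one_smul]⟩ hns
  obtain ⟨tU, htU⟩ := invariant_dim p r hrp f hfr U hU
  obtain ⟨tW, htW⟩ := invariant_dim p r hrp f hfr W hW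
  have hsum := finrank_fixS_add_movS f r hrF hfr
  rw [finrank_fin_fun, hfix] at hsum
  have h1 : finrank F (movS f r) ≤ finrank F ↥(U ⊔ movS f r) :=
    Submodule.finrank_mono le_sup_right
  have h2 : finrank F ↥(U ⊔ movS f r) ≤ finrank F ↥(W ⊔ movS f r) :=
    Submodule.finrank_mono (sup_le_sup_right hUW _)
  have h3 : finrank F ↥(W ⊔ movS f r) ≤ n := by
    have := Submodule.finrank_le (W ⊔ movS f r)
    rwa [finrank_fin_fun] at this
  rw [hUd, ← hi] at htU
  rw [hWd, ← hi] at htW
  obtain ⟨sU, hsU⟩ : ∃ s, finrank F ↥(U ⊔ movS f r) = finrank F (movS f r) + s :=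
    ⟨_, (Nat.add_sub_cancel' h1).symm⟩
  obtain ⟨sW, hsW⟩ : ∃ s, finrank F ↥(W ⊔ movS f r) = finrank F (movS f r) + s :=
    ⟨_, (Nat.add_sub_cancel' (h1.trans h2)).symm⟩
  have hmU : m = sU + tU * i := by omega
  have hmW : n - m = sW + tW * i := by omega
  have hsUW : sU ≤ sW := by omega
  have hsWe : sW ≤ n % i := by omega
  have hmodU : m % i = sU := by
    rw [hmU, Nat.add_mul_mod_self_right, Nat.mod_eq_of_lt (by omega)]
  have hmodW : (n - m) % i = sW := by
    rw [hmW, Nat.add_mul_mod_self_right, Nat.mod_eq_of_lt (by omega)]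
  have hnmod : n % i = (sU + sW) % i := by
    have h4 : n = m + (n - m) := by omega
    conv_lhs => rw [h4]
    rw [Nat.add_mod, hmodU, hmodW]
  have h2mod : 2 * (m % i) ≤ n % i := by
    rw [hmodU]
    by_cases h5 : sU + sW < i
    · rw [Nat.mod_eq_of_lt h5] at hnmod; omega
    · have h6 : (sU + sW) % i = sU + sW - i := by
        rw [Nat.mod_eq_sub_mod (by omega), Nat.mod_eq_of_lt (by omega)]
      omega
  refine ⟨?_, h2mod⟩
  by_contra hcon
  have hmi : m % i = m := Nat.mod_eq_of_lt (by omega)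
  rw [hmi] at h2mod
  rcases hΩ with ⟨k, hk, j, hj⟩ | ⟨k, hk, j, hj⟩
  · have h4 : n = k + i * j := by omega
    have h5 : n % i = k % i := by
      conv_lhs => rw [h4]
      exact Nat.add_mul_mod_self_left _ _ _
    rw [Nat.mod_eq_of_lt (show k < i by omega)] at h5
    omega
  · have h4 : n = (m + k) + i * j := by omega
    have h5 : n % i = (m + k) % i := by
      conv_lhs => rw [h4]
      exact Nat.add_mul_mod_self_left _ _ _
    rw [Nat.mod_eq_of_lt (show m + k < i by omega)] at h5
    omega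

end main

end Cfsg.Agent.Helper42.Elusive
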