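import Mathlib
import Cfsg.Agent.Lib.Helper42.Elusive1

set_option autoImplicit false

/-! Counting complements of a subspace and complementary pairs. -/

namespace Cfsg.Agent.Helper42.Elusive

open Module

section compl
variable {F V : Type*} [Field F] [Fintype F] [AddCommGroup V] [Module F V] [Finite V]

/-- restriction of maps `V → U` to `U` -/
noncomputable def resU (U : Submodule F V) : (V →ₗ[F] U) →ₗ[F] (U →ₗ[F] U) :=
  LinearMap.lcomp F U U.subtype

theorem resU_apply (U : Submodule F V) (g : V →ₗ[F] U) (x : U) : resU U g x = g (x : V) := rfl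

theorem resU_surjective (U : Submodule F V) : Function.Surjective (resU U) := by
  obtain ⟨W₀, hW₀⟩ := exists_isCompl U
  intro a
  refine ⟨a ∘ₗ Submodule.projectionOnto U W₀ hW₀, ?_⟩
  apply LinearMap.ext
  intro x
  rw [resU_apply, LinearMap.comp_apply, Submodule.projectionOnto_apply_left]

theorem finrank_ker_resU (U : Submodule F V) :
    finrank F (LinearMap.ker (resU U)) = finrank F U * (finrank F V - finrank F U) := by
  have h1 := LinearMap.finrank_range_add_finrank_ker (resU U)
  rw [LinearMap.range_eq_top.mpr (resU_surjective U), finrank_top, Module.finrank_linearMap,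
    Module.finrank_linearMap] at h1
  have h2 : finrank F U ≤ finrank F V := Submodule.finrank_le U
  have h3 : finrank F V * finrank F U
      = finrank F U * finrank F U + finrank F U * (finrank F V - finrank F U) := by
    rw [← Nat.mul_add, Nat.add_sub_cancel' h2, mul_comm]
  omega

/-- projections onto `U` form a coset of `ker (resU U)` -/
noncomputable def projEquivKer (U : Submodule F V) :
    {f : V →ₗ[F] U // ∀ x : U, f x = x} ≃ LinearMap.ker (resU U) :=
  let W₀ := Classical.choose (exists_isCompl U)
  let hW₀ : IsCompl U W₀ := Classical.choose_spec (exists_isCompl U)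
  let π₀ := Submodule.projectionOnto U W₀ hW₀
  { toFun := fun f => ⟨f.1 - π₀, by
      rw [LinearMap.mem_ker]
      apply LinearMap.ext
      intro x
      rw [resU_apply, LinearMap.sub_apply, f.2 x, Submodule.projectionOnto_apply_left]
      simp⟩
    invFun := fun g => ⟨g.1 + π₀, by
      intro x
      have h := g.2
      rw [LinearMap.mem_ker] at h
      have h2 := congrArg (fun a : U →ₗ[F] U => a x) h
      simp only [resU_apply, LinearMap.zero_apply] at h2
      rw [LinearMap.add_apply, h2, Submodule.projectionOnto_apply_left, zero_add]⟩
    left_inv := fun f => by apply Subtype.ext; simp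
    right_inv := fun g => by apply Subtype.ext; simp }

theorem card_compl (U : Submodule F V) :
    Nat.card {W : Submodule F V // IsCompl U W}
      = Fintype.card F ^ (finrank F U * (finrank F V - finrank F U)) := by
  rw [Nat.card_congr (Submodule.isComplEquivProj U), Nat.card_congr (projEquivKer U),
    Module.natCard_eq_pow_finrank (K := F), finrank_ker_resU, Nat.card_eq_fintype_card]

/-- complementary pairs fibred over the first component -/
def pairEquiv (m : ℕ) :
    {P : Submodule F V × Submodule F V // IsCompl P.1 P.2 ∧ finrank F ↥P.1 = m} ≃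
      Σ U : {U : Submodule F V // finrank F U = m}, {W : Submodule F V // IsCompl U.1 W} where
  toFun P := ⟨⟨P.1.1, P.2.2⟩, ⟨P.1.2, P.2.1⟩⟩
  invFun Q := ⟨(Q.1.1, Q.2.1), Q.2.2, Q.1.2⟩
  left_inv _ := rfl
  right_inv _ := rfl

theorem card_pairs (m : ℕ) :
    Nat.card {P : Submodule F V × Submodule F V // IsCompl P.1 P.2 ∧ finrank F ↥P.1 = m}
      = Nat.card {U : Submodule F V // finrank F U = m} *
        Fintype.card F ^ (m * (finrank F V - m)) := by
  classical
  have : Fintype {U : Submodule F V // finrank F U = m} := Fintype.ofFinite _
  rw [Nat.card_congr (pairEquiv m), Nat.card_sigma]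
  have h : ∀ U : {U : Submodule F V // finrank F U = m},
      Nat.card {W : Submodule F V // IsCompl U.1 W}
        = Fintype.card F ^ (m * (finrank F V - m)) := by
    intro U
    rw [card_compl, U.2]
  simp only [h, Finset.sum_const, Finset.card_univ, smul_eq_mul, Nat.card_eq_fintype_card]

end compl

end Cfsg.Agent.Helper42.Elusive
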