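import Mathlib
import Cfsg.Agent.Lib.Helper42.Elusive10
import Cfsg.Agent.Lib.Helper42.Elusive14

set_option autoImplicit false

/-! Complementary pairs, the case `r ≠ p`: semisimplicity gives invariant complements. -/

namespace Cfsg.Agent.Helper42.Elusive

open Module Polynomial

section ss
variable {F V : Type*} [Field F] [AddCommGroup V] [Module F V]

theorem exists_invariant_compl (f : Module.End F V) (P : F[X]) (hP : Squarefree P)
    (hf : aeval f P = 0) (U : Submodule F V) (hU : U.map f ≤ U) :
    ∃ W : Submodule F V, IsCompl U W ∧ W.map f ≤ W := by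
  have hss := Module.End.isSemisimple_of_squarefree_aeval_eq_zero hP hf
  rw [Module.End.isSemisimple_iff] at hss
  obtain ⟨W, hW, hc⟩ := hss U (Submodule.map_le_iff_le_comap.mp hU)
  exact ⟨W, hc, Submodule.map_le_iff_le_comap.mpr hW⟩

end ss

section main
variable {F : Type*} [Field F] [Fintype F]

theorem exists_compl_of_pow_eq_smul (p : ℕ) [Fact p.Prime] [CharP F p] (n : ℕ) (hn : 0 < n)
    (r : ℕ) [Fact r.Prime]
    (hrp : r ≠ p) (f : Module.End F (Fin n → F)) (hdet : LinearMap.det f = 1) (c : F)
    (hf : f ^ r = c • 1) (U : Submodule F (Fin n → F)) (hU : U.map f ≤ U) :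
    ∃ W : Submodule F (Fin n → F), IsCompl U W ∧ W.map f ≤ W := by
  have hr : r.Prime := Fact.out
  have hc : c ≠ 0 := by
    rintro rfl
    haveI : Nonempty (Fin n) := ⟨⟨0, hn⟩⟩
    have h1 : LinearMap.det (f ^ r) = 1 := by rw [map_pow, hdet, one_pow]
    rw [hf, zero_smul, LinearMap.det_zero' (Pi.basisFun F (Fin n))] at h1
    exact zero_ne_one h1
  have hsep : (X ^ r - C c : F[X]).Separable :=
    separable_X_pow_sub_C c (natCast_ne_zero_of_ne p r hrp) hc
  exact exists_invariant_compl f _ hsep.squarefree (aeval_X_pow_sub_C f r c hf) U hU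

/-- for `r ≠ p`, `r` dividing the number of complementary pairs divides the number of
`m`-subspaces -/
theorem dvd_card_grass_of_dvd_card_pairs (p : ℕ) [Fact p.Prime] [CharP F p] (n m : ℕ)
    (r : ℕ) [Fact r.Prime] (hrp : r ≠ p)
    (h : r ∣ Nat.card {P : Submodule F (Fin n → F) × Submodule F (Fin n → F) //
      IsCompl P.1 P.2 ∧ finrank F ↥P.1 = m}) :
    r ∣ Nat.card {W : Submodule F (Fin n → F) // finrank F W = m} := by
  have hr : r.Prime := Fact.out
  have hp : p.Prime := Fact.out
  rw [card_pairs] at h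
  rcases (Nat.Prime.dvd_mul hr).mp h with h1 | h1
  · exact h1
  · exfalso
    have h2 := hr.dvd_of_dvd_pow h1
    obtain ⟨k, -, hk⟩ := FiniteField.card F p
    rw [hk] at h2
    have h3 := hr.dvd_of_dvd_pow h2
    exact hrp ((Nat.prime_dvd_prime_iff_eq hr hp).mp h3)

end main

end Cfsg.Agent.Helper42.Elusive
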