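import Mathlib
import Cfsg.Agent.Lib.Helper42.Jordan4
import Cfsg.Agent.Lib.Helper42.Elusive8

set_option autoImplicit false

/-! Complementary pairs, the unipotent case `r = p`: Jordan types are additive over invariant
decompositions. -/

namespace Cfsg.Agent.Helper42.Elusive

open Module Polynomial Cfsg.Agent.Helper42.Jordan

universe u

section charp
variable {F : Type u} [Field F] {V : Type u} [AddCommGroup V] [Module F V]

theorem end_sub_one_pow_char (p : ℕ) [Fact p.Prime] [CharP F p] (y : Module.End F V) :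
    (y - 1) ^ p = y ^ p - 1 := by
  have h := sub_pow_char (X : F[X]) 1 (p := p)
  have h2 := congrArg (aeval y) h
  simpa using h2

theorem end_one_add_pow_char (p : ℕ) [Fact p.Prime] [CharP F p] (T : Module.End F V) :
    (1 + T) ^ p = 1 + T ^ p := by
  have h := add_pow_char (1 : F[X]) X p
  have h2 := congrArg (aeval T) h
  simpa using h2

/-- list of sizes: all parts at most `k` iff `rk T k = 0` -/
theorem parts_le_of_sum_eq_zero (L : List ℕ) (k : ℕ) (h : (L.map (fun e => e - k)).sum = 0) :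
    ∀ e ∈ L, e ≤ k := by
  intro e he
  have h1 := List.sum_eq_zero_iff.mp h (e - k) (List.mem_map.mpr ⟨e, he, rfl⟩)
  omega

theorem sum_eq_zero_of_parts_le (M : Multiset ℕ) (k : ℕ) (h : ∀ e ∈ M, e ≤ k) :
    (M.map (fun e => e - k)).sum = 0 := by
  rw [Multiset.sum_eq_zero_iff]
  intro x hx
  obtain ⟨e, he, rfl⟩ := Multiset.mem_map.mp hx
  have := h e he
  omega

variable [FiniteDimensional F V]

/-- existence of an invariant complementary pair from a sub-multiset of the Jordan type -/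
theorem exists_compl_pair_of_sub (N : Module.End F V) (hN : IsNilpotent N) (L : List ℕ)
    (hL : ∀ k, rk N k = (L.map (fun e => e - k)).sum) (ν : Multiset ℕ) (hν : ν ≤ (L : Multiset ℕ)) :
    ∃ U W : Submodule F V, IsCompl U W ∧ finrank F U = ν.sum ∧ U.map N ≤ U ∧ W.map N ≤ W := by
  set κ : Multiset ℕ := (L : Multiset ℕ) - ν with hκ
  have hsum : ν + κ = (L : Multiset ℕ) := by rw [hκ]; exact add_tsub_cancel_of_le hν
  obtain ⟨V₁, i1, i2, i3, T₁, hf₁, hr₁⟩ := exists_model (K := F) ν.toList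
  obtain ⟨V₂, j1, j2, j3, T₂, hf₂, hr₂⟩ := exists_model (K := F) κ.toList
  have hrk : ∀ k, rk N k = rk (T₁.prodMap T₂) k := by
    intro k
    rw [rk_prodMap, hr₁ k, hr₂ k, hL k, ← Multiset.sum_coe, ← Multiset.sum_coe, ← Multiset.sum_coe,
      ← Multiset.map_coe, ← Multiset.map_coe, ← Multiset.map_coe, Multiset.coe_toList,
      Multiset.coe_toList, ← hsum, Multiset.map_add, Multiset.sum_add]
  obtain ⟨P, hP⟩ := exists_conj_of_rk_eq (K := F) (finrank F V) V (V₁ × V₂) N (T₁.prodMap T₂) rfl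
    hN hrk
  have hc : IsCompl ((LinearMap.range (LinearMap.inl F V₁ V₂)).comap (P : V →ₗ[F] V₁ × V₂))
      ((LinearMap.range (LinearMap.inr F V₁ V₂)).comap (P : V →ₗ[F] V₁ × V₂)) :=
    (Submodule.orderIsoMapComap P).symm.isCompl LinearMap.isCompl_range_inl_inr
  refine ⟨_, _, hc, ?_, ?_, ?_⟩
  · rw [Submodule.comap_equiv_eq_map_symm, LinearEquiv.finrank_map_eq,
      LinearMap.finrank_range_of_inj LinearMap.inl_injective, hf₁,
      ← Multiset.sum_coe, Multiset.coe_toList]
  · rintro _ ⟨x, hx, rfl⟩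
    obtain ⟨v, hv⟩ := hx
    show P (N x) ∈ LinearMap.range (LinearMap.inl F V₁ V₂)
    refine ⟨T₁ v, ?_⟩
    rw [hP]
    have hv' : P x = LinearMap.inl F V₁ V₂ v := hv.symm
    rw [hv']
    simp
  · rintro _ ⟨x, hx, rfl⟩
    obtain ⟨v, hv⟩ := hx
    show P (N x) ∈ LinearMap.range (LinearMap.inr F V₁ V₂)
    refine ⟨T₂ v, ?_⟩
    rw [hP]
    have hv' : P x = LinearMap.inr F V₁ V₂ v := hv.symm
    rw [hv']
    simp

/-- additivity of the Jordan type over an invariant decomposition -/
theorem exists_sub_of_compl_pair (N : Module.End F V) (hN : IsNilpotent N) (μ : Multiset ℕ)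
    (hμ0 : ∀ e ∈ μ, 0 < e)
    (hμ : ∀ k, rk N k = (μ.map (fun e => e - k)).sum) (U W : Submodule F V) (hUW : IsCompl U W)
    (hU : U.map N ≤ U) (hW : W.map N ≤ W) :
    ∃ ν : Multiset ℕ, ν ≤ μ ∧ ν.sum = finrank F U := by
  have hU' : ∀ x ∈ U, N x ∈ U := fun x hx => hU (Submodule.mem_map_of_mem hx)
  have hW' : ∀ x ∈ W, N x ∈ W := fun x hx => hW (Submodule.mem_map_of_mem hx)
  set TU : Module.End F U := N.restrict hU' with hTU
  set TW : Module.End F W := N.restrict hW' with hTW
  obtain ⟨k₀, hk₀⟩ := hN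
  have hnilU : IsNilpotent TU := ⟨k₀, by
    rw [hTU, Module.End.pow_restrict k₀]
    apply LinearMap.ext; intro x; apply Subtype.ext
    rw [LinearMap.restrict_apply]; simp [hk₀]⟩
  have hnilW : IsNilpotent TW := ⟨k₀, by
    rw [hTW, Module.End.pow_restrict k₀]
    apply LinearMap.ext; intro x; apply Subtype.ext
    rw [LinearMap.restrict_apply]; simp [hk₀]⟩
  obtain ⟨LU, hLU0, hLUs, hLUr⟩ := exists_list_rk (K := F) (finrank F U) U TU rfl hnilU
  obtain ⟨LW, hLW0, hLWs, hLWr⟩ := exists_list_rk (K := F) (finrank F W) W TW rfl hnilW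
  have hconj : ∀ k, rk (TU.prodMap TW) k = rk N k := by
    intro k
    apply rk_conj (TU.prodMap TW) N (Submodule.prodEquivOfIsCompl U W hUW)
    rintro ⟨u, w⟩
    simp only [LinearMap.prodMap_apply, Submodule.coe_prodEquivOfIsCompl', map_add]
    rfl
  have hμeq : μ = (LU : Multiset ℕ) + (LW : Multiset ℕ) := by
    apply multiset_eq_of_sums _ _ hμ0
    · intro e he
      rcases Multiset.mem_add.mp he with h | h
      · exact hLU0 e (by simpa using h)
      · exact hLW0 e (by simpa using h)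
    · intro k
      rw [← hμ k, ← hconj k, rk_prodMap, hLUr k, hLWr k, Multiset.map_add, Multiset.sum_add]
      simp
  refine ⟨(LU : Multiset ℕ), ?_, by simpa using hLUs⟩
  rw [hμeq]
  exact Multiset.le_add_right _ _

end charp

end Cfsg.Agent.Helper42.Elusive
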