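import Mathlib
import Cfsg.Agent.Lib.Helper42.Elusive16

set_option autoImplicit false

/-! Complementary pairs, the unipotent case `r = p`: the two implications and the
combinatorics for `p = 2`. -/

namespace Cfsg.Agent.Helper42.Elusive

open Module Polynomial Cfsg.Agent.Helper42.Jordan

universe u

section unip
variable {F : Type u} [Field F] [Fintype F]

theorem unip_rhs_imp_lhs (p : ℕ) [Fact p.Prime] [CharP F p] (n m : ℕ) (hn : 0 < n)
    (hcomb : ∀ μ : Multiset ℕ, (∀ a ∈ μ, 0 < a ∧ a ≤ p) → μ.sum = n →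
      ∃ ν : Multiset ℕ, ν ≤ μ ∧ ν.sum = m)
    (f : Module.End F (Fin n → F)) (hdet : LinearMap.det f = 1) (c : F) (hf : f ^ p = c • 1) :
    ∃ U W : Submodule F (Fin n → F), IsCompl U W ∧ finrank F U = m ∧ U.map f ≤ U ∧
      W.map f ≤ W := by
  have hp : p.Prime := Fact.out
  have hc : c ≠ 0 := by
    rintro rfl
    haveI : Nonempty (Fin n) := ⟨⟨0, hn⟩⟩
    have h1 : LinearMap.det (f ^ p) = 1 := by rw [map_pow, hdet, one_pow]
    rw [hf, zero_smul, LinearMap.det_zero' (Pi.basisFun F (Fin n))] at h1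
    exact zero_ne_one h1
  obtain ⟨d, hd⟩ := surjective_frobenius F p c
  rw [frobenius_def] at hd
  have hd0 : d ≠ 0 := by
    rintro rfl
    rw [zero_pow hp.ne_zero] at hd; exact hc hd.symm
  set y : Module.End F (Fin n → F) := d⁻¹ • f with hy
  have hyp : y ^ p = 1 := by
    rw [hy, _root_.smul_pow, hf, smul_smul, inv_pow, hd, inv_mul_cancel₀ hc, one_smul]
  set N : Module.End F (Fin n → F) := y - 1 with hNdef
  have hNp : N ^ p = 0 := by rw [hNdef, end_sub_one_pow_char p y, hyp, sub_self]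
  have hN : IsNilpotent N := ⟨p, hNp⟩
  obtain ⟨L, hL0, hLs, hLr⟩ := exists_list_rk (K := F) n (Fin n → F) N (by simp) hN
  have hLp : ∀ e ∈ L, e ≤ p := by
    apply parts_le_of_sum_eq_zero
    rw [← hLr p, rk_eq_zero_iff]; exact hNp
  obtain ⟨ν, hν, hνs⟩ := hcomb (L : Multiset ℕ)
    (fun a ha => ⟨hL0 a (by simpa using ha), hLp a (by simpa using ha)⟩) (by simpa using hLs)
  obtain ⟨U, W, hUW, hUd, hU, hW⟩ := exists_compl_pair_of_sub N hN L hLr ν hν
  have hfN : ∀ (Z : Submodule F (Fin n → F)), Z.map N ≤ Z → Z.map f ≤ Z := by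
    intro Z hZ
    rintro _ ⟨x, hx, rfl⟩
    have h1 : f x = d • (N x + x) := by
      rw [hNdef, hy, LinearMap.sub_apply, LinearMap.smul_apply, Module.End.one_apply,
        sub_add_cancel, smul_smul, mul_inv_cancel₀ hd0, one_smul]
    rw [h1]
    exact Z.smul_mem _ (Z.add_mem (hZ (Submodule.mem_map_of_mem hx)) hx)
  exact ⟨U, W, hUW, by rw [hUd, hνs], hfN U hU, hfN W hW⟩

theorem unip_lhs_imp_rhs (p : ℕ) [Fact p.Prime] [CharP F p] (n m : ℕ) (hn : 0 < n) (hmn : m ≤ n)
    (hL : ∀ f : Module.End F (Fin n → F), LinearMap.det f = 1 → (∃ c : F, f ^ p = c • 1) →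
      (∀ c : F, f ≠ c • 1) → ∃ U W : Submodule F (Fin n → F), IsCompl U W ∧ finrank F U = m ∧
        U.map f ≤ U ∧ W.map f ≤ W)
    (μ : Multiset ℕ) (hμ : ∀ a ∈ μ, 0 < a ∧ a ≤ p) (hsum : μ.sum = n) :
    ∃ ν : Multiset ℕ, ν ≤ μ ∧ ν.sum = m := by
  have hp : p.Prime := Fact.out
  by_cases hall : ∀ a ∈ μ, a = 1
  · have h1 : μ = Multiset.replicate (Multiset.card μ) 1 := Multiset.eq_replicate_card.mpr hall
    have h2 : Multiset.card μ = n := by
      rw [h1, Multiset.sum_replicate, smul_eq_mul, mul_one] at hsum; exact hsum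
    refine ⟨Multiset.replicate m 1, ?_, by rw [Multiset.sum_replicate, smul_eq_mul, mul_one]⟩
    rw [h1, h2]
    exact Multiset.replicate_le_replicate 1 |>.mpr hmn
  · push Not at hall
    obtain ⟨a₀, ha₀, ha₀1⟩ := hall
    obtain ⟨Nm, hNm⟩ := exists_matrix (K := F) n μ.toList (by
      rw [← Multiset.sum_coe, Multiset.coe_toList]; exact hsum)
    set T : Module.End F (Fin n → F) := Matrix.toLin' Nm with hT
    have hμr : ∀ k, rk T k = (μ.map (fun e => e - k)).sum := by
      intro k
      rw [hNm k, ← Multiset.sum_coe, ← Multiset.map_coe, Multiset.coe_toList]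
    have hTp : T ^ p = 0 := by
      rw [← rk_eq_zero_iff, hμr p]
      exact sum_eq_zero_of_parts_le μ p (fun e he => (hμ e he).2)
    have hnil : IsNilpotent T := ⟨p, hTp⟩
    set f : Module.End F (Fin n → F) := 1 + T with hfdef
    have hfp : f ^ p = 1 := by rw [hfdef, end_one_add_pow_char p T, hTp, add_zero]
    have hdet : LinearMap.det f = 1 := by
      have h1 : (LinearMap.det f) ^ p = 1 := by rw [← map_pow, hfp, map_one]
      have h2 : (LinearMap.det f - 1) ^ p = 0 := by
        rw [sub_pow_char, h1, one_pow, sub_self]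
      exact sub_eq_zero.mp (pow_eq_zero_iff hp.ne_zero |>.mp h2)
    have hns : ∀ c : F, f ≠ c • 1 := by
      intro c hc
      have hT1 : T = (c - 1) • 1 := by
        have : T = f - 1 := by rw [hfdef]; abel
        rw [this, hc]; apply LinearMap.ext; intro v; simp [_root_.sub_smul]
      have h1 := hTp
      rw [hT1, smul_one_pow', ← zero_smul F (1 : Module.End F (Fin n → F)),
        smul_one_eq_iff n hn] at h1
      have h2 : c - 1 = 0 := pow_eq_zero_iff hp.ne_zero |>.mp h1
      have hT0 : T ^ 1 = 0 := by rw [pow_one, hT1, h2, zero_smul]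
      rw [← rk_eq_zero_iff, hμr 1] at hT0
      have h3 := Multiset.sum_eq_zero_iff.mp hT0 (a₀ - 1) (Multiset.mem_map.mpr ⟨a₀, ha₀, rfl⟩)
      have := (hμ a₀ ha₀).1
      omega
    obtain ⟨U, W, hUW, hUd, hU, hW⟩ := hL f hdet ⟨1, by rw [hfp, one_smul]⟩ hns
    have hTf : ∀ (Z : Submodule F (Fin n → F)), Z.map f ≤ Z → Z.map T ≤ Z := by
      intro Z hZ
      rintro _ ⟨x, hx, rfl⟩
      have h1 : T x = f x - x := by
        rw [hfdef, LinearMap.add_apply, Module.End.one_apply]; abel
      rw [h1]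
      exact Z.sub_mem (hZ (Submodule.mem_map_of_mem hx)) hx
    obtain ⟨ν, hν, hνs⟩ := exists_sub_of_compl_pair T hnil μ (fun e he => (hμ e he).1) hμr U W hUW
      (hTf U hU) (hTf W hW)
    exact ⟨ν, hν, by rw [hνs, hUd]⟩

end unip

section comb

theorem sum_eq_of_parts_le_two (μ : Multiset ℕ) (h : ∀ x ∈ μ, 0 < x ∧ x ≤ 2) :
    μ.sum = 2 * Multiset.count 2 μ + Multiset.count 1 μ := by
  induction μ using Multiset.induction_on with
  | empty => simp
  | cons a μ ih =>
    have ha := h a (Multiset.mem_cons_self a μ)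
    have ih' := ih (fun x hx => h x (Multiset.mem_cons_of_mem hx))
    rw [Multiset.sum_cons, Multiset.count_cons, Multiset.count_cons, ih']
    have : a = 1 ∨ a = 2 := by omega
    rcases this with rfl | rfl
    · simp; omega
    · simp; omega

theorem comb_two_iff (n m : ℕ) (hmn : m ≤ n) :
    (∀ μ : Multiset ℕ, (∀ a ∈ μ, 0 < a ∧ a ≤ 2) → μ.sum = n →
      ∃ ν : Multiset ℕ, ν ≤ μ ∧ ν.sum = m) ↔ (Odd n ∨ Even m) := by
  constructor
  · intro h
    by_contra hcon
    rw [not_or, Nat.not_odd_iff_even, Nat.not_even_iff_odd] at hcon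
    obtain ⟨hne, hmo⟩ := hcon
    obtain ⟨t, ht⟩ := hne
    obtain ⟨ν, hν, hνs⟩ := h (Multiset.replicate t 2)
      (fun a ha => by rw [Multiset.eq_of_mem_replicate ha]; omega)
      (by rw [Multiset.sum_replicate, smul_eq_mul]; omega)
    have h1 : ∀ x ∈ ν, x = 2 := fun x hx => Multiset.eq_of_mem_replicate (Multiset.mem_of_le hν hx)
    have h2 : ν = Multiset.replicate (Multiset.card ν) 2 := Multiset.eq_replicate_card.mpr h1
    rw [h2, Multiset.sum_replicate, smul_eq_mul] at hνs
    obtain ⟨s, hs⟩ := hmo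
    omega
  · intro h μ hμ hsum
    have hs := sum_eq_of_parts_le_two μ hμ
    set a := Multiset.count 2 μ with ha
    set b := Multiset.count 1 μ with hb
    obtain ⟨a', b', ha', hb', hab⟩ : ∃ a' b' : ℕ, a' ≤ a ∧ b' ≤ b ∧ 2 * a' + b' = m := by
      rcases Nat.even_or_odd m with ⟨t, ht⟩ | ⟨t, ht⟩
      · by_cases hta : t ≤ a
        · exact ⟨t, 0, hta, by omega, by omega⟩
        · exact ⟨a, m - 2 * a, le_rfl, by omega, by omega⟩
      · have hno : Odd n := by
          rcases h with h | h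
          · exact h
          · exfalso; obtain ⟨s, hs'⟩ := h; omega
        obtain ⟨s, hs'⟩ := hno
        by_cases hta : t ≤ a
        · exact ⟨t, 1, hta, by omega, by omega⟩
        · exact ⟨a, m - 2 * a, le_rfl, by omega, by omega⟩
    refine ⟨Multiset.replicate a' 2 + Multiset.replicate b' 1, ?_, ?_⟩
    · rw [Multiset.le_iff_count]
      intro x
      rw [Multiset.count_add, Multiset.count_replicate, Multiset.count_replicate]
      by_cases hx2 : x = 2
      · subst hx2; simp; omega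
      · by_cases hx1 : x = 1
        · subst hx1; simp; omega
        · rw [if_neg (Ne.symm hx2), if_neg (Ne.symm hx1)]; omega
    · rw [Multiset.sum_add, Multiset.sum_replicate, Multiset.sum_replicate, smul_eq_mul,
        smul_eq_mul]
      omega

end comb

end Cfsg.Agent.Helper42.Elusive
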