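import Mathlib
import Cfsg.Agent.Lib.Helper52.FCDefs
import Cfsg.Agent.Lib.Helper52.Coprime
import Cfsg.Agent.Lib.Helper52.CoprimeSylow
import Cfsg.Agent.Lib.Helper55.FrobFree2

/-!
# FC server (helper52, S3816): piece (R1a) `card_le_sq`  (helper42)
-/

set_option autoImplicit false

namespace Cfsg.Agent.Helper42.FC

open Subgroup Cfsg.Agent.Helper52.FC
open scoped commutatorElement

universe u

variable {G : Type u} [Group G]

/-- a subgroup all of whose elements conjugate `W` into `W` normalises `W`. -/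
theorem r1a_le_normalizer (K W : Subgroup G) (h : ∀ y ∈ K, ∀ x ∈ W, y * x * y⁻¹ ∈ W) :
    K ≤ normalizer (W : Set G) := by
  intro y hy
  rw [mem_normalizer_iff]
  intro x
  constructor
  · intro hx; exact h y hy x hx
  · intro hx
    have := h y⁻¹ (K.inv_mem hy) _ hx
    have e : y⁻¹ * (y * x * y⁻¹) * y⁻¹⁻¹ = x := by group
    rwa [e] at this

theorem r1a_inv_pow {a : G} {X : Subgroup G} (hX : Inv a X) (k : ℕ) :
    ∀ x ∈ X, a ^ k * x * (a ^ k)⁻¹ ∈ X := by
  induction k with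
  | zero => intro x hx; simpa using hx
  | succ k ih =>
    intro x hx
    have h1 := hX _ (ih x hx)
    have e : a * (a ^ k * x * (a ^ k)⁻¹) * a⁻¹ = a ^ (k + 1) * x * (a ^ (k + 1))⁻¹ := by
      rw [pow_succ']; group
    rwa [e] at h1

theorem r1a_zpowers_le_normalizer {p : ℕ} {a : G} (hpow : a ^ p = 1) (hp : 0 < p) {X : Subgroup G}
    (hX : Inv a X) : zpowers a ≤ normalizer (X : Set G) := by
  have ha : a ∈ normalizer (X : Set G) := by
    rw [mem_normalizer_iff]
    intro x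
    constructor
    · intro hx; exact hX x hx
    · intro hx
      have h1 := r1a_inv_pow hX (p - 1) _ hx
      have e1 : a ^ (p - 1) * a = 1 := by
        rw [← pow_succ, Nat.sub_add_cancel hp, hpow]
      have e2 : a ^ (p - 1) = a⁻¹ := eq_inv_of_mul_eq_one_left e1
      rw [e2] at h1
      have e : a⁻¹ * (a * x * a⁻¹) * a⁻¹⁻¹ = x := by group
      rwa [e] at h1
  exact (zpowers_le).mpr ha

theorem r1a_relIndex_mul_card {K L : Subgroup G} (h : K ≤ L) :
    K.relIndex L * Nat.card K = Nat.card L := by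
  have := Subgroup.relIndex_mul_relIndex (⊥ : Subgroup G) K L bot_le h
  rw [Subgroup.relIndex_bot_left, Subgroup.relIndex_bot_left] at this
  rw [mul_comm]; exact this

/-- product formula: if `K` normalizes `H` then `|HK| |H ∩ K| = |H| |K|`. -/
theorem r1a_card_sup_mul_card_inf [Finite G] (H K : Subgroup G)
    (hK : K ≤ normalizer (H : Set G)) :
    Nat.card ↥(H ⊔ K) * Nat.card ↥(H ⊓ K) = Nat.card H * Nat.card K := by
  set N := normalizer (H : Set G) with hN
  have hHN : H ≤ N := le_normalizer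
  have : (H.subgroupOf N).Normal := normal_in_normalizer
  have hKH : K ⊔ H ≤ N := sup_le hK hHN
  have h1 : (H.subgroupOf N).relIndex (K.subgroupOf N ⊔ H.subgroupOf N) =
      (H.subgroupOf N).relIndex (K.subgroupOf N) := Subgroup.relIndex_sup_right _ _
  rw [← Subgroup.subgroupOf_sup hK hHN, Subgroup.relIndex_subgroupOf hKH,
    Subgroup.relIndex_subgroupOf hK] at h1
  have h2 : H.relIndex (K ⊔ H) * Nat.card H = Nat.card ↥(K ⊔ H) :=
    r1a_relIndex_mul_card le_sup_right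
  have h3 : H.relIndex K * Nat.card ↥(H ⊓ K) = Nat.card K := by
    rw [← Subgroup.inf_relIndex_right]; exact r1a_relIndex_mul_card inf_le_right
  rw [sup_comm, ← h2, ← h3, h1]; ring

theorem r1a_card_sup_of_inf_bot [Finite G] (H K : Subgroup G)
    (hK : K ≤ normalizer (H : Set G)) (hHK : H ⊓ K = ⊥) :
    Nat.card ↥(H ⊔ K) = Nat.card H * Nat.card K := by
  have h := r1a_card_sup_mul_card_inf H K hK
  rw [hHK, Subgroup.card_bot, mul_one] at h
  exact h

set_option maxHeartbeats 1600000 in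
/-- (R1a) -/
theorem card_le_sq [Finite G] {p : ℕ} {a : G} {H : Subgroup G} (mx : MCX p G a H) (V : Subgroup G) (hV : MinNormal a H V) (hVab : Ab V)
    (L : Subgroup G) (l₀ : G) (hl₀ : l₀ ∈ L) (hL : L = Lh a l₀) (hLH : L ≤ H) (hVL : V ⊔ L = H) (hVL' : V ⊓ L = ⊥)
    (hcop : (Nat.card V).Coprime (Nat.card L)) : Nat.card V ≤ Nat.card (V ⊓ Fix a : Subgroup G) ^ 2 := by
  classical
  have hyp := mx.mc.hyp
  have hp : p.Prime := mx.mc.hp
  have hpow : a ^ p = 1 := hyp.pow
  set P : Subgroup G := zpowers a with hP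
  have hHV : H ≤ normalizer (V : Set G) := r1a_le_normalizer H V hV.norm
  have hPV : P ≤ normalizer (V : Set G) := r1a_zpowers_le_normalizer hpow hp.pos hV.inv
  have hcardP : Nat.card P ∣ p := by
    rw [hP, Nat.card_zpowers]; exact orderOf_dvd_of_pow_eq_one hpow
  have hHP : (Nat.card H).Coprime (Nat.card P) := Nat.Coprime.coprime_dvd_right hcardP hyp.cop
  have hVP : (Nat.card V).Coprime (Nat.card P) :=
    Nat.Coprime.coprime_dvd_left (card_dvd_of_le hV.le) hHP
  have hsolvV : Group.IsSolvable V := by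
    have := hyp.sol
    exact Group.isSolvable_of_isSolvable_injective (Subgroup.inclusion_injective hV.le)
  -- general facts for a complement `X = Lh a h`
  have key : ∀ X : Subgroup G, X ≤ H → Inv a X → V ⊔ X = H → V ⊓ X = ⊥ →
      Nat.card ↥(X ⊔ P) = Nat.card X * Nat.card P ∧ Nat.card H = Nat.card V * Nat.card X := by
    intro X hXH hXa hVX hVX'
    have hPX : P ≤ normalizer (X : Set G) := r1a_zpowers_le_normalizer hpow hp.pos hXa
    have hXP : (Nat.card X).Coprime (Nat.card P) :=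
      Nat.Coprime.coprime_dvd_left (card_dvd_of_le hXH) hHP
    have h1 := r1a_card_sup_of_inf_bot X P hPX (disjoint_iff.mp (Subgroup.disjoint_of_coprime_natCard hXP))
    have h2 := r1a_card_sup_of_inf_bot V X (hXH.trans hHV) hVX'
    have h3 : Nat.card ↥(V ⊔ X) = Nat.card ↥H := by rw [hVX]
    exact ⟨h1, by rw [← h3, h2]⟩
  have hLa : Inv a L := by rw [hL]; exact mx.Lh_inv l₀
  obtain ⟨hY0card, hHcard0⟩ := key L hLH hLa hVL hVL'
  have hl₀H : l₀ ∈ H := hLH hl₀
  -- the two conjugates of `a`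
  set b : G := l₀⁻¹ * a * l₀ with hb
  have hbV : ∀ x ∈ V, b⁻¹ * x * b ∈ V := by
    intro x hx
    have h1 : l₀ * x * l₀⁻¹ ∈ V := hV.norm l₀ hl₀H x hx
    have h2 : a⁻¹ * (l₀ * x * l₀⁻¹) * a ∈ V := by
      have := (mem_normalizer_iff.mp (hPV (P.inv_mem (mem_zpowers a))) (l₀ * x * l₀⁻¹)).mp h1
      simpa using this
    have h3 := hV.norm l₀⁻¹ (H.inv_mem hl₀H) _ h2
    have e : l₀⁻¹ * (a⁻¹ * (l₀ * x * l₀⁻¹) * a) * l₀⁻¹⁻¹ = b⁻¹ * x * b := by
      rw [hb]; group
    rwa [e] at h3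
  -- decomposition of every element of `V`
  have hdec : ∀ n ∈ V, ∃ c ∈ V, ∃ d ∈ V, c * b = b * c ∧ d * a = a * d ∧ n = c * d := by
    intro n hn
    set h : G := l₀ * n with hh
    have hhH : h ∈ H := H.mul_mem hl₀H (hV.le hn)
    set X : Subgroup G := Lh a h with hX
    have hXH : X ≤ H := mx.Lh_le H hyp.inv h hhH
    have hXa : Inv a X := mx.Lh_inv h
    have hLX : L ≤ V ⊔ X := by
      rw [hL, Lh, closure_le]
      rintro c ⟨i, rfl⟩
      have h1 : h⁻¹ * (a ^ i * h * (a ^ i)⁻¹) ∈ X := subset_closure ⟨i, rfl⟩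
      have h2 : a ^ i * n * (a ^ i)⁻¹ ∈ V := r1a_inv_pow hV.inv i n hn
      have e : l₀⁻¹ * (a ^ i * l₀ * (a ^ i)⁻¹) =
          n * (h⁻¹ * (a ^ i * h * (a ^ i)⁻¹)) * (a ^ i * n * (a ^ i)⁻¹)⁻¹ := by
        rw [hh]; group
      rw [SetLike.mem_coe, e]
      exact (V ⊔ X).mul_mem ((V ⊔ X).mul_mem (mem_sup_left hn) (mem_sup_right h1))
        ((V ⊔ X).inv_mem (mem_sup_left h2))
    have hVX : V ⊔ X = H := by
      apply le_antisymm (sup_le hV.le hXH)
      rw [← hVL]; exact sup_le le_sup_left hLX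
    have hXne : X ≠ H := mx.no_gen h hhH
    have hVX' : V ⊓ X = ⊥ := by
      by_contra hne
      have hWn : NormBy H (V ⊓ X) := by
        have hVn : V ≤ normalizer ((V ⊓ X : Subgroup G) : Set G) := by
          apply r1a_le_normalizer
          intro v hv x hx
          have : v * x * v⁻¹ = x := by
            rw [hVab v hv x hx.1]; group
          rw [this]; exact hx
        have hXn : X ≤ normalizer ((V ⊓ X : Subgroup G) : Set G) := by
          apply r1a_le_normalizer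
          intro y hy x hx
          exact ⟨hV.norm y (hXH hy) x hx.1, X.mul_mem (X.mul_mem hy hx.2) (X.inv_mem hy)⟩
        have hHn : H ≤ normalizer ((V ⊓ X : Subgroup G) : Set G) := by
          rw [← hVX]; exact sup_le hVn hXn
        intro g hg x hx
        exact (mem_normalizer_iff.mp (hHn hg) x).mp hx
      have hWa : Inv a (V ⊓ X) := fun x hx => ⟨hV.inv x hx.1, hXa x hx.2⟩
      have hW := hV.min (V ⊓ X) inf_le_left hWn hWa hne
      have hVleX : V ≤ X := by rw [← hW]; exact inf_le_right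
      apply hXne
      rw [← hVX]; exact (sup_eq_right.mpr hVleX).symm
    obtain ⟨hYcard, hHcard⟩ := key X hXH hXa hVX hVX'
    have hcardX : Nat.card X = Nat.card L := by
      have hpos : 0 < Nat.card V := Nat.card_pos
      have : Nat.card V * Nat.card X = Nat.card V * Nat.card L := by rw [← hHcard, ← hHcard0]
      exact Nat.eq_of_mul_eq_mul_left hpos this
    -- Schur-Zassenhaus
    have hAN : L ⊔ P ≤ normalizer (V : Set G) := sup_le (hLH.trans hHV) hPV
    have hcopY : (Nat.card V).Coprime (Nat.card ↥(L ⊔ P)) := by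
      rw [hY0card]; exact Nat.Coprime.mul_right hcop hVP
    have hcardY : Nat.card ↥(X ⊔ P) = Nat.card ↥(L ⊔ P) := by
      rw [hYcard, hY0card, hcardX]
    have hBle : X ⊔ P ≤ V ⊔ (L ⊔ P) := by
      apply sup_le
      · rw [← sup_assoc, hVL]; exact hXH.trans le_sup_left
      · exact le_sup_right.trans le_sup_right
    obtain ⟨u, hu, hconj⟩ := Cfsg.Agent.Helper52.sz_conj_internal V (L ⊔ P) (X ⊔ P) hAN
      (Or.inl hsolvV) hcopY hcardY hBle
    have hdisj : V ⊓ (X ⊔ P) = ⊥ := by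
      apply disjoint_iff.mp
      apply Subgroup.disjoint_of_coprime_natCard
      rw [hcardY]; exact hcopY
    have hmemconj : ∀ y ∈ L ⊔ P, u * y * u⁻¹ ∈ X ⊔ P := by
      intro y hy
      rw [hconj]
      exact ⟨y, hy, by simp [MulAut.conj_apply]⟩
    have haP : a ∈ P := mem_zpowers a
    have haX : a ∈ X ⊔ P := mem_sup_right haP
    have haL : a ∈ L ⊔ P := mem_sup_right haP
    -- `u` commutes with `a`
    have hua : u * a = a * u := by
      have h1 : u * a * u⁻¹ * a⁻¹ ∈ X ⊔ P := (X ⊔ P).mul_mem (hmemconj a haL) ((X ⊔ P).inv_mem haX)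
      have h2 : u * a * u⁻¹ * a⁻¹ ∈ V := by
        have h3 : a * u⁻¹ * a⁻¹ ∈ V := hV.inv _ (V.inv_mem hu)
        have e : u * a * u⁻¹ * a⁻¹ = u * (a * u⁻¹ * a⁻¹) := by group
        rw [e]; exact V.mul_mem hu h3
      have h4 : u * a * u⁻¹ * a⁻¹ ∈ V ⊓ (X ⊔ P) := ⟨h2, h1⟩
      rw [hdisj, mem_bot] at h4
      have : u * a = (u * a * u⁻¹ * a⁻¹) * (a * u) := by group
      rw [this, h4, one_mul]
    -- `b ∈ L ⊔ P`, `n⁻¹ b n ∈ X ⊔ P`
    have hbL : b ∈ L ⊔ P := by
      have h1 : l₀⁻¹ * (a ^ 1 * l₀ * (a ^ 1)⁻¹) ∈ L := by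
        rw [hL]; exact subset_closure ⟨1, rfl⟩
      have e : b = (l₀⁻¹ * (a ^ 1 * l₀ * (a ^ 1)⁻¹)) * a := by rw [hb]; group
      rw [e]; exact (L ⊔ P).mul_mem (mem_sup_left h1) haL
    have hb'X : n⁻¹ * b * n ∈ X ⊔ P := by
      have h1 : h⁻¹ * (a ^ 1 * h * (a ^ 1)⁻¹) ∈ X := subset_closure ⟨1, rfl⟩
      have e : n⁻¹ * b * n = (h⁻¹ * (a ^ 1 * h * (a ^ 1)⁻¹)) * a := by rw [hb, hh]; group
      rw [e]; exact (X ⊔ P).mul_mem (mem_sup_left h1) haX
    -- `w = u⁻¹ n⁻¹` commutes with `b`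
    set w : G := u⁻¹ * n⁻¹ with hw
    have hwV : w ∈ V := V.mul_mem (V.inv_mem hu) (V.inv_mem hn)
    have hwb : w * b = b * w := by
      have h1 : (u * b * u⁻¹)⁻¹ * (n⁻¹ * b * n) ∈ X ⊔ P :=
        (X ⊔ P).mul_mem ((X ⊔ P).inv_mem (hmemconj b hbL)) hb'X
      have h2 : (u * b * u⁻¹)⁻¹ * (n⁻¹ * b * n) ∈ V := by
        have h3 : b⁻¹ * w * b ∈ V := hbV w hwV
        have e : (u * b * u⁻¹)⁻¹ * (n⁻¹ * b * n) = u * (b⁻¹ * w * b) * n := by rw [hw]; group
        rw [e]; exact V.mul_mem (V.mul_mem hu h3) hn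
      have h4 : (u * b * u⁻¹)⁻¹ * (n⁻¹ * b * n) ∈ V ⊓ (X ⊔ P) := ⟨h2, h1⟩
      rw [hdisj, mem_bot] at h4
      have e2 : w * b = b * ((u⁻¹ * ((u * b * u⁻¹)⁻¹ * (n⁻¹ * b * n)) * n⁻¹)) := by
        rw [hw]; group
      rw [e2, h4]
      rw [hw]; group
    refine ⟨w⁻¹, V.inv_mem hwV, u⁻¹, V.inv_mem hu, ?_, ?_, ?_⟩
    · have : w⁻¹ * b = w⁻¹ * (b * w) * w⁻¹ := by group
      rw [this, ← hwb]; group
    · have : u⁻¹ * a = u⁻¹ * (a * u) * u⁻¹ := by group
      rw [this, ← hua]; group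
    · rw [hw]; group
  -- counting
  set Cb : Subgroup G := V ⊓ Fix b with hCb
  set Ca : Subgroup G := V ⊓ Fix a with hCa
  have memFix : ∀ (t x : G), x ∈ Fix t ↔ t * x = x * t := by
    intro t x
    unfold Cfsg.Agent.Helper52.FC.Fix
    rw [mem_centralizer_iff]
    constructor
    · intro h; exact h t rfl
    · intro h y hy; rw [Set.mem_singleton_iff] at hy; rw [hy]; exact h
  have hsurj : Function.Surjective (fun cd : Cb × Ca => (⟨(cd.1 : G) * (cd.2 : G),
      V.mul_mem cd.1.2.1 cd.2.2.1⟩ : V)) := by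
    rintro ⟨n, hn⟩
    obtain ⟨c, hc, d, hd, hcb, hda, rfl⟩ := hdec n hn
    refine ⟨(⟨c, hc, (memFix b c).mpr hcb.symm⟩, ⟨d, hd, (memFix a d).mpr hda.symm⟩), rfl⟩
  have h1 : Nat.card V ≤ Nat.card (Cb × Ca) := Nat.card_le_card_of_surjective _ hsurj
  rw [Nat.card_prod] at h1
  have hinj : Function.Injective (fun x : Cb => (⟨l₀ * (x : G) * l₀⁻¹, by
      refine ⟨hV.norm l₀ hl₀H _ x.2.1, (memFix a _).mpr ?_⟩
      have hx := (memFix b _).mp x.2.2
      rw [hb] at hx
      have e1 : a * (l₀ * (x : G) * l₀⁻¹) = l₀ * (l₀⁻¹ * a * l₀ * (x : G)) * l₀⁻¹ := by group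
      rw [e1, hx]; group⟩ : Ca)) := by
    intro x y hxy
    have := congrArg (fun z : Ca => (z : G)) hxy
    simp only at this
    have h2 : (x : G) = (y : G) := by
      have := congrArg (fun z => l₀⁻¹ * z * l₀) this
      simpa [mul_assoc] using this
    exact Subtype.ext h2
  have h2 : Nat.card Cb ≤ Nat.card Ca := Nat.card_le_card_of_injective _ hinj
  calc Nat.card V ≤ Nat.card Cb * Nat.card Ca := h1
    _ ≤ Nat.card Ca * Nat.card Ca := Nat.mul_le_mul_right _ h2
    _ = Nat.card Ca ^ 2 := by ring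

end Cfsg.Agent.Helper42.FC
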