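import Mathlib
import Cfsg.Agent.Lib.Helper52.FLDefs

/-!
FL lemma server (helper52, S3822), piece (BND) `card_S1_sq_lt`: the core, with (LIN) `lin_bound`
as a hypothesis (helper42).
-/

set_option autoImplicit false

namespace Cfsg.Agent.Helper42.FL

open Cfsg.Agent.Helper52.FL
open scoped commutatorElement

universe u

variable {G : Type u} [Group G]

/-- conjugation by a normalising element, as an automorphism of `↥V`. -/
def bndConj (V : Subgroup G) (g : G) (hg : g ∈ Subgroup.normalizer (V : Set G)) : ↥V ≃* ↥V where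
  toFun v := ⟨g * v * g⁻¹, (Subgroup.mem_normalizer_iff.mp hg v).mp v.2⟩
  invFun v := ⟨g⁻¹ * v * g, (Subgroup.mem_set_normalizer_iff''.mp hg v).mp v.2⟩
  left_inv v := Subtype.ext (by simp [mul_assoc])
  right_inv v := Subtype.ext (by simp [mul_assoc])
  map_mul' v w := Subtype.ext (by simp [mul_assoc])

theorem bndConj_coe (V : Subgroup G) (g : G) (hg : g ∈ Subgroup.normalizer (V : Set G)) (v : ↥V) :
    ((bndConj V g hg v : ↥V) : G) = g * v * g⁻¹ := rfl

theorem bndConj_map (V D : Subgroup G) (g : G) (hg : g ∈ Subgroup.normalizer (V : Set G))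
    (hgD : g ∈ Subgroup.normalizer (D : Set G)) :
    (D.subgroupOf V).map ((bndConj V g hg : ↥V ≃* ↥V) : ↥V →* ↥V) = D.subgroupOf V := by
  ext x
  constructor
  · rintro ⟨d, hd, rfl⟩
    have hd' : (d : G) ∈ D := Subgroup.mem_subgroupOf.mp hd
    exact Subgroup.mem_subgroupOf.mpr ((Subgroup.mem_normalizer_iff.mp hgD d).mp hd')
  · intro hx
    have hx' : (x : G) ∈ D := Subgroup.mem_subgroupOf.mp hx
    refine ⟨(bndConj V g hg).symm x, ?_, ?_⟩
    · exact Subgroup.mem_subgroupOf.mpr ((Subgroup.mem_set_normalizer_iff''.mp hgD x).mp hx')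
    · exact (bndConj V g hg).apply_symm_apply x

/-- the action of `A` on `V / D`. -/
noncomputable def bndPhi (A V D : Subgroup G) (hAV : A ≤ Subgroup.normalizer (V : Set G))
    (hAD : A ≤ Subgroup.normalizer (D : Set G)) [(D.subgroupOf V).Normal] :
    ↥A →* MulAut (↥V ⧸ D.subgroupOf V) where
  toFun g := QuotientGroup.congr (D.subgroupOf V) (D.subgroupOf V) (bndConj V g (hAV g.2))
    (bndConj_map V D g (hAV g.2) (hAD g.2))
  map_one' := by
    ext u
    induction u using QuotientGroup.induction_on with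
    | H v =>
      rw [QuotientGroup.congr_mk]
      show ((bndConj V ((1 : ↥A) : G) _ v : ↥V) : ↥V ⧸ D.subgroupOf V) = (v : ↥V ⧸ D.subgroupOf V)
      congr 1
      apply Subtype.ext
      rw [bndConj_coe]
      simp
  map_mul' g h := by
    ext u
    induction u using QuotientGroup.induction_on with
    | H v =>
      rw [MulAut.mul_apply, QuotientGroup.congr_mk, QuotientGroup.congr_mk, QuotientGroup.congr_mk]
      congr 1
      apply Subtype.ext
      rw [bndConj_coe, bndConj_coe, bndConj_coe]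
      simp [mul_assoc]

theorem bndPhi_mk (A V D : Subgroup G) (hAV : A ≤ Subgroup.normalizer (V : Set G))
    (hAD : A ≤ Subgroup.normalizer (D : Set G)) [(D.subgroupOf V).Normal] (g : ↥A) (v : ↥V) :
    bndPhi A V D hAV hAD g (v : ↥V ⧸ D.subgroupOf V) =
      ((bndConj V g (hAV g.2) v : ↥V) : ↥V ⧸ D.subgroupOf V) := rfl


/-- `V / D` is commutative when `[V,V] ≤ D`. -/
@[reducible] noncomputable def bndCommGroup (V D : Subgroup G) [(D.subgroupOf V).Normal]
    (hder : ⁅V, V⁆ ≤ D) : CommGroup (↥V ⧸ D.subgroupOf V) :=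
  { (inferInstance : Group (↥V ⧸ D.subgroupOf V)) with
    mul_comm := by
      intro a b
      induction a using QuotientGroup.induction_on with
      | H v =>
        induction b using QuotientGroup.induction_on with
        | H w =>
          rw [← QuotientGroup.mk_mul, ← QuotientGroup.mk_mul, QuotientGroup.eq_iff_div_mem,
            Subgroup.mem_subgroupOf]
          apply hder
          have h1 : ((v * w / (w * v) : ↥V) : G) = ⁅(v : G), (w : G)⁆ := by
            rw [commutatorElement_def]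
            simp [div_eq_mul_inv, mul_assoc]
          rw [h1]
          exact Subgroup.commutator_mem_commutator v.2 w.2 }

set_option maxHeartbeats 1600000 in
/-- (BND) with (LIN) as a hypothesis. -/
theorem card_S1_sq_lt_of [Finite G]
    (hLIN : ∀ {A' : Type u} [Group A'] [Finite A'] [Group.IsSolvable A'] {U : Type u} [CommGroup U]
      [Finite U] [Nontrivial U] {r p : ℕ} [Fact r.Prime] [Fact p.Prime] (_ : 5 ≤ p)
      (_ : ∀ u : U, u ^ r = 1) (φ : A' →* MulAut U) (x : A') (_ : orderOf x = p)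
      (_ : Subgroup.normalClosure ({x} : Set A') = ⊤) (_ : φ x ≠ 1)
      (_ : ∀ W : Subgroup U, (∀ g : A', ∀ u ∈ W, φ g u ∈ W) → W = ⊥ ∨ W = ⊤),
      Nat.card {u : U // φ x u = u} ^ 2 < Nat.card U)
    {p r : ℕ} [Fact p.Prime] [Fact r.Prime] (hp : 5 ≤ p) (P A V D : Subgroup G)
    (hP : Nat.card P = p) (hsolv : Group.IsSolvable ↥A) (a : G) (ha : a ∈ A) (hgen : A = P ⊔ cj a P)
    (hDV : D ≤ V) (hDne : D ≠ V) (hAV : A ≤ Subgroup.normalizer (V : Set G))
    (hAD : A ≤ Subgroup.normalizer (D : Set G)) (hVD : V ≤ Subgroup.normalizer (D : Set G))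
    (hder : ⁅V, V⁆ ≤ D) (hpow : ∀ v ∈ V, v ^ r ∈ D)
    (hirr : ∀ E : Subgroup G, D ≤ E → E ≤ V → A ≤ Subgroup.normalizer (E : Set G) → E = D ∨ E = V)
    (hnt : ∃ y ∈ P, ∃ v ∈ V, y * v * y⁻¹ * v⁻¹ ∉ D) :
    Nat.card (S1 P V D) ^ 2 < Nat.card V * Nat.card D := by
  classical
  have hDn : (D.subgroupOf V).Normal := Subgroup.normal_subgroupOf_of_le_normalizer hVD
  let instC : CommGroup (↥V ⧸ D.subgroupOf V) := bndCommGroup V D hder
  have hmk : ∀ v : ↥V, ((v : ↥V ⧸ D.subgroupOf V) = 1) ↔ (v : G) ∈ D := fun v => by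
    rw [QuotientGroup.eq_one_iff, Subgroup.mem_subgroupOf]
  set φ := bndPhi A V D hAV hAD with hφdef
  have hφ : ∀ (g : ↥A) (v : ↥V), φ g (v : ↥V ⧸ D.subgroupOf V) =
      ((bndConj V g (hAV g.2) v : ↥V) : ↥V ⧸ D.subgroupOf V) := fun g v => rfl
  have hfixiff : ∀ (g : ↥A) (v : ↥V), φ g (v : ↥V ⧸ D.subgroupOf V) = (v : ↥V ⧸ D.subgroupOf V) ↔
      (g : G) * v * (g : G)⁻¹ * (v : G)⁻¹ ∈ D := by
    intro g v
    rw [hφ, QuotientGroup.eq_iff_div_mem, Subgroup.mem_subgroupOf, Subgroup.coe_div, bndConj_coe,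
      div_eq_mul_inv]
  -- a generator of `P`
  have hPcyc : IsCyclic ↥P := isCyclic_of_prime_card hP
  obtain ⟨g0, hg0⟩ := hPcyc.exists_generator
  have hPA : P ≤ A := by
    intro y hy
    rw [hgen]
    exact (le_sup_left : P ≤ P ⊔ cj a P) hy
  set x : ↥A := ⟨(g0 : G), hPA g0.2⟩ with hx
  have hordx : orderOf x = p := by
    have h1 : orderOf g0 = Nat.card ↥P := orderOf_eq_card_of_forall_mem_zpowers hg0
    rw [hP] at h1
    rw [← h1, ← Subgroup.orderOf_coe, ← Subgroup.orderOf_coe]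
  have hPx : ∀ y (hy : y ∈ P), ∃ k : ℤ, (⟨y, hPA hy⟩ : ↥A) = x ^ k := by
    intro y hy
    obtain ⟨k, hk⟩ := Subgroup.mem_zpowers_iff.mp (hg0 ⟨y, hy⟩)
    refine ⟨k, ?_⟩
    apply Subtype.ext
    rw [Subgroup.coe_zpow]
    have h2 := congrArg (Subtype.val : ↥P → G) hk
    rw [Subgroup.coe_zpow] at h2
    exact h2.symm
  -- the normal closure
  have hgenN : Subgroup.normalClosure ({x} : Set ↥A) = ⊤ := by
    set N := Subgroup.normalClosure ({x} : Set ↥A) with hN
    have hxN : x ∈ N := Subgroup.subset_normalClosure (Set.mem_singleton x)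
    have hPN : ∀ y (hy : y ∈ P), (⟨y, hPA hy⟩ : ↥A) ∈ N := by
      intro y hy
      obtain ⟨k, hk⟩ := hPx y hy
      rw [hk]
      exact N.zpow_mem hxN k
    have h1 : P ≤ N.map A.subtype := by
      intro y hy
      exact ⟨⟨y, hPA hy⟩, hPN y hy, rfl⟩
    have h2 : cj a P ≤ N.map A.subtype := by
      intro z hz
      rw [mem_cj] at hz
      have hNn : N.Normal := Subgroup.normalClosure_normal
      have h3 := hNn.conj_mem _ (hPN _ hz) ⟨a, ha⟩
      refine ⟨_, h3, ?_⟩
      show a * (a⁻¹ * z * a) * a⁻¹ = z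
      group
    have hle : A ≤ N.map A.subtype := hgen.le.trans (sup_le h1 h2)
    rw [eq_top_iff]
    intro b _
    obtain ⟨n, hn, hnb⟩ := hle b.2
    have h3 : n = b := Subtype.ext hnb
    rw [← h3]
    exact hn
  -- `φ x ≠ 1`
  have hx1 : φ x ≠ 1 := by
    intro h1
    obtain ⟨y, hy, v, hv, hyv⟩ := hnt
    apply hyv
    obtain ⟨k, hk⟩ := hPx y hy
    have h2 : φ ⟨y, hPA hy⟩ = 1 := by rw [hk, map_zpow, h1, one_zpow]
    exact (hfixiff ⟨y, hPA hy⟩ ⟨v, hv⟩).mp (by rw [h2]; rfl)
  -- exponent `r`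
  have hU : ∀ u : ↥V ⧸ D.subgroupOf V, u ^ r = 1 := by
    intro u
    induction u using QuotientGroup.induction_on with
    | H v =>
      rw [← QuotientGroup.mk_pow, hmk, Subgroup.coe_pow]
      exact hpow v v.2
  have hnontriv : Nontrivial (↥V ⧸ D.subgroupOf V) := by
    obtain ⟨v, hvV, hvD⟩ := SetLike.exists_of_lt (lt_of_le_of_ne hDV hDne)
    refine ⟨⟨((⟨v, hvV⟩ : ↥V) : ↥V ⧸ D.subgroupOf V), 1, ?_⟩⟩
    intro h
    exact hvD ((hmk _).mp h)
  -- irreducibility
  have hirr' : ∀ W : Subgroup (↥V ⧸ D.subgroupOf V), (∀ g : ↥A, ∀ u ∈ W, φ g u ∈ W) →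
      W = ⊥ ∨ W = ⊤ := by
    intro W hW
    set E : Subgroup G := (W.comap (QuotientGroup.mk' (D.subgroupOf V))).map V.subtype with hE
    have hmemE : ∀ g : G, g ∈ E ↔ ∃ hg : g ∈ V, ((⟨g, hg⟩ : ↥V) : ↥V ⧸ D.subgroupOf V) ∈ W := by
      intro g
      constructor
      · rintro ⟨v, hv, rfl⟩
        exact ⟨v.2, hv⟩
      · rintro ⟨hg, hw⟩
        exact ⟨⟨g, hg⟩, hw, rfl⟩
    have hDE : D ≤ E := by
      intro d hd
      rw [hmemE]
      refine ⟨hDV hd, ?_⟩
      have h1 : ((⟨d, hDV hd⟩ : ↥V) : ↥V ⧸ D.subgroupOf V) = 1 := (hmk _).mpr hd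
      rw [h1]
      exact W.one_mem
    have hEV : E ≤ V := by
      intro g hg
      exact ((hmemE g).mp hg).1
    have hfw : ∀ g ∈ A, ∀ h ∈ E, g * h * g⁻¹ ∈ E := by
      intro g hg h hh
      obtain ⟨hhV, hhW⟩ := (hmemE h).mp hh
      rw [hmemE]
      refine ⟨(Subgroup.mem_normalizer_iff.mp (hAV hg) h).mp hhV, ?_⟩
      have h1 := hW ⟨g, hg⟩ _ hhW
      rw [hφ] at h1
      exact h1
    have hAE : A ≤ Subgroup.normalizer (E : Set G) := by
      intro g hg
      rw [Subgroup.mem_normalizer_iff]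
      intro h
      constructor
      · exact hfw g hg h
      · intro hh
        have h1 := hfw g⁻¹ (A.inv_mem hg) _ hh
        have h2 : g⁻¹ * (g * h * g⁻¹) * g⁻¹⁻¹ = h := by group
        rw [h2] at h1
        exact h1
    rcases hirr E hDE hEV hAE with hED | hEV'
    · left
      rw [eq_bot_iff]
      intro u hu
      induction u using QuotientGroup.induction_on with
      | H v =>
        have hvE : (v : G) ∈ E := (hmemE _).mpr ⟨v.2, hu⟩
        rw [hED] at hvE
        rw [Subgroup.mem_bot]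
        exact (hmk v).mpr hvE
    · right
      rw [eq_top_iff]
      intro u _
      induction u using QuotientGroup.induction_on with
      | H v =>
        have hvE : (v : G) ∈ E := by
          rw [hEV']
          exact v.2
        obtain ⟨_, hw⟩ := (hmemE _).mp hvE
        exact hw
  -- apply (LIN)
  have := hsolv
  have hlin := hLIN (A' := ↥A) (U := ↥V ⧸ D.subgroupOf V) (r := r) (p := p) hp hU φ x hordx hgenN
    hx1 hirr'
  -- the fixed subgroup
  let FixS : Subgroup (↥V ⧸ D.subgroupOf V) :=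
    { carrier := {u | φ x u = u}
      mul_mem' := by
        intro u w hu hw
        show φ x (u * w) = u * w
        rw [map_mul, hu, hw]
      one_mem' := map_one _
      inv_mem' := by
        intro u hu
        show φ x u⁻¹ = u⁻¹
        rw [map_inv, hu] }
  have hFixmem : ∀ u, u ∈ FixS ↔ φ x u = u := fun u => Iff.rfl
  set T : Subgroup ↥V := FixS.comap (QuotientGroup.mk' (D.subgroupOf V)) with hT
  have hcardV : Nat.card ↥V = Nat.card (↥V ⧸ D.subgroupOf V) * Nat.card D := by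
    rw [Subgroup.card_eq_card_quotient_mul_card_subgroup (D.subgroupOf V)]
    congr 1
    exact Nat.card_congr (Subgroup.subgroupOfEquivOfLe hDV).toEquiv
  have hidx : T.index = FixS.index :=
    Subgroup.index_comap_of_surjective FixS (QuotientGroup.mk'_surjective _)
  have hcardT : Nat.card T = Nat.card FixS * Nat.card D := by
    have h1 := Subgroup.index_mul_card T
    have h2 := Subgroup.index_mul_card FixS
    have h3 : 0 < FixS.index := Nat.pos_of_ne_zero Subgroup.index_ne_zero_of_finite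
    rw [hidx, hcardV, ← h2, mul_assoc] at h1
    exact Nat.eq_of_mul_eq_mul_left h3 h1
  have hS1 : S1 P V D = Subtype.val '' (T : Set ↥V) := by
    ext w
    constructor
    · rintro ⟨hwV, hw⟩
      refine ⟨⟨w, hwV⟩, ?_, rfl⟩
      show φ x ((⟨w, hwV⟩ : ↥V) : ↥V ⧸ D.subgroupOf V) = ((⟨w, hwV⟩ : ↥V) : ↥V ⧸ D.subgroupOf V)
      rw [hfixiff]
      exact hw (g0 : G) g0.2
    · rintro ⟨v, hv, rfl⟩
      refine ⟨v.2, ?_⟩
      intro y hy
      obtain ⟨k, hk⟩ := hPx y hy
      have hfix : φ x (v : ↥V ⧸ D.subgroupOf V) = (v : ↥V ⧸ D.subgroupOf V) := hv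
      have h2 : φ ⟨y, hPA hy⟩ (v : ↥V ⧸ D.subgroupOf V) = (v : ↥V ⧸ D.subgroupOf V) := by
        rw [hk, map_zpow]
        have h3 : φ x ∈ MulAction.stabilizer (MulAut (↥V ⧸ D.subgroupOf V))
            (v : ↥V ⧸ D.subgroupOf V) := by
          rw [MulAction.mem_stabilizer_iff]
          exact hfix
        have h4 := (MulAction.stabilizer (MulAut (↥V ⧸ D.subgroupOf V))
          (v : ↥V ⧸ D.subgroupOf V)).zpow_mem h3 k
        rw [MulAction.mem_stabilizer_iff] at h4
        exact h4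
      exact (hfixiff ⟨y, hPA hy⟩ v).mp h2
  have hcardS1 : Nat.card (S1 P V D) = Nat.card FixS * Nat.card D := by
    rw [hS1, Nat.card_image_of_injective Subtype.val_injective]
    exact hcardT
  have hFixcard : Nat.card FixS = Nat.card {u : ↥V ⧸ D.subgroupOf V // φ x u = u} :=
    Nat.card_congr (Equiv.subtypeEquivRight fun u => Iff.rfl)
  have hDpos : 0 < Nat.card D := Nat.card_pos
  rw [hcardS1, hcardV, hFixcard]
  calc (Nat.card {u : ↥V ⧸ D.subgroupOf V // φ x u = u} * Nat.card D) ^ 2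
      = Nat.card {u : ↥V ⧸ D.subgroupOf V // φ x u = u} ^ 2 * Nat.card D ^ 2 := by ring
    _ < Nat.card (↥V ⧸ D.subgroupOf V) * Nat.card D ^ 2 :=
        Nat.mul_lt_mul_of_pos_right hlin (by positivity)
    _ = Nat.card (↥V ⧸ D.subgroupOf V) * Nat.card D * Nat.card D := by ring

end Cfsg.Agent.Helper42.FL
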