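import Mathlib
import Cfsg.Agent.Lib.Helper52.FLDefs
import Cfsg.Agent.Lib.Helper52.Coprime
import Cfsg.Agent.Lib.Helper9.WielandtBasic
import Cfsg.Agent.Lib.Helper97.FXDefs
import Cfsg.Agent.Lib.Helper82.FLLIN
import Cfsg.Agent.Lib.Helper42.FLBNDCore

/-!
FL lemma server (helper52, S3822), piece (BND) `card_S1_sq_lt`, verbatim (helper42):
`FLBNDCore.card_S1_sq_lt_of` + helper82's (LIN) `lin_bound`.
-/

set_option autoImplicit false

namespace Cfsg.Agent.Helper42.FL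

open Cfsg.Agent.Helper52.FL Cfsg.Agent.Helper97.FX

variable {G : Type*} [Group G] [Finite G]

/-- **(BND) [L] the bridge, uses (LIN).** -/
theorem card_S1_sq_lt {p r : ℕ} [Fact p.Prime] [Fact r.Prime] (hp : 5 ≤ p) (P A V D : Subgroup G)
    (hP : Nat.card P = p) (hsolv : Group.IsSolvable ↥A) (a : G) (ha : a ∈ A) (hgen : A = P ⊔ cj a P)
    (hDV : D ≤ V) (hDne : D ≠ V) (hAV : A ≤ Subgroup.normalizer (V : Set G))
    (hAD : A ≤ Subgroup.normalizer (D : Set G)) (hVD : V ≤ Subgroup.normalizer (D : Set G))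
    (hder : ⁅V, V⁆ ≤ D) (hpow : ∀ v ∈ V, v ^ r ∈ D)
    (hirr : ∀ E : Subgroup G, D ≤ E → E ≤ V → A ≤ Subgroup.normalizer (E : Set G) → E = D ∨ E = V)
    (hnt : ∃ y ∈ P, ∃ v ∈ V, y * v * y⁻¹ * v⁻¹ ∉ D) :
    Nat.card (S1 P V D) ^ 2 < Nat.card V * Nat.card D := by
  have hLIN : ∀ {A' : Type _} [Group A'] [Finite A'] [Group.IsSolvable A'] {U : Type _}
      [CommGroup U] [Finite U] [Nontrivial U] {r p : ℕ} [Fact r.Prime] [Fact p.Prime] (_ : 5 ≤ p)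
      (_ : ∀ u : U, u ^ r = 1) (φ : A' →* MulAut U) (x : A') (_ : orderOf x = p)
      (_ : Subgroup.normalClosure ({x} : Set A') = ⊤) (_ : φ x ≠ 1)
      (_ : ∀ W : Subgroup U, (∀ g : A', ∀ u ∈ W, φ g u ∈ W) → W = ⊥ ∨ W = ⊤),
      Nat.card {u : U // φ x u = u} ^ 2 < Nat.card U := by
    intro A' _ _ _ U _ _ _ r p _ _ hp hU φ x hx hgen hx1 hirr
    exact Cfsg.Agent.Helper82.FL.lin_bound hp hU φ x hx hgen hx1 hirr
  exact card_S1_sq_lt_of hLIN hp P A V D hP hsolv a ha hgen hDV hDne hAV hAD hVD hder hpow hirr hnt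

end Cfsg.Agent.Helper42.FL
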