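import Mathlib

set_option autoImplicit false

namespace Cfsg.Agent.Helper42

open Module



section A

variable {F : Type*} [Field F]
variable {U W V V' : Type*} [AddCommGroup U] [Module F U] [AddCommGroup W] [Module F W]
  [AddCommGroup V] [Module F V] [AddCommGroup V'] [Module F V']

lemma prodMap_pow' (N : Module.End F U) (A : Module.End F W) (j : ℕ) :
    (N.prodMap A : Module.End F (U × W)) ^ j = (N ^ j).prodMap (A ^ j) := by
  have := map_pow (LinearMap.prodMapRingHom F U W) (N, A) j
  simpa using this.symm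

lemma pow_eq_zero_of_isNilpotent [FiniteDimensional F U] {N : Module.End F U} (hN : IsNilpotent N)
    {n : ℕ} (hn : finrank F U ≤ n) : N ^ n = 0 := by
  obtain ⟨j, hj⟩ := hN
  have h1 : LinearMap.ker (N ^ j) = ⊤ := by rw [hj]; exact LinearMap.ker_zero
  have h2 : LinearMap.ker (N ^ finrank F U) = ⊤ := by
    apply top_le_iff.mp
    rw [← h1]
    exact Module.End.ker_pow_le_ker_pow_finrank N j
  have h3 : N ^ finrank F U = 0 := LinearMap.ker_eq_top.mp h2
  obtain ⟨d, rfl⟩ := Nat.exists_eq_add_of_le hn
  rw [pow_add, h3, zero_mul]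

/-- dimension of the nilpotent part -/
noncomputable def nilDim (T : Module.End F V) : ℕ := finrank F (LinearMap.ker (T ^ finrank F V))

lemma conj_pow_eq (e : V ≃ₗ[F] V') (T : Module.End F V) (j : ℕ) :
    (e.conjRingEquiv T) ^ j = e.conjRingEquiv (T ^ j) := (map_pow e.conjRingEquiv T j).symm

lemma ker_conj (e : V ≃ₗ[F] V') (T : Module.End F V) :
    LinearMap.ker (e.conjRingEquiv T) = (LinearMap.ker T).map e.toLinearMap := by
  ext x
  simp only [LinearMap.mem_ker, Submodule.mem_map, LinearEquiv.conjRingEquiv_apply_apply]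
  constructor
  · intro h
    refine ⟨e.symm x, ?_, by simp⟩
    have : e (T (e.symm x)) = 0 := h
    simpa using this
  · rintro ⟨y, hy, rfl⟩
    show e (T (e.symm (e y))) = 0
    simp [hy]

lemma nilDim_conj (e : V ≃ₗ[F] V') (T : Module.End F V) :
    nilDim (e.conjRingEquiv T) = nilDim T := by
  unfold nilDim
  rw [conj_pow_eq, ker_conj, ← LinearEquiv.finrank_eq e]
  exact (LinearEquiv.finrank_eq (e.submoduleMap _)).symm

end A




section B

variable {F : Type*} [Field F]
variable {U W V V' : Type*} [AddCommGroup U] [Module F U] [AddCommGroup W] [Module F W]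
  [AddCommGroup V] [Module F V] [AddCommGroup V'] [Module F V']

lemma equiv_pow_injective (A : W ≃ₗ[F] W) (j : ℕ) : Function.Injective ((A.toLinearMap : Module.End F W) ^ j) := by
  rw [Module.End.coe_pow]
  exact A.injective.iterate j

lemma equiv_pow_surjective (A : W ≃ₗ[F] W) (j : ℕ) : Function.Surjective ((A.toLinearMap : Module.End F W) ^ j) := by
  rw [Module.End.coe_pow]
  exact A.surjective.iterate j

/-- `U × 0` is isomorphic to `U` -/
def fstProdEquiv : ↥((⊤ : Submodule F U).prod (⊥ : Submodule F W)) ≃ₗ[F] U where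
  toFun x := x.1.1
  map_add' x y := rfl
  map_smul' c x := rfl
  invFun u := ⟨(u, 0), by simp⟩
  left_inv x := by
    obtain ⟨⟨a, b⟩, hx⟩ := x
    simp only [Submodule.mem_prod, Submodule.mem_top, Submodule.mem_bot, true_and] at hx
    subst hx
    rfl
  right_inv u := rfl

lemma ker_block_pow [FiniteDimensional F U] {N : Module.End F U} (hN : IsNilpotent N) (A : W ≃ₗ[F] W)
    {n : ℕ} (hn : finrank F U ≤ n) :
    LinearMap.ker ((N.prodMap A.toLinearMap : Module.End F (U × W)) ^ n) =
      (⊤ : Submodule F U).prod (⊥ : Submodule F W) := by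
  rw [prodMap_pow', LinearMap.ker_prodMap, pow_eq_zero_of_isNilpotent hN hn, LinearMap.ker_zero,
    LinearMap.ker_eq_bot.mpr (equiv_pow_injective A n)]

lemma range_block_pow [FiniteDimensional F U] {N : Module.End F U} (hN : IsNilpotent N) (A : W ≃ₗ[F] W)
    {n : ℕ} (hn : finrank F U ≤ n) :
    LinearMap.range ((N.prodMap A.toLinearMap : Module.End F (U × W)) ^ n) =
      (⊥ : Submodule F U).prod (⊤ : Submodule F W) := by
  rw [prodMap_pow', LinearMap.range_prodMap, pow_eq_zero_of_isNilpotent hN hn, LinearMap.range_zero,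
    LinearMap.range_eq_top.mpr (equiv_pow_surjective A n)]

lemma nilDim_block [FiniteDimensional F U] [FiniteDimensional F W] {N : Module.End F U}
    (hN : IsNilpotent N) (A : W ≃ₗ[F] W) :
    nilDim (N.prodMap A.toLinearMap : Module.End F (U × W)) = finrank F U := by
  unfold nilDim
  rw [ker_block_pow hN A (by rw [Module.finrank_prod]; omega)]
  exact LinearEquiv.finrank_eq fstProdEquiv

end B




section C

variable {F : Type*} [Field F]
variable {U W V : Type*} [AddCommGroup U] [Module F U] [AddCommGroup W] [Module F W]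
  [AddCommGroup V] [Module F V]

/-- Fitting normal form -/
theorem exists_fitting_form [FiniteDimensional F U] [FiniteDimensional F W] [FiniteDimensional F V]
    (hdim : finrank F V = finrank F U + finrank F W) (T : Module.End F V)
    (hT : nilDim T = finrank F U) :
    ∃ (g : (U × W) ≃ₗ[F] V) (N : Module.End F U) (A : W ≃ₗ[F] W), IsNilpotent N ∧
      T = g.conjRingEquiv (N.prodMap A.toLinearMap) := by
  set n := finrank F V with hn
  obtain ⟨j₀, hj₀⟩ := Filter.eventually_atTop.mp (LinearMap.eventually_isCompl_ker_pow_range_pow T)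
  set j := max j₀ n + 1 with hj
  have hjn : n ≤ j := by omega
  have hj1 : 1 ≤ j := by omega
  have hK : LinearMap.ker (T ^ j) = LinearMap.ker (T ^ n) :=
    Module.End.ker_pow_eq_ker_pow_finrank_of_le hjn
  set K := LinearMap.ker (T ^ n) with hKdef
  set I := LinearMap.range (T ^ j) with hIdef
  have hc : IsCompl K I := by
    have := hj₀ j (by omega)
    rwa [hK] at this
  have hfK : finrank F K = finrank F U := hT
  have hfI : finrank F I = finrank F W := by
    have := Submodule.finrank_add_eq_of_isCompl hc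
    omega
  let eK : K ≃ₗ[F] U := LinearEquiv.ofFinrankEq _ _ hfK
  let eI : I ≃ₗ[F] W := LinearEquiv.ofFinrankEq _ _ hfI
  have hTK : ∀ x ∈ K, T x ∈ K := by
    intro x hx
    rw [hKdef, LinearMap.mem_ker] at hx ⊢
    have : (T ^ n) (T x) = T ((T ^ n) x) := by
      rw [← Module.End.mul_apply, ← Module.End.mul_apply, ← pow_succ, ← pow_succ']
    rw [this, hx, map_zero]
  have hTI : ∀ x ∈ I, T x ∈ I := by
    rintro x ⟨y, rfl⟩
    refine ⟨T y, ?_⟩
    rw [← Module.End.mul_apply, ← Module.End.mul_apply, ← pow_succ, ← pow_succ']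
  set TK : Module.End F K := T.restrict hTK with hTKdef
  set TI : Module.End F I := T.restrict hTI with hTIdef
  have hTKnil : IsNilpotent TK := by
    refine ⟨n, ?_⟩
    ext x
    rw [hTKdef, Module.End.pow_restrict n, LinearMap.restrict_apply]
    simpa using x.2
  have hTIinj : Function.Injective TI := by
    rw [← LinearMap.ker_eq_bot, LinearMap.ker_eq_bot']
    intro x hx
    have h1 : T x.1 = 0 := by
      have := congrArg Subtype.val hx
      simpa [hTIdef, LinearMap.restrict_apply] using this
    have h2 : x.1 ∈ K := by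
      rw [← hK, LinearMap.mem_ker]
      obtain ⟨d, hd⟩ := Nat.exists_eq_add_of_le hj1
      rw [hd, add_comm, pow_succ, Module.End.mul_apply, h1, map_zero]
    have h3 : x.1 ∈ K ⊓ I := ⟨h2, x.2⟩
    rw [hc.inf_eq_bot] at h3
    exact Subtype.ext h3
  let TIe : I ≃ₗ[F] I := LinearEquiv.ofInjectiveEndo TI hTIinj
  have hTIe : ∀ x, TIe x = TI x := fun x => rfl
  refine ⟨(eK.symm.prodCongr eI.symm) ≪≫ₗ (Submodule.prodEquivOfIsCompl K I hc),
    eK.conjRingEquiv TK, (eI.symm ≪≫ₗ TIe) ≪≫ₗ eI, ?_, ?_⟩
  · exact hTKnil.map eK.conjRingEquiv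
  · apply LinearMap.ext
    intro v
    rw [LinearEquiv.conjRingEquiv_apply_apply]
    set p := ((eK.symm.prodCongr eI.symm) ≪≫ₗ (Submodule.prodEquivOfIsCompl K I hc)).symm v with hp
    have hv : v = ((eK.symm.prodCongr eI.symm) ≪≫ₗ (Submodule.prodEquivOfIsCompl K I hc)) p := by
      rw [hp]; exact (LinearEquiv.apply_symm_apply _ v).symm
    rw [hv]
    obtain ⟨u, w⟩ := p
    simp only [LinearEquiv.trans_apply, LinearEquiv.prodCongr_apply, Submodule.coe_prodEquivOfIsCompl',
      LinearMap.prodMap_apply, LinearEquiv.coe_coe, LinearEquiv.conjRingEquiv_apply_apply,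
      LinearEquiv.symm_apply_apply, map_add, hTIe]
    rfl

end C




section D

variable {F : Type*} [Field F]
variable {U W V : Type*} [AddCommGroup U] [Module F U] [AddCommGroup W] [Module F W]
  [AddCommGroup V] [Module F V]

/-- an intertwiner between two block forms is block diagonal -/
theorem block_diag_of_intertwine [FiniteDimensional F U] [FiniteDimensional F W]
    {N N' : Module.End F U} (hN : IsNilpotent N) (hN' : IsNilpotent N') (A A' : W ≃ₗ[F] W)
    (u : (U × W) ≃ₗ[F] (U × W))
    (hu : ∀ p, u ((N'.prodMap A'.toLinearMap) p) = (N.prodMap A.toLinearMap) (u p)) :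
    ∃ (h₁ : U ≃ₗ[F] U) (h₂ : W ≃ₗ[F] W), (∀ x y, u (x, y) = (h₁ x, h₂ y)) ∧
      (∀ x, h₁ (N' x) = N (h₁ x)) ∧ (∀ y, h₂ (A' y) = A (h₂ y)) := by
  set n := finrank F U with hn
  set S : Module.End F (U × W) := N.prodMap A.toLinearMap with hS
  set S' : Module.End F (U × W) := N'.prodMap A'.toLinearMap with hS'
  have hpow : ∀ j : ℕ, ∀ p, u ((S' ^ j) p) = (S ^ j) (u p) := by
    intro j
    induction j with
    | zero => intro p; simp
    | succ j ih =>
      intro p
      rw [pow_succ, Module.End.mul_apply, pow_succ, Module.End.mul_apply, ih, hu]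
  have hSn : ∀ a b, (S ^ n) (a, b) = (0, ((A.toLinearMap : Module.End F W) ^ n) b) := by
    intro a b
    rw [hS, prodMap_pow', pow_eq_zero_of_isNilpotent hN le_rfl]
    simp
  have hS'n : ∀ a b, (S' ^ n) (a, b) = (0, ((A'.toLinearMap : Module.End F W) ^ n) b) := by
    intro a b
    rw [hS', prodMap_pow', pow_eq_zero_of_isNilpotent hN' le_rfl]
    simp
  have c1 : ∀ x : U, (u (x, 0)).2 = 0 := by
    intro x
    have h := hpow n (x, 0)
    rw [hS'n, map_zero] at h
    have h0 : u ((0 : U), (0 : W)) = 0 := map_zero u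
    rw [h0] at h
    have h2 := hSn (u (x, 0)).1 (u (x, 0)).2
    rw [Prod.mk.eta] at h2
    rw [h2] at h
    have h3 : ((A.toLinearMap : Module.End F W) ^ n) (u (x, 0)).2 = 0 := by
      have := congrArg Prod.snd h
      simpa using this.symm
    exact equiv_pow_injective A n (by rw [h3, map_zero])
  have c2 : ∀ y : W, (u (0, y)).1 = 0 := by
    intro y
    obtain ⟨y', rfl⟩ := equiv_pow_surjective A' n y
    have h := hpow n (0, y')
    rw [hS'n] at h
    rw [h]
    have h2 := hSn (u (0, y')).1 (u (0, y')).2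
    rw [Prod.mk.eta] at h2
    rw [h2]
  let h₁ : Module.End F U := (LinearMap.fst F U W) ∘ₗ u.toLinearMap ∘ₗ (LinearMap.inl F U W)
  let h₂ : Module.End F W := (LinearMap.snd F U W) ∘ₗ u.toLinearMap ∘ₗ (LinearMap.inr F U W)
  have hh1 : ∀ x, h₁ x = (u (x, 0)).1 := fun x => rfl
  have hh2 : ∀ y, h₂ y = (u (0, y)).2 := fun y => rfl
  have hsplit : ∀ x y, u (x, y) = (h₁ x, h₂ y) := by
    intro x y
    have : (x, y) = (x, (0 : W)) + ((0 : U), y) := by simp
    rw [this, map_add]
    ext
    · simp [hh1, c2]
    · simp [hh2, c1]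
  have hinj1 : Function.Injective h₁ := by
    rw [← LinearMap.ker_eq_bot, LinearMap.ker_eq_bot']
    intro x hx
    have : u (x, 0) = 0 := by
      rw [hsplit, hx, map_zero]; rfl
    have := u.injective (this.trans (map_zero u).symm)
    exact congrArg Prod.fst this
  have hinj2 : Function.Injective h₂ := by
    rw [← LinearMap.ker_eq_bot, LinearMap.ker_eq_bot']
    intro y hy
    have : u (0, y) = 0 := by
      rw [hsplit, hy, map_zero]; rfl
    have := u.injective (this.trans (map_zero u).symm)
    exact congrArg Prod.snd this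
  refine ⟨LinearEquiv.ofInjectiveEndo h₁ hinj1, LinearEquiv.ofInjectiveEndo h₂ hinj2, ?_, ?_, ?_⟩
  · intro x y
    exact hsplit x y
  · intro x
    have h := hu (x, 0)
    rw [LinearMap.prodMap_apply, LinearMap.prodMap_apply] at h
    simp only [map_zero] at h
    rw [hsplit, hsplit] at h
    have := congrArg Prod.fst h
    simpa using this
  · intro y
    have h := hu (0, y)
    rw [LinearMap.prodMap_apply, LinearMap.prodMap_apply] at h
    simp only [map_zero] at h
    rw [hsplit, hsplit] at h
    have := congrArg Prod.snd h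
    simpa using this

end D


end Cfsg.Agent.Helper42
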