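import Cfsg.Agent.Lib.Helper42.Fitting

set_option autoImplicit false

namespace Cfsg.Agent.Helper42

open Module

section E

variable {F : Type*} [Field F] [Finite F]
variable {U W V : Type*} [AddCommGroup U] [Module F U] [AddCommGroup W] [Module F W]
  [AddCommGroup V] [Module F V] [FiniteDimensional F U] [FiniteDimensional F W]
  [FiniteDimensional F V]

instance finite_end_aux : Finite (Module.End F V) := by
  have : Finite V := Module.finite_of_finite F
  exact DFunLike.finite _

instance finite_equiv_aux : Finite (U ≃ₗ[F] V) := by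
  have : Finite V := Module.finite_of_finite F
  have : Finite U := Module.finite_of_finite F
  exact Finite.of_injective (fun e => (e : U → V)) DFunLike.coe_injective

/-- the parameter space -/
abbrev FitData (F U W V : Type*) [Field F] [AddCommGroup U] [Module F U] [AddCommGroup W]
    [Module F W] [AddCommGroup V] [Module F V] :=
  ((U × W) ≃ₗ[F] V) × {N : Module.End F U // IsNilpotent N} × (W ≃ₗ[F] W)

/-- the target -/
abbrev FitTarget (F U V : Type*) [Field F] [AddCommGroup U] [Module F U]
    [AddCommGroup V] [Module F V] :=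
  {T : Module.End F V // nilDim T = finrank F U}

/-- the parametrization map -/
noncomputable def fitMap (d : FitData F U W V) : FitTarget F U V :=
  ⟨d.1.conjRingEquiv (d.2.1.1.prodMap d.2.2.toLinearMap), by
    rw [nilDim_conj, nilDim_block d.2.1.2]⟩

lemma fitMap_val (d : FitData F U W V) :
    (fitMap d).1 = d.1.conjRingEquiv (d.2.1.1.prodMap d.2.2.toLinearMap) := rfl

/-- twisting a datum by a block-diagonal automorphism -/
noncomputable def fitTwist (d : FitData F U W V) (h : (U ≃ₗ[F] U) × (W ≃ₗ[F] W)) : FitData F U W V :=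
  ((h.1.prodCongr h.2) ≪≫ₗ d.1, ⟨h.1.symm.conjRingEquiv d.2.1.1, d.2.1.2.map h.1.symm.conjRingEquiv⟩,
    (h.2 ≪≫ₗ d.2.2) ≪≫ₗ h.2.symm)

lemma fitMap_fitTwist (d : FitData F U W V) (h : (U ≃ₗ[F] U) × (W ≃ₗ[F] W)) :
    fitMap (fitTwist d h) = fitMap d := by
  apply Subtype.ext
  rw [fitMap_val, fitMap_val]
  apply LinearMap.ext
  intro v
  simp [fitTwist, LinearEquiv.conjRingEquiv_apply_apply]

lemma fitTwist_injective (d : FitData F U W V) : Function.Injective (fitTwist d) := by
  intro h h' hh
  have h1 : (h.1.prodCongr h.2) ≪≫ₗ d.1 = (h'.1.prodCongr h'.2) ≪≫ₗ d.1 := congrArg Prod.fst hh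
  have h2 : ∀ p : U × W, (h.1.prodCongr h.2) p = (h'.1.prodCongr h'.2) p := by
    intro p
    have := congrArg (fun e => e p) h1
    simp only [LinearEquiv.trans_apply] at this
    exact d.1.injective this
  apply Prod.ext
  · apply LinearEquiv.ext
    intro x
    have := congrArg Prod.fst (h2 (x, 0))
    simpa using this
  · apply LinearEquiv.ext
    intro y
    have := congrArg Prod.snd (h2 (0, y))
    simpa using this

lemma fitTwist_surjective (d d' : FitData F U W V) (hdd : fitMap d' = fitMap d) :
    ∃ h, fitTwist d h = d' := by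
  obtain ⟨g, ⟨N, hN⟩, A⟩ := d
  obtain ⟨g', ⟨N', hN'⟩, A'⟩ := d'
  have hval : g'.conjRingEquiv (N'.prodMap A'.toLinearMap) = g.conjRingEquiv (N.prodMap A.toLinearMap) :=
    congrArg Subtype.val hdd
  set u : (U × W) ≃ₗ[F] (U × W) := g' ≪≫ₗ g.symm with hu
  have hint : ∀ p, u ((N'.prodMap A'.toLinearMap) p) = (N.prodMap A.toLinearMap) (u p) := by
    intro p
    have := congrArg (fun T => T (g' p)) hval
    simp only [LinearEquiv.conjRingEquiv_apply_apply, LinearEquiv.symm_apply_apply] at this
    rw [hu, LinearEquiv.trans_apply, this, LinearEquiv.symm_apply_apply, LinearEquiv.trans_apply]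
  obtain ⟨h₁, h₂, hsplit, hc1, hc2⟩ := block_diag_of_intertwine hN hN' A A' u hint
  refine ⟨(h₁, h₂), ?_⟩
  apply Prod.ext
  · apply LinearEquiv.ext
    rintro ⟨x, y⟩
    simp only [fitTwist, LinearEquiv.trans_apply, LinearEquiv.prodCongr_apply]
    rw [← hsplit, hu, LinearEquiv.trans_apply, LinearEquiv.apply_symm_apply]
  · apply Prod.ext
    · apply Subtype.ext
      apply LinearMap.ext
      intro x
      simp only [fitTwist, LinearEquiv.conjRingEquiv_apply_apply, LinearEquiv.symm_symm]
      rw [← hc1, LinearEquiv.symm_apply_apply]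
    · apply LinearEquiv.ext
      intro y
      simp only [fitTwist, LinearEquiv.trans_apply]
      rw [← hc2, LinearEquiv.symm_apply_apply]

/-- all fibres of the parametrization have the same size -/
lemma card_fitFiber (hdim : finrank F V = finrank F U + finrank F W) (T : FitTarget F U V) :
    Nat.card {d : FitData F U W V // fitMap d = T} = Nat.card ((U ≃ₗ[F] U) × (W ≃ₗ[F] W)) := by
  obtain ⟨g, N, A, hN, hT⟩ := exists_fitting_form (W := W) hdim T.1 T.2
  set d₀ : FitData F U W V := (g, ⟨N, hN⟩, A) with hd₀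
  have hd₀T : fitMap d₀ = T := Subtype.ext hT.symm
  symm
  apply Nat.card_congr
  refine Equiv.ofBijective (fun h => ⟨fitTwist d₀ h, by rw [fitMap_fitTwist, hd₀T]⟩) ⟨?_, ?_⟩
  · intro h h' hh
    exact fitTwist_injective d₀ (congrArg Subtype.val hh)
  · rintro ⟨d', hd'⟩
    obtain ⟨h, hh⟩ := fitTwist_surjective d₀ d' (hd'.trans hd₀T.symm)
    exact ⟨h, Subtype.ext hh⟩

theorem card_fitData (hdim : finrank F V = finrank F U + finrank F W) :
    Nat.card (FitData F U W V) =
      Nat.card (FitTarget F U V) * (Nat.card (U ≃ₗ[F] U) * Nat.card (W ≃ₗ[F] W)) := by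
  haveI : Fintype (FitTarget F U V) := Fintype.ofFinite _
  rw [Nat.card_congr (Equiv.sigmaFiberEquiv (fitMap (F := F) (U := U) (W := W) (V := V))).symm,
    Nat.card_sigma]
  simp_rw [card_fitFiber hdim, Nat.card_prod]
  rw [Finset.sum_const, Finset.card_univ, smul_eq_mul, ← Nat.card_eq_fintype_card]

end E

end Cfsg.Agent.Helper42
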