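import Mathlib

set_option autoImplicit false

namespace Cfsg.Agent.Helper42

/-- `|GL_n(q)|` -/
def Gq (q n : ℕ) : ℕ := ∏ i ∈ Finset.range n, (q ^ n - q ^ i)

lemma Gq_succ (q n : ℕ) : Gq q (n+1) = (q ^ (n+1) - 1) * q ^ n * Gq q n := by
  unfold Gq
  rw [Finset.prod_range_succ', pow_zero, mul_comm, mul_assoc]
  congr 1
  have : ∀ i ∈ Finset.range n, q ^ (n+1) - q ^ (i+1) = q * (q ^ n - q ^ i) := by
    intro i _
    rw [Nat.mul_sub, ← pow_succ', ← pow_succ']
  rw [Finset.prod_congr rfl this, Finset.prod_mul_distrib, Finset.prod_const, Finset.card_range]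

/-- `|GL_n(q)| / |GL_k(q)|` -/
def Hq (q k n : ℕ) : ℕ := ∏ j ∈ Finset.Ico k n, ((q ^ (j+1) - 1) * q ^ j)

lemma Hq_self (q n : ℕ) : Hq q n n = 1 := by simp [Hq]

lemma Hq_succ (q k n : ℕ) (h : k ≤ n) : Hq q k (n+1) = Hq q k n * ((q ^ (n+1) - 1) * q ^ n) := by
  unfold Hq
  rw [Finset.prod_Ico_succ_top h]

lemma Gq_eq_Hq_mul (q k n : ℕ) (h : k ≤ n) : Gq q n = Hq q k n * Gq q k := by
  induction n, h using Nat.le_induction with
  | base => simp [Hq_self]
  | succ n hn ih =>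
    rw [Gq_succ, Hq_succ q k n hn, ih]
    ring

lemma sum_Hq (q : ℕ) (hq : 1 ≤ q) (n : ℕ) :
    ∑ k ∈ Finset.range (n+1), Hq q k n * q ^ (k * (k - 1)) = q ^ (n * n) := by
  induction n with
  | zero => simp [Hq_self]
  | succ n ih =>
    rw [Finset.sum_range_succ, Hq_self, one_mul]
    have : ∀ k ∈ Finset.range (n+1), Hq q k (n+1) * q ^ (k * (k-1)) =
        ((q ^ (n+1) - 1) * q ^ n) * (Hq q k n * q ^ (k * (k-1))) := by
      intro k hk
      rw [Hq_succ q k n (by simpa [Nat.lt_succ_iff] using hk)]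
      ring
    rw [Finset.sum_congr rfl this, ← Finset.mul_sum, ih]
    have h1 : 1 ≤ q ^ (n+1) := Nat.one_le_pow _ _ hq
    obtain ⟨x, hx⟩ : ∃ x, q ^ (n+1) = x + 1 := ⟨q ^ (n+1) - 1, by omega⟩
    rw [hx, Nat.add_sub_cancel]
    have e1 : (n + 1) * (n + 1 - 1) = n * n + n := by
      rw [Nat.add_sub_cancel]; ring
    have e2 : (n + 1) * (n + 1) = (n * n + n) + (n + 1) := by ring
    rw [e1, e2, pow_add (q) (n*n+n) (n+1), hx, pow_add]
    ring

/-- abstract induction -/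
theorem nil_count_induction (q : ℕ) (hq : 1 ≤ q) (a : ℕ → ℕ) (t : ℕ → ℕ → ℕ)
    (hG : ∀ n, 0 < Gq q n)
    (R1 : ∀ n k, k ≤ n → Gq q n * a k = t n k * Gq q k)
    (R2 : ∀ n, ∑ k ∈ Finset.range (n+1), t n k = q ^ (n * n)) :
    ∀ n, a n = q ^ (n * (n - 1)) := by
  intro n
  induction n using Nat.strong_induction_on with
  | _ n ih =>
    have h1 : t n n = a n := by
      have := R1 n n le_rfl
      rw [mul_comm] at this
      exact (Nat.eq_of_mul_eq_mul_right (hG n) this).symm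
    have h2 : ∀ k ∈ Finset.range n, t n k = Hq q k n * q ^ (k * (k - 1)) := by
      intro k hk
      have hkn : k < n := Finset.mem_range.mp hk
      have := R1 n k hkn.le
      rw [ih k hkn, Gq_eq_Hq_mul q k n hkn.le] at this
      apply Nat.eq_of_mul_eq_mul_right (hG k)
      rw [← this]; ring
    have h3 := R2 n
    rw [Finset.sum_range_succ, Finset.sum_congr rfl h2, h1] at h3
    have h4 := sum_Hq q hq n
    rw [Finset.sum_range_succ, Hq_self, one_mul] at h4
    omega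

end Cfsg.Agent.Helper42
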