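import Cfsg.Agent.Lib.Helper42.Fitting2
import Cfsg.Agent.Lib.Helper42.NilCount

set_option autoImplicit false

namespace Cfsg.Agent.Helper42

open Module

section Fsec

variable {F : Type*} [Field F] [Fintype F]
variable {V V' : Type*} [AddCommGroup V] [Module F V] [AddCommGroup V'] [Module F V']

/-- number of nilpotent endomorphisms -/
noncomputable def nilCard (F V : Type*) [Field F] [AddCommGroup V] [Module F V] : ℕ :=
  Nat.card {N : Module.End F V // IsNilpotent N}

/-- number of automorphisms -/
noncomputable def glCard (F V : Type*) [Field F] [AddCommGroup V] [Module F V] : ℕ :=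
  Nat.card (V ≃ₗ[F] V)

lemma card_equiv_eq_glCard (e₀ : V' ≃ₗ[F] V) : Nat.card (V' ≃ₗ[F] V) = glCard F V := by
  unfold glCard
  apply Nat.card_congr
  exact
    { toFun := fun f => e₀.symm ≪≫ₗ f
      invFun := fun g => e₀ ≪≫ₗ g
      left_inv := fun f => by ext x; simp
      right_inv := fun g => by ext x; simp }

lemma nilCard_congr (e : V ≃ₗ[F] V') : nilCard F V = nilCard F V' := by
  unfold nilCard
  apply Nat.card_congr
  exact
    { toFun := fun N => ⟨e.conjRingEquiv N.1, N.2.map e.conjRingEquiv⟩
      invFun := fun N => ⟨e.conjRingEquiv.symm N.1, N.2.map e.conjRingEquiv.symm⟩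
      left_inv := fun N => by simp
      right_inv := fun N => by simp }

lemma glCard_fin (d : ℕ) :
    glCard F (Fin d → F) = ∏ i : Fin d, (Fintype.card F ^ d - Fintype.card F ^ (i : ℕ)) := by
  rw [← Matrix.card_GL_field]
  unfold glCard
  apply Nat.card_congr
  exact ((Matrix.GeneralLinearGroup.toLin (n := Fin d) (R := F)).trans
    (LinearMap.GeneralLinearGroup.generalLinearEquiv F (Fin d → F))).toEquiv.symm

lemma glCard_pos (d : ℕ) : 0 < glCard F (Fin d → F) := by
  unfold glCard
  haveI : Finite ((Fin d → F) ≃ₗ[F] (Fin d → F)) := finite_equiv_aux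
  exact Nat.card_pos

/-- number of endomorphisms of `F^n` with nilpotent part of dimension `k` -/
noncomputable def tCard (F : Type*) [Field F] (n k : ℕ) : ℕ :=
  Nat.card {T : Module.End F (Fin n → F) // nilDim T = k}

lemma key_relation (n k : ℕ) (hk : k ≤ n) :
    glCard F (Fin n → F) * nilCard F (Fin k → F) = tCard F n k * glCard F (Fin k → F) := by
  have hU : finrank F (Fin k → F) = k := by simp
  have hW : finrank F (Fin (n - k) → F) = n - k := by simp
  have hV : finrank F (Fin n → F) = n := by simp
  have hdim : finrank F (Fin n → F) = finrank F (Fin k → F) + finrank F (Fin (n - k) → F) := by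
    rw [hU, hW, hV]; omega
  have h := card_fitData (F := F) (U := Fin k → F) (W := Fin (n - k) → F) (V := Fin n → F) hdim
  have e₀ : ((Fin k → F) × (Fin (n - k) → F)) ≃ₗ[F] (Fin n → F) :=
    LinearEquiv.ofFinrankEq _ _ (by rw [Module.finrank_prod, hU, hW, hV]; omega)
  rw [Nat.card_prod, Nat.card_prod, card_equiv_eq_glCard e₀] at h
  have ht : Nat.card (FitTarget F (Fin k → F) (Fin n → F)) = tCard F n k := by
    unfold tCard
    apply Nat.card_congr
    exact Equiv.subtypeEquivRight (fun T => by rw [hU])
  rw [ht] at h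
  have hpos := glCard_pos (F := F) (n - k)
  unfold glCard nilCard at *
  apply Nat.eq_of_mul_eq_mul_right hpos
  rw [mul_assoc, h, mul_assoc]

lemma nilDim_le (n : ℕ) (T : Module.End F (Fin n → F)) : nilDim T ≤ n := by
  unfold nilDim
  have := Submodule.finrank_le (LinearMap.ker (T ^ finrank F (Fin n → F)))
  simpa using this

lemma card_end (n : ℕ) : Nat.card (Module.End F (Fin n → F)) = Fintype.card F ^ (n * n) := by
  rw [Module.natCard_eq_pow_finrank (K := F), Module.finrank_linearMap, Nat.card_eq_fintype_card]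
  simp

lemma sum_tCard (n : ℕ) : ∑ k ∈ Finset.range (n + 1), tCard F n k = Fintype.card F ^ (n * n) := by
  rw [← card_end n]
  let f : Module.End F (Fin n → F) → Fin (n + 1) := fun T => ⟨nilDim T, Nat.lt_succ_of_le (nilDim_le n T)⟩
  rw [Nat.card_congr (Equiv.sigmaFiberEquiv f).symm, Nat.card_sigma, Finset.sum_range]
  apply Finset.sum_congr rfl
  intro k _
  unfold tCard
  apply Nat.card_congr
  exact Equiv.subtypeEquivRight (fun T => by simp [f, Fin.ext_iff])

lemma glCard_eq_Gq (n : ℕ) : glCard F (Fin n → F) = Gq (Fintype.card F) n := by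
  rw [glCard_fin, Gq, Fin.prod_univ_eq_prod_range (fun i => Fintype.card F ^ n - Fintype.card F ^ i) n]

theorem nilCard_fin (n : ℕ) : nilCard F (Fin n → F) = Fintype.card F ^ (n * (n - 1)) := by
  have hq : 1 ≤ Fintype.card F := Fintype.card_pos
  refine nil_count_induction (Fintype.card F) hq (fun k => nilCard F (Fin k → F)) (tCard F) ?_ ?_ ?_ n
  · intro k
    rw [← glCard_eq_Gq]; exact glCard_pos k
  · intro m k hk
    rw [← glCard_eq_Gq, ← glCard_eq_Gq]
    exact key_relation m k hk
  · intro m
    exact sum_tCard m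

/-- number of nilpotent matrices -/
theorem card_nilpotent_matrix (n : ℕ) :
    Nat.card {N : Matrix (Fin n) (Fin n) F // IsNilpotent N} = Fintype.card F ^ (n * (n - 1)) := by
  rw [← nilCard_fin n]
  unfold nilCard
  apply Nat.card_congr
  exact
    { toFun := fun N => ⟨Matrix.toLinAlgEquiv' N.1, N.2.map (Matrix.toLinAlgEquiv' (R := F) (n := Fin n))⟩
      invFun := fun N => ⟨Matrix.toLinAlgEquiv'.symm N.1, N.2.map (Matrix.toLinAlgEquiv' (R := F) (n := Fin n)).symm⟩
      left_inv := fun N => by simp
      right_inv := fun N => by simp }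

end Fsec

end Cfsg.Agent.Helper42
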