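import Mathlib

/-!
# G2 server (helper31, S3795): piece (NILCRIT), part a: general lemmas (Mathlib only).
-/

set_option autoImplicit false

namespace Cfsg.Agent.Helper42.G2

open Subgroup

/-- a subgroup containing a Sylow `s`-subgroup for every prime `s` is everything. -/
theorem nc_eq_top_of_sylow_le {G : Type*} [Group G] [Finite G] (H : Subgroup G)
    (h : ∀ (s : ℕ) [Fact s.Prime], ∃ S : Sylow s G, (S : Subgroup G) ≤ H) : H = ⊤ := by
  rw [← Subgroup.index_eq_one]
  by_contra hne
  obtain ⟨s, hs, hdvd⟩ := Nat.exists_prime_and_dvd hne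
  have hsF : Fact s.Prime := ⟨hs⟩
  obtain ⟨S, hS⟩ := h s
  exact S.not_dvd_index (hdvd.trans (Subgroup.index_dvd_of_le hS))

/-- a normal Sylow `p`-subgroup contains every `p`-element. -/
theorem nc_mem_of_normal_sylow {G : Type*} [Group G] [Finite G] {p : ℕ} [hp : Fact p.Prime]
    (S : Sylow p G) (hS : (S : Subgroup G).Normal) (y : G) (e : ℕ) (hy : y ^ p ^ e = 1) :
    y ∈ S := by
  obtain ⟨k, -, hk⟩ := (Nat.dvd_prime_pow hp.out).mp (orderOf_dvd_of_pow_eq_one hy)
  have hz : IsPGroup p (zpowers y) := IsPGroup.of_card ((Nat.card_zpowers y).trans hk)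
  obtain ⟨S', hS'⟩ := hz.exists_le_sylow
  have hu := Sylow.unique_of_normal S hS
  have hSS : S' = S := Subsingleton.elim _ _
  rw [← hSS]
  exact hS' (mem_zpowers y)

/-- the quotient by a normal subgroup containing a term of the lower central series is
nilpotent. -/
theorem nc_quot_nilpotent {K : Type*} [Group K] (D : Subgroup K) [D.Normal]
    (h : ∃ k : ℕ, (⊤ : Subgroup K).lowerCentralSeries k ≤ D) : Group.IsNilpotent (K ⧸ D) := by
  obtain ⟨k, hk⟩ := h
  rw [Subgroup.nilpotent_iff_lowerCentralSeries]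
  refine ⟨k, ?_⟩
  have h1 : (⊤ : Subgroup (K ⧸ D)) = (⊤ : Subgroup K).map (QuotientGroup.mk' D) :=
    (Subgroup.map_top_of_surjective _ (QuotientGroup.mk'_surjective D)).symm
  rw [h1, ← Subgroup.map_lowerCentralSeries, eq_bot_iff]
  calc ((⊤ : Subgroup K).lowerCentralSeries k).map (QuotientGroup.mk' D)
      ≤ D.map (QuotientGroup.mk' D) := Subgroup.map_mono hk
    _ = ⊥ := by rw [Subgroup.map_eq_bot_iff, QuotientGroup.ker_mk']

end Cfsg.Agent.Helper42.G2
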