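import Mathlib
import Cfsg.Agent.Lib.Helper42.G2NILCRITa

/-!
# G2 server (helper31, S3795): piece (NILCRIT), part b: lemma (Z) (a Sylow subgroup of a nilpotent
group `X = [X, τ]` on which `τ` is trivial is trivial).
-/

set_option autoImplicit false

namespace Cfsg.Agent.Helper42.G2

open Subgroup

open scoped IsMulCommutative in
/-- (Z) `X` finite nilpotent, `τ` an endomorphism, `X` generated by the `x⁻¹ τ(x)`, `τ` trivial on a
Sylow `q`-subgroup `Q`: then `Q = ⊥`. -/
theorem nc_sylow_eq_bot {X : Type*} [Group X] [Finite X] (hX : Group.IsNilpotent X) (τ : X →* X)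
    (hgen : Subgroup.closure {c : X | ∃ x : X, c = x⁻¹ * τ x} = ⊤) {q : ℕ} [hq : Fact q.Prime]
    (Q : Sylow q X) (hfix : ∀ g ∈ Q, τ g = g) : (Q : Subgroup X) = ⊥ := by
  have hQn : (Q : Subgroup X).Normal := inferInstance
  -- the generators centralise `Q`
  have hcent : ∀ g ∈ Q, ∀ x : X, g * (x⁻¹ * τ x) = (x⁻¹ * τ x) * g := by
    intro g hg x
    have h1 : x * g * x⁻¹ ∈ (Q : Subgroup X) := hQn.conj_mem g hg x
    have h2 : τ (x * g * x⁻¹) = x * g * x⁻¹ := hfix _ h1
    rw [map_mul, map_mul, map_inv, hfix g hg] at h2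
    -- τ x * g * (τ x)⁻¹ = x * g * x⁻¹
    have h3 : τ x * g = x * g * x⁻¹ * τ x := by
      rw [← h2]; group
    calc g * (x⁻¹ * τ x) = x⁻¹ * (x * g * x⁻¹ * τ x) := by group
      _ = x⁻¹ * (τ x * g) := by rw [h3]
      _ = (x⁻¹ * τ x) * g := by group
  -- `Q` is central
  have hQZ : (Q : Subgroup X) ≤ center X := by
    intro g hg
    have h1 : Subgroup.closure {c : X | ∃ x : X, c = x⁻¹ * τ x} ≤ centralizer {g} := by
      rw [Subgroup.closure_le]
      rintro c ⟨x, rfl⟩
      rw [SetLike.mem_coe, Subgroup.mem_centralizer_singleton_iff]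
      exact (hcent g hg x).symm
    rw [hgen] at h1
    rw [Subgroup.mem_center_iff]
    intro y
    have := h1 (Subgroup.mem_top y)
    rw [Subgroup.mem_centralizer_singleton_iff] at this
    exact this
  set j := (center X).index with hj
  set m := (Q : Subgroup X).index with hm
  have hjm : j ∣ m := Subgroup.index_dvd_of_le hQZ
  have hqm : ¬ q ∣ m := Q.not_dvd_index
  obtain ⟨n, hn⟩ := IsPGroup.iff_card.mp Q.2
  have hcard : m * q ^ n = Nat.card X := by
    rw [← hn]; exact Subgroup.index_mul_card _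
  let φ : X →* center X := (powMonoidHom m : center X →* center X).comp (MonoidHom.transferCenterPow X)
  have hφ : ∀ x : X, ((φ x : center X) : X) = (x ^ j) ^ m := by
    intro x
    simp only [φ, MonoidHom.coe_comp, Function.comp_apply, powMonoidHom_apply,
      Subgroup.coe_pow, MonoidHom.transferCenterPow_apply, hj]
  have hφQ : ∀ x : X, ((φ x : center X) : X) ∈ Q := by
    intro x
    apply nc_mem_of_normal_sylow Q hQn _ n
    rw [hφ, ← pow_mul, ← pow_mul, hcard, mul_comm, pow_mul, pow_card_eq_one']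
    exact one_pow _
  have hφτ : ∀ x : X, φ (τ x) = φ x := by
    intro x
    apply Subtype.ext
    rw [hφ, ← map_pow, ← map_pow, ← hφ]
    exact hfix _ (hφQ x)
  have hker : Subgroup.closure {c : X | ∃ x : X, c = x⁻¹ * τ x} ≤ φ.ker := by
    rw [Subgroup.closure_le]
    rintro c ⟨x, rfl⟩
    rw [SetLike.mem_coe, MonoidHom.mem_ker, map_mul, map_inv, hφτ, inv_mul_cancel]
  rw [hgen] at hker
  rw [Subgroup.eq_bot_iff_forall]
  intro g hg
  have h1 : φ g = 1 := MonoidHom.mem_ker.mp (hker (Subgroup.mem_top g))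
  have h2 : g ^ (j * m) = 1 := by
    have := hφ g
    rw [h1] at this
    rw [pow_mul]; exact this.symm
  have h3 : g ^ q ^ n = 1 := by
    have : (⟨g, hg⟩ : (Q : Subgroup X)) ^ q ^ n = 1 := by
      rw [← hn]; exact pow_card_eq_one'
    exact congrArg Subtype.val this
  have hcop : Nat.Coprime (j * m) (q ^ n) := by
    apply Nat.Coprime.pow_right
    apply Nat.Coprime.symm
    rw [Nat.Prime.coprime_iff_not_dvd hq.out]
    intro hd
    rcases (Nat.Prime.dvd_mul hq.out).mp hd with h | h
    · exact hqm (h.trans hjm)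
    · exact hqm h
  have h4 : orderOf g ∣ 1 := by
    rw [← Nat.Coprime.gcd_eq_one hcop]
    exact Nat.dvd_gcd (orderOf_dvd_of_pow_eq_one h2) (orderOf_dvd_of_pow_eq_one h3)
  exact orderOf_eq_one_iff.mp (Nat.dvd_one.mp h4)

end Cfsg.Agent.Helper42.G2
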