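import Mathlib
import Cfsg.Agent.Lib.Helper42.G2NILCRITa
import Cfsg.Agent.Lib.Helper42.G2NILCRITb

/-!
# G2 server (helper31, S3795): piece (NILCRIT) `g2_nilcrit`, the nilpotency criterion
(statement VERBATIM from `tools/g2_sigs_helper31.lean.txt`).  Mathlib only.
-/

set_option autoImplicit false

namespace Cfsg.Agent.Helper42.G2

open Subgroup

/-- the core of (NILCRIT): the given Sylow `q`-subgroup is normal. -/
theorem nc_sylow_normal {K : Type*} [Group K] [Finite K] (t : MulAut K)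
    (ht : t ^ 2 = 1) (L : Subgroup K) [hLn : L.Normal] (hLt : ∀ g ∈ L, t g ∈ L)
    (hLnil : Group.IsNilpotent L) (hKL : ∃ k : ℕ, (⊤ : Subgroup K).lowerCentralSeries k ≤ L)
    (hgen : Subgroup.closure {c : K | ∃ k : K, c = k⁻¹ * t k} = ⊤)
    (q : ℕ) [hq : Fact q.Prime] (P : Subgroup K) (hPq : IsPGroup q P)
    (hPmax : ∀ P' : Subgroup K, IsPGroup q P' → P ≤ P' → P' = P)
    (hPc : ∀ g ∈ P, ∀ (s e : ℕ), s.Prime → s ≠ q → ∀ a ∈ L, a ^ s ^ e = 1 →
        (g⁻¹ * t g) * a = a * (g⁻¹ * t g)) : P.Normal := by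
  classical
  let PS : Sylow q K := ⟨P, hPq, fun {Q} hQ hle => hPmax Q hQ hle⟩
  have hPS : (PS : Subgroup K) = P := rfl
  -- t is an involution
  have htt : ∀ a : K, t (t a) = a := by
    intro a
    have : (t ^ 2) a = a := by rw [ht]; rfl
    rwa [pow_two] at this
  -- the set of `q'`-primary elements of `L`
  set A' : Set K := {a | a ∈ L ∧ ∃ s e : ℕ, s.Prime ∧ s ≠ q ∧ a ^ s ^ e = 1} with hA'
  have hA'conj : ∀ a ∈ A', ∀ k : K, k * a * k⁻¹ ∈ A' := by
    rintro a ⟨haL, s, e, hs, hsq, hae⟩ k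
    refine ⟨hLn.conj_mem a haL k, s, e, hs, hsq, ?_⟩
    rw [conj_pow, hae, mul_one, mul_inv_cancel]
  have hA't : ∀ a ∈ A', t a ∈ A' := by
    rintro a ⟨haL, s, e, hs, hsq, hae⟩
    refine ⟨hLt a haL, s, e, hs, hsq, ?_⟩
    rw [← map_pow, hae, map_one]
  set C : Subgroup K := centralizer A' with hC
  have hCmem : ∀ c : K, c ∈ C ↔ ∀ a ∈ A', a * c = c * a := fun c => Subgroup.mem_centralizer_iff
  have hCn : C.Normal := by
    refine ⟨fun c hc k => ?_⟩
    rw [hCmem] at hc ⊢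
    intro a ha
    have h1 := hc (k⁻¹ * a * k⁻¹⁻¹) (hA'conj a ha k⁻¹)
    rw [inv_inv] at h1
    calc a * (k * c * k⁻¹) = k * ((k⁻¹ * a * k) * c) * k⁻¹ := by group
      _ = k * (c * (k⁻¹ * a * k)) * k⁻¹ := by rw [h1]
      _ = k * c * k⁻¹ * a := by group
  have hCt : ∀ c ∈ C, t c ∈ C := by
    intro c hc
    rw [hCmem] at hc ⊢
    intro a ha
    have h1 := hc (t a) (hA't a ha)
    have h2 := congrArg t h1
    rw [map_mul, map_mul, htt] at h2
    exact h2
  -- the Sylow `q`-subgroup of `L`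
  have hLnil' : Group.IsNilpotent L := hLnil
  obtain ⟨B⟩ : Nonempty (Sylow q L) := Sylow.nonempty
  have hBn : (B : Subgroup L).Normal := inferInstance
  have hBmem : ∀ y : K, ∀ hy : y ∈ L, ∀ e : ℕ, y ^ q ^ e = 1 → (⟨y, hy⟩ : L) ∈ B := by
    intro y hy e hye
    apply nc_mem_of_normal_sylow B hBn _ e
    apply Subtype.ext
    rw [Subgroup.coe_pow]; exact hye
  -- `q`-elements of `L` lie in `P`
  have hBP : ∀ y ∈ L, ∀ e : ℕ, y ^ q ^ e = 1 → y ∈ P := by
    intro y hy e hye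
    set B' : Subgroup K := (B : Subgroup L).map L.subtype with hB'
    have hB'q : IsPGroup q B' := B.2.map L.subtype
    have hB'n : B'.Normal := by
      refine ⟨fun b hb k => ?_⟩
      obtain ⟨b0, hb0, rfl⟩ := hb
      obtain ⟨e', he'⟩ := B.2 ⟨b0, hb0⟩
      have he'' : (b0 : K) ^ q ^ e' = 1 := by
        have := congrArg (fun z : (B : Subgroup L) => ((z : L) : K)) he'
        simpa using this
      have hmem := hBmem (k * (b0 : K) * k⁻¹) (hLn.conj_mem _ b0.2 k) e'
        (by rw [conj_pow, he'', mul_one, mul_inv_cancel])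
      exact ⟨_, hmem, rfl⟩
    have h1 : IsPGroup q (P ⊔ B' : Subgroup K) := IsPGroup.to_sup_of_normal_right hPq hB'q
    have h2 := hPmax _ h1 le_sup_left
    have h3 : B' ≤ P := by rw [← h2]; exact le_sup_right
    exact h3 ⟨_, hBmem y hy e hye, rfl⟩
  -- `q`-elements of `L` lie in `C`
  have hBC : ∀ y ∈ L, ∀ e : ℕ, y ^ q ^ e = 1 → y ∈ C := by
    intro y hy e hye
    rw [hCmem]
    rintro a ⟨haL, s, e', hs, hsq, hae⟩
    have hsF : Fact s.Prime := ⟨hs⟩
    obtain ⟨S⟩ : Nonempty (Sylow s L) := Sylow.nonempty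
    have hSn : (S : Subgroup L).Normal := inferInstance
    have haS : (⟨a, haL⟩ : L) ∈ S := by
      apply nc_mem_of_normal_sylow S hSn _ e'
      apply Subtype.ext
      rw [Subgroup.coe_pow]; exact hae
    have hdis : Disjoint (S : Subgroup L) (B : Subgroup L) :=
      IsPGroup.disjoint_of_ne s q hsq _ _ S.2 B.2
    have hcomm := Subgroup.commute_of_normal_of_disjoint _ _ hSn hBn hdis _ _ haS (hBmem y hy e hye)
    exact congrArg Subtype.val hcomm.eq
  -- `D = C ⊔ L`
  set D : Subgroup K := C ⊔ L with hD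
  have hDn : D.Normal := inferInstance
  have hDt : D ≤ D.comap t.toMonoidHom := by
    apply sup_le
    · intro c hc
      exact Subgroup.mem_comap.mpr (le_sup_left (a := C) (b := L) (hCt c hc))
    · intro l hl
      exact Subgroup.mem_comap.mpr (le_sup_right (a := C) (b := L) (hLt l hl))
  -- step 2: `P ≤ D`
  have hPD : P ≤ D := by
    have hXnil : Group.IsNilpotent (K ⧸ D) := by
      apply nc_quot_nilpotent
      obtain ⟨k, hk⟩ := hKL
      exact ⟨k, hk.trans le_sup_right⟩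
    let τ : K ⧸ D →* K ⧸ D := QuotientGroup.map D D t.toMonoidHom hDt
    have hτ : ∀ k : K, τ (k : K ⧸ D) = ((t k : K) : K ⧸ D) := fun k => rfl
    have hgenX : Subgroup.closure {c : K ⧸ D | ∃ x : K ⧸ D, c = x⁻¹ * τ x} = ⊤ := by
      rw [eq_top_iff, ← Subgroup.map_top_of_surjective _ (QuotientGroup.mk'_surjective D), ← hgen,
        MonoidHom.map_closure]
      apply Subgroup.closure_mono
      rintro _ ⟨c, ⟨k, rfl⟩, rfl⟩
      exact ⟨(k : K ⧸ D), by rw [hτ]; rfl⟩
    let Q : Sylow q (K ⧸ D) := PS.mapSurjective (QuotientGroup.mk'_surjective D)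
    have hQ : (Q : Subgroup (K ⧸ D)) = P.map (QuotientGroup.mk' D) := rfl
    have hfix : ∀ g ∈ Q, τ g = g := by
      intro g hg
      have hg' : g ∈ (Q : Subgroup (K ⧸ D)) := hg
      rw [hQ] at hg'
      obtain ⟨p, hp, rfl⟩ := hg'
      rw [QuotientGroup.mk'_apply, hτ, eq_comm, QuotientGroup.eq]
      apply le_sup_left (a := C) (b := L)
      rw [hCmem]
      rintro a ⟨haL, s, e, hs, hsq, hae⟩
      exact (hPc p hp s e hs hsq a haL hae).symm
    have hbot := nc_sylow_eq_bot hXnil τ hgenX Q hfix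
    rw [hQ, Subgroup.map_eq_bot_iff, QuotientGroup.ker_mk'] at hbot
    exact hbot
  -- step 3: `P ≤ C`
  have hPC : P ≤ C := by
    intro g hg
    have hgD : g ∈ (↑(C ⊔ L) : Set K) := hPD hg
    rw [Subgroup.normal_mul] at hgD
    obtain ⟨c, hc, l, hl, rfl⟩ := Set.mem_mul.mp hgD
    have hlC : l ∈ C := by
      rw [← QuotientGroup.eq_one_iff (N := C)]
      obtain ⟨b, hb⟩ := hPq ⟨c * l, hg⟩
      have hb' : (c * l) ^ q ^ b = 1 := congrArg Subtype.val hb
      obtain ⟨a, m, hm, hom⟩ := Nat.exists_eq_pow_mul_and_not_dvd (orderOf_pos l).ne' q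
        hq.out.ne_one
      have h1 : ((l : K) : K ⧸ C) ^ q ^ b = 1 := by
        have h0 : ((l : K) : K ⧸ C) = ((c * l : K) : K ⧸ C) := by
          rw [QuotientGroup.mk_mul, (QuotientGroup.eq_one_iff c).mpr hc, one_mul]
        rw [h0, ← QuotientGroup.mk_pow, hb']; rfl
      have h2 : ((l : K) : K ⧸ C) ^ m = 1 := by
        rw [← QuotientGroup.mk_pow, QuotientGroup.eq_one_iff]
        apply hBC (l ^ m) (L.pow_mem hl m) a
        rw [← pow_mul, mul_comm, ← hom, pow_orderOf_eq_one]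
      have hcop : Nat.Coprime (q ^ b) m :=
        Nat.Coprime.pow_left b ((Nat.Prime.coprime_iff_not_dvd hq.out).mpr hm)
      have h4 : orderOf ((l : K) : K ⧸ C) ∣ 1 := by
        rw [← Nat.Coprime.gcd_eq_one hcop]
        exact Nat.dvd_gcd (orderOf_dvd_of_pow_eq_one h1) (orderOf_dvd_of_pow_eq_one h2)
      exact orderOf_eq_one_iff.mp (Nat.dvd_one.mp h4)
    exact C.mul_mem hc hlC
  -- step 4: `L ≤ N_K(P)`
  have hLN : L ≤ normalizer (P : Set K) := by
    have htop : (normalizer (P : Set K)).subgroupOf L = ⊤ := by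
      apply nc_eq_top_of_sylow_le
      intro s hsF
      by_cases hsq : s = q
      · subst hsq
        refine ⟨B, fun b hb => ?_⟩
        rw [Subgroup.mem_subgroupOf]
        apply Subgroup.le_normalizer
        obtain ⟨e', he'⟩ := B.2 ⟨b, hb⟩
        have he'' : (b : K) ^ s ^ e' = 1 := by
          have := congrArg (fun z : (B : Subgroup L) => ((z : L) : K)) he'
          simpa using this
        exact hBP _ b.2 e' he''
      · obtain ⟨S⟩ : Nonempty (Sylow s L) := Sylow.nonempty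
        refine ⟨S, fun a ha => ?_⟩
        rw [Subgroup.mem_subgroupOf]
        apply Subgroup.centralizer_le_normalizer
        obtain ⟨e', he'⟩ := S.2 ⟨a, ha⟩
        have he'' : (a : K) ^ s ^ e' = 1 := by
          have := congrArg (fun z : (S : Subgroup L) => ((z : L) : K)) he'
          simpa using this
        have haA : (a : K) ∈ A' := ⟨a.2, s, e', hsF.out, hsq, he''⟩
        rw [Subgroup.mem_centralizer_iff]
        intro g hg
        have := (hCmem g).mp (hPC hg) _ haA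
        exact this.symm
    intro l hl
    have : (⟨l, hl⟩ : L) ∈ (normalizer (P : Set K)).subgroupOf L := by rw [htop]; trivial
    exact Subgroup.mem_subgroupOf.mp this
  -- step 5: conjugates of `P` lie in `P ⊔ L`
  have hconj : ∀ k : K, ∀ g ∈ P, k * g * k⁻¹ ∈ P ⊔ L := by
    intro k g hg
    have hXnil : Group.IsNilpotent (K ⧸ L) := nc_quot_nilpotent L hKL
    let Q : Sylow q (K ⧸ L) := PS.mapSurjective (QuotientGroup.mk'_surjective L)
    have hQ : (Q : Subgroup (K ⧸ L)) = P.map (QuotientGroup.mk' L) := rfl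
    have hQn : (Q : Subgroup (K ⧸ L)).Normal := inferInstance
    have h1 : ((g : K) : K ⧸ L) ∈ (Q : Subgroup (K ⧸ L)) := by
      rw [hQ]; exact ⟨g, hg, rfl⟩
    have h2 := hQn.conj_mem _ h1 (k : K ⧸ L)
    rw [hQ] at h2
    obtain ⟨p, hp, hpe⟩ := h2
    have h3 : p⁻¹ * (k * g * k⁻¹) ∈ L := by
      rw [← QuotientGroup.eq]
      exact hpe
    have : k * g * k⁻¹ = p * (p⁻¹ * (k * g * k⁻¹)) := by group
    rw [this]
    exact Subgroup.mul_mem_sup hp h3
  -- conclusion
  refine ⟨fun g hg k => ?_⟩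
  set y := k * g * k⁻¹ with hy
  have hyN : y ∈ normalizer (P : Set K) :=
    (sup_le Subgroup.le_normalizer hLN) (hconj k g hg)
  obtain ⟨e, he⟩ := hPq ⟨g, hg⟩
  have he' : g ^ q ^ e = 1 := congrArg Subtype.val he
  have hye : y ^ q ^ e = 1 := by rw [hy, conj_pow, he', mul_one, mul_inv_cancel]
  obtain ⟨k', -, hk'⟩ := (Nat.dvd_prime_pow hq.out).mp (orderOf_dvd_of_pow_eq_one hye)
  have hz : IsPGroup q (zpowers y) := IsPGroup.of_card ((Nat.card_zpowers y).trans hk')
  have hzN : zpowers y ≤ normalizer (P : Set K) := by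
    rw [Subgroup.zpowers_le]; exact hyN
  have h1 : IsPGroup q (zpowers y ⊔ P : Subgroup K) := IsPGroup.to_sup_of_normal_right' hz hPq hzN
  have h2 := hPmax _ h1 le_sup_right
  rw [← h2]
  exact le_sup_left (a := zpowers y) (b := P) (mem_zpowers y)

set_option linter.unusedVariables false in
/-- (NILCRIT) a nilpotency criterion.  `K` finite of odd order, `t` an automorphism with `t² = 1`,
`L ⊴ K` `t`-invariant nilpotent with `K/L` nilpotent, `K` generated by the `k⁻¹ t(k)`; for every prime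
`q` a `t`-invariant Sylow `q`-subgroup `P` of `K` such that `g⁻¹ t(g)` (`g ∈ P`) commutes with every
element of `L` of prime-power order `s^e`, `s ≠ q`.  Then `K` is nilpotent. -/
theorem g2_nilcrit {K : Type*} [Group K] [Finite K] (hodd : Odd (Nat.card K)) (t : MulAut K)
    (ht : t ^ 2 = 1) (L : Subgroup K) [L.Normal] (hLt : ∀ g ∈ L, t g ∈ L)
    (hLnil : Group.IsNilpotent L) (hKL : ∃ k : ℕ, (⊤ : Subgroup K).lowerCentralSeries k ≤ L)
    (hgen : Subgroup.closure {c : K | ∃ k : K, c = k⁻¹ * t k} = ⊤)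
    (hsyl : ∀ q : ℕ, q.Prime → ∃ P : Subgroup K, IsPGroup q P ∧
      (∀ P' : Subgroup K, IsPGroup q P' → P ≤ P' → P' = P) ∧ (∀ g ∈ P, t g ∈ P) ∧
      ∀ g ∈ P, ∀ (s e : ℕ), s.Prime → s ≠ q → ∀ a ∈ L, a ^ s ^ e = 1 →
        (g⁻¹ * t g) * a = a * (g⁻¹ * t g)) :
    Group.IsNilpotent K := by
  refine (Group.isNilpotent_of_finite_tfae.out 0 3 rfl rfl).mpr ?_
  intro q hq S
  obtain ⟨P, hPq, hPmax, -, hPc⟩ := hsyl q hq.out
  have hPn : P.Normal := nc_sylow_normal t ht L hLt hLnil hKL hgen q P hPq hPmax hPc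
  let PS : Sylow q K := ⟨P, hPq, fun {Q} hQ hle => hPmax Q hQ hle⟩
  have hu := Sylow.unique_of_normal PS hPn
  have hS : S = PS := Subsingleton.elim _ _
  rw [hS]
  exact hPn

end Cfsg.Agent.Helper42.G2
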