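import Mathlib
import Cfsg.Agent.Lib.Helper31.G2Defs
import Cfsg.Agent.Lib.Helper42.G2KEYNILb
import Cfsg.Agent.Lib.Helper42.G2NILCRIT

/-!
# G2 server (helper31, S3795): piece (KEYNIL) `g2_key_nil` (statement VERBATIM from
`tools/g2_sigs_helper31.lean.txt`) = `g2_key_nil_of` (Lib/Helper42/G2KEYNILb) applied to
`g2_nilcrit` (Lib/Helper42/G2NILCRIT).
-/

set_option autoImplicit false

namespace Cfsg.Agent.Helper42.G2

open Subgroup Cfsg.Agent.Helper31.G2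

universe u

/-- (KEYNIL) the faithful step of (KEY2). -/
theorem g2_key_nil (TOW : TowerStmt.{u}) {M V : Type u} [Group M] [Finite M] [Group V] [Finite V]
    [Nontrivial V]
    (hV : ∀ a b : V, a * b = b * a) (r : ℕ) (hr : r.Prime) (hexp : ∀ v : V, v ^ r = 1)
    (act : M →* MulAut V) (hinj : Function.Injective act) (σM : MulAut M) (x : MulAut V) (n : ℕ)
    (hσ : σM ^ 2 ^ (n + 1) = 1) (hx : x ^ 2 ^ (n + 1) = 1)
    (hcompat : ∀ m : M, x * act m = act (σM m) * x)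
    (hfM : ∀ m : M, σM m = m → m = 1) (hfV : ∀ v : V, x v = v → v = 1)
    (hmin : ∀ W : Subgroup V, (∀ m : M, ∀ w ∈ W, act m w ∈ W) → (∀ w ∈ W, x w ∈ W) →
      W ≠ ⊥ → W = ⊤)
    (L N : Subgroup M) (hLN : L ≤ N) (hLn : L.Normal) (hNn : N.Normal)
    (hLσ : ∀ m ∈ L, σM m ∈ L) (hNσ : ∀ m ∈ N, σM m ∈ N) (hLnil : Group.IsNilpotent L)
    (hNL : ∃ k : ℕ, N.lowerCentralSeries k ≤ L)
    (hc : ∀ m : M, m⁻¹ * (σM ^ 2 ^ n) m ∈ N) :
    ∃ X : Subgroup M, X.Normal ∧ (∀ m ∈ X, σM m ∈ X) ∧ Group.IsNilpotent X ∧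
      ∀ m : M, m⁻¹ * (σM ^ 2 ^ n) m ∈ X :=
  g2_key_nil_of
    (fun hodd t ht L _ hLt hLnil hKL hgen hsyl => g2_nilcrit hodd t ht L hLt hLnil hKL hgen hsyl)
    TOW hV r hr hexp act hinj σM x n hσ hx hcompat hfM hfV hmin L N hLN hLn hNn hLσ hNσ hLnil
    hNL hc

end Cfsg.Agent.Helper42.G2
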