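import Mathlib
import Cfsg.Agent.Lib.Helper42.AbelianPerm

set_option autoImplicit false

/-! Element orders of `GL_n(2)`: bounds for prime power orders, Singer cycles, unipotent elements,
and the identification `PSL_n(2) ≃ SL_n(2) → End`. Used for S2513. -/

namespace Cfsg.Agent.Helper42


open MulAction in
theorem free_perm_dvd {X : Type*} [Finite X] (σ : Equiv.Perm X) (N : ℕ)
    (hfree : ∀ x (M : ℕ), (σ ^ M) x = x → N ∣ M) : N ∣ Nat.card X := by
  classical
  have : Fintype (MulAction.orbitRel.Quotient (Subgroup.zpowers σ) X) := Fintype.ofFinite _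
  rw [card_eq_sum_orbit_card (G := Subgroup.zpowers σ) (α := X)]
  apply Finset.dvd_sum
  intro ω _
  set b : X := Quotient.out ω
  have : Fintype (orbit (Subgroup.zpowers σ) b) := Fintype.ofFinite _
  rw [Nat.card_eq_fintype_card, ← MulAction.minimalPeriod_eq_card]
  have hper : Function.IsPeriodicPt (σ • ·) (Function.minimalPeriod (σ • ·) b) b :=
    Function.isPeriodicPt_minimalPeriod _ _
  apply hfree b
  have h2 : ∀ M : ℕ, (σ • · : X → X)^[M] b = (σ ^ M) b := by
    intro M
    induction M with
    | zero => simp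
    | succ k ih =>
      rw [Function.iterate_succ_apply', ih, pow_succ']
      rfl
  rw [← h2]
  exact hper

section

variable {F : Type*} [Field F] {Z : Type*} [AddCommGroup Z] [Module F Z]

/-- the permutation given by an endomorphism of finite order -/
def permOfPow (T : Module.End F Z) (N : ℕ) (hN : 0 < N) (hT : T ^ N = 1) : Equiv.Perm Z where
  toFun := fun z => T z
  invFun := fun z => (T ^ (N - 1)) z
  left_inv z := by
    show (T ^ (N - 1)) (T z) = z
    rw [← Module.End.mul_apply, ← pow_succ, Nat.sub_add_cancel hN, hT]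
    rfl
  right_inv z := by
    show T ((T ^ (N - 1)) z) = z
    rw [← Module.End.mul_apply, ← pow_succ', Nat.sub_add_cancel hN, hT]
    rfl

theorem permOfPow_pow_apply (T : Module.End F Z) (N : ℕ) (hN : 0 < N) (hT : T ^ N = 1)
    (M : ℕ) (z : Z) : ((permOfPow T N hN hT) ^ M) z = (T ^ M) z := by
  induction M with
  | zero => simp
  | succ k ih =>
    rw [pow_succ', pow_succ', Equiv.Perm.mul_apply, ih, Module.End.mul_apply]
    rfl

theorem free_end_dvd [Finite Z] (T : Module.End F Z) (N : ℕ) (hN : 0 < N) (hT : T ^ N = 1)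
    (hfree : ∀ z : Z, z ≠ 0 → ∀ M : ℕ, (T ^ M) z = z → N ∣ M) : N ∣ Nat.card Z - 1 := by
  classical
  set σZ := permOfPow T N hN hT with hσZ
  have hinv : ∀ z : Z, (σZ z ≠ 0) ↔ z ≠ 0 := by
    intro z
    have : σZ z = T z := rfl
    rw [this]
    constructor
    · intro h hz
      apply h
      rw [hz, map_zero]
    · intro h hz
      apply h
      have h3 : (T ^ (N - 1)) (T z) = z := σZ.left_inv z
      rw [← h3, hz, map_zero]
  have key := free_perm_dvd (σZ.subtypePerm (p := fun z => z ≠ 0) hinv) N (by
    intro x M hM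
    rw [Equiv.Perm.subtypePerm_pow] at hM
    have h2 := congrArg Subtype.val hM
    rw [Equiv.Perm.subtypePerm_apply] at h2
    simp only at h2
    rw [permOfPow_pow_apply] at h2
    exact hfree x.1 x.2 M h2)
  have hcard : Nat.card Z = Nat.card {z : Z // z ≠ 0} + 1 := by
    rw [← Finite.card_option]
    exact Nat.card_congr (Equiv.optionSubtypeNe (0 : Z)).symm
  rw [hcard, Nat.add_sub_cancel]
  exact key

end



theorem two_eq_zero_of_card {F : Type*} [Field F] [Fintype F] (hF : Fintype.card F = 2) :
    (2 : F) = 0 := by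
  have := Nat.cast_card_eq_zero F
  rw [hF] at this
  exact_mod_cast this

theorem odd_prime_pow_order_bound {F : Type*} [Field F] [Fintype F] (hF : Fintype.card F = 2)
    {V : Type*} [AddCommGroup V] [Module F V] [FiniteDimensional F V]
    (f : Module.End F V) (r e : ℕ) (hr : r.Prime) (hr2 : r ≠ 2) (he : 1 ≤ e)
    (hf : orderOf f = r ^ e) :
    ∃ d, 1 ≤ d ∧ d ≤ Module.finrank F V ∧ r ^ e ∣ 2 ^ d - 1 := by
  classical
  have hVfin : Finite V := Module.finite_of_finite F
  obtain ⟨e', rfl⟩ : ∃ e', e = e' + 1 := ⟨e - 1, by omega⟩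
  set N := r ^ (e' + 1) with hN
  have hNpos : 0 < N := pow_pos hr.pos _
  have hfN : f ^ N = 1 := by rw [← hf]; exact pow_orderOf_eq_one f
  set g := f ^ (r ^ e') with hg
  have hgr : g ^ r = 1 := by rw [hg, ← pow_mul, ← pow_succ]; exact hfN
  have hg1 : g ≠ 1 := by
    intro h
    have := orderOf_dvd_of_pow_eq_one h
    rw [hf] at this
    have := (Nat.pow_dvd_pow_iff_le_right hr.one_lt).mp this
    omega
  have h2V : ∀ x : V, x + x = 0 := by
    intro x
    have : (2 : F) • x = 0 := by rw [two_eq_zero_of_card hF, zero_smul]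
    rwa [two_smul] at this
  have hodd : ∀ x : V, r • x = x := by
    intro x
    obtain ⟨q, hq⟩ := hr.odd_of_ne_two hr2
    rw [hq, add_smul, mul_comm, mul_smul, two_smul, h2V, smul_zero, zero_add, one_smul]
  set W := LinearMap.range (1 - g) with hW
  have hcomm : f * (1 - g) = (1 - g) * f := by
    rw [mul_sub, sub_mul, mul_one, one_mul, hg, ← pow_succ', ← pow_succ]
  have hWinv : ∀ x ∈ W, f x ∈ W := by
    rintro x ⟨v, rfl⟩
    refine ⟨f v, ?_⟩
    rw [← Module.End.mul_apply, ← Module.End.mul_apply, hcomm]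
  have hWne : W ≠ ⊥ := by
    rw [hW, Ne, LinearMap.range_eq_bot]
    intro h
    apply hg1
    exact (sub_eq_zero.mp h).symm
  set T := f.restrict hWinv with hT
  have hTN : T ^ N = 1 := by
    rw [Module.End.pow_restrict]
    ext w
    simp [hfN]
  have hfree : ∀ w : W, w ≠ 0 → ∀ M, (T ^ M) w = w → N ∣ M := by
    intro w hw M hM
    have hM' : (f ^ M) w.1 = w.1 := by
      have := congrArg Subtype.val hM
      rw [Module.End.pow_restrict] at this
      exact this
    by_contra hND
    have hper1 : Function.IsPeriodicPt f M w.1 := by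
      show f^[M] w.1 = w.1
      rw [← Module.End.pow_apply]; exact hM'
    have hper2 : Function.IsPeriodicPt f N w.1 := by
      show f^[N] w.1 = w.1
      rw [← Module.End.pow_apply, hfN]; rfl
    have hd1 := hper1.minimalPeriod_dvd
    have hd2 := hper2.minimalPeriod_dvd
    obtain ⟨i, hi, hpi⟩ := (Nat.dvd_prime_pow hr).mp hd2
    have hi' : i ≤ e' := by
      by_contra hcon
      have : i = e' + 1 := by omega
      apply hND
      rw [hN, ← this, ← hpi]; exact hd1
    have hgw : g w.1 = w.1 := by
      have h3 : Function.IsPeriodicPt f (r ^ e') w.1 := by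
        apply (Function.isPeriodicPt_minimalPeriod f w.1).trans_dvd
        rw [hpi]
        exact pow_dvd_pow r hi'
      have h4 : f^[r ^ e'] w.1 = w.1 := h3
      rw [← Module.End.pow_apply] at h4
      exact h4
    obtain ⟨v, hv⟩ := w.2
    have hsum : (∑ k ∈ Finset.range r, g ^ k) w.1 = 0 := by
      rw [← hv, ← Module.End.mul_apply, geom_sum_mul_neg, hgr, sub_self]; rfl
    have hgk : ∀ k : ℕ, (g ^ k) w.1 = w.1 := by
      intro k
      induction k with
      | zero => simp
      | succ k ih => rw [pow_succ, Module.End.mul_apply, hgw, ih]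
    rw [LinearMap.sum_apply] at hsum
    simp only [hgk, Finset.sum_const, Finset.card_range] at hsum
    rw [hodd] at hsum
    apply hw
    exact Subtype.ext hsum
  have key := free_end_dvd T N hNpos hTN hfree
  have hcardW : Nat.card W = 2 ^ Module.finrank F W := by
    rw [Module.natCard_eq_pow_finrank (K := F) (V := W), Nat.card_eq_fintype_card, hF]
  refine ⟨Module.finrank F W, ?_, Submodule.finrank_le W, ?_⟩
  · exact Submodule.one_le_finrank_iff.mpr hWne
  · rw [← hcardW]; exact key



section
variable {F : Type*} [Field F] [Fintype F] {V : Type*} [AddCommGroup V] [Module F V]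

theorem end_add_self (hF : Fintype.card F = 2) (x : Module.End F V) : x + x = 0 := by
  ext v
  have : (2 : F) • (x v) = 0 := by rw [two_eq_zero_of_card hF, zero_smul]
  rw [two_smul] at this
  simpa using this

theorem end_add_one_pow (hF : Fintype.card F = 2) (f : Module.End F V) (k : ℕ) :
    (f + 1) ^ (2 ^ k) = f ^ (2 ^ k) + 1 := by
  induction k with
  | zero => simp
  | succ k ih =>
    rw [pow_succ 2 k, pow_mul, ih, pow_mul, sq, sq]
    rw [mul_add, add_mul, mul_one, one_mul]
    have := end_add_self hF (f ^ 2 ^ k)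
    calc f ^ 2 ^ k * f ^ 2 ^ k + f ^ 2 ^ k + (f ^ 2 ^ k + 1)
        = f ^ 2 ^ k * f ^ 2 ^ k + (f ^ 2 ^ k + f ^ 2 ^ k) + 1 := by abel
      _ = f ^ 2 ^ k * f ^ 2 ^ k + 1 := by rw [this, add_zero]

theorem two_pow_order_bound [FiniteDimensional F V] (hF : Fintype.card F = 2)
    (f : Module.End F V) (j : ℕ) (hj : 1 ≤ j) (hf : orderOf f = 2 ^ j) :
    2 ^ (j - 1) < Module.finrank F V := by
  by_contra hcon
  push Not at hcon
  obtain ⟨j', rfl⟩ : ∃ j', j = j' + 1 := ⟨j - 1, by omega⟩
  simp only [Nat.add_sub_cancel] at hcon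
  have h0 : (f + 1) ^ (2 ^ (j' + 1)) = 0 := by
    rw [end_add_one_pow hF, ← hf, pow_orderOf_eq_one, end_add_self hF]
  have hn : (f + 1) ^ (Module.finrank F V) = 0 := by
    have := Module.End.ker_pow_le_ker_pow_finrank (f + 1) (2 ^ (j' + 1))
    rw [h0, LinearMap.ker_zero, top_le_iff, LinearMap.ker_eq_top] at this
    exact this
  have h1 : (f + 1) ^ (2 ^ j') = 0 := by
    rw [← Nat.sub_add_cancel hcon, pow_add, hn, mul_zero]
  rw [end_add_one_pow hF] at h1
  have h2 : f ^ (2 ^ j') = 1 := by
    have h3 := congrArg (· + (1 : Module.End F V)) h1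
    simp only [add_assoc, end_add_self hF, add_zero, zero_add] at h3
    exact h3
  have h4 := orderOf_dvd_of_pow_eq_one h2
  rw [hf] at h4
  have := (Nat.pow_dvd_pow_iff_le_right (by norm_num : 1 < 2)).mp h4
  omega

end

section shift
variable (F : Type*) [Field F] (n : ℕ)

/-- the nilpotent shift -/
def shiftEnd : Module.End F (Fin n → F) where
  toFun v i := if h : i.val + 1 < n then v ⟨i.val + 1, h⟩ else 0
  map_add' v w := by
    ext i
    simp only [Pi.add_apply]
    split_ifs <;> simp
  map_smul' c v := by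
    ext i
    simp only [Pi.smul_apply, RingHom.id_apply]
    split_ifs <;> simp

theorem shiftEnd_pow_apply (k : ℕ) (v : Fin n → F) (i : Fin n) :
    ((shiftEnd F n) ^ k) v i = if h : i.val + k < n then v ⟨i.val + k, h⟩ else 0 := by
  induction k generalizing v with
  | zero => simp
  | succ k ih =>
    rw [pow_succ, Module.End.mul_apply, ih]
    by_cases h1 : i.val + (k + 1) < n
    · have h2 : i.val + k < n := by omega
      simp only [h1, h2, dite_true]
      show (if h : i.val + k + 1 < n then v ⟨i.val + k + 1, h⟩ else 0) = _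
      have h3 : i.val + k + 1 < n := by omega
      simp only [h3, dite_true]
      rfl
    · simp only [h1, dite_false]
      by_cases h2 : i.val + k < n
      · simp only [h2, dite_true]
        show (if h : i.val + k + 1 < n then v ⟨i.val + k + 1, h⟩ else 0) = _
        have h3 : ¬ i.val + k + 1 < n := by omega
        simp only [h3, dite_false]
      · simp only [h2, dite_false]

theorem shiftEnd_pow_eq_zero_iff (k : ℕ) : (shiftEnd F n) ^ k = 0 ↔ n ≤ k := by
  constructor
  · intro h
    by_contra hcon
    push Not at hcon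
    have h1 := congrFun (LinearMap.congr_fun h (Pi.single ⟨k, hcon⟩ 1)) ⟨0, by omega⟩
    rw [shiftEnd_pow_apply] at h1
    simp only [zero_add, hcon, dite_true, LinearMap.zero_apply, Pi.zero_apply] at h1
    rw [Pi.single_eq_same] at h1
    exact one_ne_zero h1
  · intro h
    refine LinearMap.ext fun v => funext fun i => ?_
    rw [shiftEnd_pow_apply]
    have : ¬ i.val + k < n := by omega
    simp [this]

end shift

theorem exists_two_pow_order {F : Type*} [Field F] [Fintype F] (hF : Fintype.card F = 2)
    (n : ℕ) (hn : 2 ≤ n) :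
    ∃ a, n ≤ 2 ^ a ∧ ∃ f : Module.End F (Fin n → F), orderOf f = 2 ^ a := by
  have h1 : n ≤ 2 ^ Nat.clog 2 n := Nat.le_pow_clog (by norm_num) n
  have h2 : 2 ^ (Nat.clog 2 n).pred < n := Nat.pow_pred_clog_lt_self (by norm_num) (by omega)
  obtain ⟨a', ha'⟩ : ∃ a', Nat.clog 2 n = a' + 1 := by
    refine ⟨Nat.clog 2 n - 1, ?_⟩
    have : 0 < Nat.clog 2 n := Nat.clog_pos (by norm_num) hn
    omega
  rw [ha'] at h1 h2
  simp only [Nat.pred_succ] at h2
  refine ⟨a' + 1, h1, shiftEnd F n + 1, ?_⟩
  have : Fact (Nat.Prime 2) := ⟨Nat.prime_two⟩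
  apply orderOf_eq_prime_pow
  · rw [end_add_one_pow hF]
    intro h
    have h3 : shiftEnd F n ^ 2 ^ a' = 0 := by
      have h4 := congrArg (· + (1 : Module.End F (Fin n → F))) h
      simp only [add_assoc, end_add_self hF, add_zero] at h4
      exact h4
    rw [shiftEnd_pow_eq_zero_iff] at h3
    omega
  · rw [end_add_one_pow hF, (shiftEnd_pow_eq_zero_iff F n _).mpr h1, zero_add]



/-- the embedding of a field extension into endomorphisms of `K × W` -/
def singerHom (F K W : Type*) [Field F] [Field K] [Algebra F K] [AddCommGroup W] [Module F W] :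
    K →* Module.End F (K × W) where
  toFun a := (LinearMap.mulLeft F a).prodMap LinearMap.id
  map_one' := by
    ext <;> simp
  map_mul' a b := by
    ext <;> simp

theorem singerHom_injective (F K W : Type*) [Field F] [Field K] [Algebra F K] [AddCommGroup W]
    [Module F W] : Function.Injective (singerHom F K W) := by
  intro a b h
  have := LinearMap.congr_fun h (1, 0)
  simp only [singerHom, MonoidHom.coe_mk, OneHom.coe_mk, LinearMap.prodMap_apply,
    LinearMap.mulLeft_apply, mul_one, Prod.mk.injEq] at this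
  exact this.1

theorem exists_singer {F : Type*} [Field F] [Fintype F] (hF : Fintype.card F = 2)
    (n t : ℕ) (ht : 1 ≤ t) (htn : t ≤ n) :
    ∃ f : Module.End F (Fin n → F), orderOf f = 2 ^ t - 1 := by
  classical
  have : NeZero t := ⟨by omega⟩
  have : Fact (Nat.Prime 2) := ⟨Nat.prime_two⟩
  have : CharP F 2 := charP_of_card_eq_prime hF
  let K := FiniteField.Extension F 2 t
  have hK : Module.finrank F K = t := FiniteField.finrank_extension F 2 t
  have hcardK : Nat.card K = 2 ^ t := by
    rw [FiniteField.natCard_extension, Nat.card_eq_fintype_card, hF]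
  obtain ⟨ζ, hζ⟩ := IsCyclic.exists_generator (α := Kˣ)
  have hζo : orderOf ζ = 2 ^ t - 1 := by
    rw [orderOf_eq_card_of_forall_mem_zpowers hζ, Nat.card_units, hcardK]
  let W := Fin (n - t) → F
  have hfr : Module.finrank F (K × W) = Module.finrank F (Fin n → F) := by
    rw [Module.finrank_prod, hK, Module.finrank_fin_fun, Module.finrank_fin_fun]; omega
  let e : (K × W) ≃ₗ[F] (Fin n → F) := LinearEquiv.ofFinrankEq _ _ hfr
  refine ⟨e.conjRingEquiv.toMulEquiv (singerHom F K W (ζ : K)), ?_⟩
  rw [MulEquiv.orderOf_eq, orderOf_injective _ (singerHom_injective F K W), orderOf_units, hζo]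



open Matrix

section
variable {F : Type*} [Field F] [Fintype F]

theorem eq_zero_or_one_of_card (hF : Fintype.card F = 2) (x : F) : x = 0 ∨ x = 1 := by
  classical
  by_contra h
  push Not at h
  have h1 : ({0, 1, x} : Finset F).card ≤ Fintype.card F := Finset.card_le_univ _
  have h2 : ({0, 1, x} : Finset F).card = 3 := by
    rw [Finset.card_insert_of_notMem, Finset.card_insert_of_notMem, Finset.card_singleton]
    · simp only [Finset.mem_singleton]; exact fun h' => h.2 h'.symm
    · simp only [Finset.mem_insert, Finset.mem_singleton, not_or]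
      exact ⟨zero_ne_one, fun h' => h.1 h'.symm⟩
  omega

theorem center_SL_eq_bot (hF : Fintype.card F = 2) (n : ℕ) (hn : 1 ≤ n) :
    Subgroup.center (SpecialLinearGroup (Fin n) F) = ⊥ := by
  rw [eq_bot_iff]
  intro A hA
  rw [Matrix.SpecialLinearGroup.mem_center_iff] at hA
  obtain ⟨r, hr, hA⟩ := hA
  rw [Subgroup.mem_bot]
  have hr0 : r ≠ 0 := by
    rintro rfl
    rw [Fintype.card_fin, zero_pow (by omega)] at hr
    exact zero_ne_one hr
  have hr1 : r = 1 := (eq_zero_or_one_of_card hF r).resolve_left hr0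
  apply Subtype.ext
  rw [← hA, hr1]
  simp

/-- `PSL_n(F) ≃* SL_n(F)` when `|F| = 2` -/
noncomputable def pslEquivSL (hF : Fintype.card F = 2) (n : ℕ) (hn : 1 ≤ n) :
    ProjectiveSpecialLinearGroup (Fin n) F ≃* SpecialLinearGroup (Fin n) F :=
  (QuotientGroup.quotientMulEquivOfEq (center_SL_eq_bot hF n hn)).trans QuotientGroup.quotientBot

/-- `SL_n(F) → End(F^n)` -/
noncomputable def slToEnd (F : Type*) [Field F] (n : ℕ) :
    SpecialLinearGroup (Fin n) F →* Module.End F (Fin n → F) where
  toFun A := Matrix.toLin' A.1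
  map_one' := by
    show Matrix.toLin' (1 : Matrix (Fin n) (Fin n) F) = 1
    rw [Matrix.toLin'_one]
    rfl
  map_mul' A B := by
    show Matrix.toLin' (A.1 * B.1) = _
    rw [Matrix.toLin'_mul]
    rfl

omit [Fintype F] in
theorem slToEnd_injective (n : ℕ) : Function.Injective (slToEnd F n) := by
  intro A B h
  apply Subtype.ext
  exact Matrix.toLin'.injective h

theorem slToEnd_surj (hF : Fintype.card F = 2) (n : ℕ) (f : Module.End F (Fin n → F))
    (hf : 0 < orderOf f) : ∃ A, slToEnd F n A = f := by
  have hfN : f ^ orderOf f = 1 := pow_orderOf_eq_one f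
  set A := LinearMap.toMatrix' f with hA
  have hAN : A ^ orderOf f = 1 := by
    have := congrArg LinearMap.toMatrixAlgEquiv' hfN
    rw [map_pow, map_one] at this
    exact this
  have hdet : A.det ≠ 0 := by
    intro h
    have := congrArg Matrix.det hAN
    rw [Matrix.det_pow, h, zero_pow hf.ne', Matrix.det_one] at this
    exact zero_ne_one this
  have hdet1 : A.det = 1 := (eq_zero_or_one_of_card hF _).resolve_left hdet
  refine ⟨⟨A, hdet1⟩, ?_⟩
  show Matrix.toLin' A = f
  rw [hA, Matrix.toLin'_toMatrix']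

end


end Cfsg.Agent.Helper42
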