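import Mathlib
import Cfsg.Agent.Lib.Helper42.GLTwoOrders

set_option autoImplicit false

/-! More on element orders of `PSL_n(2)`: transfer from endomorphisms, an element of order 6 in
dimension 4. Used for S2550. -/

namespace Cfsg.Agent.Helper42

theorem exists_psl_orderOf_eq {F : Type*} [Field F] [Fintype F] (hF : Fintype.card F = 2)
    (n : ℕ) (hn : 1 ≤ n) (f : Module.End F (Fin n → F)) (hf : 0 < orderOf f) :
    ∃ x : Matrix.ProjectiveSpecialLinearGroup (Fin n) F, orderOf x = orderOf f := by
  obtain ⟨A, hA⟩ := slToEnd_surj hF n f hf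
  refine ⟨(pslEquivSL hF n hn).symm A, ?_⟩
  rw [MulEquiv.orderOf_eq, ← hA, orderOf_injective (slToEnd F n) (slToEnd_injective n)]

/-- block diagonal embedding `K × End W → End (K × W)` -/
def prodEndHom (F K W : Type*) [Field F] [Field K] [Algebra F K] [AddCommGroup W] [Module F W] :
    K × Module.End F W →* Module.End F (K × W) where
  toFun a := (LinearMap.mulLeft F a.1).prodMap a.2
  map_one' := by
    ext <;> simp
  map_mul' a b := by
    ext <;> simp

theorem prodEndHom_injective (F K W : Type*) [Field F] [Field K] [Algebra F K] [AddCommGroup W]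
    [Module F W] : Function.Injective (prodEndHom F K W) := by
  intro a b h
  apply Prod.ext
  · have := LinearMap.congr_fun h (1, 0)
    simp only [prodEndHom, MonoidHom.coe_mk, OneHom.coe_mk, LinearMap.prodMap_apply,
      LinearMap.mulLeft_apply, mul_one, Prod.mk.injEq] at this
    exact this.1
  · refine LinearMap.ext fun w => ?_
    have := LinearMap.congr_fun h (0, w)
    simp only [prodEndHom, MonoidHom.coe_mk, OneHom.coe_mk, LinearMap.prodMap_apply,
      Prod.mk.injEq] at this
    exact this.2

theorem exists_end_order_six {F : Type*} [Field F] [Fintype F] (hF : Fintype.card F = 2) :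
    ∃ f : Module.End F (Fin 4 → F), orderOf f = 6 := by
  classical
  have : NeZero 2 := ⟨by norm_num⟩
  have : Fact (Nat.Prime 2) := ⟨Nat.prime_two⟩
  have : CharP F 2 := charP_of_card_eq_prime hF
  let K := FiniteField.Extension F 2 2
  have hK : Module.finrank F K = 2 := FiniteField.finrank_extension F 2 2
  have hcardK : Nat.card K = 2 ^ 2 := by
    rw [FiniteField.natCard_extension, Nat.card_eq_fintype_card, hF]
  obtain ⟨ζ, hζ⟩ := IsCyclic.exists_generator (α := Kˣ)
  have hζo : orderOf (ζ : K) = 3 := by
    rw [orderOf_units, orderOf_eq_card_of_forall_mem_zpowers hζ, Nat.card_units, hcardK]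
    norm_num
  let W := Fin 2 → F
  have hfr : Module.finrank F (K × W) = Module.finrank F (Fin 4 → F) := by
    rw [Module.finrank_prod, hK, Module.finrank_fin_fun, Module.finrank_fin_fun]
  let e : (K × W) ≃ₗ[F] (Fin 4 → F) := LinearEquiv.ofFinrankEq _ _ hfr
  have hu : orderOf (shiftEnd F 2 + 1) = 2 := by
    apply orderOf_eq_prime
    · have := end_add_one_pow hF (shiftEnd F 2) 1
      rw [pow_one] at this
      rw [this, (shiftEnd_pow_eq_zero_iff F 2 2).mpr le_rfl, zero_add]
    · intro h
      have h0 : shiftEnd F 2 ^ 1 = 0 := by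
        rw [pow_one]
        have h1 := congrArg (· + (1 : Module.End F (Fin 2 → F))) h
        simp only [add_assoc, end_add_self hF, add_zero] at h1
        exact h1
      rw [shiftEnd_pow_eq_zero_iff] at h0
      omega
  refine ⟨e.conjRingEquiv.toMulEquiv (prodEndHom F K W ((ζ : K), shiftEnd F 2 + 1)), ?_⟩
  rw [MulEquiv.orderOf_eq, orderOf_injective _ (prodEndHom_injective F K W), Prod.orderOf_mk,
    hζo, hu]
  rfl

end Cfsg.Agent.Helper42
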