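import Mathlib

set_option autoImplicit false

namespace Cfsg.Agent.Helper42


/-- generalized dihedral group `(ZMod p)^3 ⋊ {±1}` -/
@[ext]
structure GDih (p : ℕ) where
  s : ℤˣ
  v : Fin 3 → ZMod p

namespace GDih

variable {p : ℕ}

instance : Mul (GDih p) := ⟨fun a b => ⟨a.s * b.s, a.v + a.s • b.v⟩⟩
instance : One (GDih p) := ⟨⟨1, 0⟩⟩
instance : Inv (GDih p) := ⟨fun a => ⟨a.s⁻¹, -(a.s⁻¹ • a.v)⟩⟩

@[simp] lemma mul_s (a b : GDih p) : (a * b).s = a.s * b.s := rfl
@[simp] lemma mul_v (a b : GDih p) : (a * b).v = a.v + a.s • b.v := rfl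
@[simp] lemma one_s : (1 : GDih p).s = 1 := rfl
@[simp] lemma one_v : (1 : GDih p).v = 0 := rfl
@[simp] lemma inv_s (a : GDih p) : (a⁻¹).s = a.s⁻¹ := rfl
@[simp] lemma inv_v (a : GDih p) : (a⁻¹).v = -(a.s⁻¹ • a.v) := rfl

instance : Group (GDih p) where
  mul_assoc a b c := by
    ext1
    · simp [mul_assoc]
    · simp [smul_add, mul_smul, add_assoc]
  one_mul a := by ext1 <;> simp
  mul_one a := by ext1 <;> simp
  inv_mul_cancel a := by
    ext1
    · simp
    · simp

def equivProd (p : ℕ) : GDih p ≃ ℤˣ × (Fin 3 → ZMod p) where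
  toFun a := (a.s, a.v)
  invFun x := ⟨x.1, x.2⟩
  left_inv a := rfl
  right_inv x := rfl

lemma card_eq (p : ℕ) [Fact p.Prime] : Nat.card (GDih p) = 2 * p ^ 3 := by
  rw [Nat.card_congr (equivProd p), Nat.card_prod, Nat.card_eq_fintype_card, Nat.card_eq_fintype_card,
    Fintype.card_units_int, Fintype.card_fun, ZMod.card, Fintype.card_fin]

instance (p : ℕ) [Fact p.Prime] : Finite (GDih p) := Finite.of_equiv _ (equivProd p).symm

end GDih



/-- a "Toeplitz" array with vanishing boundary is scalar -/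
lemma toeplitz_scalar {F : Type*} [Zero F] (m : ℕ) (a : Fin (m+1) → Fin (m+1) → F)
    (h1 : ∀ i k : Fin m, a i.succ k.succ = a i.castSucc k.castSucc)
    (h2 : ∀ i : Fin m, a i.castSucc (Fin.last m) = 0)
    (h3 : ∀ i : Fin m, a i.succ 0 = 0) :
    ∀ i j, a i j = if i = j then a 0 0 else 0 := by
  have hA : ∀ j d : ℕ, ∀ (h : j + d + 1 < m + 1), a ⟨j + d + 1, h⟩ ⟨j, by omega⟩ = 0 := by
    intro j
    induction j with
    | zero =>
      intro d h
      have := h3 ⟨d, by omega⟩
      simpa using this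
    | succ j ih =>
      intro d h
      have := h1 ⟨j + d + 1, by omega⟩ ⟨j, by omega⟩
      simp only [Fin.succ_mk, Fin.castSucc_mk] at this
      have e : j + 1 + d + 1 = j + d + 1 + 1 := by omega
      simp only [e]
      rw [this]
      exact ih d (by omega)
  have hB : ∀ e i j : ℕ, ∀ (hij : i < j) (h : j + e = m), a ⟨i, by omega⟩ ⟨j, by omega⟩ = 0 := by
    intro e
    induction e with
    | zero =>
      intro i j hij h
      have := h2 ⟨i, by omega⟩
      simp only [Fin.castSucc_mk] at this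
      convert this using 2
      ext
      simp
      omega
    | succ e ih =>
      intro i j hij h
      have := h1 ⟨i, by omega⟩ ⟨j, by omega⟩
      simp only [Fin.succ_mk, Fin.castSucc_mk] at this
      rw [← this]
      exact ih (i+1) (j+1) (by omega) (by omega)
  have hC : ∀ i : ℕ, ∀ (h : i < m + 1), a ⟨i, h⟩ ⟨i, h⟩ = a 0 0 := by
    intro i
    induction i with
    | zero => intro h; rfl
    | succ i ih =>
      intro h
      have := h1 ⟨i, by omega⟩ ⟨i, by omega⟩
      simp only [Fin.succ_mk, Fin.castSucc_mk] at this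
      rw [this]
      exact ih (by omega)
  intro i j
  obtain ⟨i, hi⟩ := i
  obtain ⟨j, hj⟩ := j
  rcases lt_trichotomy i j with h | h | h
  · rw [if_neg (by simp; omega)]
    exact hB (m - j) i j h (by omega)
  · subst h
    rw [if_pos rfl]
    exact hC i hi
  · rw [if_neg (by simp; omega)]
    obtain ⟨d, rfl⟩ : ∃ d, i = j + d + 1 := ⟨i - j - 1, by omega⟩
    exact hA j d hi



open Matrix

section blocks

variable (R : Type*) [CommRing R] (m : ℕ)

def kX : Matrix (Fin m) (Fin (m+1)) R := Matrix.of fun i j => if j = i.castSucc then 1 else 0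
def kY : Matrix (Fin m) (Fin (m+1)) R := Matrix.of fun i j => if j = i.succ then 1 else 0
def kZ : Matrix (Fin m) (Fin (m+1)) R := Matrix.of fun i j => if i.val = 0 ∧ j = Fin.last m then 1 else 0

variable {R}

def kN (v : Fin 3 → R) : Matrix (Fin m) (Fin (m+1)) R := v 0 • kX R m + v 1 • kY R m + v 2 • kZ R m

def blockMat (s : R) (v : Fin 3 → R) : Matrix (Fin (m+1) ⊕ Fin m) (Fin (m+1) ⊕ Fin m) R :=
  Matrix.fromBlocks 1 0 (kN m v) (s • 1)

lemma kN_add (v w : Fin 3 → R) : kN m (v + w) = kN m v + kN m w := by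
  simp only [kN, Pi.add_apply, add_smul]; abel

lemma kN_smul (c : R) (v : Fin 3 → R) : kN m (c • v) = c • kN m v := by
  simp only [kN, Pi.smul_apply, smul_eq_mul, mul_smul, smul_add]

lemma kN_zero : kN m (0 : Fin 3 → R) = 0 := by
  simp [kN]

lemma blockMat_mul (s s' : R) (v v' : Fin 3 → R) :
    blockMat m s v * blockMat m s' v' = blockMat m (s * s') (v + s • v') := by
  simp only [blockMat, Matrix.fromBlocks_multiply, kN_add, kN_smul]
  congr 1
  · simp
  · simp
  · simp
  · simp [smul_smul, mul_comm]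

lemma blockMat_one : blockMat m (1 : R) 0 = 1 := by
  simp [blockMat, kN_zero, Matrix.fromBlocks_one]

lemma blockMat_det (s : R) (v : Fin 3 → R) : (blockMat m s v).det = s ^ m := by
  simp [blockMat, Matrix.det_fromBlocks_zero₁₂]

lemma mul_kX_castSucc (B : Matrix (Fin m) (Fin m) R) (i k : Fin m) :
    (B * kX R m) i k.castSucc = B i k := by
  simp [Matrix.mul_apply, kX, Fin.castSucc_inj]

lemma mul_kX_last (B : Matrix (Fin m) (Fin m) R) (i : Fin m) :
    (B * kX R m) i (Fin.last m) = 0 := by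
  simp [Matrix.mul_apply, kX, (Fin.castSucc_lt_last _).ne']

lemma kX_mul (A : Matrix (Fin (m+1)) (Fin (m+1)) R) (i : Fin m) (j : Fin (m+1)) :
    (kX R m * A) i j = A i.castSucc j := by
  simp [Matrix.mul_apply, kX]

lemma mul_kY_succ (B : Matrix (Fin m) (Fin m) R) (i k : Fin m) :
    (B * kY R m) i k.succ = B i k := by
  simp [Matrix.mul_apply, kY, Fin.succ_inj]

lemma mul_kY_zero (B : Matrix (Fin m) (Fin m) R) (i : Fin m) :
    (B * kY R m) i 0 = 0 := by
  simp [Matrix.mul_apply, kY, (Fin.succ_ne_zero _).symm]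

lemma kY_mul (A : Matrix (Fin (m+1)) (Fin (m+1)) R) (i : Fin m) (j : Fin (m+1)) :
    (kY R m * A) i j = A i.succ j := by
  simp [Matrix.mul_apply, kY]


lemma kN_single0 : kN m (Pi.single 0 1 : Fin 3 → R) = kX R m := by
  simp [kN]

lemma kN_single1 : kN m (Pi.single 1 1 : Fin 3 → R) = kY R m := by
  simp [kN]

/-- the brick property of the zigzag module -/
lemma brick [NoZeroDivisors R] (h2 : (2 : R) ≠ 0)
    (g : Matrix (Fin (m+1) ⊕ Fin m) (Fin (m+1) ⊕ Fin m) R)
    (hT : g * blockMat m (-1) 0 = blockMat m (-1) 0 * g)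
    (hA : g * blockMat m 1 (Pi.single 0 1) = blockMat m 1 (Pi.single 0 1) * g)
    (hB : g * blockMat m 1 (Pi.single 1 1) = blockMat m 1 (Pi.single 1 1) * g) :
    ∃ c : R, g = c • 1 := by
  obtain ⟨g11, g12, g21, g22, rfl⟩ : ∃ g11 g12 g21 g22, g = Matrix.fromBlocks g11 g12 g21 g22 :=
    ⟨_, _, _, _, (Matrix.fromBlocks_toBlocks g).symm⟩
  simp only [blockMat, kN_zero, kN_single0, kN_single1, Matrix.fromBlocks_multiply,
    Matrix.fromBlocks_inj] at hT hA hB
  have h12 : g12 = 0 := by
    have := hT.2.1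
    simp only [Matrix.mul_zero, zero_add, Matrix.one_mul, Matrix.zero_mul, add_zero, neg_smul,
      one_smul, Matrix.mul_neg, Matrix.mul_one] at this
    ext i j
    have e := congrFun (congrFun this i) j
    simp only [Matrix.neg_apply, Matrix.zero_apply] at e ⊢
    have : (2 : R) * g12 i j = 0 := by linear_combination -e
    rcases mul_eq_zero.mp this with h | h
    · exact absurd h h2
    · exact h
  have h21 : g21 = 0 := by
    have := hT.2.2.1
    simp only [Matrix.mul_zero, zero_add, Matrix.one_mul, Matrix.zero_mul, add_zero, neg_smul,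
      one_smul, Matrix.neg_mul, Matrix.mul_one] at this
    ext i j
    have e := congrFun (congrFun this i) j
    simp only [Matrix.neg_apply, Matrix.zero_apply] at e ⊢
    have : (2 : R) * g21 i j = 0 := by linear_combination e
    rcases mul_eq_zero.mp this with h | h
    · exact absurd h h2
    · exact h
  subst h12 h21
  have hX : g22 * kX R m = kX R m * g11 := by
    have := hA.2.2.1
    simpa using this
  have hY : g22 * kY R m = kY R m * g11 := by
    have := hB.2.2.1
    simpa using this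
  have key := toeplitz_scalar m (fun i j => g11 i j) ?_ ?_ ?_
  · refine ⟨g11 0 0, ?_⟩
    have h11 : g11 = g11 0 0 • (1 : Matrix _ _ R) := by
      ext i j
      rw [key i j]
      simp [Matrix.one_apply]
    have h22 : g22 = g11 0 0 • (1 : Matrix _ _ R) := by
      ext i j
      rw [← mul_kX_castSucc m g22 i j, hX, kX_mul, key]
      simp [Matrix.one_apply, Fin.castSucc_inj]
    rw [← Matrix.fromBlocks_one, Matrix.fromBlocks_smul, ← h11, ← h22]
    simp
  · intro i k
    show g11 i.succ k.succ = g11 i.castSucc k.castSucc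
    rw [← kY_mul m g11 i k.succ, ← hY, mul_kY_succ, ← kX_mul m g11 i k.castSucc, ← hX, mul_kX_castSucc]
  · intro i
    show g11 i.castSucc (Fin.last m) = 0
    rw [← kX_mul m g11 i (Fin.last m), ← hX, mul_kX_last]
  · intro i
    show g11 i.succ 0 = 0
    rw [← kY_mul m g11 i 0, ← hY, mul_kY_zero]

end blocks





lemma kN_apply {R : Type*} [CommRing R] (m : ℕ) (v : Fin 3 → R) (i : Fin m) (j : Fin (m+1)) :
    kN m v i j = v 0 * (if j = i.castSucc then 1 else 0) + v 1 * (if j = i.succ then 1 else 0)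
      + v 2 * (if i.val = 0 ∧ j = Fin.last m then 1 else 0) := by
  simp [kN, kX, kY, kZ]

lemma blockMat_eq_one {R : Type*} [CommRing R] (m : ℕ) (hm : 2 ≤ m) (s : R) (v : Fin 3 → R)
    (h : blockMat m s v = 1) : s = 1 ∧ v = 0 := by
  have e1 := congrFun (congrFun h (Sum.inr ⟨0, by omega⟩)) (Sum.inr ⟨0, by omega⟩)
  have e2 := congrFun (congrFun h (Sum.inr ⟨0, by omega⟩)) (Sum.inl ⟨0, by omega⟩)
  have e3 := congrFun (congrFun h (Sum.inr ⟨0, by omega⟩)) (Sum.inl ⟨1, by omega⟩)
  have e4 := congrFun (congrFun h (Sum.inr ⟨0, by omega⟩)) (Sum.inl (Fin.last m))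
  simp only [blockMat, Matrix.fromBlocks_apply₂₂, Matrix.fromBlocks_apply₂₁, Matrix.smul_apply,
    Matrix.one_apply_eq, smul_eq_mul, mul_one, Matrix.one_apply, reduceCtorEq, if_false,
    kN_apply] at e1 e2 e3 e4
  refine ⟨e1, ?_⟩
  have hl : (Fin.last m) ≠ (⟨0, by omega⟩ : Fin (m+1)) := by
    intro h; have := congrArg Fin.val h; simp at this; omega
  have hl1 : (Fin.last m) ≠ (⟨1, by omega⟩ : Fin (m+1)) := by
    intro h; have := congrArg Fin.val h; simp at this; omega
  have h01 : (⟨0, by omega⟩ : Fin (m+1)) ≠ (⟨1, by omega⟩ : Fin (m+1)) := by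
    intro h; have := congrArg Fin.val h; simp at this
  simp only [Fin.castSucc_mk, Fin.succ_mk, zero_add] at e2 e3 e4
  rw [if_pos trivial, if_neg h01, if_neg (by rintro ⟨_, h⟩; exact hl h.symm)] at e2
  rw [if_neg h01.symm, if_pos trivial, if_neg (by rintro ⟨_, h⟩; exact hl1 h.symm)] at e3
  rw [if_neg hl, if_neg hl1, if_pos ⟨trivial, trivial⟩] at e4
  funext i
  fin_cases i
  · simpa using e2
  · simpa using e3
  · simpa using e4




section main

variable (p : ℕ) [Fact p.Prime] (k : ℕ)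

/-- the matrices over `Fin n` -/
noncomputable def gdMat (a : GDih p) :
    Matrix (Fin (2*k+2+1+(2*k+2))) (Fin (2*k+2+1+(2*k+2))) (ZMod p) :=
  (blockMat (2*k+2) (((a.s : ℤ) : ZMod p)) a.v).submatrix finSumFinEquiv.symm finSumFinEquiv.symm

lemma gdMat_mul (a b : GDih p) : gdMat p k (a * b) = gdMat p k a * gdMat p k b := by
  unfold gdMat
  rw [Matrix.submatrix_mul_equiv, blockMat_mul]
  congr 2
  · simp
  · simp only [GDih.mul_v, Units.smul_def, Int.cast_smul_eq_zsmul]

lemma gdMat_one : gdMat p k 1 = 1 := by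
  unfold gdMat
  simp [blockMat_one]

lemma gdMat_det (a : GDih p) : (gdMat p k a).det = 1 := by
  unfold gdMat
  rw [Matrix.det_submatrix_equiv_self, blockMat_det]
  have : ((a.s : ℤ) : ZMod p) ^ 2 = 1 := by
    have := Int.units_sq a.s
    have h2 : ((a.s : ℤ)) ^ 2 = 1 := by
      rw [← Units.val_pow_eq_pow_val, this]; rfl
    exact_mod_cast congrArg (Int.cast : ℤ → ZMod p) h2
  rw [show 2 * k + 2 = 2 * (k + 1) by ring, pow_mul, this, one_pow]

noncomputable def gdSL : GDih p →* Matrix.SpecialLinearGroup (Fin (2*k+2+1+(2*k+2))) (ZMod p) where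
  toFun a := ⟨gdMat p k a, gdMat_det p k a⟩
  map_one' := Subtype.ext (gdMat_one p k)
  map_mul' a b := Subtype.ext (gdMat_mul p k a b)

end main


end Cfsg.Agent.Helper42
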