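import Mathlib

/-!
# The `{2,3}`-part of a natural number

`Is23 t`: every prime divisor of `t` is `2` or `3`.
`part23 n = 2 ^ v₂(n) * 3 ^ v₃(n)`; `part23_mul_compl`, `part23_unique`.
-/

set_option autoImplicit false

namespace Cfsg.Agent.Helper42.Hall23

/-- every prime divisor is `2` or `3` -/
def Is23 (t : ℕ) : Prop := ∀ r : ℕ, r.Prime → r ∣ t → r = 2 ∨ r = 3

theorem Is23.mul {s t : ℕ} (hs : Is23 s) (ht : Is23 t) : Is23 (s * t) := by
  intro r hr hd
  rcases (Nat.Prime.dvd_mul hr).mp hd with h | h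
  · exact hs r hr h
  · exact ht r hr h

theorem Is23.of_dvd {s t : ℕ} (ht : Is23 t) (h : s ∣ t) : Is23 s :=
  fun r hr hd => ht r hr (hd.trans h)

theorem is23_two_pow (a : ℕ) : Is23 (2 ^ a) := by
  intro r hr hd
  left
  exact (Nat.prime_dvd_prime_iff_eq hr Nat.prime_two).mp (hr.dvd_of_dvd_pow hd)

theorem is23_three_pow (a : ℕ) : Is23 (3 ^ a) := by
  intro r hr hd
  right
  exact (Nat.prime_dvd_prime_iff_eq hr Nat.prime_three).mp (hr.dvd_of_dvd_pow hd)

theorem Is23.coprime {t u : ℕ} (ht : Is23 t) (hu : Nat.Coprime u 6) : Nat.Coprime t u := by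
  apply Nat.coprime_of_dvd
  intro k hk hkt hku
  have h6 : k ∣ 6 := by
    rcases ht k hk hkt with rfl | rfl <;> norm_num
  have := Nat.dvd_gcd hku h6
  rw [hu] at this
  exact hk.one_lt.ne' (Nat.dvd_one.mp this)

/-- the `{2,3}`-part -/
def part23 (n : ℕ) : ℕ := 2 ^ n.factorization 2 * 3 ^ n.factorization 3

theorem is23_part23 (n : ℕ) : Is23 (part23 n) :=
  (is23_two_pow _).mul (is23_three_pow _)

/-- uniqueness of the `{2,3}`-part -/
theorem is23_unique {t t' u u' : ℕ} (ht : Is23 t) (ht' : Is23 t') (hu : Nat.Coprime u 6)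
    (hu' : Nat.Coprime u' 6) (h : t * u = t' * u') : t = t' := by
  apply Nat.dvd_antisymm
  · exact (ht.coprime hu').dvd_of_dvd_mul_right (h ▸ Dvd.intro u rfl)
  · exact (ht'.coprime hu).dvd_of_dvd_mul_right (h ▸ Dvd.intro u' rfl)

/-- existence of the decomposition -/
theorem part23_mul_compl {n : ℕ} (hn : n ≠ 0) :
    ∃ u : ℕ, Nat.Coprime u 6 ∧ n = part23 n * u := by
  obtain ⟨n₁, hn₁⟩ := Nat.ordProj_dvd n 2
  have hn₁0 : n₁ ≠ 0 := by
    rintro rfl
    rw [mul_zero] at hn₁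
    exact hn hn₁
  have h2 : ¬ 2 ∣ n₁ := by
    have := Nat.not_dvd_ordCompl Nat.prime_two hn
    rwa [show n / 2 ^ n.factorization 2 = n₁ from
      Nat.div_eq_of_eq_mul_right (by positivity) hn₁] at this
  have hv3 : n₁.factorization 3 = n.factorization 3 := by
    conv_rhs => rw [hn₁]
    rw [Nat.factorization_mul (by positivity) hn₁0, Nat.Prime.factorization_pow Nat.prime_two]
    simp
  obtain ⟨u, hu⟩ := Nat.ordProj_dvd n₁ 3
  have h3 : ¬ 3 ∣ u := by
    have := Nat.not_dvd_ordCompl Nat.prime_three hn₁0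
    rwa [show n₁ / 3 ^ n₁.factorization 3 = u from
      Nat.div_eq_of_eq_mul_right (by positivity) hu] at this
  have h2u : ¬ 2 ∣ u := fun h => h2 (hu ▸ Dvd.dvd.mul_left h _)
  refine ⟨u, ?_, ?_⟩
  · have h6 : (6 : ℕ) = 2 * 3 := by norm_num
    rw [h6]
    apply Nat.Coprime.mul_right
    · exact ((Nat.Prime.coprime_iff_not_dvd Nat.prime_two).mpr h2u).symm
    · exact ((Nat.Prime.coprime_iff_not_dvd Nat.prime_three).mpr h3).symm
  · unfold part23
    rw [← hv3, mul_assoc, ← hu, ← hn₁]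

/-- characterisation of the `{2,3}`-part -/
theorem part23_eq {n t u : ℕ} (hn : n ≠ 0) (ht : Is23 t) (hu : Nat.Coprime u 6)
    (h : n = t * u) : part23 n = t := by
  obtain ⟨u', hu', h'⟩ := part23_mul_compl hn
  exact is23_unique (is23_part23 n) ht hu' hu (h'.symm.trans h)

end Cfsg.Agent.Helper42.Hall23
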