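import Mathlib
import Cfsg.Agent.S0799
import Cfsg.Agent.S0802
import Cfsg.Agent.S0803
import Cfsg.Agent.S0809
import Cfsg.Agent.Lib.Helper42.PSL2Max
import Cfsg.Agent.Lib.Helper42.Hall23Arith
import Cfsg.Agent.Lib.Helper52.CoprimeHall

/-!
# Hall `{2,3}`-subgroups of `PSL₂(q)`, `p ≥ 5`

* `isPiHall_iff`: the Hall condition as an order condition;
* `forward`: a Hall `{2,3}`-subgroup forces the arithmetic conditions (via Dickson, S0799);
* `backward_of`: the arithmetic conditions give a Hall subgroup, from solvable subgroups of order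
  `q ∓ 1`, `A₄` and `S₄`.
-/

set_option autoImplicit false

namespace Cfsg.Agent.Helper42.Hall23

open Matrix Cfsg.Agent.Helper41 Cfsg.Agent.Helper42.PSL2Max

/-- the Hall `{2,3}`-condition as an order condition -/
theorem isPiHall_iff {G : Type*} [Group G] [Finite G] {n q : ℕ} (hn : n ≠ 0)
    (hq6 : Nat.Coprime q 6) (hG : Nat.card G * 2 = n * q) (H : Subgroup G) :
    Cfsg.IsPiHall ({2, 3} : Set ℕ) H ↔ 2 * Nat.card H = part23 n := by
  obtain ⟨u, hu6, hnu⟩ := part23_mul_compl hn
  have hidx : Nat.card H * H.index = Nat.card G := Subgroup.card_mul_index H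
  have key : (2 * Nat.card H) * H.index = part23 n * (u * q) := by
    calc (2 * Nat.card H) * H.index = (Nat.card H * H.index) * 2 := by ring
      _ = n * q := by rw [hidx, hG]
      _ = part23 n * (u * q) := by rw [← mul_assoc, ← hnu]
  have huq : Nat.Coprime (u * q) 6 := Nat.Coprime.mul_left hu6 hq6
  constructor
  · rintro ⟨h1, h2⟩
    have hH23 : Is23 (2 * Nat.card H) := by
      apply Is23.mul
      · have := is23_two_pow 1
        rwa [pow_one] at this
      · intro r hr hd
        have := h1 r hr hd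
        simpa using this
    have hi6 : Nat.Coprime H.index 6 := by
      have h6 : (6 : ℕ) = 2 * 3 := by norm_num
      rw [h6]
      apply Nat.Coprime.mul_right
      · exact ((Nat.Prime.coprime_iff_not_dvd Nat.prime_two).mpr
          (h2 2 Nat.prime_two (by simp))).symm
      · exact ((Nat.Prime.coprime_iff_not_dvd Nat.prime_three).mpr
          (h2 3 Nat.prime_three (by simp))).symm
    exact is23_unique hH23 (is23_part23 n) hi6 huq key
  · intro h
    have hpos : 0 < 2 * Nat.card H := by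
      have : 0 < Nat.card H := Nat.card_pos
      omega
    have hidx' : H.index = u * q := by
      rw [h] at key hpos
      exact Nat.eq_of_mul_eq_mul_left hpos key
    have h23 : Is23 (Nat.card H) := (is23_part23 n).of_dvd ⟨2, by rw [← h]; ring⟩
    refine ⟨fun r hr hd => ?_, fun r hr hmem hd => ?_⟩
    · rcases h23 r hr hd with rfl | rfl <;> simp
    · rw [hidx'] at hd
      have h6 : r ∣ 6 := by
        rcases hmem with rfl | rfl <;> norm_num
      have := Nat.dvd_gcd hd h6
      rw [huq] at this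
      exact hr.one_lt.ne' (Nat.dvd_one.mp this)

section arith

theorem not_dvd_aux {T u r : ℕ} (hT0 : 0 < T) (hu2 : ¬ 2 ∣ u) (hreven : ∃ k, r = 2 * k)
    (hnu : (r + 2) * (r + 4) = T * u) : ¬ T ∣ r + 2 ∧ ¬ T ∣ r + 4 := by
  constructor
  · rintro ⟨w, hw⟩
    rw [hw, mul_assoc] at hnu
    have := Nat.eq_of_mul_eq_mul_left hT0 hnu
    apply hu2
    rw [← this]
    apply Dvd.dvd.mul_left
    rcases hreven with ⟨k, rfl⟩
    exact ⟨k + 2, by omega⟩
  · rintro ⟨w, hw⟩
    rw [hw, mul_comm (r + 2), mul_assoc] at hnu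
    have := Nat.eq_of_mul_eq_mul_left hT0 hnu
    apply hu2
    rw [← this]
    apply Dvd.dvd.mul_left
    rcases hreven with ⟨k, rfl⟩
    exact ⟨k + 1, by omega⟩

/-- `T ∤ q - 1` and `T ∤ q + 1` for the `{2,3}`-part `T` of `q² - 1`, `q` odd -/
theorem not_part23_dvd {q : ℕ} (hodd : Odd q) (hq3 : 3 ≤ q) :
    ¬ part23 (q ^ 2 - 1) ∣ q - 1 ∧ ¬ part23 (q ^ 2 - 1) ∣ q + 1 := by
  obtain ⟨r, rfl⟩ := Nat.exists_eq_add_of_le hq3
  have e1 : (3 + r) ^ 2 - 1 = (r + 2) * (r + 4) := by
    rw [show (3 + r) ^ 2 = (r + 2) * (r + 4) + 1 by ring]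
    simp
  have hn : (3 + r) ^ 2 - 1 ≠ 0 := by
    rw [e1]; positivity
  obtain ⟨u, hu6, hnu⟩ := part23_mul_compl hn
  have hT0 : 0 < part23 ((3 + r) ^ 2 - 1) := by
    rcases Nat.eq_zero_or_pos (part23 ((3 + r) ^ 2 - 1)) with h | h
    · rw [h, zero_mul] at hnu; exact absurd hnu hn
    · exact h
  have hu2 : ¬ 2 ∣ u := by
    intro h
    have := Nat.dvd_gcd h (show 2 ∣ 6 by norm_num)
    rw [hu6] at this
    omega
  have hreven : ∃ k, r = 2 * k := by
    rcases hodd with ⟨k, hk⟩
    exact ⟨k - 1, by omega⟩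
  have hnu' : (r + 2) * (r + 4) = part23 ((3 + r) ^ 2 - 1) * u := by
    rw [← e1]; exact hnu
  have := not_dvd_aux hT0 hu2 hreven hnu'
  rw [show 3 + r - 1 = r + 2 by omega, show 3 + r + 1 = r + 4 by omega]
  exact this

end arith

section main

variable {F : Type*} [Field F] [Fintype F]

theorem basic_q (p : ℕ) [Fact p.Prime] [CharP F p] (hp : 5 ≤ p) :
    Odd (Fintype.card F) ∧ Nat.Coprime (Fintype.card F) 6 ∧ 5 ≤ Fintype.card F ∧
      ∃ n : ℕ, n ≠ 0 ∧ Fintype.card F = p ^ n := by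
  have hpp : p.Prime := Fact.out
  obtain ⟨n, -, hn⟩ := FiniteField.card F p
  have hpodd : Odd p := hpp.odd_of_ne_two (by omega)
  have hp6 : Nat.Coprime p 6 := by
    rw [Nat.Prime.coprime_iff_not_dvd hpp]
    intro h
    have := Nat.le_of_dvd (by norm_num) h
    interval_cases p
    · omega
    · exact absurd hpp (by norm_num)
  refine ⟨?_, ?_, ?_, n, n.ne_zero, hn⟩
  · rw [hn]; exact hpodd.pow
  · rw [hn]; exact Nat.Coprime.pow_left _ hp6
  · rw [hn]
    calc 5 ≤ p := hp
      _ = p ^ 1 := (pow_one p).symm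
      _ ≤ p ^ (n : ℕ) := Nat.pow_le_pow_right hpp.pos n.pos

theorem dvd_part23 {q : ℕ} (hodd : Odd q) (hq6 : Nat.Coprime q 6) (hq3 : 3 ≤ q) :
    8 ∣ part23 (q ^ 2 - 1) ∧ 3 ∣ part23 (q ^ 2 - 1) := by
  have hq1 : 1 ≤ q ^ 2 := Nat.one_le_pow _ _ (by omega)
  have h8 : 8 ∣ q ^ 2 - 1 := by
    have : q ^ 2 % 8 = 1 := by
      rw [Nat.pow_mod]
      have : q % 8 = 1 ∨ q % 8 = 3 ∨ q % 8 = 5 ∨ q % 8 = 7 := by
        rcases hodd with ⟨k, rfl⟩; omega
      rcases this with h | h | h | h <;> rw [h]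
    omega
  have h3 : 3 ∣ q ^ 2 - 1 := by
    have h3q : ¬ 3 ∣ q := by
      intro h
      have := Nat.dvd_gcd h (show 3 ∣ 6 by norm_num)
      rw [hq6] at this
      omega
    have : q ^ 2 % 3 = 1 := by
      rw [Nat.pow_mod]
      have : q % 3 = 1 ∨ q % 3 = 2 := by omega
      rcases this with h | h <;> rw [h]
    omega
  have hn : q ^ 2 - 1 ≠ 0 := by
    have : 9 ≤ q ^ 2 := by
      calc 9 = 3 ^ 2 := by norm_num
        _ ≤ q ^ 2 := Nat.pow_le_pow_left hq3 2
    omega
  obtain ⟨u, hu6, hnu⟩ := part23_mul_compl hn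
  have hu8 : Nat.Coprime 8 u := by
    rw [show (8 : ℕ) = 2 ^ 3 by norm_num]
    apply Nat.Coprime.pow_left
    exact (Nat.Coprime.coprime_dvd_right (show 2 ∣ 6 by norm_num) hu6).symm
  have hu3 : Nat.Coprime 3 u :=
    (Nat.Coprime.coprime_dvd_right (show 3 ∣ 6 by norm_num) hu6).symm
  rw [hnu] at h8 h3
  exact ⟨hu8.dvd_of_dvd_mul_right h8, hu3.dvd_of_dvd_mul_right h3⟩

/-- subfield subgroups have order divisible by the characteristic -/
theorem p_dvd_two_mul_card_of_subfield (p : ℕ) [Fact p.Prime] [CharP F p] (hp2 : p ≠ 2) {q : ℕ}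
    (hq : Fintype.card F = q) (M : Subgroup (ProjectiveSpecialLinearGroup (Fin 2) F))
    {K : Type} [Field K] [Fintype K] {m : ℕ} (hKm : Fintype.card K ^ m = q)
    (hHK : Nonempty (M ≃* ProjectiveSpecialLinearGroup (Fin 2) K) ∨
      Nonempty (M ≃* ProjGenLinGroup (Fin 2) K)) : p ∣ 2 * Nat.card M := by
  classical
  have hpp : p.Prime := Fact.out
  obtain ⟨n, -, hqn⟩ := FiniteField.card F p
  rw [hq] at hqn
  have hq1 : 1 < q := by rw [← hq]; exact Fintype.one_lt_card
  have hk1 : 1 < Fintype.card K := Fintype.one_lt_card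
  have hm0 : m ≠ 0 := by
    rintro rfl
    rw [pow_zero] at hKm; omega
  have hKd : Fintype.card K ∣ p ^ (n : ℕ) := by
    rw [← hqn, ← hKm]
    exact dvd_pow_self _ hm0
  obtain ⟨j, -, hj⟩ := (Nat.dvd_prime_pow hpp).mp hKd
  have hj0 : j ≠ 0 := by
    rintro rfl
    rw [pow_zero] at hj; omega
  have hpK : p ∣ Fintype.card K := by
    rw [hj]; exact dvd_pow_self _ hj0
  have hKodd : Odd (Fintype.card K) := by
    rw [hj]; exact (hpp.odd_of_ne_two hp2).pow
  rcases hHK with ⟨⟨e⟩⟩ | ⟨⟨e⟩⟩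
  · rw [Nat.card_congr e.toEquiv, mul_comm,
      Cfsg.Agent.Helper98.PSL2Card.card_psl2_odd rfl hKodd]
    exact Dvd.dvd.mul_left hpK _
  · rw [Nat.card_congr e.toEquiv, card_pgl2_eq K]
    exact Dvd.dvd.mul_left (Dvd.dvd.mul_right (Dvd.dvd.mul_left hpK _) _) _

/-- a Hall `{2,3}`-subgroup forces the arithmetic conditions -/
theorem forward (p : ℕ) [Fact p.Prime] [CharP F p] (hp : 5 ≤ p) {q : ℕ}
    (hq : Fintype.card F = q)
    (H : Subgroup (ProjectiveSpecialLinearGroup (Fin 2) F))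
    (hH : 2 * Nat.card H = part23 (q ^ 2 - 1)) :
    (3 ∣ q - 1 ∧ q % 4 = 1) ∨ (3 ∣ q + 1 ∧ q % 4 = 3) ∨
      part23 (q ^ 2 - 1) = 24 ∨ part23 (q ^ 2 - 1) = 48 := by
  classical
  have hpp : p.Prime := Fact.out
  obtain ⟨hodd, hq6, hq5, n, hn0, hqn⟩ := basic_q (F := F) p hp
  rw [hq] at hodd hq6 hq5 hqn
  obtain ⟨h8T, h3T⟩ := dvd_part23 hodd hq6 (by omega)
  obtain ⟨hnd1, hnd2⟩ := not_part23_dvd hodd (by omega)
  have hT23 := is23_part23 (q ^ 2 - 1)
  have hTq : Nat.Coprime (part23 (q ^ 2 - 1)) q := hT23.coprime hq6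
  have hG := Cfsg.Agent.Helper98.PSL2Card.card_psl2_odd hq hodd
  have hgcd : Nat.gcd 2 (q - 1) = 2 := gcd_two_of_odd hodd
  have hqm : (q - 1) / 2 * 2 = q - 1 := by
    rcases hodd with ⟨k, rfl⟩; omega
  have hqp : (q + 1) / 2 * 2 = q + 1 := by
    rcases hodd with ⟨k, rfl⟩; omega
  have hD := Cfsg.Agent.S0799.result (F := F) hq p H
  rcases hD with ⟨k, hk, hHk⟩ | ⟨P, K, hK, ⟨e⟩⟩ | ⟨⟨e⟩⟩ | ⟨⟨e⟩⟩ | ⟨⟨e⟩⟩ | ⟨K, _, _, m, hKm, hHK⟩
  · rw [hgcd] at hk
    rcases hHk with ⟨-, hcard⟩ | ⟨⟨e⟩⟩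
    · -- cyclic: impossible
      exfalso
      rw [hcard] at hH
      rcases hk with hk | hk
      · apply hnd2
        rw [← hH, ← hqp, mul_comm]
        exact Nat.mul_dvd_mul_right hk 2
      · apply hnd1
        rw [← hH, ← hqm, mul_comm]
        exact Nat.mul_dvd_mul_right hk 2
    · -- dihedral
      have hc : Nat.card H = 2 * k := by
        rw [Nat.card_congr e.toEquiv, DihedralGroup.nat_card]
      rw [hc] at hH
      have h2k : 2 ∣ k := by
        have : 8 ∣ 4 * k := by rw [show 4 * k = 2 * (2 * k) by ring, hH]; exact h8T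
        omega
      have h3k : 3 ∣ k := by
        have : 3 ∣ 4 * k := by rw [show 4 * k = 2 * (2 * k) by ring, hH]; exact h3T
        omega
      rcases hk with hk | hk
      · right; left
        have h2 := h2k.trans hk
        have h3 := h3k.trans hk
        constructor
        · rw [← hqp]; exact Dvd.dvd.mul_right h3 2
        · obtain ⟨w, hw⟩ := h2
          omega
      · left
        have h2 := h2k.trans hk
        have h3 := h3k.trans hk
        constructor
        · rw [← hqm]; exact Dvd.dvd.mul_right h3 2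
        · obtain ⟨w, hw⟩ := h2
          omega
  · -- Borel: impossible
    exfalso
    have hN := card_normalizer_sylow_mul (F := F) p P
    rw [hq] at hN
    have hKd : Nat.card K ∣ Nat.card (Subgroup.normalizer
        ((P : Subgroup (ProjectiveSpecialLinearGroup (Fin 2) F)) :
          Set (ProjectiveSpecialLinearGroup (Fin 2) F))) := Subgroup.card_dvd_of_le hK
    rw [← Nat.card_congr e.toEquiv] at hKd
    obtain ⟨r, rfl⟩ := Nat.exists_eq_add_of_le (show 1 ≤ q by omega)
    have e1 : (1 + r) ^ 2 - 1 = r * (r + 2) := by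
      rw [show (1 + r) ^ 2 = r * (r + 2) + 1 by ring]
      simp
    have hN2 : Nat.card (Subgroup.normalizer
        ((P : Subgroup (ProjectiveSpecialLinearGroup (Fin 2) F)) :
          Set (ProjectiveSpecialLinearGroup (Fin 2) F))) * 2 = r * (1 + r) := by
      have h3 : (Nat.card (Subgroup.normalizer
        ((P : Subgroup (ProjectiveSpecialLinearGroup (Fin 2) F)) :
          Set (ProjectiveSpecialLinearGroup (Fin 2) F))) * 2) * (r + 2) =
          (r * (1 + r)) * (r + 2) := by
        rw [← hN, e1] at hG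
        rw [show 1 + r + 1 = r + 2 by ring] at hG
        linarith
      exact Nat.eq_of_mul_eq_mul_right (by omega) h3
    have hT : part23 ((1 + r) ^ 2 - 1) ∣ r * (1 + r) := by
      rw [← hH, ← hN2, mul_comm]
      exact Nat.mul_dvd_mul_right hKd 2
    apply hnd1
    rw [Nat.add_sub_cancel_left]
    exact hTq.dvd_of_dvd_mul_right hT
  · right; right; left
    rw [← hH, Nat.card_congr e.toEquiv, card_alternatingGroup_four]
  · right; right; right
    rw [← hH, Nat.card_congr e.toEquiv, card_perm_four]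
  · exfalso
    rw [Nat.card_congr e.toEquiv, card_alternatingGroup_five] at hH
    have := hT23 5 (by norm_num) (by rw [← hH]; norm_num)
    omega
  · -- subfield: impossible
    exfalso
    have hpT : p ∣ part23 (q ^ 2 - 1) := by
      rw [← hH]
      exact p_dvd_two_mul_card_of_subfield p (by omega) hq H hKm hHK
    have := hT23 p hpp hpT
    omega

theorem coprime_six_of {v : ℕ} (h2 : ¬ 2 ∣ v) (h3 : ¬ 3 ∣ v) : Nat.Coprime v 6 := by
  have h6 : (6 : ℕ) = 2 * 3 := by norm_num
  rw [h6]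
  apply Nat.Coprime.mul_right
  · exact ((Nat.Prime.coprime_iff_not_dvd Nat.prime_two).mpr h2).symm
  · exact ((Nat.Prime.coprime_iff_not_dvd Nat.prime_three).mpr h3).symm

/-- a Hall subgroup from a solvable subgroup whose order has the right `{2,3}`-part -/
theorem exists_of_solvable {G : Type*} [Group G] [Finite G] (B : Subgroup G)
    (hB : Group.IsSolvable B) {c v N : ℕ} (hc : Nat.card B = c) (hc0 : c ≠ 0)
    (hv : Nat.Coprime v 6) (hN : N = c * (2 * v)) (hN0 : N ≠ 0) :
    ∃ H : Subgroup G, 2 * Nat.card H = part23 N := by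
  obtain ⟨w, hw6, hcw⟩ := part23_mul_compl hc0
  have hT : part23 N = 2 * part23 c := by
    apply part23_eq hN0 (t := 2 * part23 c) (u := w * v)
    · apply Is23.mul _ (is23_part23 c)
      have := is23_two_pow 1
      rwa [pow_one] at this
    · exact Nat.Coprime.mul_left hw6 hv
    · rw [hN]
      conv_lhs => rw [hcw]
      ring
  obtain ⟨Q, -, hQ⟩ := Cfsg.Agent.Helper52.hall_exists_internal B hB (part23 c) w
    (by rw [hc]; exact hcw) ((is23_part23 c).coprime hw6)
  exact ⟨Q, by rw [hQ, hT]⟩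

/-- the arithmetic conditions give a Hall subgroup, from solvable subgroups of order `q ∓ 1`,
`A₄` and `S₄` -/
theorem backward_of {q : ℕ} (hq : Fintype.card F = q) (hodd : Odd q) (hq5 : 5 ≤ q)
    (hBm : q % 4 = 1 → ∃ B : Subgroup (ProjectiveSpecialLinearGroup (Fin 2) F),
      Group.IsSolvable B ∧ Nat.card B = q - 1)
    (hBp : q % 4 = 3 → ∃ B : Subgroup (ProjectiveSpecialLinearGroup (Fin 2) F),
      Group.IsSolvable B ∧ Nat.card B = q + 1)
    (hS4 : 16 ∣ q ^ 2 - 1 → ∃ B : Subgroup (ProjectiveSpecialLinearGroup (Fin 2) F),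
      Nonempty (B ≃* Equiv.Perm (Fin 4)))
    (h : (3 ∣ q - 1 ∧ q % 4 = 1) ∨ (3 ∣ q + 1 ∧ q % 4 = 3) ∨
      part23 (q ^ 2 - 1) = 24 ∨ part23 (q ^ 2 - 1) = 48) :
    ∃ H : Subgroup (ProjectiveSpecialLinearGroup (Fin 2) F),
      2 * Nat.card H = part23 (q ^ 2 - 1) := by
  classical
  obtain ⟨r, rfl⟩ := Nat.exists_eq_add_of_le hq5
  have e1 : (5 + r) ^ 2 - 1 = (r + 4) * (r + 6) := by
    rw [show (5 + r) ^ 2 = (r + 4) * (r + 6) + 1 by ring]
    simp
  have hn : (5 + r) ^ 2 - 1 ≠ 0 := by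
    rw [e1]; positivity
  rcases h with ⟨h3, h4⟩ | ⟨h3, h4⟩ | h24 | h48
  · obtain ⟨B, hB, hBc⟩ := hBm h4
    refine exists_of_solvable B hB (c := r + 4) (v := (r + 6) / 2) (by rw [hBc]; omega)
      (by omega) ?_ ?_ hn
    · apply coprime_six_of
      · omega
      · rw [show 5 + r - 1 = r + 4 by omega] at h3
        omega
    · rw [e1]
      congr 1
      omega
  · obtain ⟨B, hB, hBc⟩ := hBp h4
    refine exists_of_solvable B hB (c := r + 6) (v := (r + 4) / 2) (by rw [hBc]; omega)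
      (by omega) ?_ ?_ hn
    · apply coprime_six_of
      · omega
      · rw [show 5 + r + 1 = r + 6 by omega] at h3
        omega
    · rw [e1, mul_comm]
      congr 1
      omega
  · obtain ⟨H, ⟨e⟩⟩ := Cfsg.Agent.S0802.exists_A4_odd hq hodd
    refine ⟨H, ?_⟩
    rw [h24, Nat.card_congr e.toEquiv, card_alternatingGroup_four]
  · have h16 : 16 ∣ (5 + r) ^ 2 - 1 := by
      obtain ⟨u, -, hu⟩ := part23_mul_compl hn
      rw [hu, h48]
      exact Dvd.dvd.mul_right (by norm_num) _
    obtain ⟨H, ⟨e⟩⟩ := hS4 h16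
    refine ⟨H, ?_⟩
    rw [h48, Nat.card_congr e.toEquiv, card_perm_four]

/-- a subgroup of order `q ∓ 1` in `PSL₂(q)`, `q` odd: the image of the normaliser of a subgroup of
order four of `SL₂(q)` -/
theorem exists_subgroup_card {q : ℕ} (hq : Fintype.card F = q) (hodd : Odd q) :
    ∃ B : Subgroup (ProjectiveSpecialLinearGroup (Fin 2) F),
      (q % 4 = 1 → Nat.card B = q - 1) ∧ (q % 4 = 3 → Nat.card B = q + 1) := by
  classical
  have hSL := card_sl2 (F := F)
  rw [hq] at hSL
  have hq1 : 1 ≤ q := by rw [← hq]; exact Fintype.card_pos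
  have h4 : 2 ^ 2 ∣ Nat.card (SpecialLinearGroup (Fin 2) F) := by
    rw [hSL]
    rcases hodd with ⟨k, rfl⟩
    rw [show 2 * k + 1 - 1 = 2 * k by omega, show 2 * k + 1 + 1 = 2 * (k + 1) by ring]
    exact ⟨(2 * k + 1) * k * (k + 1), by ring⟩
  obtain ⟨A, hA⟩ := Sylow.exists_subgroup_card_pow_prime 2 h4
  obtain ⟨-, h1, h3, -⟩ := Cfsg.Agent.S0809.result hq hodd A (by rw [hA]; norm_num)
  have hcen : Subgroup.center (SpecialLinearGroup (Fin 2) F) ≤
      Subgroup.normalizer (A : Set (SpecialLinearGroup (Fin 2) F)) :=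
    Subgroup.center_le_normalizer _
  have hidx : ((Subgroup.normalizer (A : Set (SpecialLinearGroup (Fin 2) F))).map
      (QuotientGroup.mk' (Subgroup.center (SpecialLinearGroup (Fin 2) F)))).index =
      (Subgroup.normalizer (A : Set (SpecialLinearGroup (Fin 2) F))).index := by
    rw [Subgroup.index_map, QuotientGroup.ker_mk', sup_eq_left.mpr hcen,
      MonoidHom.range_eq_top.mpr (QuotientGroup.mk'_surjective _), Subgroup.index_top, mul_one]
  have hG := Cfsg.Agent.Helper98.PSL2Card.card_psl2_odd hq hodd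
  have hN := Subgroup.card_mul_index
    (Subgroup.normalizer (A : Set (SpecialLinearGroup (Fin 2) F)))
  have hB := Subgroup.card_mul_index
    ((Subgroup.normalizer (A : Set (SpecialLinearGroup (Fin 2) F))).map
      (QuotientGroup.mk' (Subgroup.center (SpecialLinearGroup (Fin 2) F))))
  rw [hidx] at hB
  have hipos : 0 < (Subgroup.normalizer (A : Set (SpecialLinearGroup (Fin 2) F))).index :=
    Nat.pos_of_ne_zero Subgroup.index_ne_zero_of_finite
  have e1 : q * (q - 1) * (q + 1) = (q ^ 2 - 1) * q := by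
    obtain ⟨r, rfl⟩ := Nat.exists_eq_add_of_le hq1
    have : (1 + r) ^ 2 - 1 = r * (r + 2) := by
      rw [show (1 + r) ^ 2 = r * (r + 2) + 1 by ring]
      simp
    rw [this, Nat.add_sub_cancel_left]
    ring
  have key : Nat.card (Subgroup.normalizer (A : Set (SpecialLinearGroup (Fin 2) F))) =
      2 * Nat.card ((Subgroup.normalizer (A : Set (SpecialLinearGroup (Fin 2) F))).map
      (QuotientGroup.mk' (Subgroup.center (SpecialLinearGroup (Fin 2) F)))) := by
    apply Nat.eq_of_mul_eq_mul_right hipos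
    rw [hN, hSL, e1, ← hG, ← hB]
    ring
  refine ⟨(Subgroup.normalizer (A : Set (SpecialLinearGroup (Fin 2) F))).map
      (QuotientGroup.mk' (Subgroup.center (SpecialLinearGroup (Fin 2) F))), fun h => ?_, fun h => ?_⟩
  · have h' := h1 h
    rw [key] at h'
    exact Nat.eq_of_mul_eq_mul_left (by norm_num : 0 < 2) h'
  · have h' := h3 h
    rw [key] at h'
    exact Nat.eq_of_mul_eq_mul_left (by norm_num : 0 < 2) h'

/-- such a subgroup is solvable, or has order `60` -/
theorem isSolvable_or_sixty (p : ℕ) [Fact p.Prime] [CharP F p] (hp : 5 ≤ p) {q : ℕ}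
    (hq : Fintype.card F = q) (B : Subgroup (ProjectiveSpecialLinearGroup (Fin 2) F))
    (hB : Nat.card B = q - 1 ∨ Nat.card B = q + 1) :
    Group.IsSolvable B ∨ Nat.card B = 60 := by
  classical
  have hpp : p.Prime := Fact.out
  have hD := Cfsg.Agent.S0799.result (F := F) hq p B
  rcases hD with hab | hab | ⟨⟨e⟩⟩ | ⟨⟨e⟩⟩ | ⟨⟨e⟩⟩ | ⟨K, _, _, m, hKm, hHK⟩
  · exact Or.inl (isSolvable_of_dickson_ab p B (Or.inl hab))
  · exact Or.inl (isSolvable_of_dickson_ab (q := q) p B (Or.inr hab))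
  · exact Or.inl (isSolvable_of_mulEquiv e isSolvable_alt4)
  · exact Or.inl (isSolvable_of_mulEquiv e isSolvable_perm4)
  · right
    rw [Nat.card_congr e.toEquiv, card_alternatingGroup_five]
  · exfalso
    have h1 := p_dvd_two_mul_card_of_subfield p (by omega) hq B hKm hHK
    have h2 : p ∣ Nat.card B :=
      (Nat.Coprime.dvd_of_dvd_mul_left
        ((Nat.coprime_primes hpp Nat.prime_two).mpr (by omega)) h1)
    obtain ⟨n, -, hqn⟩ := FiniteField.card F p
    rw [hq] at hqn
    have hpq : p ∣ q := by rw [hqn]; exact dvd_pow_self _ n.ne_zero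
    have hq1 : 1 ≤ q := by rw [← hq]; exact Fintype.card_pos
    have hp1 : p ∣ 1 := by
      rcases hB with hB | hB
      · rw [hB] at h2
        have := Nat.dvd_sub hpq h2
        rwa [show q - (q - 1) = 1 by omega] at this
      · rw [hB] at h2
        have := Nat.dvd_sub h2 hpq
        rwa [show q + 1 - q = 1 by omega] at this
    have := Nat.le_of_dvd (by norm_num) hp1
    omega

theorem part23_3720 : part23 3720 = 24 := by
  apply part23_eq (by norm_num) (t := 24) (u := 155)
  · have := (is23_two_pow 3).mul (is23_three_pow 1)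
    norm_num at this
    exact this
  · norm_num
  · norm_num

theorem part23_3480 : part23 3480 = 24 := by
  apply part23_eq (by norm_num) (t := 24) (u := 145)
  · have := (is23_two_pow 3).mul (is23_three_pow 1)
    norm_num at this
    exact this
  · norm_num
  · norm_num

/-- the arithmetic conditions give a Hall subgroup -/
theorem backward (p : ℕ) [Fact p.Prime] [CharP F p] (hp : 5 ≤ p) {q : ℕ}
    (hq : Fintype.card F = q)
    (h : (3 ∣ q - 1 ∧ q % 4 = 1) ∨ (3 ∣ q + 1 ∧ q % 4 = 3) ∨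
      part23 (q ^ 2 - 1) = 24 ∨ part23 (q ^ 2 - 1) = 48) :
    ∃ H : Subgroup (ProjectiveSpecialLinearGroup (Fin 2) F),
      2 * Nat.card H = part23 (q ^ 2 - 1) := by
  classical
  obtain ⟨hodd, hq6, hq5, -⟩ := basic_q (F := F) p hp
  rw [hq] at hodd hq6 hq5
  -- the `A₄` case first
  have hA4 : part23 (q ^ 2 - 1) = 24 → ∃ H : Subgroup (ProjectiveSpecialLinearGroup (Fin 2) F),
      2 * Nat.card H = part23 (q ^ 2 - 1) := by
    intro h24
    obtain ⟨H, ⟨e⟩⟩ := Cfsg.Agent.S0802.exists_A4_odd hq hodd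
    refine ⟨H, ?_⟩
    rw [h24, Nat.card_congr e.toEquiv, card_alternatingGroup_four]
  obtain ⟨B, hB1, hB3⟩ := exists_subgroup_card hq hodd
  by_cases h24 : part23 (q ^ 2 - 1) = 24
  · exact hA4 h24
  refine backward_of hq hodd hq5 ?_ ?_ ?_ h
  · intro h4
    have hc := hB1 h4
    rcases isSolvable_or_sixty p hp hq B (Or.inl hc) with hs | h60
    · exact ⟨B, hs, hc⟩
    · exfalso
      apply h24
      have : q = 61 := by omega
      subst this
      exact part23_3720
  · intro h4
    have hc := hB3 h4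
    rcases isSolvable_or_sixty p hp hq B (Or.inr hc) with hs | h60
    · exact ⟨B, hs, hc⟩
    · exfalso
      apply h24
      have : q = 59 := by omega
      subst this
      exact part23_3480
  · intro h16
    apply (Cfsg.Agent.S0803.result hq).mpr
    have hq1 : 1 ≤ q ^ 2 := Nat.one_le_pow _ _ (by omega)
    omega

end main

end Cfsg.Agent.Helper42.Hall23
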