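import Mathlib
import Cfsg.Agent.Lib.Helper53.IPDefs
import Cfsg.Agent.Lib.Helper79.Scalar
import Cfsg.Agent.Lib.Helper76.CD2Basic

set_option autoImplicit false

/-!
IP (P1) for helper53's server (S4463): a nonabelian `p`-group all of whose proper quotients are
abelian has a fully ramified character.
-/

namespace Cfsg.Agent.Helper42.IP

open Cfsg Cfsg.Agent.Helper53.IP Cfsg.Agent.Helper79
open scoped ComplexConjugate commutatorElement

universe u

/-- a non-linear irreducible character is not trivial on the commutator subgroup -/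
theorem p1_not_le_ker {Q : Type u} [Group Q] [Finite Q] (τ : IrrCharacter Q)
    (hτ1 : 1 < charDegree (τ : Q → ℂ)) : ¬ commutator Q ≤ irrKer τ := by
  classical
  intro hle
  have := Fintype.ofFinite Q
  have h1 : ∀ z : Q, Complex.normSq ((τ : Q → ℂ) z) = ((charDegree (τ : Q → ℂ) : ℕ) : ℝ) ^ 2 := by
    intro z
    apply irr_normSq_of_commutators τ (irrKer τ : Set Q)
    · intro b hb
      exact (mem_irrKer τ b).1 hb
    · intro g
      apply hle
      rw [commutator_def]
      have h2 : z * g * z⁻¹ * g⁻¹ = ⁅z, g⁆ := (commutatorElement_def z g).symm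
      rw [h2]
      exact Subgroup.commutator_mem_commutator (Subgroup.mem_top z) (Subgroup.mem_top g)
  have h3 := irr_sum_normSq τ
  rw [Finset.sum_congr rfl (fun g _ => h1 g), Finset.sum_const, nsmul_eq_mul, Finset.card_univ,
    ← Nat.card_eq_fintype_card] at h3
  have hpos : (0 : ℝ) < (Nat.card Q : ℝ) := by
    exact_mod_cast Nat.card_pos
  have h4 : ((charDegree (τ : Q → ℂ) : ℕ) : ℝ) ^ 2 = 1 := by
    have h5 : (Nat.card Q : ℝ) * ((charDegree (τ : Q → ℂ) : ℕ) : ℝ) ^ 2 = (Nat.card Q : ℝ) * 1 := by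
      rw [h3, mul_one]
    exact mul_left_cancel₀ hpos.ne' h5
  have h6 : (charDegree (τ : Q → ℂ)) ^ 2 = 1 := by exact_mod_cast h4
  have h7 : charDegree (τ : Q → ℂ) = 1 := by
    rcases Nat.pow_eq_one.mp h6 with h | h
    · exact h
    · omega
  omega

/-- (P1) [L] a nonabelian `p`-group all of whose proper quotients are abelian has a fully ramified
character. -/
theorem exists_ramified {Q : Type u} [Group Q] [Finite Q] (p : ℕ) (hp : p.Prime)
    (hP : IsPGroup p Q) (hna : ¬ ∀ a b : Q, a * b = b * a)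
    (hq : ∀ L : Subgroup Q, L.Normal → L ≠ ⊥ → commutator Q ≤ L) :
    ∃ τ : IrrCharacter Q, 1 < charDegree (τ : Q → ℂ) ∧
      (∀ x : Q, x ∉ Subgroup.center Q → (τ : Q → ℂ) x = 0) ∧
      (∀ z ∈ Subgroup.center Q,
        Complex.normSq ((τ : Q → ℂ) z) = ((charDegree (τ : Q → ℂ) : ℕ) : ℝ) ^ 2) ∧
      (Subgroup.center Q).index = (charDegree (τ : Q → ℂ)) ^ 2 := by
  classical
  have := Fintype.ofFinite Q
  have : Fact p.Prime := ⟨hp⟩
  have hnt : Nontrivial Q := by
    by_contra h
    rw [not_nontrivial_iff_subsingleton] at h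
    exact hna (fun a b => Subsingleton.elim _ _)
  have hZ : Subgroup.center Q ≠ ⊥ := by
    have h1 := hP.center_nontrivial
    intro h0
    obtain ⟨a, b, hab⟩ := h1
    apply hab
    apply Subtype.ext
    have ha : (a : Q) ∈ (⊥ : Subgroup Q) := h0 ▸ a.2
    have hb : (b : Q) ∈ (⊥ : Subgroup Q) := h0 ▸ b.2
    rw [Subgroup.mem_bot] at ha hb
    rw [ha, hb]
  have hQZ : commutator Q ≤ Subgroup.center Q := hq _ inferInstance hZ
  obtain ⟨τ, hτ⟩ : ∃ τ : IrrCharacter Q, charDegree (τ : Q → ℂ) ≠ 1 := by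
    by_contra h
    push Not at h
    exact hna (Cfsg.Agent.Helper76.CD2.comm_of_all_linear h)
  have hτ1 : 1 < charDegree (τ : Q → ℂ) := by
    have := (irr_one_eq τ).2
    omega
  have hker : irrKer τ = ⊥ := by
    by_contra hne
    exact p1_not_le_ker τ hτ1 (hq _ inferInstance hne)
  have hvan : ∀ x : Q, x ∉ Subgroup.center Q → (τ : Q → ℂ) x = 0 := by
    intro x hx
    rw [Subgroup.mem_center_iff] at hx
    push Not at hx
    obtain ⟨y, hy⟩ := hx
    have hzc : y * x * y⁻¹ * x⁻¹ ∈ Subgroup.center Q := by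
      apply hQZ
      rw [commutator_def]
      have h2 : y * x * y⁻¹ * x⁻¹ = ⁅y, x⁆ := (commutatorElement_def y x).symm
      rw [h2]
      exact Subgroup.commutator_mem_commutator (Subgroup.mem_top y) (Subgroup.mem_top x)
    have hz1 : y * x * y⁻¹ * x⁻¹ ≠ 1 := by
      intro h1
      apply hy
      have h2 : y * x = (y * x * y⁻¹ * x⁻¹) * (x * y) := by group
      rw [h2, h1, one_mul]
    obtain ⟨n, ρ, hρ, hχ, hk⟩ := irr_exists_rep τ
    have : ρ.IsIrreducible := hρ
    obtain ⟨l, hl, -⟩ := center_scalar ρ _ hzc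
    have h3 : (τ : Q → ℂ) ((y * x * y⁻¹ * x⁻¹) * x) = l * (τ : Q → ℂ) x := by
      rw [← hχ]
      unfold Representation.character
      rw [map_mul, hl, smul_mul_assoc, one_mul, map_smul, smul_eq_mul]
    have h4 : (y * x * y⁻¹ * x⁻¹) * x = y * x * y⁻¹ := by group
    rw [h4, irr_class] at h3
    have hl1 : l ≠ 1 := by
      intro h1
      rw [h1, one_smul] at hl
      have h5 := (hk _).2 hl
      have h6 : y * x * y⁻¹ * x⁻¹ ∈ irrKer τ := (mem_irrKer τ _).2 h5
      rw [hker, Subgroup.mem_bot] at h6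
      exact hz1 h6
    have h7 : (l - 1) * (τ : Q → ℂ) x = 0 := by
      rw [sub_mul, one_mul, ← h3, sub_self]
    rcases mul_eq_zero.mp h7 with h | h
    · exact absurd (sub_eq_zero.mp h) hl1
    · exact h
  refine ⟨τ, hτ1, hvan, fun z hz => irr_normSq_central τ z hz, ?_⟩
  have h1 := irr_sum_normSq τ
  rw [← Finset.sum_filter_add_sum_filter_not Finset.univ (fun g : Q => g ∈ Subgroup.center Q)] at h1
  have h2 : ∑ g ∈ Finset.univ.filter (fun g : Q => ¬ g ∈ Subgroup.center Q),
      Complex.normSq ((τ : Q → ℂ) g) = 0 := by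
    apply Finset.sum_eq_zero
    intro g hg
    rw [hvan g (Finset.mem_filter.1 hg).2, map_zero]
  have h3 : ∑ g ∈ Finset.univ.filter (fun g : Q => g ∈ Subgroup.center Q),
      Complex.normSq ((τ : Q → ℂ) g)
      = (Nat.card (Subgroup.center Q) : ℝ) * ((charDegree (τ : Q → ℂ) : ℕ) : ℝ) ^ 2 := by
    rw [Finset.sum_congr rfl (fun g hg => irr_normSq_central τ g (Finset.mem_filter.1 hg).2),
      Finset.sum_const, nsmul_eq_mul]
    congr 2
    rw [Nat.card_eq_fintype_card, Fintype.card_subtype]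
  rw [h2, h3, add_zero] at h1
  have h4 : Nat.card (Subgroup.center Q) * (charDegree (τ : Q → ℂ)) ^ 2 = Nat.card Q := by
    exact_mod_cast h1
  have h5 := (Subgroup.center Q).card_mul_index
  rw [← h4] at h5
  have hpos : 0 < Nat.card (Subgroup.center Q) := Nat.card_pos
  exact Nat.eq_of_mul_eq_mul_left hpos h5

end Cfsg.Agent.Helper42.IP
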