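import Mathlib
import Cfsg.Agent.Lib.Helper42.Jordan5
import Cfsg.Agent.Lib.Helper14.UnipConj

set_option autoImplicit false
set_option linter.unusedSectionVars false

/-!
# Jordan normal forms with entries `0, 1` and their centralizers
-/

namespace Cfsg.Agent.Helper42.JordanSub

open Matrix Module Cfsg.Agent.Helper42.Jordan Cfsg.Agent.Helper14.UnipConj

universe u

variable {K : Type u} [Field K] {n : ℕ}

/-- the Jordan matrix of type `d` on `Fin n` -/
noncomputable def jmat {t : ℕ} (d : Fin t → ℕ) (e : ((k : Fin t) × Fin (d k)) ≃ Fin n) (K : Type u)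
    [Field K] : Matrix (Fin n) (Fin n) K :=
  Matrix.reindex e e (Cfsg.jordanTypeMatrix d K)

lemma jmat_apply {t : ℕ} (d : Fin t → ℕ) (e : ((k : Fin t) × Fin (d k)) ≃ Fin n) (i j : Fin n) :
    jmat d e K i j = if (e.symm i).1 = (e.symm j).1 then
      (if ((e.symm i).2 : ℕ) = ((e.symm j).2 : ℕ) then 1
        else if ((e.symm i).2 : ℕ) = ((e.symm j).2 : ℕ) + 1 then 1 else 0) else 0 := by
  unfold jmat Cfsg.jordanTypeMatrix
  rw [Matrix.reindex_apply, Matrix.submatrix_apply]
  obtain ⟨k, a⟩ := e.symm i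
  obtain ⟨k', a'⟩ := e.symm j
  rw [Matrix.blockDiagonal'_apply]
  by_cases hk : k = k'
  · subst hk
    simp [Cfsg.jordanBlock]
  · simp [hk]

lemma jmat_map {K₀ : Type u} [Field K₀] (f : K₀ →+* K) {t : ℕ} (d : Fin t → ℕ)
    (e : ((k : Fin t) × Fin (d k)) ≃ Fin n) : (jmat d e K₀).map f = jmat d e K := by
  ext i j
  rw [Matrix.map_apply, jmat_apply, jmat_apply]
  split_ifs <;> simp

lemma mrk_jmat {t : ℕ} (d : Fin t → ℕ) (e : ((k : Fin t) × Fin (d k)) ≃ Fin n) (i : ℕ) :
    mrk (jmat d e K - 1) i = ∑ k, (d k - i) := by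
  unfold mrk jmat
  exact rk_jordan_reindex d e i

lemma isNilpotent_jmat {t : ℕ} (d : Fin t → ℕ) (e : ((k : Fin t) × Fin (d k)) ≃ Fin n) :
    IsNilpotent (jmat d e K - 1) := by
  rw [← isNilpotent_toLin']
  exact isNilpotent_jordan_reindex d e

/-- Jordan normal form of a nilpotent matrix -/
theorem normal_form (N : Matrix (Fin n) (Fin n) K) (hN : IsNilpotent N) :
    ∃ (t : ℕ) (d : Fin t → ℕ) (e : ((k : Fin t) × Fin (d k)) ≃ Fin n) (Q : GL (Fin n) K),
      (∀ k, 0 < d k) ∧ (∀ i, mrk N i = ∑ k, (d k - i)) ∧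
        Q.val * N * Q⁻¹.val = jmat d e K - 1 := by
  obtain ⟨L, hL0, hLs, hLr⟩ := exists_list_rk (K := K) n (Fin n → K) (Matrix.toLin' N) (by simp)
    ((isNilpotent_toLin' N).mpr hN)
  set t := L.length with ht
  set d : Fin t → ℕ := fun k => L.get k with hd
  have hsum : ∀ i, ∑ k, (d k - i) = (L.map (fun e => e - i)).sum := by
    intro i
    exact Fin.sum_univ_fun_getElem L (fun e => e - i)
  have hcard : Fintype.card ((k : Fin t) × Fin (d k)) = n := by
    rw [Fintype.card_sigma]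
    simp only [Fintype.card_fin]
    have := hsum 0
    simp only [Nat.sub_zero, List.map_id'] at this
    rw [this, hLs]
  set e := Fintype.equivFinOfCardEq hcard with he
  have hmrk : ∀ i, mrk N i = ∑ k, (d k - i) := by
    intro i
    rw [hsum]
    exact hLr i
  obtain ⟨Q, hQ⟩ := exists_conj_of_mrk_eq N (jmat d e K - 1) hN (by
    intro i
    rw [hmrk, mrk_jmat])
  refine ⟨t, d, e, Q, ?_, hmrk, hQ⟩
  intro k
  exact hL0 _ (List.get_mem L k)

/-- a diagonal matrix constant on the blocks -/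
noncomputable def dmat {t : ℕ} (d : Fin t → ℕ) (e : ((k : Fin t) × Fin (d k)) ≃ Fin n) (w : Fin t → K) :
    Matrix (Fin n) (Fin n) K :=
  Matrix.diagonal fun i => w (e.symm i).1

lemma dmat_commute {t : ℕ} (d : Fin t → ℕ) (e : ((k : Fin t) × Fin (d k)) ≃ Fin n) (w : Fin t → K) :
    dmat d e w * jmat d e K = jmat d e K * dmat d e w := by
  ext i j
  unfold dmat
  rw [Matrix.diagonal_mul, Matrix.mul_diagonal, jmat_apply]
  by_cases h : (e.symm i).1 = (e.symm j).1
  · rw [if_pos h, congrArg w h, mul_comm]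
  · rw [if_neg h, mul_zero, zero_mul]

lemma det_dmat {t : ℕ} (d : Fin t → ℕ) (e : ((k : Fin t) × Fin (d k)) ≃ Fin n) (w : Fin t → K) :
    (dmat d e w).det = ∏ k, w k ^ d k := by
  unfold dmat
  rw [Matrix.det_diagonal]
  rw [← Equiv.prod_comp e (fun i => w (e.symm i).1)]
  simp only [Equiv.symm_apply_apply]
  rw [Fintype.prod_sigma]
  apply Finset.prod_congr rfl
  intro k _
  simp only [Finset.prod_const, Finset.card_univ, Fintype.card_fin]

end Cfsg.Agent.Helper42.JordanSub
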