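import Mathlib
import Cfsg.Prelude.Def_GeometricClasses
import Cfsg.Agent.Lib.Helper42.JordanSub1

set_option autoImplicit false
set_option linter.unusedSectionVars false

/-!
# Membership in the subfield subgroup
-/

namespace Cfsg.Agent.Helper42.JordanSub

open Matrix Cfsg.Geo

variable {F : Type*} [Field F] {n : ℕ} (F₀ : Subfield F)

/-- membership in the (unconjugated) subfield subgroup -/
lemma mem_subfield_one_iff (g : GL (Fin n) F) :
    g ∈ subfieldSubgroup F₀ (1 : GL (Fin n) F) ↔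
      ∃ (Y : GL (Fin n) F₀) (c : Fˣ),
        (g : Matrix (Fin n) (Fin n) F) =
          (Y : Matrix (Fin n) (Fin n) F₀).map F₀.subtype * ((c : F) • (1 : Matrix (Fin n) (Fin n) F)) := by
  unfold subfieldSubgroup
  have h1 : (MulAut.conj (1 : GL (Fin n) F)).toMonoidHom = MonoidHom.id _ := by
    ext x
    simp
  rw [h1, Subgroup.map_id, Subgroup.mem_sup_of_normal_right]
  constructor
  · rintro ⟨y, ⟨Y, rfl⟩, z, hz, rfl⟩
    rw [mem_scalars_iff] at hz
    obtain ⟨c, hc⟩ := hz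
    refine ⟨Y, c, ?_⟩
    rw [Units.val_mul, hc]
    rfl
  · rintro ⟨Y, c, h⟩
    refine ⟨Matrix.GeneralLinearGroup.map (F₀.subtype : F₀ →+* F) Y, ⟨Y, rfl⟩,
      Units.map (Matrix.scalar (Fin n) : F →+* Matrix (Fin n) (Fin n) F).toMonoidHom c, ⟨c, rfl⟩, ?_⟩
    apply Units.ext
    rw [Units.val_mul, h]
    congr 1
    simp [Matrix.smul_one_eq_diagonal]


/-- conjugating a scalar multiple of a unipotent matrix into the subfield subgroup by a matrix of
determinant one -/
theorem exists_sl_conj (x : Matrix.SpecialLinearGroup (Fin n) F) (c : F) (hc : c ≠ 0) {t : ℕ}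
    (d : Fin t → ℕ) (e : ((k : Fin t) × Fin (d k)) ≃ Fin n) (Q : GL (Fin n) F)
    (hQ : Q.val * (c⁻¹ • (x : Matrix (Fin n) (Fin n) F) - 1) * Q⁻¹.val = jmat d e F - 1)
    (w : Fin t → F) (ν : F₀) (hν : ν ≠ 0) (i₀ : Fin n)
    (hdet : (∏ k, w k ^ d k) * (ν : F) = Q.val.det) :
    ∃ P : Matrix.SpecialLinearGroup (Fin n) F,
      P⁻¹ * x * P ∈ (subfieldSubgroup F₀ (1 : GL (Fin n) F)).comap
        (Matrix.SpecialLinearGroup.toGL : Matrix.SpecialLinearGroup (Fin n) F →* GL (Fin n) F) := by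
  classical
  set X : Matrix (Fin n) (Fin n) F := (x : Matrix (Fin n) (Fin n) F) with hX
  set J := jmat d e F with hJ
  set J₀ := jmat d e F₀ with hJ₀
  have hJmap : J₀.map F₀.subtype = J := jmat_map F₀.subtype d e
  have hQQ : Q.val * Q⁻¹.val = 1 := by rw [← Units.val_mul, mul_inv_cancel, Units.val_one]
  have hQQ' : Q⁻¹.val * Q.val = 1 := by rw [← Units.val_mul, inv_mul_cancel, Units.val_one]
  -- `Q x = c J Q`
  have h1 : Q.val * X = c • (J * Q.val) := by
    have h2 : Q.val * (c⁻¹ • X) * Q⁻¹.val = J := by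
      have h3 : Q.val * (c⁻¹ • X - 1) * Q⁻¹.val = Q.val * (c⁻¹ • X) * Q⁻¹.val - 1 := by
        rw [mul_sub, sub_mul, mul_one, hQQ]
      rw [h3] at hQ
      exact sub_left_injective hQ
    have h4 : Q.val * (c⁻¹ • X) = J * Q.val := by
      have : Q.val * (c⁻¹ • X) * Q⁻¹.val * Q.val = J * Q.val := by rw [h2]
      rw [mul_assoc, hQQ', mul_one] at this
      exact this
    rw [Matrix.mul_smul] at h4
    rw [← h4, smul_smul, mul_inv_cancel₀ hc, one_smul]
  set D := dmat d e w with hD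
  have hDJ : D * J = J * D := dmat_commute d e w
  have hDdet : D.det = ∏ k, w k ^ d k := det_dmat d e w
  set M₀ : Matrix (Fin n) (Fin n) F₀ := Matrix.diagonal (fun i => if i = i₀ then ν else 1) with hM₀
  have hM₀det : M₀.det = ν := by
    rw [hM₀, Matrix.det_diagonal, Finset.prod_ite_eq' Finset.univ i₀]
    simp
  set M := M₀.map F₀.subtype with hM
  have hMdet : M.det = (ν : F) := by
    have : M.det = F₀.subtype M₀.det := by
      rw [hM, ← RingHom.mapMatrix_apply, ← RingHom.map_det]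
    rw [this, hM₀det]
    rfl
  set Pm : Matrix (Fin n) (Fin n) F := Q⁻¹.val * D * M with hPm
  have hQdet : Q⁻¹.val.det * Q.val.det = 1 := by rw [← Matrix.det_mul, hQQ', Matrix.det_one]
  have hPdet : Pm.det = 1 := by
    rw [hPm, Matrix.det_mul, Matrix.det_mul, hDdet, hMdet, mul_assoc, hdet, hQdet]
  -- the matrix over the subfield
  have hJ₀det : J₀.det ≠ 0 := by
    intro h0
    have h2 : J.det = 0 := by
      rw [← hJmap, ← RingHom.mapMatrix_apply, ← RingHom.map_det, h0, map_zero]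
    have h3 : (Q.val * X).det = (c • (J * Q.val)).det := by rw [h1]
    rw [Matrix.det_mul, Matrix.det_smul, Matrix.det_mul, h2, zero_mul, mul_zero] at h3
    have hX1 : X.det = 1 := x.2
    rw [hX1, mul_one] at h3
    have : Q⁻¹.val.det * Q.val.det = 0 := by rw [h3, mul_zero]
    rw [hQdet] at this
    exact one_ne_zero this
  have hM₀det' : M₀.det ≠ 0 := by rw [hM₀det]; exact hν
  set M₀' : Matrix (Fin n) (Fin n) F₀ := M₀⁻¹ with hM₀'
  have hMM : M₀ * M₀' = 1 := Matrix.mul_nonsing_inv _ (Ne.isUnit hM₀det')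
  set Y₀ : Matrix (Fin n) (Fin n) F₀ := M₀' * J₀ * M₀ with hY₀
  have hY₀det : Y₀.det ≠ 0 := by
    rw [hY₀, Matrix.det_mul, Matrix.det_mul]
    have : M₀'.det ≠ 0 := by
      intro h0
      have := congrArg Matrix.det hMM
      rw [Matrix.det_mul, h0, mul_zero, Matrix.det_one] at this
      exact zero_ne_one this
    exact mul_ne_zero (mul_ne_zero this hJ₀det) hM₀det'
  set Y : GL (Fin n) F₀ := Matrix.GeneralLinearGroup.mkOfDetNeZero Y₀ hY₀det with hY
  set P : Matrix.SpecialLinearGroup (Fin n) F := ⟨Pm, hPdet⟩ with hP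
  refine ⟨P, ?_⟩
  rw [Subgroup.mem_comap, mem_subfield_one_iff]
  refine ⟨Y, Units.mk0 c hc, ?_⟩
  set W : Matrix (Fin n) (Fin n) F := Y₀.map F₀.subtype * (c • (1 : Matrix (Fin n) (Fin n) F))
    with hW
  have hYval : (Y : Matrix (Fin n) (Fin n) F₀) = Y₀ := rfl
  rw [hYval, Units.val_mk0]
  -- `M W = c J M`
  have hMW : M * W = c • (J * M) := by
    have h5 : M * Y₀.map F₀.subtype = J * M := by
      have h6 : M₀ * Y₀ = J₀ * M₀ := by
        rw [hY₀, ← mul_assoc, ← mul_assoc, hMM, one_mul]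
      have h6' : (M₀ * Y₀).map F₀.subtype = (J₀ * M₀).map F₀.subtype := by rw [h6]
      rw [Matrix.map_mul, Matrix.map_mul (L := J₀), hJmap] at h6'
      exact h6'
    rw [hW, ← mul_assoc, h5, Matrix.mul_smul, mul_one]
  have hPW : Pm * W = X * Pm := by
    have e1 : Q.val * (Pm * W) = D * (M * W) := by
      have : Pm * W = Q⁻¹.val * (D * (M * W)) := by
        rw [hPm]
        simp only [Matrix.mul_assoc]
      rw [this, ← Matrix.mul_assoc, hQQ, Matrix.one_mul]
    have e2 : Q.val * (X * Pm) = (Q.val * X) * Q⁻¹.val * D * M := by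
      rw [hPm]
      simp only [Matrix.mul_assoc]
    have h7 : Q.val * (Pm * W) = Q.val * (X * Pm) := by
      rw [e1, e2, hMW, h1, Matrix.mul_smul, Matrix.smul_mul, Matrix.smul_mul, Matrix.smul_mul]
      congr 1
      rw [Matrix.mul_assoc J, hQQ, Matrix.mul_one, ← Matrix.mul_assoc, hDJ]
    have h8 : Q⁻¹.val * (Q.val * (Pm * W)) = Q⁻¹.val * (Q.val * (X * Pm)) := by rw [h7]
    have h8a : Q⁻¹.val * (Q.val * (Pm * W)) = Pm * W := by
      rw [← Matrix.mul_assoc, hQQ', Matrix.one_mul]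
    have h8b : Q⁻¹.val * (Q.val * (X * Pm)) = X * Pm := by
      rw [← Matrix.mul_assoc, hQQ', Matrix.one_mul]
    rw [h8a, h8b] at h8
    exact h8
  have hPinv : (P⁻¹ : Matrix.SpecialLinearGroup (Fin n) F).val * Pm = 1 := by
    have : (P⁻¹ * P : Matrix.SpecialLinearGroup (Fin n) F).val = 1 := by
      rw [inv_mul_cancel]
      rfl
    exact this
  show ((P⁻¹ * x * P : Matrix.SpecialLinearGroup (Fin n) F) : Matrix (Fin n) (Fin n) F) = W
  have h9 : ((P⁻¹ * x * P : Matrix.SpecialLinearGroup (Fin n) F) : Matrix (Fin n) (Fin n) F) =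
      (P⁻¹ : Matrix.SpecialLinearGroup (Fin n) F).val * X * Pm := rfl
  rw [h9, mul_assoc, ← hPW, ← mul_assoc, hPinv, one_mul]

end Cfsg.Agent.Helper42.JordanSub
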