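import Mathlib
import Cfsg.Prelude.Def_GeometricClasses
import Cfsg.Agent.Lib.Helper42.Jordan6
import Cfsg.Agent.Lib.Helper42.JordanSub2

set_option autoImplicit false
set_option linter.unusedSectionVars false
set_option linter.unusedVariables false

/-!
# Elements of order three in characteristic three are conjugate into subfield subgroups
-/

namespace Cfsg.Agent.Helper42.JordanSub

open Matrix Cfsg.Geo Cfsg.Agent.Helper42.Jordan

universe u

/-- every nonzero element of a finite field of odd characteristic is a square times an element of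
a subfield of odd index -/
lemma exists_sq_mul_subfield {F : Type u} [Field F] [Fintype F] (hF : ringChar F ≠ 2)
    (F₀ : Subfield F) (k q₀ : ℕ) (hkodd : Odd k) (hF₀ : Nat.card F₀ = q₀)
    (hqk : Fintype.card F = q₀ ^ k) (a : F) (ha : a ≠ 0) :
    ∃ (s : F) (ν : F₀), ν ≠ 0 ∧ s ^ 2 * (ν : F) = a := by
  classical
  haveI : Fintype F₀ := Fintype.ofFinite _
  have hq₀ : Fintype.card F₀ = q₀ := by rw [← hF₀, Nat.card_eq_fintype_card]
  have hqodd : Fintype.card F % 2 = 1 := FiniteField.odd_card_of_char_ne_two hF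
  have hk0 : k ≠ 0 := by
    rintro rfl
    exact absurd hkodd (by decide)
  have hq₀odd : q₀ % 2 = 1 := by
    rw [hqk] at hqodd
    have h1 : Odd (q₀ ^ k) := Nat.odd_iff.mpr hqodd
    obtain ⟨j, rfl⟩ := Nat.exists_eq_succ_of_ne_zero hk0
    rw [pow_succ] at h1
    exact Nat.odd_iff.mp (Nat.Odd.of_mul_right h1)
  have hF₀c : ringChar F₀ ≠ 2 := by
    intro h2
    rw [FiniteField.even_card_iff_char_two, hq₀] at h2
    omega
  obtain ⟨ν₀, hν₀⟩ := FiniteField.exists_nonsquare hF₀c
  have hν₀0 : ν₀ ≠ 0 := by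
    rintro rfl
    exact hν₀ (IsSquare.zero)
  set m := q₀ / 2 with hm
  have hq₀m : q₀ = 2 * m + 1 := by omega
  have hν₀m : ν₀ ^ m = -1 := by
    rcases FiniteField.pow_dichotomy hF₀c hν₀0 with h1 | h1
    · exact absurd ((FiniteField.isSquare_iff hF₀c hν₀0).mpr h1) hν₀
    · rw [hq₀] at h1
      exact h1
  set e := ∑ i ∈ Finset.range k, q₀ ^ i with he
  have hqe : Fintype.card F = e * (2 * m) + 1 := by
    rw [hqk]
    have := geom_sum_mul_add (2 * m) k
    rw [← hq₀m] at this
    rw [he, this]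
  have hhalf : Fintype.card F / 2 = e * m := by
    rw [hqe]
    have : e * (2 * m) + 1 = 2 * (e * m) + 1 := by ring
    rw [this]
    omega
  have heodd : Odd e := by
    rw [he, Finset.odd_sum_iff_odd_card_odd]
    have : (Finset.range k).filter (fun i => Odd (q₀ ^ i)) = Finset.range k := by
      apply Finset.filter_true_of_mem
      intro i _
      exact (Nat.odd_iff.mpr hq₀odd).pow
    rw [this, Finset.card_range]
    exact hkodd
  have hν₀F : ((ν₀ : F₀) : F) ^ (Fintype.card F / 2) = -1 := by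
    rw [hhalf, mul_comm, pow_mul]
    have h1 : ((ν₀ : F₀) : F) ^ m = -1 := by
      have := congrArg (fun y : F₀ => (y : F)) hν₀m
      simpa using this
    rw [h1, heodd.neg_one_pow]
  have hν₀F0 : ((ν₀ : F₀) : F) ≠ 0 := by
    intro h0
    apply hν₀0
    exact Subtype.ext h0
  by_cases hsq : IsSquare a
  · obtain ⟨s, hs⟩ := hsq
    refine ⟨s, 1, one_ne_zero, ?_⟩
    rw [hs, sq]
    simp
  · have h1 : a ^ (Fintype.card F / 2) = -1 := by
      rcases FiniteField.pow_dichotomy hF ha with h1 | h1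
      · exact absurd ((FiniteField.isSquare_iff hF ha).mpr h1) hsq
      · exact h1
    have h2 : (a * ((ν₀ : F₀) : F)⁻¹) ^ (Fintype.card F / 2) = 1 := by
      rw [mul_pow, inv_pow, h1, hν₀F]
      simp
    have h3 : IsSquare (a * ((ν₀ : F₀) : F)⁻¹) :=
      (FiniteField.isSquare_iff hF (mul_ne_zero ha (inv_ne_zero hν₀F0))).mpr h2
    obtain ⟨s, hs⟩ := h3
    refine ⟨s, ν₀, hν₀0, ?_⟩
    rw [sq, ← hs, mul_assoc, inv_mul_cancel₀ hν₀F0, mul_one]

/-- product of powers of a function supported at one point -/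
lemma prod_update_pow {K : Type u} [Field K] {t : ℕ} (d : Fin t → ℕ) (k₀ : Fin t) (r : K) :
    ∏ k, (Function.update (fun _ => (1 : K)) k₀ r) k ^ d k = r ^ d k₀ := by
  rw [Finset.prod_eq_single k₀]
  · rw [Function.update_self]
  · intro b _ hb
    rw [Function.update_of_ne hb, one_pow]
  · intro h
    exact absurd (Finset.mem_univ _) h

/-- in characteristic three, an element of determinant one whose cube is a scalar is conjugate,
by an element of determinant one, into the subfield subgroup, provided the dimension or the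
degree is odd -/
theorem conj_into_subfield {F : Type u} [Field F] [Fintype F] [CharP F 3] {n : ℕ} (hn : 2 ≤ n)
    (F₀ : Subfield F) (k q₀ : ℕ) (hF₀ : Nat.card F₀ = q₀) (hqk : Fintype.card F = q₀ ^ k)
    (h : Odd n ∨ Odd k) (x : Matrix.SpecialLinearGroup (Fin n) F) (z : F)
    (hx3 : ((x ^ 3 : Matrix.SpecialLinearGroup (Fin n) F) : Matrix (Fin n) (Fin n) F) =
      z • (1 : Matrix (Fin n) (Fin n) F)) :
    ∃ P : Matrix.SpecialLinearGroup (Fin n) F,
      P⁻¹ * x * P ∈ (subfieldSubgroup F₀ (1 : GL (Fin n) F)).comap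
        (Matrix.SpecialLinearGroup.toGL : Matrix.SpecialLinearGroup (Fin n) F →* GL (Fin n) F) := by
  classical
  haveI : Fact (Nat.Prime 3) := ⟨Nat.prime_three⟩
  have hF2 : ringChar F ≠ 2 := by
    rw [ringChar.eq F 3]
    norm_num
  haveI : Nonempty (Fin n) := ⟨⟨0, by omega⟩⟩
  set X : Matrix (Fin n) (Fin n) F := (x : Matrix (Fin n) (Fin n) F) with hX
  have hX3 : X ^ 3 = z • (1 : Matrix (Fin n) (Fin n) F) := by
    rw [← hx3]
    rfl
  have hz : z ≠ 0 := by
    rintro rfl
    have h1 : (X ^ 3).det = 0 := by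
      rw [hX3, zero_smul, Matrix.det_zero]
    rw [Matrix.det_pow] at h1
    have h2 : X.det = 1 := x.2
    rw [h2, one_pow] at h1
    exact one_ne_zero h1
  obtain ⟨c, hc3⟩ := surjective_frobenius F 3 z
  rw [frobenius_def] at hc3
  have hc : c ≠ 0 := by
    rintro rfl
    apply hz
    rw [← hc3]
    simp
  set N : Matrix (Fin n) (Fin n) F := c⁻¹ • X - 1 with hN
  have hN3 : N ^ 3 = 0 := by
    have h1 := sub_one_pow_char 3 (c⁻¹ • X) 1
    rw [pow_one] at h1
    rw [hN, h1, _root_.smul_pow, hX3, smul_smul, inv_pow, hc3, inv_mul_cancel₀ hz, one_smul, sub_self]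
  have hNnil : IsNilpotent N := ⟨3, hN3⟩
  obtain ⟨t, d, e, Q, hd0, hmrk, hQ⟩ := normal_form N hNnil
  have hd3 : ∀ k, d k ≤ 3 := by
    have h1 : mrk N 3 = 0 := (mrk_eq_zero_iff N 3).mpr hN3
    rw [hmrk] at h1
    intro k
    have h2 := (Finset.sum_eq_zero_iff.mp h1) k (Finset.mem_univ _)
    omega
  have hsum : ∑ k, d k = n := by
    have h1 := Fintype.card_congr e
    rw [Fintype.card_sigma] at h1
    simpa using h1
  have hQdet : Q.val.det ≠ 0 := by
    have h1 : Q.val.det * Q⁻¹.val.det = 1 := by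
      rw [← Matrix.det_mul, ← Units.val_mul, mul_inv_cancel, Units.val_one, Matrix.det_one]
    intro h0
    rw [h0, zero_mul] at h1
    exact zero_ne_one h1
  have i₀ : Fin n := ⟨0, by omega⟩
  by_cases h1 : ∃ k₀, d k₀ = 1
  · obtain ⟨k₀, hk₀⟩ := h1
    refine exists_sl_conj F₀ x c hc d e Q hQ (Function.update (fun _ => (1 : F)) k₀ Q.val.det) 1
      one_ne_zero i₀ ?_
    rw [prod_update_pow, hk₀, pow_one]
    simp
  by_cases h3 : ∃ k₀, d k₀ = 3
  · obtain ⟨k₀, hk₀⟩ := h3
    obtain ⟨r, hr⟩ := surjective_frobenius F 3 Q.val.det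
    rw [frobenius_def] at hr
    refine exists_sl_conj F₀ x c hc d e Q hQ (Function.update (fun _ => (1 : F)) k₀ r) 1
      one_ne_zero i₀ ?_
    rw [prod_update_pow, hk₀, hr]
    simp
  · have hd2 : ∀ k, d k = 2 := by
      intro k
      have := hd0 k
      have := hd3 k
      have h1' : d k ≠ 1 := fun h' => h1 ⟨k, h'⟩
      have h3' : d k ≠ 3 := fun h' => h3 ⟨k, h'⟩
      omega
    have hn2 : n = 2 * t := by
      rw [← hsum]
      simp [hd2, mul_comm]
    have hkodd : Odd k := by
      rcases h with h | h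
      · exfalso
        rw [hn2] at h
        exact (Nat.not_odd_iff_even.mpr (even_two_mul t)) h
      · exact h
    obtain ⟨s, ν, hν, hs⟩ := exists_sq_mul_subfield hF2 F₀ k q₀ hkodd hF₀ hqk Q.val.det hQdet
    have ht : 0 < t := by omega
    refine exists_sl_conj F₀ x c hc d e Q hQ (Function.update (fun _ => (1 : F)) ⟨0, ht⟩ s) ν
      hν i₀ ?_
    rw [prod_update_pow, hd2, hs]

end Cfsg.Agent.Helper42.JordanSub
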