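import Mathlib
import Cfsg.Agent.Lib.Helper42.JordanSub1

set_option autoImplicit false
set_option linter.unusedSectionVars false
set_option linter.unusedVariables false

/-!
# Block form of the Jordan type `(2^m)`, its centralizer, and scalars in subfields
-/

namespace Cfsg.Agent.Helper42.JordanSub

open Matrix

universe u

section blocks

variable {K : Type u} [Field K] {ι : Type*} [Fintype ι] [DecidableEq ι]

/-- the unipotent block matrix of type `(2^m)` -/
def ublk (ι : Type*) [DecidableEq ι] (K : Type u) [Field K] : Matrix (ι ⊕ ι) (ι ⊕ ι) K :=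
  Matrix.fromBlocks 1 0 1 1

/-- determinants of the centralizer of `ublk` are squares -/
lemma det_of_commute_ublk (A : Matrix (ι ⊕ ι) (ι ⊕ ι) K) (h : A * ublk ι K = ublk ι K * A) :
    ∃ a : K, A.det = a ^ 2 := by
  obtain ⟨A₁₁, A₁₂, A₂₁, A₂₂, rfl⟩ : ∃ a b c d, A = Matrix.fromBlocks a b c d :=
    ⟨_, _, _, _, (Matrix.fromBlocks_toBlocks A).symm⟩
  unfold ublk at h
  rw [Matrix.fromBlocks_multiply, Matrix.fromBlocks_multiply, Matrix.fromBlocks_inj] at h
  simp only [Matrix.mul_one, Matrix.mul_zero, Matrix.one_mul, Matrix.zero_mul, add_zero,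
    zero_add] at h
  obtain ⟨h1, -, h3, -⟩ := h
  have h12 : A₁₂ = 0 := by
    have := h1
    rwa [add_eq_left] at this
  have h22 : A₂₂ = A₁₁ := by
    rw [add_comm] at h3
    exact add_right_cancel h3
  subst h12
  subst h22
  refine ⟨A₂₂.det, ?_⟩
  rw [Matrix.det_fromBlocks_zero₁₂, sq]

/-- the twisted unipotent block matrix -/
def xblk (Δ : Matrix ι ι K) : Matrix (ι ⊕ ι) (ι ⊕ ι) K := Matrix.fromBlocks 1 0 Δ 1

/-- the twisting matrix -/
def tblk (Δ : Matrix ι ι K) : Matrix (ι ⊕ ι) (ι ⊕ ι) K := Matrix.fromBlocks 1 0 0 Δ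

lemma xblk_mul_tblk (Δ : Matrix ι ι K) : xblk Δ * tblk Δ = tblk Δ * ublk ι K := by
  unfold xblk tblk ublk
  rw [Matrix.fromBlocks_multiply, Matrix.fromBlocks_multiply]
  simp

lemma det_xblk (Δ : Matrix ι ι K) : (xblk Δ).det = 1 := by
  unfold xblk
  rw [Matrix.det_fromBlocks_zero₁₂]
  simp

lemma det_tblk (Δ : Matrix ι ι K) : (tblk Δ).det = Δ.det := by
  unfold tblk
  rw [Matrix.det_fromBlocks_zero₁₂]
  simp

lemma xblk_cube [CharP K 3] (Δ : Matrix ι ι K) : xblk Δ * xblk Δ * xblk Δ = 1 := by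
  unfold xblk
  rw [Matrix.fromBlocks_multiply, Matrix.fromBlocks_multiply]
  simp only [Matrix.mul_one, Matrix.mul_zero, Matrix.one_mul, Matrix.zero_mul, add_zero,
    zero_add]
  have h3 : Δ + Δ + Δ = 0 := by
    have : Δ + Δ + Δ = (3 : K) • Δ := by
      ext i j
      simp only [Matrix.add_apply, Matrix.smul_apply, smul_eq_mul]
      ring
    rw [this]
    have h30 : (3 : K) = 0 := by
      have := CharP.cast_eq_zero K 3
      exact_mod_cast this
    rw [h30, zero_smul]
  rw [h3, Matrix.fromBlocks_one]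

lemma xblk_sub_one_sq (Δ : Matrix ι ι K) : (xblk Δ - 1) * (xblk Δ - 1) = 0 := by
  unfold xblk
  have h1 : Matrix.fromBlocks (1 : Matrix ι ι K) (0 : Matrix ι ι K) Δ (1 : Matrix ι ι K) - 1 =
      Matrix.fromBlocks (0 : Matrix ι ι K) (0 : Matrix ι ι K) Δ (0 : Matrix ι ι K) := by
    ext (i | i) (j | j) <;> simp [Matrix.one_apply]
  rw [h1, Matrix.fromBlocks_multiply]
  simp

lemma xblk_apply_inr_inl (Δ : Matrix ι ι K) (i j : ι) : xblk Δ (Sum.inr i) (Sum.inl j) = Δ i j := by
  unfold xblk
  simp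

end blocks

section bridge

variable {K : Type u} [Field K] {n : ℕ}

/-- the block index of the Jordan type `(2^m)` -/
def phi (m : ℕ) : ((_ : Fin m) × Fin 2) ≃ Fin m ⊕ Fin m where
  toFun a := if a.2 = 0 then Sum.inl a.1 else Sum.inr a.1
  invFun s := Sum.elim (fun k => ⟨k, 0⟩) (fun k => ⟨k, 1⟩) s
  left_inv := by
    rintro ⟨k, i⟩
    fin_cases i <;> simp
  right_inv := by
    rintro (k | k) <;> simp

/-- the Jordan matrix of type `(2^m)` in block form -/
lemma jmat_two (m : ℕ) (e : ((_ : Fin m) × Fin 2) ≃ Fin n) :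
    jmat (fun _ : Fin m => 2) e K =
      (ublk (Fin m) K).submatrix ((phi m).symm.trans e).symm ((phi m).symm.trans e).symm := by
  ext i j
  rw [jmat_apply, Matrix.submatrix_apply]
  have hi : ((phi m).symm.trans e).symm i = phi m (e.symm i) := by simp
  have hj : ((phi m).symm.trans e).symm j = phi m (e.symm j) := by simp
  rw [hi, hj]
  obtain ⟨k, a⟩ := e.symm i
  obtain ⟨k', b⟩ := e.symm j
  fin_cases a <;> fin_cases b <;> simp [phi, ublk, Matrix.one_apply]

/-- determinant of a submatrix along two equivalences -/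
lemma det_submatrix_two_equiv {ι κ : Type*} [Fintype ι] [DecidableEq ι] [Fintype κ]
    [DecidableEq κ] (e₁ e₂ : κ ≃ ι) (A : Matrix ι ι K) :
    (A.submatrix e₁ e₂).det = A.det ∨ (A.submatrix e₁ e₂).det = -A.det := by
  set σ : Equiv.Perm ι := e₂.symm.trans e₁ with hσ
  have h1 : A.submatrix e₁ e₂ = (A.submatrix σ id).submatrix e₂ e₂ := by
    ext a b
    simp [hσ]
  rw [h1, Matrix.det_submatrix_equiv_self, Matrix.det_permute]
  rcases Int.units_eq_one_or (Equiv.Perm.sign σ) with h | h
  · left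
    rw [h]
    simp
  · right
    rw [h]
    simp

end bridge

section scalars

variable {F : Type u} [Field F]

/-- a scalar multiple of a matrix over a subfield which is a non-scalar involution-like unipotent
has its scalar in the subfield -/
lemma exists_subfield_scalar (h2 : (2 : F) ≠ 0) (F₀ : Subfield F) {n : ℕ}
    (Y : Matrix (Fin n) (Fin n) F₀) (c : F) (hc : c ≠ 0)
    (hsq : (c • Y.map F₀.subtype - 1) * (c • Y.map F₀.subtype - 1) = 0)
    (hns : ∀ z : F, c • Y.map F₀.subtype ≠ z • (1 : Matrix (Fin n) (Fin n) F)) :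
    ∃ c₀ : F₀, (c₀ : F) = c := by
  classical
  set Z : Matrix (Fin n) (Fin n) F := c • Y.map F₀.subtype with hZ
  by_cases hoff : ∃ i j, i ≠ j ∧ Y i j ≠ 0
  · obtain ⟨i, j, hij, hy⟩ := hoff
    have h1 : (Z - 1) * (Z - 1) = Z * Z - (2 : F) • Z + 1 := by
      rw [two_smul]
      noncomm_ring
    have hZZ : Z * Z = (c * c) • (Y * Y).map F₀.subtype := by
      rw [hZ, Matrix.smul_mul, Matrix.mul_smul, smul_smul, Matrix.map_mul]
    have h3 := congrFun (congrFun hsq i) j
    rw [h1, hZZ] at h3
    simp only [Matrix.add_apply, Matrix.sub_apply, Matrix.smul_apply, Matrix.map_apply,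
      Matrix.zero_apply, Matrix.one_apply_ne hij, add_zero, smul_eq_mul, hZ] at h3
    set y : F₀ := Y i j with hy'
    set y2 : F₀ := (Y * Y) i j with hy2'
    have h4 : c * ((y2 : F₀) : F) = 2 * ((y : F₀) : F) := by
      have h5 : c * (c * ((y2 : F₀) : F) - 2 * ((y : F₀) : F)) = 0 := by
        have : c * c * F₀.subtype y2 - 2 * (c * F₀.subtype y) = 0 := h3
        simp only [Subfield.coe_subtype] at this
        linear_combination this
      rcases mul_eq_zero.mp h5 with h6 | h6
      · exact absurd h6 hc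
      · exact sub_eq_zero.mp h6
    have hyF : ((y : F₀) : F) ≠ 0 := by
      intro h0
      exact hy (Subtype.ext h0)
    have hy2 : y2 ≠ 0 := by
      intro h0
      rw [h0] at h4
      simp only [ZeroMemClass.coe_zero, mul_zero] at h4
      exact (mul_ne_zero h2 hyF) h4.symm
    have hy2F : ((y2 : F₀) : F) ≠ 0 := by
      intro h0
      exact hy2 (Subtype.ext h0)
    refine ⟨2 * y / y2, ?_⟩
    push_cast
    rw [div_eq_iff hy2F]
    exact h4.symm
  · exfalso
    push Not at hoff
    have hdiag : Z = Matrix.diagonal (fun i => Z i i) := by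
      ext i j
      by_cases hij : i = j
      · subst hij
        simp
      · rw [Matrix.diagonal_apply_ne _ hij, hZ, Matrix.smul_apply, Matrix.map_apply, hoff i j hij]
        simp
    have h1 : (Z - 1) * (Z - 1) = Matrix.diagonal (fun i => (Z i i - 1) * (Z i i - 1)) := by
      have : Z - 1 = Matrix.diagonal (fun i => Z i i - 1) := by
        conv_lhs => rw [hdiag, ← Matrix.diagonal_one, Matrix.diagonal_sub]
      rw [this, Matrix.diagonal_mul_diagonal]
    rw [h1] at hsq
    have h3 : ∀ i, Z i i = 1 := by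
      intro i
      have h4 := congrFun (congrFun hsq i) i
      rw [Matrix.diagonal_apply_eq, Matrix.zero_apply] at h4
      have := mul_self_eq_zero.mp h4
      exact sub_eq_zero.mp this
    apply hns 1
    rw [hdiag, one_smul, ← Matrix.diagonal_one]
    congr 1
    funext i
    exact h3 i

/-- elements of the subfield of index two are squares -/
lemma isSquare_of_mem_subfield [Fintype F] (hF : ringChar F ≠ 2) (F₀ : Subfield F) (q₀ : ℕ)
    (hF₀ : Nat.card F₀ = q₀) (hq : Fintype.card F = q₀ ^ 2) (ν : F₀) : IsSquare (ν : F) := by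
  classical
  haveI : Fintype F₀ := Fintype.ofFinite _
  have hq₀ : Fintype.card F₀ = q₀ := by rw [← hF₀, Nat.card_eq_fintype_card]
  by_cases hν : ν = 0
  · rw [hν]
    simp
  have hνF : (ν : F) ≠ 0 := by
    intro h0
    exact hν (Subtype.ext h0)
  have hqodd : Fintype.card F % 2 = 1 := FiniteField.odd_card_of_char_ne_two hF
  have hq₀odd : q₀ % 2 = 1 := by
    rw [hq, sq] at hqodd
    have h1 : Odd (q₀ * q₀) := Nat.odd_iff.mpr hqodd
    exact Nat.odd_iff.mp (Nat.Odd.of_mul_right h1)
  set m := q₀ / 2 with hm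
  have hq₀m : q₀ = 2 * m + 1 := by omega
  have hhalf : Fintype.card F / 2 = (q₀ - 1) * (m + 1) := by
    have h1 : Fintype.card F = 2 * ((q₀ - 1) * (m + 1)) + 1 := by
      rw [hq, hq₀m]
      have : 2 * m + 1 - 1 = 2 * m := by omega
      rw [this]
      ring
    rw [h1]
    omega
  have h1 : ν ^ (q₀ - 1) = 1 := by
    have := FiniteField.pow_card_sub_one_eq_one ν hν
    rwa [hq₀] at this
  rw [FiniteField.isSquare_iff hF hνF, hhalf, pow_mul]
  have h2 : (ν : F) ^ (q₀ - 1) = 1 := by
    have := congrArg (fun y : F₀ => (y : F)) h1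
    simpa using this
  rw [h2, one_pow]

end scalars

end Cfsg.Agent.Helper42.JordanSub
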