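import Mathlib
import Cfsg.Prelude.Def_GeometricClasses
import Cfsg.Agent.Lib.Helper42.JordanSub2
import Cfsg.Agent.Lib.Helper42.JordanSub4

set_option autoImplicit false
set_option linter.unusedSectionVars false
set_option linter.unusedVariables false
set_option linter.style.haveILetI false

/-!
# An element of order three not conjugate into the subfield subgroup of index two
-/

namespace Cfsg.Agent.Helper42.JordanSub

open Matrix Cfsg.Geo Cfsg.Agent.Helper42.Jordan

universe u

/-- the Jordan type with the rank sequence of `(2^m)` is `(2^m)` -/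
lemma parts_eq_two {t m : ℕ} (d : Fin t → ℕ) (hd0 : ∀ k, 0 < d k)
    (h : ∀ i, ∑ k, (d k - i) = ∑ _k : Fin m, (2 - i)) : t = m ∧ ∀ k, d k = 2 := by
  have h0 : ∑ k, d k = 2 * m := by
    have := h 0
    simpa [mul_comm] using this
  have h1 : ∑ k, (d k - 1) = m := by
    have := h 1
    simpa using this
  have h2 : ∑ k, (d k - 2) = 0 := by
    have := h 2
    simpa using this
  have hd2 : ∀ k, d k ≤ 2 := by
    intro k
    have := (Finset.sum_eq_zero_iff.mp h2) k (Finset.mem_univ _)
    omega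
  have h3 : ∑ k, d k = ∑ k, (d k - 1) + t := by
    have : ∀ k, d k = (d k - 1) + 1 := by
      intro k
      have := hd0 k
      omega
    conv_lhs => rw [Finset.sum_congr rfl (fun k _ => this k)]
    rw [Finset.sum_add_distrib]
    simp
  have htm : t = m := by omega
  refine ⟨htm, ?_⟩
  have h4 : ∑ k, (2 - d k) + ∑ k, d k = 2 * t := by
    rw [← Finset.sum_add_distrib]
    have : ∀ k, 2 - d k + d k = 2 := by
      intro k
      have := hd2 k
      omega
    rw [Finset.sum_congr rfl (fun k _ => this k)]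
    simp [mul_comm]
  have h5 : ∑ k, (2 - d k) = 0 := by omega
  intro k
  have := (Finset.sum_eq_zero_iff.mp h5) k (Finset.mem_univ _)
  have := hd2 k
  omega

/-- mapping `A - 1` along a ring homomorphism -/
lemma map_sub_one' {K₀ K : Type*} [Field K₀] [Field K] (f : K₀ →+* K) {n : ℕ}
    (A : Matrix (Fin n) (Fin n) K₀) : (A - 1).map f = A.map f - 1 := by
  ext i j
  simp only [Matrix.map_apply, Matrix.sub_apply, Matrix.one_apply, map_sub]
  split_ifs <;> simp

/-- in characteristic three, over a quadratic extension and in even dimension, some element of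
order three is not conjugate into the subfield subgroup -/
theorem exists_not_conj {F : Type u} [Field F] [Fintype F] [CharP F 3] {n : ℕ} (hn : 2 ≤ n)
    (hne : Even n) (F₀ : Subfield F) (q₀ : ℕ) (hF₀ : Nat.card F₀ = q₀)
    (hq : Fintype.card F = q₀ ^ 2) :
    ∃ x : Matrix.SpecialLinearGroup (Fin n) F,
      ((x ^ 3 : Matrix.SpecialLinearGroup (Fin n) F) : Matrix (Fin n) (Fin n) F) =
        (1 : F) • (1 : Matrix (Fin n) (Fin n) F) ∧
      (∀ z : F, (x : Matrix (Fin n) (Fin n) F) ≠ z • (1 : Matrix (Fin n) (Fin n) F)) ∧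
      ∀ P : Matrix.SpecialLinearGroup (Fin n) F,
        P⁻¹ * x * P ∉ (subfieldSubgroup F₀ (1 : GL (Fin n) F)).comap
          (Matrix.SpecialLinearGroup.toGL :
            Matrix.SpecialLinearGroup (Fin n) F →* GL (Fin n) F) := by
  classical
  have hF2 : ringChar F ≠ 2 := by
    rw [ringChar.eq F 3]
    norm_num
  have h2 : (2 : F) ≠ 0 := Ring.two_ne_zero hF2
  obtain ⟨m, hm⟩ := hne
  have hm1 : 0 < m := by omega
  obtain ⟨δ, hδ⟩ := FiniteField.exists_nonsquare hF2
  have hδ0 : δ ≠ 0 := by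
    rintro rfl
    exact hδ IsSquare.zero
  have hcard : Fintype.card ((_ : Fin m) × Fin 2) = n := by
    rw [Fintype.card_sigma]
    simp
    omega
  set e₂ : ((_ : Fin m) × Fin 2) ≃ Fin n := Fintype.equivFinOfCardEq hcard with he₂
  set ε₀ : Fin m ⊕ Fin m ≃ Fin n := (phi m).symm.trans e₂ with hε₀
  set k₀ : Fin m := ⟨0, hm1⟩ with hk₀
  set Δ : Matrix (Fin m) (Fin m) F := Matrix.diagonal (fun k => if k = k₀ then δ else 1) with hΔ
  have hΔdet : Δ.det = δ := by
    rw [hΔ, Matrix.det_diagonal, Finset.prod_ite_eq' Finset.univ k₀]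
    simp
  set xm : Matrix (Fin n) (Fin n) F := (xblk Δ).submatrix ε₀.symm ε₀.symm with hxm
  set tm : Matrix (Fin n) (Fin n) F := (tblk Δ).submatrix ε₀.symm ε₀.symm with htm
  set um : Matrix (Fin n) (Fin n) F := (ublk (Fin m) F).submatrix ε₀.symm ε₀.symm with hum
  have humj : um = jmat (fun _ : Fin m => 2) e₂ F := (jmat_two m e₂).symm
  have hxdet : xm.det = 1 := by rw [hxm, Matrix.det_submatrix_equiv_self, det_xblk]
  have htdet : tm.det = δ := by rw [htm, Matrix.det_submatrix_equiv_self, det_tblk, hΔdet]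
  have hxt : xm * tm = tm * um := by
    rw [hxm, htm, hum, Matrix.submatrix_mul_equiv, Matrix.submatrix_mul_equiv, xblk_mul_tblk]
  have hxsq : (xm - 1) * (xm - 1) = 0 := by
    have h1 : xm - 1 = (xblk Δ - 1).submatrix ε₀.symm ε₀.symm := by
      ext i j
      simp only [Matrix.sub_apply, Matrix.submatrix_apply, hxm, Matrix.one_apply,
        EmbeddingLike.apply_eq_iff_eq]
    rw [h1, Matrix.submatrix_mul_equiv, xblk_sub_one_sq, Matrix.submatrix_zero]
    rfl
  set x : Matrix.SpecialLinearGroup (Fin n) F := ⟨xm, hxdet⟩ with hx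
  have hns : ∀ z : F, xm ≠ z • (1 : Matrix (Fin n) (Fin n) F) := by
    intro z hz
    have h1 := congrFun (congrFun hz (ε₀ (Sum.inr k₀))) (ε₀ (Sum.inl k₀))
    rw [hxm, Matrix.submatrix_apply, Equiv.symm_apply_apply, Equiv.symm_apply_apply,
      xblk_apply_inr_inl, Matrix.smul_apply, Matrix.one_apply_ne, hΔ, Matrix.diagonal_apply_eq] at h1
    · simp at h1
      exact hδ0 h1
    · intro h
      have := ε₀.injective h
      simp at this
  refine ⟨x, ?_, hns, ?_⟩
  · have h1 : ((x ^ 3 : Matrix.SpecialLinearGroup (Fin n) F) : Matrix (Fin n) (Fin n) F) =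
        xm * xm * xm := by
      rw [pow_succ, pow_two]
      rfl
    rw [h1, hxm, Matrix.submatrix_mul_equiv, Matrix.submatrix_mul_equiv, xblk_cube,
      Matrix.submatrix_one_equiv, one_smul]
  · intro P hP
    rw [Subgroup.mem_comap, mem_subfield_one_iff] at hP
    obtain ⟨Y, c, hYc⟩ := hP
    have hPP : P.val * P⁻¹.val = 1 := by
      have : ((P * P⁻¹ : Matrix.SpecialLinearGroup (Fin n) F) : Matrix (Fin n) (Fin n) F) = 1 := by
        rw [mul_inv_cancel]
        rfl
      exact this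
    have hPP' : P⁻¹.val * P.val = 1 := by
      have : ((P⁻¹ * P : Matrix.SpecialLinearGroup (Fin n) F) : Matrix (Fin n) (Fin n) F) = 1 := by
        rw [inv_mul_cancel]
        rfl
      exact this
    set Z : Matrix (Fin n) (Fin n) F := P⁻¹.val * xm * P.val with hZ
    have hZ1 : ((Matrix.SpecialLinearGroup.toGL (P⁻¹ * x * P) : GL (Fin n) F) :
        Matrix (Fin n) (Fin n) F) = Z := rfl
    rw [hZ1] at hYc
    have hYc' : Z = (c : F) • (Y : Matrix (Fin n) (Fin n) F₀).map F₀.subtype := by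
      rw [hYc, Matrix.mul_smul, Matrix.mul_one]
    have hZsub : Z - 1 = P⁻¹.val * (xm - 1) * P.val := by
      rw [Matrix.mul_sub, Matrix.sub_mul, Matrix.mul_one, hPP']
    have hZsq : (Z - 1) * (Z - 1) = 0 := by
      rw [hZsub]
      have : P⁻¹.val * (xm - 1) * P.val * (P⁻¹.val * (xm - 1) * P.val) =
          P⁻¹.val * ((xm - 1) * (P.val * P⁻¹.val) * (xm - 1)) * P.val := by
        simp only [Matrix.mul_assoc]
      rw [this, hPP, Matrix.mul_one, hxsq, Matrix.mul_zero, Matrix.zero_mul]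
    have hZns : ∀ z : F, Z ≠ z • (1 : Matrix (Fin n) (Fin n) F) := by
      intro z hz
      apply hns z
      have h1 : xm = P.val * Z * P⁻¹.val := by
        rw [hZ]
        have : P.val * (P⁻¹.val * xm * P.val) * P⁻¹.val =
            (P.val * P⁻¹.val) * xm * (P.val * P⁻¹.val) := by
          simp only [Matrix.mul_assoc]
        rw [this, hPP, Matrix.one_mul, Matrix.mul_one]
      rw [h1, hz, Matrix.mul_smul, Matrix.mul_one, Matrix.smul_mul, hPP]
    obtain ⟨c₀, hc₀⟩ := exists_subfield_scalar h2 F₀ (Y : Matrix (Fin n) (Fin n) F₀) (c : F)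
      c.ne_zero (by rw [← hYc']; exact hZsq) (by intro z; rw [← hYc']; exact hZns z)
    set Y₁ : Matrix (Fin n) (Fin n) F₀ := c₀ • (Y : Matrix (Fin n) (Fin n) F₀) with hY₁
    have hY₁map : Y₁.map F₀.subtype = Z := by
      rw [hYc', ← hc₀]
      ext i j
      simp [hY₁]
    set N₀ : Matrix (Fin n) (Fin n) F₀ := Y₁ - 1 with hN₀
    have hN₀map : N₀.map F₀.subtype = Z - 1 := by
      rw [hN₀, map_sub_one', hY₁map]
    have hN₀sq : N₀ * N₀ = 0 := by
      apply Matrix.map_injective (F₀.subtype.injective)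
      show (N₀ * N₀).map F₀.subtype = (0 : Matrix (Fin n) (Fin n) F₀).map F₀.subtype
      rw [Matrix.map_mul, hN₀map, hZsq, Matrix.map_zero _ (map_zero _)]
    have hN₀nil : IsNilpotent N₀ := ⟨2, by rw [sq]; exact hN₀sq⟩
    obtain ⟨t, d, e, Q₀, hd0, hmrk, hQ₀⟩ := normal_form N₀ hN₀nil
    -- invertible matrices over `F`
    set Qg : GL (Fin n) F := Matrix.GeneralLinearGroup.map (F₀.subtype : F₀ →+* F) Q₀ with hQg
    have hQgv : Qg.val = Q₀.val.map F₀.subtype := rfl
    have hQgv' : Qg⁻¹.val = Q₀⁻¹.val.map F₀.subtype := by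
      rw [hQg, ← Matrix.GeneralLinearGroup.map_inv]
      rfl
    have hQZ : Qg.val * (Z - 1) * Qg⁻¹.val = jmat d e F - 1 := by
      rw [hQgv, hQgv', ← hN₀map, ← Matrix.map_mul, ← Matrix.map_mul, hQ₀, map_sub_one', jmat_map]
    set Pg : GL (Fin n) F := Matrix.SpecialLinearGroup.toGL P⁻¹ with hPg
    have hPgv : Pg.val = P⁻¹.val := rfl
    have hPgv' : Pg⁻¹.val = P.val := by
      rw [hPg, map_inv, inv_inv]
      rfl
    set Tg : GL (Fin n) F := Matrix.GeneralLinearGroup.mkOfDetNeZero tm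
      (by rw [htdet]; exact hδ0) with hTg
    have hTgv : Tg.val = tm := rfl
    have hTT : tm * Tg⁻¹.val = 1 := by
      rw [← hTgv, ← Units.val_mul, mul_inv_cancel, Units.val_one]
    have hxconj : xm - 1 = Tg.val * (um - 1) * Tg⁻¹.val := by
      rw [hTgv, Matrix.mul_sub, Matrix.mul_one, ← hxt, Matrix.sub_mul, Matrix.mul_assoc, hTT,
        Matrix.mul_one]
    have hsum : ∀ i, ∑ k, (d k - i) = ∑ _k : Fin m, (2 - i) := by
      intro i
      rw [← mrk_jmat (K := F) d e i, ← hQZ, mrk_conj, hZsub, ← hPgv, ← hPgv', mrk_conj, hxconj,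
        mrk_conj, humj, mrk_jmat]
    obtain ⟨htm', hd2⟩ := parts_eq_two d hd0 hsum
    subst htm'
    have hd : d = fun _ => 2 := funext hd2
    subst hd
    set ε' : Fin t ⊕ Fin t ≃ Fin n := (phi t).symm.trans e with hε'
    set u' : Matrix (Fin n) (Fin n) F := jmat (fun _ : Fin t => 2) e F with hu'
    have hu'b : u' = (ublk (Fin t) F).submatrix ε'.symm ε'.symm := jmat_two t e
    have hQQ : Qg.val * Qg⁻¹.val = 1 := by rw [← Units.val_mul, mul_inv_cancel, Units.val_one]
    have hQQ' : Qg⁻¹.val * Qg.val = 1 := by rw [← Units.val_mul, inv_mul_cancel, Units.val_one]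
    have hQZ' : Qg.val * Z = u' * Qg.val := by
      have h1 : Qg.val * Z * Qg⁻¹.val = u' := by
        have h3 : Qg.val * (Z - 1) * Qg⁻¹.val = Qg.val * Z * Qg⁻¹.val - 1 := by
          rw [Matrix.mul_sub, Matrix.sub_mul, Matrix.mul_one, hQQ]
        rw [h3] at hQZ
        exact sub_left_injective hQZ
      have h4 : Qg.val * Z * Qg⁻¹.val * Qg.val = u' * Qg.val := by rw [h1]
      rw [Matrix.mul_assoc, hQQ', Matrix.mul_one] at h4
      exact h4
    set Rm : Matrix (Fin n) (Fin n) F := Qg.val * P⁻¹.val * tm with hRm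
    have hZP : Z * P⁻¹.val = P⁻¹.val * xm := by
      rw [hZ, Matrix.mul_assoc, hPP, Matrix.mul_one]
    have hR : Rm * um = u' * Rm := by
      calc Rm * um = Qg.val * P⁻¹.val * (tm * um) := by rw [hRm]; simp only [Matrix.mul_assoc]
        _ = Qg.val * (P⁻¹.val * xm) * tm := by rw [← hxt]; simp only [Matrix.mul_assoc]
        _ = (Qg.val * Z) * P⁻¹.val * tm := by rw [← hZP]; simp only [Matrix.mul_assoc]
        _ = u' * Rm := by rw [hQZ', hRm]; simp only [Matrix.mul_assoc]
    set Rb : Matrix (Fin t ⊕ Fin t) (Fin t ⊕ Fin t) F := Rm.submatrix ε' ε₀ with hRb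
    have hcomm : Rb * ublk (Fin t) F = ublk (Fin t) F * Rb := by
      have h1 : ublk (Fin t) F = um.submatrix ε₀ ε₀ := by
        rw [hum, Matrix.submatrix_submatrix]
        simp
      have h2 : ublk (Fin t) F = u'.submatrix ε' ε' := by
        rw [hu'b, Matrix.submatrix_submatrix]
        simp
      conv_lhs => rw [h1, hRb, Matrix.submatrix_mul_equiv, hR]
      conv_rhs => rw [h2, hRb, Matrix.submatrix_mul_equiv]
    obtain ⟨a, ha⟩ := det_of_commute_ublk Rb hcomm
    have hRmdet : Rm.det = ((Q₀.val.det : F₀) : F) * δ := by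
      rw [hRm, Matrix.det_mul, Matrix.det_mul, htdet, hQgv]
      have h1 : (Q₀.val.map F₀.subtype).det = F₀.subtype Q₀.val.det := by
        rw [← RingHom.mapMatrix_apply, ← RingHom.map_det]
      have h2 : P⁻¹.val.det = 1 := P⁻¹.2
      rw [h1, h2, mul_one]
      rfl
    have hQ₀det : Q₀.val.det ≠ 0 := by
      have h1 : Q₀.val.det * Q₀⁻¹.val.det = 1 := by
        rw [← Matrix.det_mul, ← Units.val_mul, mul_inv_cancel, Units.val_one, Matrix.det_one]
      intro h0
      rw [h0, zero_mul] at h1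
      exact zero_ne_one h1
    have key : ∃ ν : F₀, ν ≠ 0 ∧ a ^ 2 = (ν : F) * δ := by
      rcases det_submatrix_two_equiv ε' ε₀ Rm with h | h
      · refine ⟨Q₀.val.det, hQ₀det, ?_⟩
        rw [← ha, hRb, h, hRmdet]
      · refine ⟨-Q₀.val.det, neg_ne_zero.mpr hQ₀det, ?_⟩
        rw [← ha, hRb, h, hRmdet]
        push_cast
        ring
    obtain ⟨ν, hν, hνa⟩ := key
    obtain ⟨b, hb⟩ := isSquare_of_mem_subfield hF2 F₀ q₀ hF₀ hq ν
    have hνF : (ν : F) ≠ 0 := by
      intro h0
      exact hν (Subtype.ext h0)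
    have hb0 : b ≠ 0 := by
      rintro rfl
      rw [mul_zero] at hb
      exact hνF hb
    apply hδ
    refine ⟨a / b, ?_⟩
    field_simp
    rw [hνa, hb]
    ring

end Cfsg.Agent.Helper42.JordanSub
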