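import Mathlib
import Cfsg.Agent.Lib.Helper52.KonvDefs

set_option autoImplicit false

/-! Konvisser (S3117), lemma (P2) of helper52: no invariant anisotropic quadratic map under a
fixed-point-free element of order seven on a group of order eight. -/

namespace Cfsg.Agent.Helper42.Konv

open Cfsg.Agent.Helper52.Konv

variable {W T : Type*} [Group W] [Group T]

theorem inv_eq_self_of_sq (hW : ∀ w : W, w * w = 1) (w : W) : w⁻¹ = w :=
  inv_eq_of_mul_eq_one_left (hW w)

theorem comm_of_sq (hW : ∀ w : W, w * w = 1) (a b : W) : a * b = b * a := by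
  have h := hW (a * b)
  have h2 : a * b = (a * b)⁻¹ := (inv_eq_self_of_sq hW (a * b)).symm
  rw [h2, mul_inv_rev, inv_eq_self_of_sq hW a, inv_eq_self_of_sq hW b]

/-- (P2) no invariant anisotropic quadratic map under an element of order 7. -/
theorem P2 {q : W → T} (h : AQ q) (σ : MulAut W) (hσ : σ ^ 7 = 1) (hq : ∀ w, q (σ w) = q w)
    (U : Subgroup W) (hU : Nat.card U = 8) (hinv : ∀ u ∈ U, σ u ∈ U)
    (hfpf : ∀ u ∈ U, σ u = u → u = 1) : False := by
  classical
  have : Finite U := Nat.finite_of_card_ne_zero (by rw [hU]; norm_num)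
  let _ : Fintype U := Fintype.ofFinite U
  have hcardU : Fintype.card U = 8 := by rw [← Nat.card_eq_fintype_card, hU]
  have hW := h.W_sq
  have hcomm := comm_of_sq hW
  -- a nontrivial element
  obtain ⟨u0, hu0⟩ : ∃ u0 : U, u0 ≠ 1 := by
    by_contra hcon
    push Not at hcon
    have : Fintype.card U ≤ 1 := Fintype.card_le_one_iff.mpr (fun a b => by rw [hcon a, hcon b])
    omega
  have hqpow : ∀ i : ℕ, ∀ w, q ((σ ^ i) w) = q w := by
    intro i
    induction i with
    | zero => intro w; simp
    | succ k ih => intro w; rw [pow_succ', MulAut.mul_apply, hq, ih]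
  have hinvpow : ∀ i : ℕ, ∀ u ∈ U, (σ ^ i) u ∈ U := by
    intro i
    induction i with
    | zero => intro u hu; simpa using hu
    | succ k ih => intro u hu; rw [pow_succ', MulAut.mul_apply]; exact hinv _ (ih u hu)
  have hfix : ∀ k : ℕ, 0 < k → k < 7 → ∀ u ∈ U, (σ ^ k) u = u → u = 1 := by
    intro k hk0 hk7 u hu hfixk
    obtain ⟨m, hm⟩ : ∃ m, k * m % 7 = 1 := by
      interval_cases k
      · exact ⟨1, rfl⟩
      · exact ⟨4, rfl⟩
      · exact ⟨5, rfl⟩
      · exact ⟨2, rfl⟩
      · exact ⟨3, rfl⟩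
      · exact ⟨6, rfl⟩
    have hpow : (σ ^ k) ^ m = σ := by
      rw [← pow_mul, ← Nat.div_add_mod (k * m) 7, hm, pow_add, pow_mul, hσ, one_pow, one_mul,
        pow_one]
    have hfixm : ∀ j : ℕ, ((σ ^ k) ^ j) u = u := by
      intro j
      induction j with
      | zero => simp
      | succ j ih => rw [pow_succ', MulAut.mul_apply, ih, hfixk]
    apply hfpf u hu
    have := hfixm m
    rwa [hpow] at this
  -- the orbit map
  have hne : ∀ i : ℕ, (⟨(σ ^ i) (u0 : W), hinvpow i _ u0.2⟩ : U) ≠ 1 := by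
    intro i hi
    apply hu0
    have h1 : (σ ^ i) (u0 : W) = 1 := congrArg Subtype.val hi
    have h2 : (u0 : W) = 1 := by
      have := congrArg (σ ^ i).symm h1
      simpa using this
    exact Subtype.ext h2
  let f : Fin 7 → {x : U // x ≠ 1} := fun i => ⟨⟨(σ ^ (i : ℕ)) (u0 : W), hinvpow i _ u0.2⟩, hne i⟩
  have hfinj : Function.Injective f := by
    have key : ∀ i j : ℕ, i < j → j < 7 → (σ ^ i) (u0 : W) ≠ (σ ^ j) (u0 : W) := by
      intro i j hij hj heq
      apply hu0
      have h1 : (σ ^ j) (u0 : W) = (σ ^ i) ((σ ^ (j - i)) (u0 : W)) := by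
        rw [← MulAut.mul_apply, ← pow_add, Nat.add_sub_cancel' hij.le]
      rw [h1] at heq
      have h2 := (σ ^ i).injective heq
      exact Subtype.ext (hfix (j - i) (by omega) (by omega) _ u0.2 h2.symm)
    intro i j hij
    have hval : (σ ^ (i : ℕ)) (u0 : W) = (σ ^ (j : ℕ)) (u0 : W) := by
      have := congrArg (fun x : {x : U // x ≠ 1} => ((x : U) : W)) hij
      exact this
    by_contra hne'
    rcases lt_or_gt_of_ne (fun h => hne' (Fin.ext h)) with hlt | hgt
    · exact key i j hlt j.2 hval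
    · exact key j i hgt i.2 hval.symm
  have hcard7 : Fintype.card {x : U // x ≠ 1} = 7 := by
    rw [Fintype.card_subtype_compl, Fintype.card_subtype_eq, hcardU]
  have hfsurj : Function.Surjective f := by
    have hbij : Function.Bijective f := by
      rw [Fintype.bijective_iff_injective_and_card]
      exact ⟨hfinj, by rw [Fintype.card_fin, hcard7]⟩
    exact hbij.2
  set c : T := q (u0 : W) with hc
  have hconst : ∀ u ∈ U, u ≠ 1 → q u = c := by
    intro u hu hu1
    obtain ⟨i, hi⟩ := hfsurj ⟨⟨u, hu⟩, fun h => hu1 (congrArg Subtype.val h)⟩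
    have : (σ ^ (i : ℕ)) (u0 : W) = u := congrArg (fun x : {x : U // x ≠ 1} => ((x : U) : W)) hi
    rw [← this, hqpow]
  have hc1 : c ≠ 1 := by
    intro h1
    apply hu0
    exact Subtype.ext (h.aniso _ h1)
  -- choose v, v'
  obtain ⟨v, hv⟩ : ∃ v : U, v ∉ ({1, u0} : Finset U) := by
    by_contra hcon
    push Not at hcon
    have : Fintype.card U ≤ ({1, u0} : Finset U).card := by
      rw [← Finset.card_univ]
      exact Finset.card_le_card (fun x _ => hcon x)
    have h2 : ({1, u0} : Finset U).card ≤ 2 := Finset.card_le_two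
    omega
  obtain ⟨v', hv'⟩ : ∃ v' : U, v' ∉ ({1, u0, v, u0 * v} : Finset U) := by
    by_contra hcon
    push Not at hcon
    have : Fintype.card U ≤ ({1, u0, v, u0 * v} : Finset U).card := by
      rw [← Finset.card_univ]
      exact Finset.card_le_card (fun x _ => hcon x)
    have h2 : ({1, u0, v, u0 * v} : Finset U).card ≤ 4 := Finset.card_le_four
    omega
  simp only [Finset.mem_insert, Finset.mem_singleton, not_or] at hv hv'
  obtain ⟨hv1, hvu⟩ := hv
  obtain ⟨hv'1, hv'u, hv'v, hv'uv⟩ := hv'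
  set a : W := (u0 : W) with ha
  set b : W := (v : W) with hb
  set b' : W := (v' : W) with hb'
  have hab : a * b ≠ 1 := by
    intro h1
    apply hvu
    apply Subtype.ext
    have : b = a⁻¹ := eq_inv_of_mul_eq_one_right h1
    rw [inv_eq_self_of_sq hW] at this
    exact this
  have hab' : a * b' ≠ 1 := by
    intro h1
    apply hv'u
    apply Subtype.ext
    have : b' = a⁻¹ := eq_inv_of_mul_eq_one_right h1
    rw [inv_eq_self_of_sq hW] at this
    exact this
  have hbb' : b * b' ≠ 1 := by
    intro h1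
    apply hv'v
    apply Subtype.ext
    have : b' = b⁻¹ := eq_inv_of_mul_eq_one_right h1
    rw [inv_eq_self_of_sq hW] at this
    exact this
  have habb' : a * (b * b') ≠ 1 := by
    intro h1
    apply hv'uv
    apply Subtype.ext
    have h2 : (a * b) * b' = 1 := by rw [mul_assoc]; exact h1
    have : b' = (a * b)⁻¹ := eq_inv_of_mul_eq_one_right h2
    rw [inv_eq_self_of_sq hW] at this
    exact this
  have ha1 : a ≠ 1 := fun h1 => hu0 (Subtype.ext h1)
  have hb1 : b ≠ 1 := fun h1 => hv1 (Subtype.ext h1)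
  have hb'1 : b' ≠ 1 := fun h1 => hv'1 (Subtype.ext h1)
  have haU : a ∈ U := u0.2
  have hbU : b ∈ U := v.2
  have hb'U : b' ∈ U := v'.2
  have hcc : c * c = 1 := h.T_sq c
  have hccc : c * c * c = c := by rw [hcc, one_mul]
  have e1 : pol q a b = c := by
    unfold pol
    rw [hconst _ (U.mul_mem haU hbU) hab, hconst _ haU ha1, hconst _ hbU hb1, hccc]
  have e2 : pol q a b' = c := by
    unfold pol
    rw [hconst _ (U.mul_mem haU hb'U) hab', hconst _ haU ha1, hconst _ hb'U hb'1, hccc]
  have e3 : pol q a (b * b') = c := by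
    unfold pol
    rw [hconst _ (U.mul_mem haU (U.mul_mem hbU hb'U)) habb', hconst _ haU ha1,
      hconst _ (U.mul_mem hbU hb'U) hbb', hccc]
  have := h.bilin a b b'
  rw [e1, e2, e3, hcc] at this
  exact hc1 this

end Cfsg.Agent.Helper42.Konv
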