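import Mathlib
import Cfsg.Agent.Lib.Helper42.KonvP2

set_option autoImplicit false

/-! Konvisser (S3117), lemma (P1) of helper52: automorphisms of prime order `p ≥ 5` of an
elementary abelian 2-group of order at most 16. -/

namespace Cfsg.Agent.Helper42.Konv

section group
variable {W : Type*} [Group W]

/-- the subgroup of fixed points of an automorphism -/
def fixSub (σ : MulAut W) : Subgroup W where
  carrier := {w | σ w = w}
  mul_mem' {a b} ha hb := by
    simp only [Set.mem_ofPred_eq] at ha hb ⊢
    rw [map_mul, ha, hb]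
  one_mem' := map_one σ
  inv_mem' {a} ha := by
    simp only [Set.mem_ofPred_eq] at ha ⊢
    rw [map_inv, ha]

theorem mem_fixSub (σ : MulAut W) (w : W) : w ∈ fixSub σ ↔ σ w = w := Iff.rfl

theorem pow_fix (σ : MulAut W) (w : W) (hw : σ w = w) (i : ℕ) : (σ ^ i) w = w := by
  induction i with
  | zero => simp
  | succ k ih => rw [pow_succ', MulAut.mul_apply, ih, hw]

/-- fixed-point congruence for an automorphism with `σ ^ p = 1` -/
theorem card_fixSub_modEq [Finite W] (σ : MulAut W) (p : ℕ) [Fact p.Prime] (hσ : σ ^ p = 1) :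
    Nat.card (fixSub σ) ≡ Nat.card W [MOD p] := by
  classical
  letI : Fintype W := Fintype.ofFinite W
  have h1 : (MulAut.toPerm W σ) ^ p ^ 1 = 1 := by
    rw [pow_one, ← map_pow, hσ, map_one]
  have h2 := Equiv.Perm.card_compl_support_modEq (p := p) (n := 1) h1
  have h3 : Nat.card (fixSub σ) = (MulAut.toPerm W σ).supportᶜ.card := by
    rw [Nat.card_eq_fintype_card, ← Fintype.card_coe]
    apply Fintype.card_congr
    refine ⟨fun x => ⟨x.1, ?_⟩, fun x => ⟨x.1, ?_⟩, fun x => rfl, fun x => rfl⟩
    · rw [Finset.mem_compl, Equiv.Perm.mem_support, not_not]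
      exact x.2
    · have := x.2
      rw [Finset.mem_compl, Equiv.Perm.mem_support, not_not] at this
      exact this
  rw [h3, Nat.card_eq_fintype_card]
  exact h2

end group

section comm
variable {W : Type*} [CommGroup W]

/-- the norm map `w ↦ ∏_{i<n} σ^i w` -/
noncomputable def normHom (σ : MulAut W) (n : ℕ) : W →* W :=
  ∏ i ∈ Finset.range n, ((σ ^ i : MulAut W) : W ≃* W).toMonoidHom

theorem normHom_apply (σ : MulAut W) (n : ℕ) (w : W) :
    normHom σ n w = ∏ i ∈ Finset.range n, (σ ^ i) w := by
  unfold normHom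
  rw [MonoidHom.finsetProd_apply]
  rfl

theorem normHom_fixed (σ : MulAut W) (n : ℕ) (w : W) (hw : σ w = w) :
    normHom σ n w = w ^ n := by
  rw [normHom_apply]
  rw [Finset.prod_congr rfl (fun i _ => pow_fix σ w hw i), Finset.prod_const, Finset.card_range]

theorem normHom_comm (σ : MulAut W) (n : ℕ) (w : W) :
    normHom σ n (σ w) = σ (normHom σ n w) := by
  rw [normHom_apply, normHom_apply, map_prod]
  apply Finset.prod_congr rfl
  intro i _
  rw [← MulAut.mul_apply, ← MulAut.mul_apply, ← pow_succ, ← pow_succ']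

theorem sigma_normHom (σ : MulAut W) (n : ℕ) (hσ : σ ^ n = 1) (w : W) :
    σ (normHom σ n w) = normHom σ n w := by
  rw [normHom_apply, map_prod]
  -- shift the index by one
  cases n with
  | zero => simp
  | succ m =>
    rw [Finset.prod_range_succ, Finset.prod_range_succ']
    have h1 : ∀ i : ℕ, σ ((σ ^ i) w) = (σ ^ (i + 1)) w := by
      intro i
      rw [← MulAut.mul_apply, ← pow_succ']
    rw [h1 m, hσ, Finset.prod_congr rfl (fun i _ => h1 i)]
    simp

/-- the kernel of the norm map has index the number of fixed points, for `σ` of odd order `n`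
acting on a group of exponent two. -/
theorem card_ker_normHom [Finite W] (hW : ∀ w : W, w * w = 1) (σ : MulAut W) (n : ℕ) (hn : Odd n)
    (hσ : σ ^ n = 1) :
    Nat.card (normHom σ n).ker * Nat.card (fixSub σ) = Nat.card W := by
  have hpow : ∀ w : W, w ^ n = w := by
    intro w
    obtain ⟨k, rfl⟩ := hn
    rw [pow_succ, pow_mul, pow_two, hW, one_pow, one_mul]
  have hrange : (normHom σ n).range = fixSub σ := by
    ext w
    rw [MonoidHom.mem_range, mem_fixSub]
    constructor
    · rintro ⟨v, rfl⟩
      exact sigma_normHom σ n hσ v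
    · intro hw
      exact ⟨w, by rw [normHom_fixed σ n w hw, hpow]⟩
  rw [← hrange, ← Subgroup.index_ker, Subgroup.card_mul_index]

end comm


theorem arith_konv (p m k : ℕ) (hp : p.Prime) (hp5 : 5 ≤ p) (hkm : k < m) (hm4 : m ≤ 4)
    (hdvd : p ∣ 2 ^ m - 2 ^ k) :
    (m = 4 ∧ k = 0 ∧ p = 5) ∨ (m = 3 ∧ k = 0 ∧ p = 7) ∨ (m = 4 ∧ k = 1 ∧ p = 7) := by
  have hpos : 0 < 2 ^ m - 2 ^ k := by
    have : 2 ^ k < 2 ^ m := Nat.pow_lt_pow_right (by norm_num) hkm
    omega
  have hple := Nat.le_of_dvd hpos hdvd
  have hm' : m = 1 ∨ m = 2 ∨ m = 3 ∨ m = 4 := by omega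
  rcases hm' with rfl | rfl | rfl | rfl
  · have hk' : k = 0 := by omega
    subst hk'
    norm_num at hple
    omega
  · have hk' : k = 0 ∨ k = 1 := by omega
    rcases hk' with rfl | rfl <;> norm_num at hple <;> omega
  · have hk' : k = 0 ∨ k = 1 ∨ k = 2 := by omega
    rcases hk' with rfl | rfl | rfl
    · norm_num at hple hdvd
      interval_cases p
      · exfalso; revert hdvd; decide
      · exfalso; revert hp; decide
      · right; left; exact ⟨rfl, rfl, rfl⟩
    · norm_num at hple hdvd
      interval_cases p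
      · exfalso; revert hdvd; decide
      · exfalso; revert hp; decide
    · norm_num at hple
      omega
  · have hk' : k = 0 ∨ k = 1 ∨ k = 2 ∨ k = 3 := by omega
    rcases hk' with rfl | rfl | rfl | rfl
    · norm_num at hple hdvd
      interval_cases p <;> first
        | (left; exact ⟨rfl, rfl, rfl⟩)
        | (exfalso; revert hdvd; decide)
        | (exfalso; revert hp; decide)
    · norm_num at hple hdvd
      interval_cases p <;> first
        | (right; right; exact ⟨rfl, rfl, rfl⟩)
        | (exfalso; revert hdvd; decide)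
        | (exfalso; revert hp; decide)
    · norm_num at hple hdvd
      interval_cases p <;> first
        | (exfalso; revert hdvd; decide)
        | (exfalso; revert hp; decide)
    · norm_num at hple hdvd
      interval_cases p <;> first
        | (exfalso; revert hdvd; decide)
        | (exfalso; revert hp; decide)

section main
variable {W : Type*} [Group W]

/-- (P1) fixed-point count for an automorphism of prime order `p ≥ 5`. -/
theorem P1 [Finite W] (hW : ∀ w : W, w * w = 1) (hc : Nat.card W ≤ 16) (σ : MulAut W)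
    (p : ℕ) (hp : p.Prime) (hp5 : 5 ≤ p) (hσ : orderOf σ = p) :
    (p = 5 ∧ Nat.card W = 16 ∧ ∀ w, σ w = w → w = 1) ∨
    (p = 7 ∧ ∃ U : Subgroup W, Nat.card U = 8 ∧ (∀ u ∈ U, σ u ∈ U) ∧
      ∀ u ∈ U, σ u = u → u = 1) := by
  classical
  haveI : Fact p.Prime := ⟨hp⟩
  haveI : Fact (Nat.Prime 2) := ⟨Nat.prime_two⟩
  have hσp : σ ^ p = 1 := by rw [← hσ]; exact pow_orderOf_eq_one σ
  have hσ1 : σ ≠ 1 := by
    intro h1
    rw [h1, orderOf_one] at hσ
    omega
  -- `W` is a 2-group
  have h2W : IsPGroup 2 W := by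
    intro w
    exact ⟨1, by rw [pow_one, pow_two]; exact hW w⟩
  obtain ⟨m, hm⟩ := h2W.exists_card_eq
  obtain ⟨k, hk⟩ := (h2W.to_subgroup (fixSub σ)).exists_card_eq
  have hmod := card_fixSub_modEq σ p hσp
  rw [hm, hk] at hmod
  -- `k < m`
  have hkm : k < m := by
    have hle : Nat.card (fixSub σ) ≤ Nat.card W := Subgroup.card_le_card_group _
    rw [hm, hk] at hle
    have hkm' : k ≤ m := (Nat.pow_le_pow_iff_right (by norm_num)).mp hle
    rcases hkm'.lt_or_eq with h | h
    · exact h
    · exfalso
      apply hσ1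
      have htop : fixSub σ = ⊤ := by
        apply Subgroup.eq_top_of_card_eq
        rw [hm, hk, h]
      ext w
      have : w ∈ fixSub σ := by rw [htop]; trivial
      exact this
  have hm4 : m ≤ 4 := by
    rw [hm] at hc
    by_contra hgt
    have : 2 ^ 5 ≤ 2 ^ m := Nat.pow_le_pow_right (by norm_num) (by omega)
    omega
  have hdvd : p ∣ 2 ^ m - 2 ^ k :=
    (Nat.modEq_iff_dvd' (Nat.pow_le_pow_right (by norm_num) hkm.le)).mp hmod
  have hcases := arith_konv p m k hp hp5 hkm hm4 hdvd
  have hcomm := comm_of_sq hW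
  rcases hcases with ⟨rfl, rfl, rfl⟩ | hseven
  · left
    refine ⟨rfl, by rw [hm]; norm_num, ?_⟩
    intro w hw
    have hbot : fixSub σ = ⊥ := by
      apply Subgroup.eq_bot_of_card_eq
      rw [hk, pow_zero]
    have : w ∈ fixSub σ := hw
    rw [hbot, Subgroup.mem_bot] at this
    exact this
  · right
    have hp7 : p = 7 := by rcases hseven with ⟨_, _, h⟩ | ⟨_, _, h⟩ <;> exact h
    have hcard : Nat.card W = 8 * Nat.card (fixSub σ) := by
      rcases hseven with ⟨rfl, rfl, _⟩ | ⟨rfl, rfl, _⟩
      · rw [hm, hk]; norm_num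
      · rw [hm, hk]; norm_num
    subst hp7
    refine ⟨rfl, ?_⟩
    -- the commutative structure
    let inst : CommGroup W := { (inferInstance : Group W) with mul_comm := hcomm }
    have hker := @card_ker_normHom W inst _ hW σ 7 (by decide) hσp
    refine ⟨@MonoidHom.ker W _ W _ (@normHom W inst σ 7), ?_, ?_, ?_⟩
    · have hpos : 0 < Nat.card (fixSub σ) := Nat.card_pos
      rw [hcard] at hker
      exact Nat.eq_of_mul_eq_mul_right hpos hker
    · intro u hu
      rw [MonoidHom.mem_ker] at hu ⊢
      rw [@normHom_comm W inst σ 7 u, hu, map_one]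
    · intro u hu hfix
      rw [MonoidHom.mem_ker] at hu
      rw [@normHom_fixed W inst σ 7 u hfix] at hu
      have : u ^ 7 = u := by
        rw [show 7 = 2 * 3 + 1 by norm_num, pow_succ, pow_mul, pow_two, hW, one_pow, one_mul]
      rw [this] at hu
      exact hu

end main

end Cfsg.Agent.Helper42.Konv
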