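import Mathlib
import Cfsg.Agent.Lib.Helper7.M11UDefs
import Cfsg.Agent.Lib.Helper42.M11UCount

/-!
# M11U server (helper7, S0420): piece (L6) `loc_three` -- every involution inverts exactly three
Sylow 3-subgroups.  Statement VERBATIM from `tools/m11u_sigs_helper7.lean.txt`.
-/

set_option autoImplicit false

namespace Cfsg.Agent.Helper42.M11U

open Subgroup Cfsg.Agent.Helper7.M11U
open scoped Pointwise

variable {G : Type*} [Group G]

/-- `Inverts` is invariant under conjugation. -/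
theorem l6_inverts_conj (g s : G) (R : Sylow 3 G) (h : Inverts s (R : Subgroup G)) :
    Inverts (g * s * g⁻¹) ((g • R : Sylow 3 G) : Subgroup G) := by
  intro x hx
  rw [uc_mem_smul] at hx
  have h1 := h _ hx
  have h2 : g * s * g⁻¹ * x * (g * s * g⁻¹)⁻¹ = g * (s * (g⁻¹ * x * g) * s⁻¹) * g⁻¹ := by group
  rw [h2, h1]
  group

/-- an inverting element also inverts by its inverse. -/
theorem l6_inverts_inv {t : G} {H : Subgroup G} (h : Inverts t H) : ∀ x ∈ H, t⁻¹ * x * t = x⁻¹ := by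
  intro x hx
  have h1 := h x⁻¹ (H.inv_mem hx)
  rw [inv_inv] at h1
  calc t⁻¹ * x * t = t⁻¹ * (t * x⁻¹ * t⁻¹) * t := by rw [h1]
    _ = x⁻¹ := by group

/-- if `t₀` inverts the abelian subgroup `H` with `C(H) ≤ H`, then the involutions inverting `H` are
exactly the elements of the coset `t₀ H`. -/
theorem l6_card_inverting [Finite G] (H : Subgroup G) (hodd : Odd (Nat.card H))
    (hcomm : ∀ x ∈ H, ∀ y ∈ H, x * y = y * x)
    (hcent : ∀ g : G, g ∈ centralizer (H : Set G) → g ∈ H)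
    (t₀ : G) (ht₀ : orderOf t₀ = 2) (hinv : Inverts t₀ H) :
    Nat.card {t : G // orderOf t = 2 ∧ Inverts t H} = Nat.card H := by
  have ht₀2 : t₀ * t₀ = 1 := uc_sq_of_orderOf_two ht₀
  have ht₀i : t₀⁻¹ = t₀ := uc_inv_of_orderOf_two ht₀
  have ht₀H : t₀ ∉ H := by
    intro h
    have h1 : orderOf t₀ ∣ Nat.card H := Subgroup.orderOf_dvd_natCard H h
    rw [ht₀] at h1
    obtain ⟨k, hk⟩ := hodd
    omega
  symm
  apply Nat.card_congr
  refine ⟨fun r => ⟨t₀ * r.1, ?_, ?_⟩, fun t => ⟨t₀⁻¹ * t.1, ?_⟩, fun r => ?_, fun t => ?_⟩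
  · -- order 2
    apply orderOf_eq_prime
    · rw [pow_two]
      have h1 := hinv r.1 r.2
      rw [ht₀i] at h1
      calc t₀ * r.1 * (t₀ * r.1) = (t₀ * r.1 * t₀) * r.1 := by group
        _ = 1 := by rw [h1, inv_mul_cancel]
    · intro h
      apply ht₀H
      have : t₀ = r.1⁻¹ := eq_inv_of_mul_eq_one_left h
      rw [this]
      exact H.inv_mem r.2
  · -- inverts
    intro x hx
    have h1 : t₀ * r.1 * x * (t₀ * r.1)⁻¹ = t₀ * (r.1 * x * r.1⁻¹) * t₀⁻¹ := by group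
    have h2 : r.1 * x * r.1⁻¹ = x := by
      rw [hcomm r.1 r.2 x hx, mul_inv_cancel_right]
    rw [h1, h2]
    exact hinv x hx
  · -- `t₀⁻¹ t` centralises `H`
    apply hcent
    rw [Subgroup.mem_centralizer_iff]
    intro x hx
    have h1 := t.2.2 x hx
    have h2 := l6_inverts_inv hinv x⁻¹ (H.inv_mem hx)
    rw [inv_inv] at h2
    -- t x t⁻¹ = x⁻¹,  t₀⁻¹ x⁻¹ t₀ = x
    calc x * (t₀⁻¹ * t.1) = (t₀⁻¹ * x⁻¹ * t₀) * (t₀⁻¹ * t.1) := by rw [h2]
      _ = t₀⁻¹ * x⁻¹ * t.1 := by group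
      _ = t₀⁻¹ * (t.1 * x * t.1⁻¹) * t.1 := by rw [h1]
      _ = t₀⁻¹ * t.1 * x := by group
  · apply Subtype.ext
    simp
  · apply Subtype.ext
    simp

variable [Finite G]

/-- (L6) every involution inverts exactly 3 Sylow 3-subgroups. -/
theorem loc_three (B : Base G)
    (hcard3 : ∀ R : Sylow 3 G, Nat.card (R : Subgroup G) = 9)
    (hcomm : ∀ R : Sylow 3 G, ∀ x ∈ (R : Subgroup G), ∀ y ∈ (R : Subgroup G), x * y = y * x)
    (hcent : ∀ R : Sylow 3 G, ∀ g : G, g ∈ centralizer ((R : Subgroup G) : Set G) → g ∈ (R : Subgroup G))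
    (hn55 : Nat.card (Sylow 3 G) = 55)
    (h3 : ∀ R : Sylow 3 G, ∃ t : G, orderOf t = 2 ∧ Inverts t (R : Subgroup G)) :
    ∀ t : G, orderOf t = 2 → Nat.card {R : Sylow 3 G // Inverts t (R : Subgroup G)} = 3 := by
  intro t ht
  have hk : ∀ R : Sylow 3 G,
      Nat.card {t : G // orderOf t = 2 ∧ Inverts t (R : Subgroup G)} = 9 := by
    intro R
    obtain ⟨t₀, ht₀, hinv⟩ := h3 R
    rw [l6_card_inverting (R : Subgroup G) (by rw [hcard3 R]; decide) (hcomm R) (hcent R) t₀ ht₀ hinv,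
      hcard3 R]
  have h := uc_double_count B (fun s R => Inverts s (R : Subgroup G))
    (fun g s R h => l6_inverts_conj g s R h) 9 hk hn55 t ht
  omega

end Cfsg.Agent.Helper42.M11U
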