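import Cfsg.Agent.Lib.Helper92.MultAbs10

/-!
# Stem extensions: no kernel of order four when every stem double cover squares the lifts of a
four-group's involutions to the generator of the kernel (piece (D) of the `M12Mult` server)
-/

set_option autoImplicit false

namespace Cfsg.Agent.Helper42.M12Mult

open Cfsg.Agent.Helper92.Mult

universe u

/-- In a group of order four, two elements whose squares are non-trivial have the same square. -/
theorem sq_eq_of_card_four {Γ : Type*} [Group Γ] (K : Subgroup Γ) (hK : Nat.card K = 4)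
    {a b : Γ} (ha : a ∈ K) (hb : b ∈ K) (ha2 : a * a ≠ 1) (hb2 : b * b ≠ 1) :
    a * a = b * b := by
  have hfin : Finite K := Nat.finite_of_card_ne_zero (by rw [hK]; norm_num)
  have hoa : orderOf a = 4 := by
    have hd : orderOf a ∣ 4 := by
      rw [← hK, ← Subgroup.orderOf_mk a ha]
      exact orderOf_dvd_natCard _
    have hmem : orderOf a ∈ Nat.divisors 4 := Nat.mem_divisors.2 ⟨hd, by norm_num⟩
    have hdiv : Nat.divisors 4 = {1, 2, 4} := by decide
    rw [hdiv] at hmem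
    simp only [Finset.mem_insert, Finset.mem_singleton] at hmem
    rcases hmem with h | h | h
    · exfalso
      apply ha2
      rw [orderOf_eq_one_iff] at h
      rw [h, mul_one]
    · exfalso
      apply ha2
      rw [← pow_two, ← h]
      exact pow_orderOf_eq_one a
    · exact h
  have hzp : Subgroup.zpowers a = K := by
    apply Subgroup.eq_of_le_of_card_ge (Subgroup.zpowers_le.2 ha)
    rw [Nat.card_zpowers, hoa, hK]
  have hb' : b ∈ Subgroup.zpowers a := by rw [hzp]; exact hb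
  obtain ⟨k, rfl⟩ := Subgroup.mem_zpowers_iff.1 hb'
  have ha4 : a ^ (4 : ℤ) = 1 := by
    have := pow_orderOf_eq_one a
    rw [hoa] at this
    exact_mod_cast this
  have hk : a ^ k = a ^ (k % 4) := by
    conv_lhs => rw [← Int.emod_add_mul_ediv k 4]
    rw [zpow_add, zpow_mul, ha4, one_zpow, mul_one]
  have h4 : k % 4 = 0 ∨ k % 4 = 1 ∨ k % 4 = 2 ∨ k % 4 = 3 := by omega
  rw [hk] at hb2 ⊢
  rcases h4 with h | h | h | h <;> rw [h] at hb2 ⊢
  · exfalso; apply hb2; simp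
  · simp
  · exfalso
    apply hb2
    rw [← zpow_add]
    exact ha4
  · rw [← zpow_add]
    have e : (3 + 3 : ℤ) = 4 + 2 := by norm_num
    rw [e, zpow_add, ha4, one_mul, zpow_two]

/-- the fourth power of an element of a group of order four is trivial -/
theorem pow_four_of_card_four {Γ : Type*} [Group Γ] (K : Subgroup Γ) (hK : Nat.card K = 4)
    {a : Γ} (ha : a ∈ K) : (a * a) * (a * a) = 1 := by
  have hfin : Finite K := Nat.finite_of_card_ne_zero (by rw [hK]; norm_num)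
  have h := pow_card_eq_one' (G := K) (x := ⟨a, ha⟩)
  rw [hK] at h
  have h' := congrArg Subtype.val h
  have h'' : a ^ 4 = 1 := by simpa using h'
  calc (a * a) * (a * a) = a ^ 4 := by
        simp only [pow_succ, pow_zero, one_mul, mul_assoc]
    _ = 1 := h''

/-- If every finite stem double cover squares the lifts of the involution `t` to the generator of
the kernel, then in a stem extension with kernel of order four the square of a lift of `t` is not
an involution (nor trivial). -/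
theorem sq_sq_ne_one {G : Type u} [Group G] [Finite G] (t : G) (ht : t * t = 1)
    (hstar : ∀ (Γ : Type u) [Group Γ] [Finite Γ] (σ : Γ →* G) (z : Γ), Ext2 σ z →
      z ∈ commutator Γ → LiftSq σ t z)
    (Γ : Type u) [Group Γ] [Finite Γ] (σ : Γ →* G) (hσ : Cfsg.IsStemExtension σ)
    (hcard : Nat.card σ.ker = 4) (T : Γ) (hT : σ T = t) : (T * T) * (T * T) ≠ 1 := by
  intro huu
  obtain ⟨hsurj, hcen, hcommK⟩ := hσ
  have huK : T * T ∈ σ.ker := by rw [MonoidHom.mem_ker, map_mul, hT, ht]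
  obtain ⟨y, hyK, hyord, huy⟩ : ∃ y ∈ σ.ker, orderOf y = 2 ∧ T * T ∈ Subgroup.zpowers y := by
    by_cases hu1 : T * T = 1
    · have : Fact (Nat.Prime 2) := ⟨Nat.prime_two⟩
      obtain ⟨k, hk⟩ := exists_prime_orderOf_dvd_card' (G := σ.ker) 2 (by rw [hcard]; norm_num)
      refine ⟨k.1, k.2, ?_, ?_⟩
      · rw [← hk]; exact Subgroup.orderOf_coe k
      · rw [hu1]; exact Subgroup.one_mem _
    · exact ⟨T * T, huK, orderOf_eq_prime (by rw [pow_two]; exact huu) hu1,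
        Subgroup.mem_zpowers _⟩
  have hyc : ∀ g : Γ, g * y = y * g := fun g => Subgroup.mem_center_iff.1 (hcen hyK) g
  have hy2 : y * y = 1 := by rw [← pow_two, ← hyord, pow_orderOf_eq_one]
  have hnorm : (Subgroup.zpowers y).Normal := by
    constructor
    intro w hw g
    rcases zpowers_invol _ hy2 hw with rfl | rfl
    · simp
    · rw [hyc g, mul_inv_cancel_right]
      exact Subgroup.mem_zpowers _
  have hZ : Subgroup.zpowers y ≤ σ.ker := by rw [Subgroup.zpowers_le]; exact hyK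
  have hstem := stem_quotient σ ⟨hsurj, hcen, hcommK⟩ (Subgroup.zpowers y) hZ
  generalize hσ' : QuotientGroup.lift (Subgroup.zpowers y) σ hZ = σ' at hstem
  have hc1 := Subgroup.card_eq_card_quotient_mul_card_subgroup (Subgroup.zpowers y)
  have hc2 := Subgroup.card_eq_card_quotient_mul_card_subgroup σ.ker
  have hc3 := Subgroup.card_eq_card_quotient_mul_card_subgroup σ'.ker
  have e1 : Nat.card (Γ ⧸ σ.ker) = Nat.card G :=
    Nat.card_congr (QuotientGroup.quotientKerEquivOfSurjective σ hsurj).toEquiv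
  have e2 : Nat.card ((Γ ⧸ Subgroup.zpowers y) ⧸ σ'.ker) = Nat.card G :=
    Nat.card_congr (QuotientGroup.quotientKerEquivOfSurjective σ' hstem.1).toEquiv
  rw [Nat.card_zpowers, hyord] at hc1
  rw [e1, hcard] at hc2
  rw [e2] at hc3
  have hk2 : Nat.card σ'.ker = 2 := by
    have hG : 0 < Nat.card G := Nat.card_pos
    have h4 : Nat.card G * 4 = Nat.card G * (Nat.card σ'.ker * 2) := by
      rw [← hc2, hc1, hc3, mul_assoc]
    have := Nat.eq_of_mul_eq_mul_left hG h4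
    omega
  have : Fact (Nat.Prime 2) := ⟨Nat.prime_two⟩
  obtain ⟨g, hg⟩ := (isCyclic_of_prime_card (α := σ'.ker) hk2).exists_generator
  have hzord : orderOf (g : Γ ⧸ Subgroup.zpowers y) = 2 := by
    rw [Subgroup.orderOf_coe, orderOf_eq_card_of_forall_mem_zpowers hg, hk2]
  have hker' : σ'.ker = Subgroup.zpowers (g : Γ ⧸ Subgroup.zpowers y) := by
    apply le_antisymm
    · intro x hx
      obtain ⟨j, hj⟩ := Subgroup.mem_zpowers_iff.1 (hg ⟨x, hx⟩)
      rw [Subgroup.mem_zpowers_iff]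
      refine ⟨j, ?_⟩
      have := congrArg Subtype.val hj
      simpa using this
    · rw [Subgroup.zpowers_le]; exact g.2
  have hzc' : ∀ w : Γ ⧸ Subgroup.zpowers y, w * g.1 = g.1 * w :=
    fun w => Subgroup.mem_center_iff.1 (hstem.2.1 g.2) w
  have hext := ext2_of_ker σ' g.1 hstem.1 hker' hzord hzc'
  have hl := hstar (Γ ⧸ Subgroup.zpowers y) σ' g.1 hext (hstem.2.2 g.2)
  have h1 := hl (QuotientGroup.mk T) (by rw [← hσ']; exact hT)
  have h2 : (QuotientGroup.mk T : Γ ⧸ Subgroup.zpowers y) * QuotientGroup.mk T = 1 := by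
    rw [← QuotientGroup.mk_mul, QuotientGroup.eq_one_iff]
    exact huy
  rw [h2] at h1
  exact hext.z_ne h1.symm

/-- (D) If in every finite stem double cover of `G` the lifts of the three involutions of the
four-group `{1, t₁, t₂, t₁t₂}` square to the generator of the kernel, then no finite stem extension
of `G` has a kernel of order four. -/
theorem false_of_card_ker_four {G : Type u} [Group G] [Finite G] (t₁ t₂ : G)
    (ht₁ : t₁ * t₁ = 1) (ht₂ : t₂ * t₂ = 1) (hcomm : t₁ * t₂ = t₂ * t₁)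
    (hstar : ∀ (Γ : Type u) [Group Γ] [Finite Γ] (σ : Γ →* G) (z : Γ), Ext2 σ z →
      z ∈ commutator Γ → LiftSq σ t₁ z ∧ LiftSq σ t₂ z ∧ LiftSq σ (t₁ * t₂) z)
    (Γ : Type u) [Group Γ] [Finite Γ] (σ : Γ →* G) (hσ : Cfsg.IsStemExtension σ)
    (hcard : Nat.card σ.ker = 4) : False := by
  obtain ⟨T₁, hT₁⟩ := hσ.1 t₁
  obtain ⟨T₂, hT₂⟩ := hσ.1 t₂
  have ht₃ : (t₁ * t₂) * (t₁ * t₂) = 1 := by
    calc (t₁ * t₂) * (t₁ * t₂) = t₁ * (t₂ * t₁) * t₂ := by group
      _ = t₁ * (t₁ * t₂) * t₂ := by rw [hcomm]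
      _ = (t₁ * t₁) * (t₂ * t₂) := by group
      _ = 1 := by rw [ht₁, ht₂, mul_one]
  have hT₃ : σ (T₁ * T₂) = t₁ * t₂ := by rw [map_mul, hT₁, hT₂]
  have n1 := sq_sq_ne_one t₁ ht₁ (fun Γ _ _ σ z h hz => (hstar Γ σ z h hz).1) Γ σ hσ hcard T₁ hT₁
  have n2 := sq_sq_ne_one t₂ ht₂ (fun Γ _ _ σ z h hz => (hstar Γ σ z h hz).2.1) Γ σ hσ hcard T₂
    hT₂
  have n3 := sq_sq_ne_one (t₁ * t₂) ht₃ (fun Γ _ _ σ z h hz => (hstar Γ σ z h hz).2.2) Γ σ hσ
    hcard (T₁ * T₂) hT₃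
  have k1 : T₁ * T₁ ∈ σ.ker := by rw [MonoidHom.mem_ker, map_mul, hT₁, ht₁]
  have k2 : T₂ * T₂ ∈ σ.ker := by rw [MonoidHom.mem_ker, map_mul, hT₂, ht₂]
  have hcen := hσ.2.1
  have c1 : ∀ g : Γ, g * (T₁ * T₁) = (T₁ * T₁) * g :=
    fun g => Subgroup.mem_center_iff.1 (hcen k1) g
  have c2 : ∀ g : Γ, g * (T₂ * T₂) = (T₂ * T₂) * g :=
    fun g => Subgroup.mem_center_iff.1 (hcen k2) g
  obtain ⟨c, hc⟩ : ∃ c : Γ, c = T₂⁻¹ * T₁⁻¹ * T₂ * T₁ := ⟨_, rfl⟩
  have hcK : c ∈ σ.ker := by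
    rw [MonoidHom.mem_ker, hc]
    simp only [map_mul, map_inv, hT₁, hT₂]
    calc t₂⁻¹ * t₁⁻¹ * t₂ * t₁ = t₂⁻¹ * t₁⁻¹ * (t₂ * t₁) := by group
      _ = t₂⁻¹ * t₁⁻¹ * (t₁ * t₂) := by rw [hcomm]
      _ = 1 := by group
  have cc : ∀ g : Γ, g * c = c * g := fun g => Subgroup.mem_center_iff.1 (hcen hcK) g
  have hc2 : c * c = 1 := by
    calc c * c = (c * T₂⁻¹) * (T₁⁻¹ * T₂ * T₁) := by rw [hc]; group
      _ = (T₂⁻¹ * c) * (T₁⁻¹ * T₂ * T₁) := by rw [cc T₂⁻¹]
      _ = (T₂ * T₂)⁻¹ * (T₁⁻¹ * (T₂ * T₂)) * T₁ := by rw [hc]; group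
      _ = (T₂ * T₂)⁻¹ * ((T₂ * T₂) * T₁⁻¹) * T₁ := by rw [c2 T₁⁻¹]
      _ = 1 := by group
  have hu₃ : (T₁ * T₂) * (T₁ * T₂) = (T₁ * T₁) * (T₂ * T₂) * c := by
    have e : T₂ * T₁ = T₁ * T₂ * c := by rw [hc]; group
    calc (T₁ * T₂) * (T₁ * T₂) = T₁ * (T₂ * T₁) * T₂ := by group
      _ = T₁ * (T₁ * T₂ * c) * T₂ := by rw [e]
      _ = T₁ * T₁ * T₂ * (c * T₂) := by group
      _ = T₁ * T₁ * T₂ * (T₂ * c) := by rw [← cc T₂]
      _ = (T₁ * T₁) * (T₂ * T₂) * c := by group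
  have key := sq_eq_of_card_four σ.ker hcard k1 k2 n1 n2
  have h4 := pow_four_of_card_four σ.ker hcard k1
  apply n3
  rw [hu₃]
  generalize T₁ * T₁ = u₁ at *
  generalize T₂ * T₂ = u₂ at *
  calc (u₁ * u₂ * c) * (u₁ * u₂ * c) = u₁ * (u₂ * c * u₁) * u₂ * c := by group
    _ = u₁ * (u₁ * (u₂ * c)) * u₂ * c := by rw [c1 (u₂ * c)]
    _ = (u₁ * u₁) * u₂ * (c * u₂) * c := by group
    _ = (u₁ * u₁) * u₂ * (u₂ * c) * c := by rw [← cc u₂]
    _ = (u₁ * u₁) * (u₂ * u₂) * (c * c) := by group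
    _ = 1 := by rw [hc2, mul_one, ← key, h4]

end Cfsg.Agent.Helper42.M12Mult
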