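import Mathlib
import Cfsg.Agent.Lib.Helper93.MD0

/-!
# MD server (helper93, S2140): pieces (I1) `sl_index_bound` and (I2) `psl_index_bound`, with the
statement of `main` as a hypothesis `MainStmt` (the verbatim wrappers need `main` on main).
-/

set_option autoImplicit false

namespace Cfsg.Agent.Helper42.MD

open Module Cfsg.Agent.Helper93.McL Cfsg.Agent.Helper93.MD

/-- the statement of `main` of the MD server (helper93), for `F : Type u`, `V : Type v`,
`Ω : Type w`. -/
def MainStmt.{u, v, w} : Prop :=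
  ∀ {F : Type u} {V : Type v} [Field F] [Fintype F] [AddCommGroup V] [Module F V]
    [FiniteDimensional F V], 3 ≤ finrank F V → ¬ (finrank F V = 4 ∧ Fintype.card F = 2) →
    ∀ {Ω : Type w} [Fintype Ω] [MulAction ↥(SLV F V) Ω],
    (∃ (g : ↥(SLV F V)) (ω : Ω), g • ω ≠ ω) →
    Fintype.card F ^ finrank F V - 1 ≤ (Fintype.card F - 1) * Fintype.card Ω

variable {K : Type*} [Field K]

theorem i1_det (n : ℕ) (g : ↥(SLV K (Fin n → K))) :
    (LinearMap.toMatrix' ((g : (Fin n → K) ≃ₗ[K] (Fin n → K)) :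
      (Fin n → K) →ₗ[K] (Fin n → K))).det = 1 := by
  have h := mem_SLV.mp g.2
  have h2 := congrArg Units.val h
  rw [LinearEquiv.coe_det] at h2
  rw [LinearMap.det_toMatrix']
  exact h2

/-- the matrix of an element of `SL(V)`, `V = Fin n → K`. -/
noncomputable def i1Mat (n : ℕ) (g : ↥(SLV K (Fin n → K))) : Matrix.SpecialLinearGroup (Fin n) K :=
  ⟨LinearMap.toMatrix' ((g : (Fin n → K) ≃ₗ[K] (Fin n → K)) : (Fin n → K) →ₗ[K] (Fin n → K)),
    i1_det n g⟩

theorem i1Mat_val (n : ℕ) (g : ↥(SLV K (Fin n → K))) :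
    ((i1Mat n g : Matrix.SpecialLinearGroup (Fin n) K) : Matrix (Fin n) (Fin n) K) =
      LinearMap.toMatrix' ((g : (Fin n → K) ≃ₗ[K] (Fin n → K)) :
        (Fin n → K) →ₗ[K] (Fin n → K)) := rfl

/-- `SL(V) → SL_n(K)`. -/
noncomputable def i1Hom (n : ℕ) :
    ↥(SLV K (Fin n → K)) →* Matrix.SpecialLinearGroup (Fin n) K where
  toFun g := i1Mat n g
  map_one' := by
    apply Subtype.ext
    rw [i1Mat_val]
    simp
  map_mul' g h := by
    apply Subtype.ext
    rw [Matrix.SpecialLinearGroup.coe_mul, i1Mat_val, i1Mat_val, i1Mat_val,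
      ← LinearMap.toMatrix'_mul]
    rfl

theorem i1Hom_surjective (n : ℕ) : Function.Surjective (i1Hom (K := K) n) := by
  intro A
  have hmem : Matrix.SpecialLinearGroup.toLin' A ∈ SLV K (Fin n → K) := by
    rw [mem_SLV]
    apply Units.ext
    rw [LinearEquiv.coe_det, Matrix.SpecialLinearGroup.toLin'_to_linearMap, LinearMap.det_toLin']
    simp
  refine ⟨⟨Matrix.SpecialLinearGroup.toLin' A, hmem⟩, ?_⟩
  apply Subtype.ext
  show ((i1Mat n _ : Matrix.SpecialLinearGroup (Fin n) K) : Matrix (Fin n) (Fin n) K) = _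
  rw [i1Mat_val]
  show LinearMap.toMatrix' ((Matrix.SpecialLinearGroup.toLin' A : (Fin n → K) ≃ₗ[K] (Fin n → K)) :
    (Fin n → K) →ₗ[K] (Fin n → K)) = _
  rw [Matrix.SpecialLinearGroup.toLin'_to_linearMap, LinearMap.toMatrix'_toLin']

/-- (I1) with `main` as a hypothesis. -/
theorem sl_index_bound_of.{u} (MAIN : MainStmt.{u, u, u}) {K : Type u} [Field K] [Fintype K] (n : ℕ)
    (hn : 3 ≤ n) (hexc : ¬ (n = 4 ∧ Fintype.card K = 2))
    (H : Subgroup (Matrix.SpecialLinearGroup (Fin n) K))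
    (hH : H ≠ ⊤) : Fintype.card K ^ n - 1 ≤ (Fintype.card K - 1) * H.index := by
  classical
  have hfr : finrank K (Fin n → K) = n := by simp
  let _ : MulAction ↥(SLV K (Fin n → K)) (Matrix.SpecialLinearGroup (Fin n) K ⧸ H) :=
    MulAction.compHom _ (i1Hom (K := K) n)
  let _ : Fintype (Matrix.SpecialLinearGroup (Fin n) K ⧸ H) := Fintype.ofFinite _
  have hsmul : ∀ (g : ↥(SLV K (Fin n → K))) (ω : Matrix.SpecialLinearGroup (Fin n) K ⧸ H),
      g • ω = (i1Hom (K := K) n g) • ω := fun g ω => rfl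
  have hnt : ∃ (g : ↥(SLV K (Fin n → K))) (ω : Matrix.SpecialLinearGroup (Fin n) K ⧸ H),
      g • ω ≠ ω := by
    obtain ⟨A, hA⟩ : ∃ A, A ∉ H := by
      by_contra hcon
      exact hH (eq_top_iff.mpr fun x _ => by_contra fun hx => hcon ⟨x, hx⟩)
    obtain ⟨g, hg⟩ := i1Hom_surjective (K := K) n A
    refine ⟨g, ((1 : Matrix.SpecialLinearGroup (Fin n) K) : Matrix.SpecialLinearGroup (Fin n) K ⧸ H),
      ?_⟩
    rw [hsmul, hg]
    intro h
    apply hA
    have h2 : ((A * 1 : Matrix.SpecialLinearGroup (Fin n) K) :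
        Matrix.SpecialLinearGroup (Fin n) K ⧸ H) = ((1 : Matrix.SpecialLinearGroup (Fin n) K) :
        Matrix.SpecialLinearGroup (Fin n) K ⧸ H) := h
    rw [mul_one, QuotientGroup.eq, mul_one] at h2
    exact (Subgroup.inv_mem_iff H).mp h2
  have hmain := MAIN (F := K) (V := Fin n → K) (by rw [hfr]; exact hn)
    (by rw [hfr]; exact hexc) (Ω := Matrix.SpecialLinearGroup (Fin n) K ⧸ H) hnt
  rw [hfr] at hmain
  have hidx : Fintype.card (Matrix.SpecialLinearGroup (Fin n) K ⧸ H) = H.index := by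
    rw [Subgroup.index_eq_card, Nat.card_eq_fintype_card]
  rw [hidx] at hmain
  exact hmain

/-- (I2) with `main` as a hypothesis. -/
theorem psl_index_bound_of.{u} (MAIN : MainStmt.{u, u, u}) {K : Type u} [Field K] [Fintype K] (n : ℕ)
    (hn : 3 ≤ n) (hexc : ¬ (n = 4 ∧ Fintype.card K = 2))
    (H : Subgroup (Matrix.ProjectiveSpecialLinearGroup (Fin n) K)) (hH : H ≠ ⊤) :
    (Fintype.card K ^ n - 1) / (Fintype.card K - 1) ≤ H.index := by
  have hsurj : Function.Surjective (QuotientGroup.mk' (Subgroup.center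
      (Matrix.SpecialLinearGroup (Fin n) K))) := QuotientGroup.mk'_surjective _
  have hne : H.comap (QuotientGroup.mk' (Subgroup.center
      (Matrix.SpecialLinearGroup (Fin n) K))) ≠ ⊤ := by
    intro h
    apply hH
    rw [eq_top_iff]
    intro x _
    obtain ⟨y, rfl⟩ := hsurj x
    have : y ∈ H.comap (QuotientGroup.mk' (Subgroup.center
      (Matrix.SpecialLinearGroup (Fin n) K))) := by rw [h]; trivial
    exact this
  have h1 := sl_index_bound_of MAIN n hn hexc _ hne
  rw [Subgroup.index_comap_of_surjective H hsurj] at h1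
  exact Nat.div_le_of_le_mul h1

end Cfsg.Agent.Helper42.MD
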