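import Mathlib
import Cfsg.Prelude.Def_Sporadic
import Cfsg.Prelude.Def_Sporadic_a
import Cfsg.Prelude.Def_Spor_Mathieu
import Cfsg.Agent.Lib.Helper7.M11UDefs
import Cfsg.Agent.Lib.Helper7.NSEDefs

/-!
# NSE server (helper7, S3592) piece (M3) `card_involutions`: a simple group of order 7920 has 165
involutions (one class, centraliser of order 48).
-/

set_option autoImplicit false

namespace Cfsg.Agent.Helper42.NSE

open Subgroup Cfsg.Agent.Helper7.M11U Cfsg.Agent.Helper7.NSE
open scoped Pointwise

universe u

section M

variable {H : Type*} [Group H] [Finite H]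

theorem card_involutions (B : Base H) : sn H 2 = 165 := by
  classical
  have : Fact (Nat.Prime 2) := ⟨Nat.prime_two⟩
  obtain ⟨t, ht⟩ := exists_prime_orderOf_dvd_card' (G := H) 2 (by rw [B.card]; norm_num)
  -- the set of involutions is the conjugation orbit of `t`
  have horb : {g : H | orderOf g = 2} = MulAction.orbit (ConjAct H) t := by
    ext g
    constructor
    · intro hg
      obtain ⟨x, hx⟩ := B.hconj t g ht hg
      refine ⟨ConjAct.toConjAct x, ?_⟩
      change ConjAct.toConjAct x • t = g
      rw [ConjAct.smul_def, ConjAct.ofConjAct_toConjAct]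
      exact hx
    · rintro ⟨x, rfl⟩
      change orderOf (x • t) = 2
      rw [ConjAct.smul_def, ← ht]
      exact orderOf_injective ((MulAut.conj (ConjAct.ofConjAct x)).toMonoidHom)
        (MulAut.conj (ConjAct.ofConjAct x)).injective t
  -- the stabiliser is the centraliser, of order 48
  have hstab : Nat.card (MulAction.stabilizer (ConjAct H) t) = 48 := by
    rw [← B.h48 t ht]
    refine Nat.card_congr
      { toFun := fun x => ⟨ConjAct.ofConjAct x.1, ?_⟩
        invFun := fun y => ⟨ConjAct.toConjAct y.1, ?_⟩
        left_inv := fun x => by simp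
        right_inv := fun y => by simp }
    · have hx : x.1 • t = t := x.2
      rw [ConjAct.smul_def] at hx
      rw [Subgroup.mem_centralizer_iff]
      intro s hs
      rw [Set.mem_singleton_iff] at hs
      subst hs
      have := congrArg (· * ConjAct.ofConjAct x.1) hx
      simpa using this.symm
    · have hy := y.2
      rw [Subgroup.mem_centralizer_iff] at hy
      have h1 : t * y.1 = y.1 * t := hy t (Set.mem_singleton t)
      change ConjAct.toConjAct y.1 • t = t
      rw [ConjAct.smul_def, ConjAct.ofConjAct_toConjAct, ← h1, mul_inv_cancel_right]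
  have hcardC : Nat.card (ConjAct H) = 7920 := by
    rw [← B.card]
    exact Nat.card_congr (ConjAct.ofConjAct (G := H)).toEquiv
  have hidx : (MulAction.stabilizer (ConjAct H) t).index = 165 := by
    have h1 := Subgroup.card_mul_index (MulAction.stabilizer (ConjAct H) t)
    rw [hstab, hcardC] at h1
    omega
  unfold sn
  change Nat.card ↥{g : H | orderOf g = 2} = 165
  rw [_root_.Nat.card_coe_set_eq, horb, ← MulAction.index_stabilizer, hidx]

end M

end Cfsg.Agent.Helper42.NSE
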