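import Mathlib
import Cfsg.Prelude.Def_Sporadic
import Cfsg.Prelude.Def_Sporadic_a
import Cfsg.Prelude.Def_Spor_Mathieu
import Cfsg.Agent.Lib.Helper7.M11UDefs
import Cfsg.Agent.Lib.Helper7.NSEDefs

/-!
# NSE server (helper7, S3592) piece (M4) `card_order_three`: a simple group of order 7920 has 440
elements of order 3 (55 TI Sylow 3-subgroups of exponent 3 and order 9).
-/

set_option autoImplicit false

namespace Cfsg.Agent.Helper42.NSE

open Subgroup Cfsg.Agent.Helper7.M11U Cfsg.Agent.Helper7.NSE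
open scoped Pointwise

universe u

section M

variable {H : Type*} [Group H] [Finite H]

set_option linter.unusedVariables false in
theorem card_order_three (B : Base H) (L : Loc H) : sn H 3 = 440 := by
  classical
  have : Fact (Nat.Prime 3) := ⟨by norm_num⟩
  have : Fintype (Sylow 3 H) := Fintype.ofFinite _
  -- fibre cardinality
  have hfib : ∀ R : Sylow 3 H, Nat.card {x : H // x ∈ (R : Subgroup H) ∧ x ≠ 1} = 8 := by
    intro R
    have h1 : {x : H | x ∈ (R : Subgroup H) ∧ x ≠ 1} = ((R : Subgroup H) : Set H) \ {1} := by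
      ext x
      simp only [Set.mem_ofPred_eq, Set.mem_sdiff, SetLike.mem_coe, Set.mem_singleton_iff]
    have h2 : Nat.card {x : H // x ∈ (R : Subgroup H) ∧ x ≠ 1} =
        (((R : Subgroup H) : Set H) \ {1}).ncard := by
      rw [← h1]; exact _root_.Nat.card_coe_set_eq _
    rw [h2, Set.ncard_sdiff_singleton_of_mem (R : Subgroup H).one_mem]
    have h3 : (((R : Subgroup H) : Set H)).ncard = 9 := by
      rw [← _root_.Nat.card_coe_set_eq]; exact L.card3 R
    rw [h3]
  -- bijection
  let f : (Σ R : Sylow 3 H, {x : H // x ∈ (R : Subgroup H) ∧ x ≠ 1}) → {g : H // orderOf g = 3} :=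
    fun p => ⟨p.2.1, orderOf_eq_prime (L.exp3 p.1 _ p.2.2.1) p.2.2.2⟩
  have hinj : Function.Injective f := by
    rintro ⟨R, x, hxR, hx1⟩ ⟨R', x', hxR', hx1'⟩ h
    have hxx : x = x' := congrArg Subtype.val h
    subst hxx
    have hRR : R = R' := by
      by_contra hne
      exact hx1 (L.ti R R' hne x hxR hxR')
    subst hRR
    rfl
  have hsurj : Function.Surjective f := by
    rintro ⟨g, hg⟩
    have hp : IsPGroup 3 (zpowers g) := by
      apply IsPGroup.of_card (n := 1)
      rw [Nat.card_zpowers, hg, pow_one]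
    obtain ⟨R, hR⟩ := hp.exists_le_sylow
    have hg1 : g ≠ 1 := by rintro rfl; simp at hg
    exact ⟨⟨R, g, hR (mem_zpowers g), hg1⟩, rfl⟩
  unfold sn
  rw [← Nat.card_congr (Equiv.ofBijective f ⟨hinj, hsurj⟩), Nat.card_sigma]
  simp only [hfib, Finset.sum_const, Finset.card_univ, smul_eq_mul]
  rw [← Nat.card_eq_fintype_card, L.n55]

end M

end Cfsg.Agent.Helper42.NSE
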