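import Mathlib
import Cfsg.Prelude.Def_Blocks
import Cfsg.Agent.Lib.Helper55.O2520Defs
import Cfsg.Agent.Lib.Helper17.Simple

/-!
# O2520 lemma server (row S0984), wave 2, piece (S3A) `sylow3_exp`.
-/

set_option autoImplicit false

namespace Cfsg.Agent.Helper42.O2520

open Cfsg Cfsg.Agent.Helper55.O2520
open scoped Classical

universe u

section grp
variable {G : Type u} [Group G] [Finite G] [IsSimpleGroup G] (hG : Nat.card G = 2520)
include hG

/-- (S3A) with C(P) = P: N(P)/P of order 4 embeds in Aut(P); P cyclic of order 9 has |Aut| = 6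
(IsCyclic.card_mulAut / totient), 4 ∤ 6. So P is not cyclic, i.e. of exponent 3. -/
theorem sylow3_exp (h3 : Nat.card (Sylow 3 G) = 70) (P : Sylow 3 G)
    (hC : Subgroup.centralizer ((P : Subgroup G) : Set G) = (P : Subgroup G)) :
    ∀ x ∈ (P : Subgroup G), x ^ 3 = 1 := by
  have hG' : Nat.card G = 3 ^ 2 * 280 := by rw [hG]; norm_num
  have hP9 : Nat.card (P : Subgroup G) = 9 := by
    have := Cfsg.Agent.Helper17.sylow_card_eq P hG' (by norm_num)
    simpa using this
  have hPi : (P : Subgroup G).index = 280 :=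
    Cfsg.Agent.Helper17.sylow_index_eq P hG' (by norm_num)
  have hNi : (Subgroup.normalizer ((P : Subgroup G) : Set G)).index = 70 := by
    have := P.card_eq_index_normalizer
    rw [h3] at this
    exact this.symm
  have hrel : (P : Subgroup G).relIndex (Subgroup.normalizer ((P : Subgroup G) : Set G)) = 4 := by
    have h := Subgroup.relIndex_mul_index (P : Subgroup G).le_normalizer
    rw [hNi, hPi] at h
    omega
  have key := Subgroup.card_dvd_of_injective _
    (QuotientGroup.kerLift_injective (P : Subgroup G).normalizerMonoidHom)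
  rw [Subgroup.normalizerMonoidHom_ker, ← Subgroup.index, ← Subgroup.relIndex, hC, hrel] at key
  intro x hx
  by_contra hx3
  -- `x` has order 9, so `P` is cyclic
  have hord : orderOf (⟨x, hx⟩ : (P : Subgroup G)) ∣ 9 := by
    rw [← hP9]; exact orderOf_dvd_natCard _
  have hdiv : orderOf (⟨x, hx⟩ : (P : Subgroup G)) ∈ Nat.divisors 9 :=
    Nat.mem_divisors.2 ⟨hord, by norm_num⟩
  have hd9 : Nat.divisors 9 = {1, 3, 9} := by decide
  rw [hd9] at hdiv
  have h9 : orderOf (⟨x, hx⟩ : (P : Subgroup G)) = 9 := by
    simp only [Finset.mem_insert, Finset.mem_singleton] at hdiv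
    rcases hdiv with h | h | h
    · exfalso
      apply hx3
      have h1 := orderOf_eq_one_iff.1 h
      have : x = 1 := by simpa using congrArg Subtype.val h1
      rw [this, one_pow]
    · exfalso
      apply hx3
      have h1 : (⟨x, hx⟩ : (P : Subgroup G)) ^ 3 = 1 :=
        orderOf_dvd_iff_pow_eq_one.1 (by rw [h])
      simpa using congrArg Subtype.val h1
    · exact h
  have hcyc : IsCyclic (P : Subgroup G) :=
    isCyclic_of_orderOf_eq_card (⟨x, hx⟩ : (P : Subgroup G)) (by rw [h9, hP9])
  rw [IsCyclic.card_mulAut, hP9] at key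
  have ht : Nat.totient 9 = 6 := by decide
  rw [ht] at key
  omega

end grp

end Cfsg.Agent.Helper42.O2520
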