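import Mathlib
import Cfsg.Prelude.Def_Blocks
import Cfsg.Agent.Lib.Helper55.O2520Defs
import Cfsg.Agent.Lib.Helper17.Simple
import Cfsg.Agent.Lib.Helper17.Burnside
import Cfsg.Agent.Lib.Helper17.Order8Dihedral
import Cfsg.Agent.S0111

/-!
# O2520 lemma server (row S0984), wave 2, piece (S3B) `centralizer_sylow3`.
-/

set_option autoImplicit false

namespace Cfsg.Agent.Helper42.O2520


universe u

/-- the rotation subgroup of `DihedralGroup 4` -/
def h42_rot : Subgroup (DihedralGroup 4) where
  carrier := {x | ∃ i : ZMod 4, x = DihedralGroup.r i}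
  one_mem' := ⟨0, rfl⟩
  mul_mem' := by
    rintro _ _ ⟨i, rfl⟩ ⟨j, rfl⟩
    exact ⟨i + j, rfl⟩
  inv_mem' := by
    rintro _ ⟨i, rfl⟩
    exact ⟨-i, rfl⟩

theorem h42_card_rot : Nat.card h42_rot = 4 := by
  have e : ZMod 4 ≃ h42_rot :=
    Equiv.ofBijective (fun i => ⟨DihedralGroup.r i, ⟨i, rfl⟩⟩) (by
      constructor
      · intro i j h
        have := congrArg Subtype.val h
        simpa using this
      · rintro ⟨_, i, rfl⟩
        exact ⟨i, rfl⟩)
  rw [← Nat.card_congr e, Nat.card_eq_fintype_card, ZMod.card]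

theorem h42_rot_central (x : DihedralGroup 4) (hx : x ∈ h42_rot) (h2 : orderOf x = 2)
    (y : DihedralGroup 4) : x * y = y * x := by
  obtain ⟨i, rfl⟩ := hx
  have h1 : DihedralGroup.r i * DihedralGroup.r i = 1 := by
    have := pow_orderOf_eq_one (DihedralGroup.r i)
    rwa [h2, pow_two] at this
  have h3 : DihedralGroup.r i ≠ 1 := by
    intro h
    rw [h, orderOf_one] at h2
    omega
  revert y h1 h3
  clear h2
  revert i
  decide

/-- an involution whose centralizer has order `36` cannot exist in a simple group of order `2520`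
(Thompson transfer) -/
theorem h42_transfer_kill {G : Type u} [Group G] [Finite G] [IsSimpleGroup G]
    (hG : Nat.card G = 2520) (t : G) (ht : orderOf t = 2)
    (hCt : Nat.card (Subgroup.centralizer ({t} : Set G)) = 36) : False := by
  have htp : IsPGroup 2 (Subgroup.zpowers t) :=
    IsPGroup.of_card (n := 1) (by rw [Nat.card_zpowers, ht, pow_one])
  obtain ⟨S, hS⟩ := htp.exists_le_sylow
  have htS : t ∈ (S : Subgroup G) := hS (Subgroup.mem_zpowers t)
  have hG' : Nat.card G = 2 ^ 3 * 315 := by rw [hG]; norm_num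
  have hS8 : Nat.card (S : Subgroup G) = 8 := by
    have := Cfsg.Agent.Helper17.sylow_card_eq S hG' (by norm_num)
    simpa using this
  have hSi : (S : Subgroup G).index = 315 :=
    Cfsg.Agent.Helper17.sylow_index_eq S hG' (by norm_num)
  -- key: no conjugate of `t` is centralized by `S`
  have key : ∀ g : G, ¬ (∀ s ∈ (S : Subgroup G), s * (g * t * g⁻¹) = (g * t * g⁻¹) * s) := by
    intro g hg
    have hle : (S : Subgroup G).map (MulAut.conj g⁻¹).toMonoidHom ≤
        Subgroup.centralizer ({t} : Set G) := by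
      rintro _ ⟨s, hs, rfl⟩
      rw [Subgroup.mem_centralizer_iff]
      intro h hh
      rw [Set.mem_singleton_iff] at hh
      subst hh
      have h1 := hg s hs
      simp only [MulEquiv.coe_toMonoidHom, MulAut.conj_apply, inv_inv]
      have h2 : g⁻¹ * (s * (g * h * g⁻¹)) * g = g⁻¹ * ((g * h * g⁻¹) * s) * g := by rw [h1]
      simp only [mul_assoc, inv_mul_cancel_left, inv_mul_cancel, mul_one] at h2
      simp only [mul_assoc]
      exact h2.symm
    have hc : Nat.card ((S : Subgroup G).map (MulAut.conj g⁻¹).toMonoidHom) = 8 := by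
      rw [Subgroup.card_map_of_injective (MulAut.conj g⁻¹).injective, hS8]
    have := Subgroup.card_dvd_of_le hle
    rw [hc, hCt] at this
    omega
  have key1 : ¬ (∀ s ∈ (S : Subgroup G), s * t = t * s) := by
    intro h
    apply key 1
    intro s hs
    simpa using h s hs
  -- `S` is nonabelian
  have hna : ¬ ∀ x y : (S : Subgroup G), x * y = y * x := by
    intro h
    apply key1
    intro s hs
    have := h ⟨s, hs⟩ ⟨t, htS⟩
    simpa using congrArg Subtype.val this
  have htS2 : orderOf (⟨t, htS⟩ : (S : Subgroup G)) = 2 := by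
    rw [Subgroup.orderOf_mk t htS]; exact ht
  rcases Cfsg.Agent.Helper17.order8_dihedral_or_unique_involution hS8 hna with ⟨⟨e⟩⟩ | ⟨z, hz, huniq⟩
  · -- `S ≅ D8`
    set Q : Subgroup G := (h42_rot.comap e.toMonoidHom).map (S : Subgroup G).subtype with hQ
    have hQS : Q ≤ (S : Subgroup G) := Subgroup.map_subtype_le _
    have hQ4 : Nat.card Q = 4 := by
      rw [hQ, Subgroup.card_map_of_injective (Subgroup.subtype_injective _)]
      have h1 : h42_rot.comap e.toMonoidHom = h42_rot.map e.symm.toMonoidHom :=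
        Subgroup.comap_equiv_eq_map_symm e h42_rot
      rw [h1, Subgroup.card_map_of_injective e.symm.injective, h42_card_rot]
    have hrel : Q.relIndex (S : Subgroup G) = 2 := by
      have h1 := Subgroup.relIndex_mul_index hQS
      have h2 := Q.card_mul_index
      rw [hQ4, hG] at h2
      rw [hSi] at h1
      have : Q.index = 630 := by omega
      rw [this] at h1
      omega
    -- involutions of `Q` are central in `S`
    have hcent : ∀ q ∈ Q, orderOf q = 2 → ∀ s ∈ (S : Subgroup G), s * q = q * s := by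
      intro q hq hq2 s hs
      obtain ⟨x, hx, rfl⟩ := hq
      have hx' : e x ∈ h42_rot := hx
      have hox : orderOf (e x) = 2 := by
        rw [MulEquiv.orderOf_eq]
        have h0 := Subgroup.orderOf_coe x
        rw [← h0]
        exact hq2
      have h1 := h42_rot_central (e x) hx' hox (e ⟨s, hs⟩)
      rw [← map_mul, ← map_mul] at h1
      have h2 := e.injective h1
      have h3 := congrArg Subtype.val h2
      simpa using h3.symm
    have htQ : t ∉ Q := by
      intro h
      exact key1 (hcent t h ht)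
    rcases Cfsg.Agent.S0111.result S Q hQS hrel t ht htS htQ with ⟨M, hMn, hMi, _⟩ | ⟨g, hg⟩
    · rcases hMn.eq_bot_or_eq_top with h | h
      · rw [h, Subgroup.index_bot, hG] at hMi
        omega
      · rw [h, Subgroup.index_top] at hMi
        omega
    · apply key g
      intro s hs
      apply hcent _ hg _ s hs
      have : g * t * g⁻¹ = MulAut.conj g t := by simp
      rw [this, MulEquiv.orderOf_eq, ht]
  · -- unique involution
    apply key1
    intro s hs
    have h1 : orderOf ((⟨s, hs⟩ : (S : Subgroup G)) * ⟨t, htS⟩ * (⟨s, hs⟩ : (S : Subgroup G))⁻¹) = 2 := by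
      have : (⟨s, hs⟩ : (S : Subgroup G)) * ⟨t, htS⟩ * (⟨s, hs⟩ : (S : Subgroup G))⁻¹ =
          MulAut.conj (⟨s, hs⟩ : (S : Subgroup G)) ⟨t, htS⟩ := by simp
      rw [this, MulEquiv.orderOf_eq, htS2]
    have h2 := huniq _ h1
    have h3 := huniq _ htS2
    rw [← h3] at h2
    have h4 := congrArg Subtype.val h2
    simp only [Subgroup.coe_mul, Subgroup.coe_inv] at h4
    calc s * t = s * t * s⁻¹ * s := by group
      _ = t * s := by rw [h4]


/-- the case `|C(P)| = 18` -/
theorem h42_case18 {G : Type u} [Group G] [Finite G] [IsSimpleGroup G] (hG : Nat.card G = 2520)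
    (P : Subgroup G) (hP9 : Nat.card P = 9) (hPi : P.index = 280)
    (hN36 : Nat.card (Subgroup.normalizer (P : Set G)) = 36)
    (hPC : P ≤ Subgroup.centralizer (P : Set G))
    (hC18 : Nat.card (Subgroup.centralizer (P : Set G)) = 18)
    (hovg : ∀ K : Subgroup G, Subgroup.normalizer (P : Set G) < K → K ≠ ⊤ → Nat.card K = 360) :
    ∃ K : Subgroup G, Nat.card K = 360 := by
  have : Fact (Nat.Prime 2) := ⟨Nat.prime_two⟩
  obtain ⟨x, hx⟩ := exists_prime_orderOf_dvd_card' (G := Subgroup.centralizer (P : Set G)) 2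
    (by rw [hC18]; norm_num)
  have ht : orderOf (x : G) = 2 := by rw [Subgroup.orderOf_coe]; exact hx
  obtain ⟨t, htC⟩ := x
  simp only at ht
  -- elements of order 2 are not in `P`
  have hnotP : ∀ y : G, orderOf y = 2 → y ∉ P := by
    intro y hy hyP
    have h1 : orderOf (⟨y, hyP⟩ : P) ∣ Nat.card P := orderOf_dvd_natCard _
    rw [Subgroup.orderOf_mk, hy, hP9] at h1
    omega
  have hCi : (Subgroup.centralizer (P : Set G)).index = 140 := by
    have := (Subgroup.centralizer (P : Set G)).card_mul_index
    rw [hC18, hG] at this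
    omega
  have hrel : P.relIndex (Subgroup.centralizer (P : Set G)) = 2 := by
    have := Subgroup.relIndex_mul_index hPC
    rw [hCi, hPi] at this
    omega
  have ht2 : t * t = 1 := by
    have := pow_orderOf_eq_one t
    rwa [ht, pow_two] at this
  have htinv : t⁻¹ = t := inv_eq_of_mul_eq_one_right ht2
  -- uniqueness of the involution of `C(P)`
  have huniq : ∀ t' ∈ Subgroup.centralizer (P : Set G), orderOf t' = 2 → t' = t := by
    intro t' ht'C ht'
    have h1 := Subgroup.mul_mem_iff_of_index_two
      (H := P.subgroupOf (Subgroup.centralizer (P : Set G))) hrel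
      (a := ⟨t⁻¹, Subgroup.inv_mem _ htC⟩) (b := ⟨t', ht'C⟩)
    have ha : (⟨t⁻¹, Subgroup.inv_mem _ htC⟩ : Subgroup.centralizer (P : Set G)) ∉
        P.subgroupOf (Subgroup.centralizer (P : Set G)) := by
      rw [Subgroup.mem_subgroupOf]
      intro h
      apply hnotP t ht
      have := P.inv_mem h
      simpa using this
    have hb : (⟨t', ht'C⟩ : Subgroup.centralizer (P : Set G)) ∉
        P.subgroupOf (Subgroup.centralizer (P : Set G)) := by
      rw [Subgroup.mem_subgroupOf]
      exact hnotP t' ht'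
    have hab := h1.2 ⟨fun h => absurd h ha, fun h => absurd h hb⟩
    rw [Subgroup.mem_subgroupOf] at hab
    have hx0 : t⁻¹ * t' ∈ P := by simpa using hab
    have hcomm : (t⁻¹ * t') * t = t * (t⁻¹ * t') :=
      (Subgroup.mem_centralizer_iff.1 htC) _ hx0
    have h2 : (t⁻¹ * t') * t = t' := by rw [hcomm]; group
    have ht'2 : t' * t' = 1 := by
      have := pow_orderOf_eq_one t'
      rwa [ht', pow_two] at this
    have hx2 : (t⁻¹ * t') ^ 2 = 1 := by
      rw [pow_two]
      calc (t⁻¹ * t') * (t⁻¹ * t') = ((t⁻¹ * t') * t⁻¹) * t' := by group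
        _ = ((t⁻¹ * t') * t) * t' := by rw [htinv]
        _ = 1 := by rw [h2, ht'2]
    have hx9 : (t⁻¹ * t') ^ 9 = 1 := by
      have h3 : (⟨t⁻¹ * t', hx0⟩ : P) ^ Nat.card P = 1 := pow_card_eq_one'
      rw [hP9] at h3
      simpa using congrArg Subtype.val h3
    have hx1 : t⁻¹ * t' = 1 := by
      have h4 : (t⁻¹ * t') ^ 9 = ((t⁻¹ * t') ^ 2) ^ 4 * (t⁻¹ * t') := by
        rw [← pow_mul, ← pow_succ]
      rw [hx2, one_pow, one_mul] at h4
      rw [← h4]; exact hx9
    calc t' = t * (t⁻¹ * t') := by group
      _ = t := by rw [hx1, mul_one]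
  -- `N(P) ≤ C(t)`
  have hNC : Subgroup.normalizer (P : Set G) ≤ Subgroup.centralizer ({t} : Set G) := by
    intro g hg
    rw [Subgroup.mem_centralizer_iff]
    intro h hh
    rw [Set.mem_singleton_iff] at hh
    subst hh
    have h1 : g * h * g⁻¹ ∈ Subgroup.centralizer (P : Set G) := by
      rw [Subgroup.mem_centralizer_iff]
      intro y hy
      have hy' : g⁻¹ * y * g ∈ P := by
        have := (Subgroup.mem_normalizer_iff.1 hg) (g⁻¹ * y * g)
        rw [this]
        have e : g * (g⁻¹ * y * g) * g⁻¹ = y := by group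
        rw [e]; exact hy
      have h3 := (Subgroup.mem_centralizer_iff.1 htC) _ hy'
      calc y * (g * h * g⁻¹) = g * ((g⁻¹ * y * g) * h) * g⁻¹ := by group
        _ = g * (h * (g⁻¹ * y * g)) * g⁻¹ := by rw [h3]
        _ = (g * h * g⁻¹) * y := by group
    have h2 : orderOf (g * h * g⁻¹) = 2 := by
      have : g * h * g⁻¹ = MulAut.conj g h := by simp
      rw [this, MulEquiv.orderOf_eq, ht]
    have h3 := huniq _ h1 h2
    calc h * g = (g * h * g⁻¹) * g := by rw [h3]
      _ = g * h := by group
  -- `C(t) ≠ ⊤`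
  have hne : Subgroup.centralizer ({t} : Set G) ≠ ⊤ := by
    intro h
    have hcen : t ∈ Subgroup.center G := by
      rw [Subgroup.mem_center_iff]
      intro g
      have hg : g ∈ Subgroup.centralizer ({t} : Set G) := h ▸ Subgroup.mem_top g
      exact ((Subgroup.mem_centralizer_iff.1 hg) t rfl).symm
    rcases (inferInstance : (Subgroup.center G).Normal).eq_bot_or_eq_top with h0 | h0
    · rw [h0, Subgroup.mem_bot] at hcen
      rw [hcen, orderOf_one] at ht
      omega
    · apply Cfsg.Agent.Helper17.not_comm_of_not_prime (G := G) (by rw [hG]; norm_num)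
      refine ⟨⟨fun a b => ?_⟩⟩
      have ha : a ∈ Subgroup.center G := h0 ▸ Subgroup.mem_top a
      exact ((Subgroup.mem_center_iff.1 ha) b).symm
  rcases lt_or_eq_of_le hNC with hlt | heq
  · exact ⟨_, hovg _ hlt hne⟩
  · exfalso
    exact h42_transfer_kill hG t ht (by rw [← heq]; exact hN36)

end Cfsg.Agent.Helper42.O2520

namespace Cfsg.Agent.Helper42.O2520

open Cfsg Cfsg.Agent.Helper55.O2520
open scoped Classical

universe u

section grp
variable {G : Type u} [Group G] [Finite G] [IsSimpleGroup G] (hG : Nat.card G = 2520)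
include hG

/-- (S3B) P abelian of order 9, P ≤ C(P) ≤ N(P) (order 36): |C(P)| ∈ {9,18,36}. 36: Burnside. 18: C(P) has a
unique involution t (C(P) = P × ⟨t⟩), characteristic, so N(P) ≤ C(t) ≠ ⊤; OVG: |C(t)| = 360 (Done) or
C(t) = N(P). Then for a Sylow 2 S ∋ t: |C_S(t)| ≤ 4, t not central in S, S nonabelian with a noncentral
involution: Helper17.order8_dihedral_or_unique_involution gives S ≅ D8; Q = its cyclic subgroup of order 4,
t ∉ Q; Thompson transfer S0111 (G simple: no normal subgroup of index 2): g t g⁻¹ ∈ Q, = the central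
involution z of S, so 8 ∣ |C(z)| = |C(t)| = 36, contradiction. -/
theorem centralizer_sylow3 (h7 : Nat.card (Sylow 7 G) = 120) (h3 : Nat.card (Sylow 3 G) = 70)
    (P : Sylow 3 G)
    (hovg : ∀ K : Subgroup G, Subgroup.normalizer ((P : Subgroup G) : Set G) < K → K ≠ ⊤ →
      Nat.card K = 360) :
    Done G ∨ Subgroup.centralizer ((P : Subgroup G) : Set G) = (P : Subgroup G) := by
  have hG' : Nat.card G = 3 ^ 2 * 280 := by rw [hG]; norm_num
  have hP9 : Nat.card (P : Subgroup G) = 9 := by
    have := Cfsg.Agent.Helper17.sylow_card_eq P hG' (by norm_num)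
    simpa using this
  have hPi : (P : Subgroup G).index = 280 :=
    Cfsg.Agent.Helper17.sylow_index_eq P hG' (by norm_num)
  have hNi : (Subgroup.normalizer ((P : Subgroup G) : Set G)).index = 70 := by
    have := P.card_eq_index_normalizer
    rw [h3] at this
    exact this.symm
  have hN36 : Nat.card (Subgroup.normalizer ((P : Subgroup G) : Set G)) = 36 := by
    have := (Subgroup.normalizer ((P : Subgroup G) : Set G)).card_mul_index
    rw [hNi, hG] at this
    omega
  -- `P` is abelian
  have hPab : ∀ x ∈ (P : Subgroup G), ∀ y ∈ (P : Subgroup G), x * y = y * x := by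
    intro x hx y hy
    have h9 : Nat.card (P : Subgroup G) = 3 ^ 2 := by rw [hP9]; norm_num
    have := (IsPGroup.isMulCommutative_of_card_eq_prime_sq h9).is_comm.comm ⟨x, hx⟩ ⟨y, hy⟩
    simpa using congrArg Subtype.val this
  have hPC : (P : Subgroup G) ≤ Subgroup.centralizer ((P : Subgroup G) : Set G) := by
    intro x hx
    rw [Subgroup.mem_centralizer_iff]
    intro y hy
    exact hPab y hy x hx
  have hCN : Subgroup.centralizer ((P : Subgroup G) : Set G) ≤
      Subgroup.normalizer ((P : Subgroup G) : Set G) := Subgroup.centralizer_le_normalizer _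
  have h9C : 9 ∣ Nat.card (Subgroup.centralizer ((P : Subgroup G) : Set G)) := by
    rw [← hP9]; exact Subgroup.card_dvd_of_le hPC
  have hC36 : Nat.card (Subgroup.centralizer ((P : Subgroup G) : Set G)) ∣ 36 := by
    rw [← hN36]; exact Subgroup.card_dvd_of_le hCN
  obtain ⟨k, hk⟩ := h9C
  have hk4 : k ∣ 4 := by
    rw [hk] at hC36
    exact Nat.dvd_of_mul_dvd_mul_left (by norm_num : 0 < 9) (by simpa using hC36)
  have hkmem : k ∈ Nat.divisors 4 := Nat.mem_divisors.2 ⟨hk4, by norm_num⟩
  have hd4 : Nat.divisors 4 = {1, 2, 4} := by decide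
  rw [hd4] at hkmem
  simp only [Finset.mem_insert, Finset.mem_singleton] at hkmem
  rcases hkmem with rfl | rfl | rfl
  · -- `|C| = 9`
    right
    refine (Subgroup.eq_of_le_of_card_ge hPC ?_).symm
    rw [hk, hP9]
  · -- `|C| = 18`
    left
    exact h42_case18 hG (P : Subgroup G) hP9 hPi hN36 hPC (by rw [hk]) hovg
  · -- `|C| = 36`: Burnside
    exfalso
    apply Cfsg.Agent.Helper17.not_normalizer_le_centralizer P (by rw [hP9]; norm_num)
      (by rw [hP9, hG]; norm_num)
    have : Subgroup.centralizer ((P : Subgroup G) : Set G) =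
        Subgroup.normalizer ((P : Subgroup G) : Set G) :=
      Subgroup.eq_of_le_of_card_ge hCN (by rw [hk, hN36])
    rw [this]

end grp

end Cfsg.Agent.Helper42.O2520
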