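import Mathlib
import Cfsg.Agent.S1017
import Cfsg.Agent.Lib.Helper17.Simple
import Cfsg.Agent.Lib.Helper17.SylowCount
import Cfsg.Agent.Lib.Helper17.PrimeTID
import Cfsg.Agent.Lib.Helper17.PrimeTIApp
import Cfsg.Agent.Lib.Helper78.CharSchur
import Cfsg.Agent.Lib.Helper79.CharBasic
import Cfsg.Agent.Lib.Helper79.Inflation
import Cfsg.Agent.Lib.Helper85.O4320BASE1
import Cfsg.Agent.Lib.Helper85.O4320BASE2
import Cfsg.Agent.Lib.Helper10.O4320B2d
import Cfsg.Agent.Lib.Helper7.O5760Defs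

/-!
# O5760 server (helper7, S0980): piece (B5) `trans_M`  (helper42)
-/

set_option autoImplicit false

namespace Cfsg.Agent.Helper42.O5760

open Cfsg MulAction Cfsg.Agent.Helper7.O5760
open scoped ComplexConjugate

universe u v

/-- orbit of a point `≠ base` under `M` has `15` elements. -/
theorem b5_orbit_card {G : Type u} [Group G] [Finite G] (M : Subgroup G) (hidx : Nat.card (G ⧸ M) = 16)
    (x y : G) (hxM : x ∈ M) (hyM : y ∈ M) (hx : orderOf x = 3) (hy : orderOf y = 5)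
    (hfixx : ∀ a : G ⧸ M, x • a = a → a = ((1 : G) : G ⧸ M))
    (hfixy : ∀ a : G ⧸ M, y • a = a → a = ((1 : G) : G ⧸ M))
    (a : G ⧸ M) (ha : a ≠ ((1 : G) : G ⧸ M)) :
    (orbit ↥M a).ncard = 15 ∧ orbit ↥M a ⊆ {c | c ≠ ((1 : G) : G ⧸ M)} := by
  classical
  have hbase : ∀ m : ↥M, m • (((1 : G) : G ⧸ M)) = ((1 : G) : G ⧸ M) := by
    intro m
    show ((m : G) • ((1 : G) : G ⧸ M)) = _
    rw [MulAction.Quotient.smul_mk, QuotientGroup.eq]
    simp
  have hsub : orbit ↥M a ⊆ {c | c ≠ ((1 : G) : G ⧸ M)} := by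
    rintro c ⟨m, rfl⟩ hc
    apply ha
    have hc' : m • a = ((1 : G) : G ⧸ M) := hc
    have : a = m⁻¹ • (((1 : G) : G ⧸ M)) := by rw [← hc', inv_smul_smul]
    rw [this, hbase]
  refine ⟨?_, hsub⟩
  have hfin : Finite (G ⧸ M) := inferInstance
  have hle : (orbit ↥M a).ncard ≤ 15 := by
    have h1 : ({c | c ≠ ((1 : G) : G ⧸ M)} : Set (G ⧸ M)).ncard = 15 := by
      rw [← Nat.card_coe_set_eq]
      have := Cfsg.Agent.S1017.card_ne_subtype (((1 : G) : G ⧸ M))
      rw [hidx] at this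
      exact this
    rw [← h1]
    exact Set.ncard_le_ncard hsub (Set.toFinite _)
  have hpos : 0 < (orbit ↥M a).ncard := by
    rw [Set.ncard_pos (Set.toFinite _)]
    exact ⟨a, mem_orbit_self a⟩
  -- divisibility by 3 and 5
  have hdiv : ∀ (r : ℕ) [Fact r.Prime] (z : G) (hzM : z ∈ M), orderOf z = r →
      (∀ c : G ⧸ M, z • c = c → c = ((1 : G) : G ⧸ M)) → r ∣ (orbit ↥M a).ncard := by
    intro r _ z hzM hz hfz
    have hord : orderOf (⟨z, hzM⟩ : ↥M) = r := by rw [Subgroup.orderOf_mk]; exact hz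
    have h1 := Cfsg.Agent.S1017.card_modEq_card_fixedBy (G := ↥M) (α := ↥(orbit ↥M a))
      (⟨z, hzM⟩ : ↥M) hord
    have h2 : IsEmpty ↥(fixedBy ↥(orbit ↥M a) (⟨z, hzM⟩ : ↥M)) := by
      constructor
      rintro ⟨c, hc⟩
      have hc1 : (⟨z, hzM⟩ : ↥M) • c = c := hc
      have hc2 : z • (c : G ⧸ M) = (c : G ⧸ M) := by
        have := congrArg (fun t : ↥(orbit ↥M a) => (t : G ⧸ M)) hc1
        exact this
      exact hsub c.2 (hfz _ hc2)
    rw [Nat.card_of_isEmpty (α := ↥(fixedBy ↥(orbit ↥M a) (⟨z, hzM⟩ : ↥M)))] at h1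
    rw [Nat.card_coe_set_eq] at h1
    exact (Nat.modEq_zero_iff_dvd).mp h1
  have h3 : 3 ∣ (orbit ↥M a).ncard := by
    have : Fact (Nat.Prime 3) := ⟨by norm_num⟩
    exact hdiv 3 x hxM hx hfixx
  have h5 : 5 ∣ (orbit ↥M a).ncard := by
    have : Fact (Nat.Prime 5) := ⟨by norm_num⟩
    exact hdiv 5 y hyM hy hfixy
  omega

theorem b5_trans_gen {G : Type u} [Group G] [Finite G] (M : Subgroup G) (hidx : Nat.card (G ⧸ M) = 16)
    (x y : G) (hxM : x ∈ M) (hyM : y ∈ M) (hx : orderOf x = 3) (hy : orderOf y = 5)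
    (hfixx : ∀ a : G ⧸ M, x • a = a → a = ((1 : G) : G ⧸ M))
    (hfixy : ∀ a : G ⧸ M, y • a = a → a = ((1 : G) : G ⧸ M))
    (a b : G ⧸ M) (ha : a ≠ ((1 : G) : G ⧸ M)) (hb : b ≠ ((1 : G) : G ⧸ M)) :
    ∃ m ∈ M, m • a = b := by
  classical
  obtain ⟨ha15, hasub⟩ := b5_orbit_card M hidx x y hxM hyM hx hy hfixx hfixy a ha
  have hS : ({c | c ≠ ((1 : G) : G ⧸ M)} : Set (G ⧸ M)).ncard = 15 := by
    rw [← Nat.card_coe_set_eq]
    have := Cfsg.Agent.S1017.card_ne_subtype (((1 : G) : G ⧸ M))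
    rw [hidx] at this
    exact this
  have hEq : orbit ↥M a = {c | c ≠ ((1 : G) : G ⧸ M)} :=
    Set.eq_of_subset_of_ncard_le hasub (by rw [hS, ha15]) (Set.toFinite _)
  have hbmem : b ∈ orbit ↥M a := by rw [hEq]; exact hb
  obtain ⟨m, hm⟩ := hbmem
  exact ⟨(m : G), m.2, hm⟩

/-- (B5) -/
theorem trans_M {G : Type u} [Group G] [Finite G] (hG : Nat.card G = 5760)
    (R : Sylow 5 G) (hR : Nat.card (R : Subgroup G) = 5)
    (x : G) (hx : orderOf x = 3)
    (hxN : ∀ n ∈ Subgroup.normalizer ((R : Subgroup G) : Set G), n * x * n⁻¹ ∈ Subgroup.zpowers x)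
    (hM : Nat.card (Subgroup.normalizer ((Subgroup.zpowers x : Subgroup G) : Set G)) = 360)
    (hfixR : ∀ a : G ⧸ Subgroup.normalizer ((Subgroup.zpowers x : Subgroup G) : Set G),
      (∀ r ∈ (R : Subgroup G), r • a = a) →
      a = ((1 : G) : G ⧸ Subgroup.normalizer ((Subgroup.zpowers x : Subgroup G) : Set G)))
    (hfixx : ∀ a : G ⧸ Subgroup.normalizer ((Subgroup.zpowers x : Subgroup G) : Set G), x • a = a →
      a = ((1 : G) : G ⧸ Subgroup.normalizer ((Subgroup.zpowers x : Subgroup G) : Set G)))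
    (a b : G ⧸ Subgroup.normalizer ((Subgroup.zpowers x : Subgroup G) : Set G))
    (ha : a ≠ ((1 : G) : G ⧸ Subgroup.normalizer ((Subgroup.zpowers x : Subgroup G) : Set G)))
    (hb : b ≠ ((1 : G) : G ⧸ Subgroup.normalizer ((Subgroup.zpowers x : Subgroup G) : Set G))) :
    ∃ m ∈ Subgroup.normalizer ((Subgroup.zpowers x : Subgroup G) : Set G), m • a = b := by
  classical
  have hidx : Nat.card (G ⧸ Subgroup.normalizer ((Subgroup.zpowers x : Subgroup G) : Set G)) = 16 := by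
    have h1 := Subgroup.card_mul_index (Subgroup.normalizer ((Subgroup.zpowers x : Subgroup G) : Set G))
    rw [hM, hG, Subgroup.index_eq_card] at h1
    omega
  have hxM : x ∈ Subgroup.normalizer ((Subgroup.zpowers x : Subgroup G) : Set G) :=
    Subgroup.le_normalizer (Subgroup.mem_zpowers x)
  -- `N(R) ≤ M`
  have hconj : ∀ n ∈ Subgroup.normalizer ((R : Subgroup G) : Set G), ∀ h ∈ Subgroup.zpowers x,
      n * h * n⁻¹ ∈ Subgroup.zpowers x := by
    intro n hn h hh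
    obtain ⟨k, rfl⟩ := Subgroup.mem_zpowers_iff.mp hh
    have : n * x ^ k * n⁻¹ = (n * x * n⁻¹) ^ k := by
      rw [conj_zpow]
    rw [this]
    exact Subgroup.zpow_mem _ (hxN n hn) k
  have hNM : Subgroup.normalizer ((R : Subgroup G) : Set G) ≤
      Subgroup.normalizer ((Subgroup.zpowers x : Subgroup G) : Set G) := by
    intro n hn
    rw [Subgroup.mem_normalizer_iff]
    intro h
    constructor
    · intro hh; exact hconj n hn h hh
    · intro hh
      have := hconj n⁻¹ (Subgroup.inv_mem _ hn) _ hh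
      have e : n⁻¹ * (n * h * n⁻¹) * n⁻¹⁻¹ = h := by group
      rwa [e] at this
  have hRM : (R : Subgroup G) ≤ Subgroup.normalizer ((Subgroup.zpowers x : Subgroup G) : Set G) :=
    Subgroup.le_normalizer.trans hNM
  -- a generator of `R`
  have : Fact (Nat.Prime 5) := ⟨by norm_num⟩
  have hRne : ∃ y ∈ (R : Subgroup G), y ≠ 1 := by
    by_contra hcon
    push Not at hcon
    have : (R : Subgroup G) = ⊥ := by
      rw [Subgroup.eq_bot_iff_forall]; exact hcon
    rw [this, Subgroup.card_bot] at hR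
    omega
  obtain ⟨y, hyR, hy1⟩ := hRne
  obtain ⟨hzy, hy⟩ := Cfsg.Agent.S1017.zpowers_eq_of_card_prime (R : Subgroup G) hR y hyR hy1
  have hfixy : ∀ c : G ⧸ Subgroup.normalizer ((Subgroup.zpowers x : Subgroup G) : Set G), y • c = c →
      c = ((1 : G) : G ⧸ Subgroup.normalizer ((Subgroup.zpowers x : Subgroup G) : Set G)) := by
    intro c hc
    apply hfixR c
    intro r hr
    rw [← hzy] at hr
    obtain ⟨k, rfl⟩ := Subgroup.mem_zpowers_iff.mp hr
    have : y ^ k ∈ stabilizer G c := Subgroup.zpow_mem _ hc k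
    exact this
  exact b5_trans_gen _ hidx x y hxM (hRM hyR) hx hy hfixx hfixy a b ha hb

end Cfsg.Agent.Helper42.O5760
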