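import Mathlib
import Cfsg.Agent.S1017
import Cfsg.Agent.Lib.Helper17.Simple
import Cfsg.Agent.Lib.Helper17.SylowCount
import Cfsg.Agent.Lib.Helper17.PrimeTID
import Cfsg.Agent.Lib.Helper17.PrimeTIApp
import Cfsg.Agent.Lib.Helper78.CharSchur
import Cfsg.Agent.Lib.Helper79.CharBasic
import Cfsg.Agent.Lib.Helper79.Inflation
import Cfsg.Agent.Lib.Helper85.O4320BASE1
import Cfsg.Agent.Lib.Helper85.O4320BASE2
import Cfsg.Agent.Lib.Helper10.O4320B2d
import Cfsg.Agent.Lib.Helper7.O5760Defs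

/-!
# O5760 server (helper7, S0980): piece (B6) `hyp_of_ninetysix`  (helper42)
-/

set_option autoImplicit false

namespace Cfsg.Agent.Helper42.O5760

open Cfsg MulAction Cfsg.Agent.Helper7.O5760
open scoped ComplexConjugate

universe u v

/-- conjugate two-point stabilizers have the same order. -/
theorem b6_card_stab_conj {G : Type u} [Group G] {X : Type v} [MulAction G X] (g : G) (a b : X) :
    Nat.card ↥(stabilizer G (g • a) ⊓ stabilizer G (g • b)) =
      Nat.card ↥(stabilizer G a ⊓ stabilizer G b) := by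
  have hinj : Function.Injective (MulAut.conj g).toMonoidHom := (MulAut.conj g).injective
  rw [stabilizer_smul_eq_stabilizer_map_conj g a, stabilizer_smul_eq_stabilizer_map_conj g b,
    ← Subgroup.map_inf _ _ _ hinj]
  exact Subgroup.card_map_of_injective hinj

set_option maxHeartbeats 1000000 in
theorem b6_gen {G : Type u} [Group G] [Finite G] [IsSimpleGroup G] (hG : Nat.card G = 5760)
    (M : Subgroup G) (x : G) (hx : orderOf x = 3)
    (hMeq : M = Subgroup.normalizer ((Subgroup.zpowers x : Subgroup G) : Set G))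
    (hM : Nat.card M = 360)
    (hfixx : ∀ a : G ⧸ M, x • a = a → a = ((1 : G) : G ⧸ M))
    (htr : ∀ a b : G ⧸ M, a ≠ ((1 : G) : G ⧸ M) → b ≠ ((1 : G) : G ⧸ M) → ∃ m ∈ M, m • a = b)
    (hgen : ∀ (F : Type u) [MulAction G F] [Finite F], 2 ≤ Nat.card F →
      (∀ a b c d : F, a ≠ b → c ≠ d → ∃ g : G, g • a = c ∧ g • b = d) → ∀ m : ℕ,
      (∀ a b : F, a ≠ b → Nat.card ↥(stabilizer G a ⊓ stabilizer G b) = m) →
      Nat.card G = Nat.card F * (Nat.card F - 1) * m) :
    ∃ z : (G ⧸ M) → G, Hyp G (G ⧸ M) z := by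
  classical
  have hidx : Nat.card (G ⧸ M) = 16 := by
    have h1 := Subgroup.card_mul_index M
    rw [hM, hG, Subgroup.index_eq_card] at h1
    omega
  have hMne : M ≠ ⊤ := by
    intro h
    rw [h, Subgroup.card_top, hG] at hM
    omega
  have hxM : x ∈ M := by rw [hMeq]; exact Subgroup.le_normalizer (Subgroup.mem_zpowers x)
  have hbs : ∀ g : G, g • (((1 : G) : G ⧸ M)) = ((1 : G) : G ⧸ M) ↔ g ∈ M := by
    intro g
    rw [MulAction.Quotient.smul_mk, QuotientGroup.eq]
    simp
  have hout : ∀ a : G ⧸ M, (Quotient.out a : G) • (((1 : G) : G ⧸ M)) = a := by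
    intro a
    rw [MulAction.Quotient.smul_mk]
    simp
  have hout' : ∀ a : G ⧸ M, (Quotient.out a : G)⁻¹ • a = ((1 : G) : G ⧸ M) := by
    intro a
    calc (Quotient.out a : G)⁻¹ • a
        = (Quotient.out a : G)⁻¹ • ((Quotient.out a : G) • (((1 : G) : G ⧸ M))) := by rw [hout a]
      _ = ((1 : G) : G ⧸ M) := inv_smul_smul _ _
  -- 2-transitivity
  have twoTrans : ∀ a b c d : G ⧸ M, a ≠ b → c ≠ d → ∃ g : G, g • a = c ∧ g • b = d := by
    intro a b c d hab hcd
    have hb' : (Quotient.out a : G)⁻¹ • b ≠ ((1 : G) : G ⧸ M) := by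
      intro h
      apply hab
      have : b = (Quotient.out a : G) • (((1 : G) : G ⧸ M)) := by rw [← h, smul_inv_smul]
      rw [this, hout]
    have hd' : (Quotient.out c : G)⁻¹ • d ≠ ((1 : G) : G ⧸ M) := by
      intro h
      apply hcd
      have : d = (Quotient.out c : G) • (((1 : G) : G ⧸ M)) := by rw [← h, smul_inv_smul]
      rw [this, hout]
    obtain ⟨m, hmM, hm⟩ := htr _ _ hb' hd'
    refine ⟨(Quotient.out c : G) * m * (Quotient.out a : G)⁻¹, ?_, ?_⟩
    · rw [mul_smul, mul_smul, hout' a, (hbs m).mpr hmM, hout]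
    · rw [mul_smul, mul_smul, hm, smul_inv_smul]
  -- two-point stabilizers
  have hcard2 : 2 ≤ Nat.card (G ⧸ M) := by rw [hidx]; norm_num
  have hnt : Nontrivial (G ⧸ M) := by
    have hfin : Finite (G ⧸ M) := inferInstance
    exact Finite.one_lt_card_iff_nontrivial.mp (by omega)
  obtain ⟨a₀, b₀, hab₀⟩ := exists_pair_ne (G ⧸ M)
  have hm₀ : ∀ a b : G ⧸ M, a ≠ b → Nat.card ↥(stabilizer G a ⊓ stabilizer G b) =
      Nat.card ↥(stabilizer G a₀ ⊓ stabilizer G b₀) := by
    intro a b hab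
    obtain ⟨g, hga, hgb⟩ := twoTrans a₀ b₀ a b hab₀ hab
    rw [← hga, ← hgb]
    exact b6_card_stab_conj g a₀ b₀
  have h24 : Nat.card ↥(stabilizer G a₀ ⊓ stabilizer G b₀) = 24 := by
    have h1 := hgen (G ⧸ M) hcard2 twoTrans _ hm₀
    rw [hG, hidx] at h1
    omega
  refine ⟨fun a => (Quotient.out a : G) * x * (Quotient.out a : G)⁻¹, ?_⟩
  refine ⟨hidx, hG, ?_, twoTrans, ?_, ?_, ?_, ?_⟩
  · intro g hg
    exact Cfsg.Agent.S1017.eq_one_of_forall_smul_eq
      (Cfsg.Agent.S1017.coset_action_nontrivial M hMne) g hg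
  · intro a b hab
    rw [hm₀ a b hab, h24]
  · intro a
    have := MulEquiv.orderOf_eq (MulAut.conj (Quotient.out a : G)) x
    rw [MulAut.conj_apply] at this
    rw [this, hx]
  · intro a b
    show ((Quotient.out a : G) * x * (Quotient.out a : G)⁻¹) • b = b ↔ b = a
    constructor
    · intro h
      rw [mul_smul, mul_smul] at h
      have h1 : x • ((Quotient.out a : G)⁻¹ • b) = (Quotient.out a : G)⁻¹ • b := by
        conv_rhs => rw [← h]
        rw [inv_smul_smul]
      have h2 := hfixx _ h1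
      have : b = (Quotient.out a : G) • (((1 : G) : G ⧸ M)) := by rw [← h2, smul_inv_smul]
      rw [this, hout]
    · intro h
      rw [h, mul_smul, mul_smul, hout' a, (hbs x).mpr hxM, hout]
  · intro a g' hg'
    show g' * ((Quotient.out a : G) * x * (Quotient.out a : G)⁻¹) * g'⁻¹ ∈
      Subgroup.zpowers ((Quotient.out a : G) * x * (Quotient.out a : G)⁻¹)
    have hn : (Quotient.out a : G)⁻¹ * g' * (Quotient.out a : G) ∈ M := by
      rw [← hbs, mul_smul, mul_smul, hout, hg', hout']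
    have hn' := (SetLike.ext_iff.mp hMeq _).mp hn
    rw [Subgroup.mem_normalizer_iff] at hn'
    have h1 := (hn' x).mp (Subgroup.mem_zpowers x)
    obtain ⟨k, hk⟩ := Subgroup.mem_zpowers_iff.mp h1
    rw [Subgroup.mem_zpowers_iff]
    refine ⟨k, ?_⟩
    rw [conj_zpow, hk]
    group

/-- (B6) -/
theorem hyp_of_ninetysix {G : Type u} [Group G] [Finite G] [IsSimpleGroup G] (hG : Nat.card G = 5760)
    (x : G) (hx : orderOf x = 3)
    (hM : Nat.card (Subgroup.normalizer ((Subgroup.zpowers x : Subgroup G) : Set G)) = 360)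
    (hfixx : ∀ a : G ⧸ Subgroup.normalizer ((Subgroup.zpowers x : Subgroup G) : Set G), x • a = a →
      a = ((1 : G) : G ⧸ Subgroup.normalizer ((Subgroup.zpowers x : Subgroup G) : Set G)))
    (htr : ∀ a b : G ⧸ Subgroup.normalizer ((Subgroup.zpowers x : Subgroup G) : Set G),
      a ≠ ((1 : G) : G ⧸ Subgroup.normalizer ((Subgroup.zpowers x : Subgroup G) : Set G)) →
      b ≠ ((1 : G) : G ⧸ Subgroup.normalizer ((Subgroup.zpowers x : Subgroup G) : Set G)) →
      ∃ m ∈ Subgroup.normalizer ((Subgroup.zpowers x : Subgroup G) : Set G), m • a = b)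
    (hgen : ∀ (F : Type u) [MulAction G F] [Finite F], 2 ≤ Nat.card F →
      (∀ a b c d : F, a ≠ b → c ≠ d → ∃ g : G, g • a = c ∧ g • b = d) → ∀ m : ℕ,
      (∀ a b : F, a ≠ b → Nat.card ↥(stabilizer G a ⊓ stabilizer G b) = m) →
      Nat.card G = Nat.card F * (Nat.card F - 1) * m) :
    ∃ z : (G ⧸ Subgroup.normalizer ((Subgroup.zpowers x : Subgroup G) : Set G)) → G,
      Hyp G (G ⧸ Subgroup.normalizer ((Subgroup.zpowers x : Subgroup G) : Set G)) z :=
  b6_gen hG _ x hx rfl hM hfixx htr hgen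

end Cfsg.Agent.Helper42.O5760
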