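import Cfsg.Agent.Lib.Helper93.OR0

/-!
# OR3 server (helper93, S2459): piece (A1) `exists_not_eigen`  (helper42)
-/

set_option autoImplicit false

namespace Cfsg.Agent.Helper42.OR

open Matrix Cfsg.Agent.Helper93.OR

local notation "SL3" => Matrix.SpecialLinearGroup (Fin 3)

/-- (A1) -/
theorem exists_not_eigen {F : Type*} [Field F] (A : Matrix (Fin 3) (Fin 3) F)
    (hA : ∀ c : F, A ≠ c • (1 : Matrix (Fin 3) (Fin 3) F)) :
    ∃ v : Fin 3 → F, ∀ a b : F, a • v + b • (A *ᵥ v) = 0 → a = 0 ∧ b = 0 := by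
  by_contra hcon
  push Not at hcon
  -- every nonzero vector is an eigenvector
  have eig : ∀ v : Fin 3 → F, (∃ i, v i ≠ 0) → ∃ l : F, A *ᵥ v = l • v := by
    intro v ⟨i, hi⟩
    obtain ⟨a, b, hab, hne⟩ := hcon v
    have hb : b ≠ 0 := by
      intro hb
      rw [hb, zero_smul, add_zero] at hab
      have h1 := congrFun hab i
      simp only [Pi.smul_apply, smul_eq_mul, Pi.zero_apply] at h1
      rcases mul_eq_zero.mp h1 with h2 | h2
      · exact hne h2 hb
      · exact hi h2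
    refine ⟨-a / b, ?_⟩
    ext j
    have h1 := congrFun hab j
    simp only [Pi.add_apply, Pi.smul_apply, smul_eq_mul, Pi.zero_apply] at h1
    simp only [Pi.smul_apply, smul_eq_mul]
    field_simp
    linear_combination h1
  have hs : ∀ j : Fin 3, ∃ i, (Pi.single j (1 : F) : Fin 3 → F) i ≠ 0 := fun j => ⟨j, by simp⟩
  obtain ⟨l0, h0⟩ := eig (Pi.single 0 1) (hs 0)
  obtain ⟨l1, h1⟩ := eig (Pi.single 1 1) (hs 1)
  obtain ⟨l2, h2⟩ := eig (Pi.single 2 1) (hs 2)
  obtain ⟨l01, h01⟩ := eig (Pi.single 0 1 + Pi.single 1 1) ⟨0, by simp⟩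
  obtain ⟨l02, h02⟩ := eig (Pi.single 0 1 + Pi.single 2 1) ⟨0, by simp⟩
  rw [Matrix.mulVec_add, h0, h1] at h01
  rw [Matrix.mulVec_add, h0, h2] at h02
  have e1 : l0 = l1 := by
    have a := congrFun h01 0
    have b := congrFun h01 1
    simp at a b
    rw [a, b]
  have e2 : l0 = l2 := by
    have a := congrFun h02 0
    have b := congrFun h02 2
    simp at a b
    rw [a, b]
  apply hA l0
  ext i j
  have c0 := congrFun h0 i
  have c1 := congrFun h1 i
  have c2 := congrFun h2 i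
  rw [Matrix.mulVec_single_one] at c0 c1 c2
  fin_cases j
  · simp only [Fin.zero_eta]
    rw [show A i 0 = (l0 • (Pi.single 0 1 : Fin 3 → F)) i from c0]
    fin_cases i <;> simp
  · simp only [Fin.mk_one]
    rw [show A i 1 = (l1 • (Pi.single 1 1 : Fin 3 → F)) i from c1, ← e1]
    fin_cases i <;> simp
  · simp only [Fin.reduceFinMk]
    rw [show A i 2 = (l2 • (Pi.single 2 1 : Fin 3 → F)) i from c2, ← e2]
    fin_cases i <;> simp

end Cfsg.Agent.Helper42.OR
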