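import Cfsg.Agent.Lib.Helper93.OR0

/-!
# OR3 server (helper93, S2459): piece (A2) `conj_col_of_vec`  (helper42)
-/

set_option autoImplicit false

namespace Cfsg.Agent.Helper42.OR

open Matrix Cfsg.Agent.Helper93.OR

local notation "SL3" => Matrix.SpecialLinearGroup (Fin 3)

/-- the matrix with columns `v, u, w` -/
def a2_cols {F : Type*} [Field F] (v u w : Fin 3 → F) : Matrix (Fin 3) (Fin 3) F :=
  Matrix.of fun i j => ![v i, u i, w i] j

theorem a2_det {F : Type*} [Field F] (v u w : Fin 3 → F) :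
    (a2_cols v u w).det = v 0 * (u 1 * w 2 - u 2 * w 1) - u 0 * (v 1 * w 2 - v 2 * w 1)
      + w 0 * (v 1 * u 2 - v 2 * u 1) := by
  rw [Matrix.det_fin_three]
  simp [a2_cols]
  ring

/-- some standard basis vector completes two independent vectors to a basis -/
theorem a2_exists_w {F : Type*} [Field F] (v u : Fin 3 → F)
    (h : ∀ a b : F, a • v + b • u = 0 → a = 0 ∧ b = 0) :
    ∃ w : Fin 3 → F, (a2_cols v u w).det ≠ 0 := by
  by_contra hcon
  push Not at hcon
  have h0 := hcon (Pi.single 0 1)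
  have h1 := hcon (Pi.single 1 1)
  have h2 := hcon (Pi.single 2 1)
  rw [a2_det] at h0 h1 h2
  simp at h0 h1 h2
  -- h0 : v 1 * u 2 - v 2 * u 1 = 0 ; h1 : ... ; h2 : ...
  have key : ∀ i : Fin 3, v i ≠ 0 → False := by
    intro i hi
    have e01 : v 0 * u 1 = u 0 * v 1 := by linear_combination h2
    have e02 : v 0 * u 2 = u 0 * v 2 := by linear_combination -h1
    have e12 : v 1 * u 2 = u 1 * v 2 := by linear_combination h0
    have hprop : ∀ j : Fin 3, v i * u j = u i * v j := by
      intro j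
      fin_cases i <;> fin_cases j <;> simp only [Fin.zero_eta, Fin.mk_one, Fin.reduceFinMk, Fin.isValue] <;>
        first | ring1 | linear_combination e01 | linear_combination -e01 | linear_combination e02 |
          linear_combination -e02 | linear_combination e12 | linear_combination -e12
    have := h (u i) (-(v i)) (by
      ext j
      simp only [Pi.add_apply, Pi.smul_apply, smul_eq_mul, Pi.zero_apply]
      linear_combination -(hprop j))
    exact hi (neg_eq_zero.mp this.2)
  have hv0 : v = 0 := by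
    ext i
    by_contra hi
    exact key i hi
  have := h 1 0 (by rw [hv0]; simp)
  exact one_ne_zero this.1

/-- (A2) -/
theorem conj_col_of_vec {F : Type*} [Field F] (A : Matrix (Fin 3) (Fin 3) F) (v : Fin 3 → F)
    (hv : ∀ a b : F, a • v + b • (A *ᵥ v) = 0 → a = 0 ∧ b = 0) (μ : F) :
    ∃ P : GL (Fin 3) F, ∀ i, ((P⁻¹ : GL (Fin 3) F).1 * A * P.1) i 0 = ![μ, 1, 0] i := by
  set u : Fin 3 → F := A *ᵥ v - μ • v with hu
  have hind : ∀ a b : F, a • v + b • u = 0 → a = 0 ∧ b = 0 := by
    intro a b hab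
    have h1 : (a - b * μ) • v + b • (A *ᵥ v) = 0 := by
      rw [← hab, hu]
      ext i
      simp only [Pi.add_apply, Pi.smul_apply, Pi.sub_apply, smul_eq_mul]
      ring
    obtain ⟨h2, h3⟩ := hv _ _ h1
    refine ⟨?_, h3⟩
    rw [h3] at h2
    simpa using h2
  obtain ⟨w, hw⟩ := a2_exists_w v u hind
  let P : GL (Fin 3) F := Matrix.GeneralLinearGroup.mkOfDetNeZero (a2_cols v u w) hw
  have hP : P.1 = a2_cols v u w := rfl
  refine ⟨P, ?_⟩
  have hPe : P.1 *ᵥ Pi.single 0 1 = v := by
    rw [hP]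
    ext i
    simp [a2_cols, Matrix.mulVec, dotProduct, Fin.sum_univ_three]
  have hPc : P.1 *ᵥ ![μ, 1, 0] = A *ᵥ v := by
    rw [hP]
    ext i
    simp [a2_cols, Matrix.mulVec, dotProduct, Fin.sum_univ_three, hu]
    ring
  have hinv : (P⁻¹ : GL (Fin 3) F).1 * P.1 = 1 := by
    rw [← Units.val_mul, inv_mul_cancel, Units.val_one]
  have hcol : ((P⁻¹ : GL (Fin 3) F).1 * A * P.1) *ᵥ Pi.single 0 1 = ![μ, 1, 0] := by
    rw [← Matrix.mulVec_mulVec, ← Matrix.mulVec_mulVec, hPe, ← hPc, Matrix.mulVec_mulVec, hinv,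
      Matrix.one_mulVec]
  intro i
  have := congrFun hcol i
  rw [Matrix.mulVec_single_one] at this
  exact this

end Cfsg.Agent.Helper42.OR
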