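import Mathlib
import Cfsg.Agent.Lib.Helper42.PGLInv2

set_option autoImplicit false
set_option linter.unusedSectionVars false

/-!
# Involutions of `PGL_n(q)`: classification by the invariant `kinv`
-/

namespace Cfsg.Agent.Helper42.PGLInv

open Module Matrix

section mat

variable {F : Type*} [Field F] [Fintype F] {n : ℕ}


/-- the matrix-level description of an involution of `PGL` -/
def IsInvMat (g : GL (Fin n) F) : Prop :=
  (∃ lam : F, g.val * g.val = lam • (1 : Matrix (Fin n) (Fin n) F)) ∧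
    ¬ ∃ c : F, g.val = c • (1 : Matrix (Fin n) (Fin n) F)

lemma orderOf_mk_eq_two_iff (g : GL (Fin n) F) :
    orderOf (QuotientGroup.mk g : GL (Fin n) F ⧸ Subgroup.center (GL (Fin n) F)) = 2 ↔
      IsInvMat g := by
  have : Fact (Nat.Prime 2) := ⟨Nat.prime_two⟩
  rw [orderOf_eq_prime_iff, ← QuotientGroup.mk_pow, QuotientGroup.eq_one_iff, Ne,
    QuotientGroup.eq_one_iff, mem_center_iff, mem_center_iff, pow_two, Units.val_mul]
  rfl

lemma two_ne_zero_of_odd_card (hq : Odd (Fintype.card F)) : (2 : F) ≠ 0 := by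
  intro h
  have h1 : ringChar F = 2 := CharP.ringChar_of_prime_eq_zero Nat.prime_two (by exact_mod_cast h)
  rw [FiniteField.even_card_iff_char_two] at h1
  rcases hq with ⟨k, hk⟩
  omega

lemma val_ne_zero_of_pos (hn : 0 < n) (g : GL (Fin n) F) : g.val ≠ 0 := by
  intro h
  have h1 : g.val * g⁻¹.val = 1 := by rw [← Units.val_mul, mul_inv_cancel, Units.val_one]
  rw [h, Matrix.zero_mul] at h1
  have := congrFun (congrFun h1 ⟨0, hn⟩) ⟨0, hn⟩
  simp at this

lemma lam_ne_zero_of_sq (hn : 0 < n) (g : GL (Fin n) F) (lam : F)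
    (hg : g.val * g.val = lam • (1 : Matrix (Fin n) (Fin n) F)) : lam ≠ 0 := by
  intro h
  rw [h, zero_smul, ← Units.val_mul] at hg
  exact val_ne_zero_of_pos hn (g * g) hg

lemma eq_zero_of_rank_eq_zero (M : Matrix (Fin n) (Fin n) F) (h : M.rank = 0) : M = 0 := by
  rw [Matrix.rank, Submodule.finrank_eq_zero, LinearMap.range_eq_bot] at h
  have : Matrix.toLin' M = Matrix.toLin' 0 := by rw [map_zero]; exact h
  exact Matrix.toLin'.injective this


lemma rank_neg' (M : Matrix (Fin n) (Fin n) F) : (-M).rank = M.rank := by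
  have : -M = (-1 : F) • M := by rw [neg_smul, one_smul]
  rw [this, Matrix.rank_smul_of_mem_nonZeroDivisors _
    (mem_nonZeroDivisors_of_ne_zero (neg_ne_zero.mpr one_ne_zero))]

lemma smul_sq_eq_one (M : Matrix (Fin n) (Fin n) F) (lam mu : F) (hmu : mu ≠ 0)
    (hlam : lam = mu * mu) (hM : M * M = lam • (1 : Matrix (Fin n) (Fin n) F)) :
    (mu⁻¹ • M) * (mu⁻¹ • M) = 1 := by
  rw [Matrix.smul_mul, Matrix.mul_smul, hM, smul_smul, smul_smul, hlam]
  have : mu⁻¹ * mu⁻¹ * (mu * mu) = 1 := by field_simp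
  rw [this, one_smul]

theorem split_norm (h2 : (2 : F) ≠ 0) (hn : 0 < n) (g : GL (Fin n) F)
    (hns : ¬ ∃ c : F, g.val = c • (1 : Matrix (Fin n) (Fin n) F)) (lam : F)
    (hlam : g.val * g.val = lam • (1 : Matrix (Fin n) (Fin n) F)) (hsq : IsSquare lam) :
    ∃ mu : F, mu ≠ 0 ∧ (mu⁻¹ • g.val) * (mu⁻¹ • g.val) = 1 ∧
      (mu⁻¹ • g.val - 1).rank = kinv g.val ∧ 1 ≤ kinv g.val ∧ kinv g.val ≤ n / 2 := by
  obtain ⟨m0, hm0⟩ := hsq
  have hlam0 := lam_ne_zero_of_sq hn g lam hlam
  have hm0ne : m0 ≠ 0 := by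
    rintro rfl
    rw [mul_zero] at hm0
    exact hlam0 hm0
  set A := m0⁻¹ • g.val with hA
  have hAA : A * A = 1 := smul_sq_eq_one g.val lam m0 hm0ne hm0 hlam
  have hk : kinv g.val = min (A - 1).rank (n - (A - 1).rank) := by
    rw [← kinv_of_sq_eq_one h2 A hAA, hA, kinv_smul _ _ (inv_ne_zero hm0ne)]
  have hsum := rank_sub_one_add h2 A hAA
  have hgA : g.val = m0 • A := by
    rw [hA, smul_smul, mul_inv_cancel₀ hm0ne, one_smul]
  have hr0 : (A - 1).rank ≠ 0 := by
    intro h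
    have := eq_zero_of_rank_eq_zero _ h
    rw [sub_eq_zero] at this
    exact hns ⟨m0, by rw [hgA, this]⟩
  have hr1 : (A + 1).rank ≠ 0 := by
    intro h
    have := eq_zero_of_rank_eq_zero _ h
    have h3 : A = -1 := eq_neg_of_add_eq_zero_left this
    exact hns ⟨-m0, by rw [hgA, h3, smul_neg, neg_smul]⟩
  by_cases hcase : (A - 1).rank ≤ n - (A - 1).rank
  · refine ⟨m0, hm0ne, hAA, ?_, ?_, ?_⟩
    · rw [hk, min_eq_left hcase]
    · rw [hk, min_eq_left hcase]; omega
    · rw [hk, min_eq_left hcase]; omega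
  · have hneg : (-m0)⁻¹ • g.val = -A := by
      rw [hA, inv_neg, neg_smul]
    refine ⟨-m0, neg_ne_zero.mpr hm0ne, ?_, ?_, ?_, ?_⟩
    · rw [hneg, neg_mul_neg, hAA]
    · rw [hneg, hk, min_eq_right (by omega)]
      have : -A - 1 = -(A + 1) := by abel
      rw [this, rank_neg']
      omega
    · rw [hk, min_eq_right (by omega)]; omega
    · rw [hk, min_eq_right (by omega)]; omega

theorem nonsplit_even (hn : 0 < n) (g : GL (Fin n) F) (lam : F)
    (hlam : g.val * g.val = lam • (1 : Matrix (Fin n) (Fin n) F)) (hsq : ¬ IsSquare lam) :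
    Even n := by
  by_contra hodd
  rw [Nat.not_even_iff_odd] at hodd
  obtain ⟨k, hk⟩ := hodd
  have hlam0 := lam_ne_zero_of_sq hn g lam hlam
  have hdet := congrArg Matrix.det hlam
  rw [Matrix.det_mul, Matrix.det_smul, Matrix.det_one, mul_one, Fintype.card_fin] at hdet
  have hdet' : g.val.det * g.val.det = lam ^ (2 * k + 1) := by rw [hdet, hk]
  rw [pow_succ, pow_mul] at hdet'
  apply hsq
  refine ⟨g.val.det / lam ^ k, ?_⟩
  field_simp
  rw [sq (g.val.det), hdet']; ring


/-- the product of two nonsquares is a square -/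
lemma exists_sq_mul_eq (h2 : (2 : F) ≠ 0) (a b : F) (ha : ¬ IsSquare a) (hb : ¬ IsSquare b) :
    ∃ c : F, c ≠ 0 ∧ c * c * a = b := by
  classical
  have hchar : ringChar F ≠ 2 := by
    intro h
    apply h2
    have := ringChar.Nat.cast_ringChar (R := F)
    rw [h] at this
    exact_mod_cast this
  have ha0 : a ≠ 0 := by rintro rfl; exact ha ⟨0, by simp⟩
  have hb0 : b ≠ 0 := by rintro rfl; exact hb ⟨0, by simp⟩
  have h1 : quadraticChar F (a * b) = 1 := by
    rw [map_mul, (quadraticChar_neg_one_iff_not_isSquare).mpr ha,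
      (quadraticChar_neg_one_iff_not_isSquare).mpr hb]
    norm_num
  rw [quadraticChar_one_iff_isSquare (mul_ne_zero ha0 hb0)] at h1
  obtain ⟨d, hd⟩ := h1
  have hd0 : d ≠ 0 := by
    rintro rfl
    rw [mul_zero] at hd
    exact mul_ne_zero ha0 hb0 hd
  refine ⟨d / a, div_ne_zero hd0 ha0, ?_⟩
  field_simp
  rw [sq, ← hd]

theorem isConj_of_kinv_eq (h2 : (2 : F) ≠ 0) (hn : 0 < n) (g h : GL (Fin n) F)
    (hg : IsInvMat g) (hh : IsInvMat h) (hk : kinv g.val = kinv h.val) :
    IsConj (QuotientGroup.mk g : GL (Fin n) F ⧸ Subgroup.center (GL (Fin n) F))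
      (QuotientGroup.mk h) := by
  obtain ⟨⟨lam, hlam⟩, hgns⟩ := hg
  obtain ⟨⟨lam', hlam'⟩, hhns⟩ := hh
  by_cases hs : IsSquare lam
  · obtain ⟨mu, hmu, hA, hrA, hA1, hA2⟩ := split_norm h2 hn g hgns lam hlam hs
    by_cases hs' : IsSquare lam'
    · obtain ⟨nu, hnu, hB, hrB, hB1, hB2⟩ := split_norm h2 hn h hhns lam' hlam' hs'
      obtain ⟨P, hP⟩ := exists_GL_conj_of_rank_eq h2 _ _ hA hB (by rw [hrA, hrB, hk])
      apply isConj_mk g h P (mu * nu⁻¹) (mul_ne_zero hmu (inv_ne_zero hnu))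
      rw [Matrix.mul_smul, Matrix.smul_mul] at hP
      have := congrArg (fun M => mu • M) hP
      simp only [smul_smul, mul_inv_cancel₀ hmu, one_smul] at this
      rw [this]
    · exfalso
      have := kinv_of_nonsquare h.val lam' hlam' hs'
      omega
  · by_cases hs' : IsSquare lam'
    · exfalso
      obtain ⟨nu, hnu, hB, hrB, hB1, hB2⟩ := split_norm h2 hn h hhns lam' hlam' hs'
      have := kinv_of_nonsquare g.val lam hlam hs
      omega
    · obtain ⟨c, hc0, hc⟩ := exists_sq_mul_eq h2 lam lam' hs hs'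
      have hcg : (c • g.val) * (c • g.val) = lam' • (1 : Matrix (Fin n) (Fin n) F) := by
        rw [Matrix.smul_mul, Matrix.mul_smul, hlam, smul_smul, smul_smul, ← hc]
      obtain ⟨P, hP⟩ := exists_GL_conj_of_nonsquare _ _ lam' hcg hlam' hs'
      apply isConj_mk g h P c⁻¹ (inv_ne_zero hc0)
      rw [Matrix.mul_smul] at hP
      rw [← hP, smul_smul, inv_mul_cancel₀ hc0, one_smul]

theorem kinv_eq_of_isConj (hn : 0 < n) (g h : GL (Fin n) F)
    (hc : IsConj (QuotientGroup.mk g : GL (Fin n) F ⧸ Subgroup.center (GL (Fin n) F))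
      (QuotientGroup.mk h)) : kinv g.val = kinv h.val := by
  rw [isConj_iff] at hc
  obtain ⟨c, hc⟩ := hc
  obtain ⟨P, rfl⟩ := QuotientGroup.mk_surjective c
  rw [← QuotientGroup.mk_inv, ← QuotientGroup.mk_mul, ← QuotientGroup.mk_mul, QuotientGroup.eq,
    mem_center_iff] at hc
  obtain ⟨z, hz⟩ := hc
  have hz0 : z ≠ 0 := by
    rintro rfl
    rw [zero_smul] at hz
    exact val_ne_zero_of_pos hn _ hz
  have h1 : h.val = z • (P.val * g.val * P⁻¹.val) := by
    have : h = (P * g * P⁻¹) * ((P * g * P⁻¹)⁻¹ * h) := by group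
    rw [this, Units.val_mul, hz, Matrix.mul_smul, Matrix.mul_one, Units.val_mul, Units.val_mul]
  rw [h1, kinv_smul _ _ hz0, kinv_conj]


/-- the GL element of a matrix squaring to a nonzero scalar -/
noncomputable def glOfSq (M : Matrix (Fin n) (Fin n) F) (lam : F) (hlam : lam ≠ 0)
    (hM : M * M = lam • (1 : Matrix (Fin n) (Fin n) F)) : GL (Fin n) F :=
  ⟨M, lam⁻¹ • M, by rw [Matrix.mul_smul, hM, smul_smul, inv_mul_cancel₀ hlam, one_smul],
    by rw [Matrix.smul_mul, hM, smul_smul, inv_mul_cancel₀ hlam, one_smul]⟩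

lemma isInvMat_of_kinv_pos (g : GL (Fin n) F) (lam : F)
    (hM : g.val * g.val = lam • (1 : Matrix (Fin n) (Fin n) F)) (hk : 0 < kinv g.val) :
    IsInvMat g := by
  refine ⟨⟨lam, hM⟩, ?_⟩
  rintro ⟨c, hc⟩
  rw [hc, kinv_scalar] at hk
  exact lt_irrefl _ hk

theorem exists_split (h2 : (2 : F) ≠ 0) (j : ℕ) (hj1 : 1 ≤ j) (hj2 : j ≤ n / 2) :
    ∃ g : GL (Fin n) F, IsInvMat g ∧ kinv g.val = j := by
  classical
  set w : Fin n → F := fun i => if i.val < j then -1 else 1 with hw
  have hDD : Matrix.diagonal w * Matrix.diagonal w = (1 : F) • (1 : Matrix (Fin n) (Fin n) F) := by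
    rw [Matrix.diagonal_mul_diagonal, one_smul, ← Matrix.diagonal_one]
    congr 1
    funext i
    simp only [hw]
    split_ifs <;> simp
  have hDD' : Matrix.diagonal w * Matrix.diagonal w = (1 : Matrix (Fin n) (Fin n) F) := by
    rw [hDD, one_smul]
  have hrank : (Matrix.diagonal w - 1).rank = j := by
    have h1 : Matrix.diagonal w - 1 = Matrix.diagonal (fun i : Fin n => w i - 1) := by
      rw [← Matrix.diagonal_one, Matrix.diagonal_sub]
    rw [h1, Matrix.rank_diagonal]
    have h3 : ∀ i : Fin n, (w i - 1 ≠ 0) ↔ i.val < j := by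
      intro i
      simp only [hw]
      split_ifs with h
      · simp only [h, iff_true]
        intro h0
        apply h2
        have : (2 : F) = -((-1 : F) - 1) := by ring
        rw [this, h0, neg_zero]
      · simp [h]
    rw [Fintype.card_congr (Equiv.subtypeEquivRight h3), Fintype.card_subtype]
    have : (Finset.univ.filter (fun i : Fin n => i.val < j)).card = j := by
      have hjn : j ≤ n := by omega
      rw [Fin.card_filter_val_lt]
      omega
    exact this
  refine ⟨glOfSq (Matrix.diagonal w) 1 one_ne_zero hDD, ?_, ?_⟩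
  · apply isInvMat_of_kinv_pos _ 1 hDD
    show 0 < kinv (Matrix.diagonal w)
    rw [kinv_of_sq_eq_one h2 _ hDD', hrank]
    omega
  · show kinv (Matrix.diagonal w) = j
    rw [kinv_of_sq_eq_one h2 _ hDD', hrank]
    omega


lemma two_block_sq (lam : F) :
    (!![0, 1; lam, 0] : Matrix (Fin 2) (Fin 2) F) * !![0, 1; lam, 0] =
      lam • (1 : Matrix (Fin 2) (Fin 2) F) := by
  ext i j
  fin_cases i <;> fin_cases j <;> simp [Matrix.mul_apply, Fin.sum_univ_two]

theorem exists_sq_eq_smul (hn : Even n) (lam : F) :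
    ∃ M : Matrix (Fin n) (Fin n) F, M * M = lam • (1 : Matrix (Fin n) (Fin n) F) := by
  classical
  obtain ⟨m, hm⟩ := hn
  have hcard : Fintype.card (Fin 2 × Fin m) = Fintype.card (Fin n) := by
    rw [Fintype.card_prod, Fintype.card_fin, Fintype.card_fin, Fintype.card_fin, hm]; ring
  let e : Fin 2 × Fin m ≃ Fin n := Fintype.equivOfCardEq hcard
  let B : Matrix (Fin 2 × Fin m) (Fin 2 × Fin m) F :=
    Matrix.blockDiagonal (fun _ : Fin m => (!![0, 1; lam, 0] : Matrix (Fin 2) (Fin 2) F))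
  have hB : B * B = lam • (1 : Matrix (Fin 2 × Fin m) (Fin 2 × Fin m) F) := by
    show Matrix.blockDiagonal _ * Matrix.blockDiagonal _ = _
    rw [← Matrix.blockDiagonal_mul]
    simp only [two_block_sq]
    rw [← Matrix.blockDiagonal_one, ← Matrix.blockDiagonal_smul]
    rfl
  refine ⟨Matrix.reindexAlgEquiv F F e B, ?_⟩
  rw [← map_mul, hB, map_smul, map_one]

end mat

end Cfsg.Agent.Helper42.PGLInv
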