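import Mathlib
import Cfsg.Agent.Lib.Helper42.PGLInv3

set_option autoImplicit false
set_option linter.unusedSectionVars false

/-!
# Involutions of `PGL_n(q)`: the count of classes
-/

namespace Cfsg.Agent.Helper42.PGLInv

open Module Matrix

section mat

variable {F : Type*} [Field F] [Fintype F] {n : ℕ}

theorem exists_nonsplit (h2 : (2 : F) ≠ 0) (hn : 0 < n) (he : Even n) :
    ∃ g : GL (Fin n) F, IsInvMat g ∧ kinv g.val = n := by
  have hchar : ringChar F ≠ 2 := by
    intro h
    apply h2
    have := ringChar.Nat.cast_ringChar (R := F)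
    rw [h] at this
    exact_mod_cast this
  obtain ⟨lam, hlam⟩ := FiniteField.exists_nonsquare hchar
  have hlam0 : lam ≠ 0 := by rintro rfl; exact hlam ⟨0, by simp⟩
  obtain ⟨M, hM⟩ := exists_sq_eq_smul (n := n) he lam
  have hk : kinv (glOfSq M lam hlam0 hM).val = n := kinv_of_nonsquare M lam hM hlam
  refine ⟨glOfSq M lam hlam0 hM, ?_, hk⟩
  apply isInvMat_of_kinv_pos _ lam hM
  rw [hk]; exact hn

/-- the set of values of the invariant -/
def invVals (n : ℕ) : Finset ℕ := Finset.Icc 1 (n / 2) ∪ (if Even n then {n} else ∅)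

lemma card_invVals (hn : 0 < n) : (invVals n).card = n / 2 + (if Even n then 1 else 0) := by
  unfold invVals
  rw [Finset.card_union_of_disjoint]
  · rw [Nat.card_Icc]
    split_ifs <;> simp
  · split_ifs
    · rw [Finset.disjoint_singleton_right, Finset.mem_Icc]
      omega
    · exact Finset.disjoint_empty_right _

lemma kinv_mem_invVals (h2 : (2 : F) ≠ 0) (hn : 0 < n) (g : GL (Fin n) F) (hg : IsInvMat g) :
    kinv g.val ∈ invVals n := by
  obtain ⟨⟨lam, hlam⟩, hns⟩ := hg
  unfold invVals
  by_cases hs : IsSquare lam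
  · obtain ⟨mu, -, -, -, h1, h3⟩ := split_norm h2 hn g hns lam hlam hs
    exact Finset.mem_union_left _ (Finset.mem_Icc.mpr ⟨h1, h3⟩)
  · have he := nonsplit_even hn g lam hlam hs
    rw [kinv_of_nonsquare g.val lam hlam hs, if_pos he]
    exact Finset.mem_union_right _ (Finset.mem_singleton_self _)

lemma exists_of_mem_invVals (h2 : (2 : F) ≠ 0) (hn : 0 < n) (j : ℕ) (hj : j ∈ invVals n) :
    ∃ g : GL (Fin n) F, IsInvMat g ∧ kinv g.val = j := by
  unfold invVals at hj
  rcases Finset.mem_union.mp hj with h | h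
  · rw [Finset.mem_Icc] at h
    exact exists_split h2 j h.1 h.2
  · split_ifs at h with he
    · rw [Finset.mem_singleton] at h
      subst h
      exact exists_nonsplit h2 hn he
    · simp at h

theorem card_involution_classes (h2 : (2 : F) ≠ 0) (hn : 0 < n) :
    Nat.card {C : ConjClasses (GL (Fin n) F ⧸ Subgroup.center (GL (Fin n) F)) //
      ∃ g : GL (Fin n) F ⧸ Subgroup.center (GL (Fin n) F), ConjClasses.mk g = C ∧ orderOf g = 2}
      = n / 2 + (if Even n then 1 else 0) := by
  classical
  rw [← card_invVals hn]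
  -- choose lifts
  have hlift : ∀ C : {C : ConjClasses (GL (Fin n) F ⧸ Subgroup.center (GL (Fin n) F)) //
      ∃ g : GL (Fin n) F ⧸ Subgroup.center (GL (Fin n) F), ConjClasses.mk g = C ∧ orderOf g = 2},
      ∃ g : GL (Fin n) F, ConjClasses.mk (QuotientGroup.mk g :
        GL (Fin n) F ⧸ Subgroup.center (GL (Fin n) F)) = C.1 ∧ IsInvMat g := by
    rintro ⟨C, g, hgC, hg2⟩
    obtain ⟨g', rfl⟩ := QuotientGroup.mk_surjective g
    exact ⟨g', hgC, (orderOf_mk_eq_two_iff g').mp hg2⟩
  choose rep hrep1 hrep2 using hlift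
  have hmem : ∀ C, kinv (rep C).val ∈ invVals n := fun C => kinv_mem_invVals h2 hn _ (hrep2 C)
  have hbij : Function.Bijective (fun C => (⟨kinv (rep C).val, hmem C⟩ : invVals n)) := by
    constructor
    · intro C C' h
      have h1 : kinv (rep C).val = kinv (rep C').val := congrArg Subtype.val h
      have := isConj_of_kinv_eq h2 hn _ _ (hrep2 C) (hrep2 C') h1
      apply Subtype.ext
      rw [← hrep1 C, ← hrep1 C']
      exact ConjClasses.mk_eq_mk_iff_isConj.mpr this
    · rintro ⟨j, hj⟩
      obtain ⟨g, hg, hgj⟩ := exists_of_mem_invVals h2 hn j hj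
      refine ⟨⟨ConjClasses.mk (QuotientGroup.mk g), QuotientGroup.mk g, rfl,
        (orderOf_mk_eq_two_iff g).mpr hg⟩, ?_⟩
      apply Subtype.ext
      show kinv (rep _).val = j
      rw [← hgj]
      apply kinv_eq_of_isConj hn
      exact ConjClasses.mk_eq_mk_iff_isConj.mp (hrep1 _)
  rw [Nat.card_eq_of_bijective _ hbij, Nat.card_eq_fintype_card, Fintype.card_coe]

end mat

end Cfsg.Agent.Helper42.PGLInv
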