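import Mathlib

set_option autoImplicit false
set_option linter.unusedSectionVars false

namespace Cfsg.Agent.Helper42.PGLr

universe u

section field

variable {F : Type u} [Field F] [Fintype F]

/-- the data: a generator `γ` of the unit group, `k = (q-1)/r` -/
structure KData (F : Type u) [Field F] [Fintype F] (r : ℕ) where
  γ : Fˣ
  k : ℕ
  hgen : ∀ x : Fˣ, ∃ j : ℕ, x = γ ^ j
  hord : orderOf γ = r * k
  hr : r.Prime

lemma exists_kdata (r : ℕ) (hr : r.Prime) (hrq : r ∣ Fintype.card F - 1) : Nonempty (KData F r) := by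
  obtain ⟨g, hg⟩ := IsCyclic.exists_generator (α := Fˣ)
  obtain ⟨k, hk⟩ := hrq
  have hcard : Nat.card Fˣ = Fintype.card F - 1 := by
    rw [Nat.card_units, Nat.card_eq_fintype_card]
  refine ⟨⟨g, k, ?_, ?_, hr⟩⟩
  · intro x
    have := hg x
    rw [← mem_powers_iff_mem_zpowers] at this
    obtain ⟨j, hj⟩ := this
    exact ⟨j, hj.symm⟩
  · rw [orderOf_eq_card_of_forall_mem_zpowers hg, hcard, hk]

variable {r : ℕ} (D : KData F r)

lemma KData.kpos : 0 < D.k := by
  rcases Nat.eq_zero_or_pos D.k with h | h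
  · have h1 := D.hord
    rw [h, mul_zero] at h1
    have := orderOf_pos D.γ
    omega
  · exact h

/-- the primitive root -/
def KData.ζ : Fˣ := D.γ ^ D.k

lemma KData.orderOf_ζ : orderOf D.ζ = r := by
  unfold KData.ζ
  rw [orderOf_pow_of_dvd D.kpos.ne' (by rw [D.hord]; exact dvd_mul_left _ _), D.hord,
    Nat.mul_div_cancel _ D.kpos]

lemma KData.ζ_pow : D.ζ ^ r = 1 := by
  have := pow_orderOf_eq_one D.ζ
  rwa [D.orderOf_ζ] at this

/-- the root attached to `a : ZMod r` -/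
def KData.root (a : ZMod r) : Fˣ := D.ζ ^ a.val

lemma KData.root_add (a b : ZMod r) : D.root (a + b) = D.root a * D.root b := by
  have : NeZero r := ⟨D.hr.pos.ne'⟩
  unfold KData.root
  rw [← pow_add, ZMod.val_add]
  rw [← Nat.mod_add_div (a.val + b.val) r, pow_add, pow_mul, D.ζ_pow, one_pow, mul_one,
    Nat.add_mul_mod_self_left, Nat.mod_mod]

lemma KData.root_zero : D.root 0 = 1 := by
  unfold KData.root
  rw [ZMod.val_zero, pow_zero]

lemma KData.root_pow (a : ZMod r) : D.root a ^ r = 1 := by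
  unfold KData.root
  rw [← pow_mul, mul_comm, pow_mul, D.ζ_pow, one_pow]

lemma KData.root_injective : Function.Injective D.root := by
  have : NeZero r := ⟨D.hr.pos.ne'⟩
  intro a b hab
  unfold KData.root at hab
  have h1 := (pow_eq_pow_iff_modEq).mp hab
  rw [D.orderOf_ζ] at h1
  have h2 : (a.val : ZMod r) = (b.val : ZMod r) := (ZMod.natCast_eq_natCast_iff _ _ _).mpr h1
  rwa [ZMod.natCast_zmod_val, ZMod.natCast_zmod_val] at h2

lemma KData.exists_root_of_pow (z : Fˣ) (hz : z ^ r = 1) : ∃ b : ZMod r, z = D.root b := by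
  have : NeZero r := ⟨D.hr.pos.ne'⟩
  obtain ⟨j, hj⟩ := D.hgen z
  rw [hj, ← pow_mul] at hz
  have h1 : orderOf D.γ ∣ j * r := orderOf_dvd_of_pow_eq_one hz
  rw [D.hord, mul_comm] at h1
  have h2 : D.k ∣ j := Nat.dvd_of_mul_dvd_mul_right D.hr.pos h1
  obtain ⟨i, hi⟩ := h2
  refine ⟨(i : ZMod r), ?_⟩
  unfold KData.root KData.ζ
  rw [hj, hi, pow_mul, ZMod.val_natCast]
  rw [← Nat.mod_add_div i r]
  rw [pow_add, pow_mul]
  have : (D.γ ^ D.k) ^ r = 1 := D.ζ_pow
  rw [this, one_pow, mul_one, Nat.add_mul_mod_self_left, Nat.mod_mod]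

/-- the character value -/
lemma KData.exists_char (lam : Fˣ) : ∃ a : ZMod r, lam ^ D.k = D.root a := by
  apply D.exists_root_of_pow
  rw [← pow_mul, mul_comm, ← D.hord]
  obtain ⟨j, hj⟩ := D.hgen lam
  rw [hj, ← pow_mul, mul_comm, pow_mul, pow_orderOf_eq_one, one_pow]

lemma KData.pow_k_eq_one_iff (lam : Fˣ) : lam ^ D.k = 1 ↔ ∃ c : Fˣ, c ^ r = lam := by
  constructor
  · intro h
    obtain ⟨j, hj⟩ := D.hgen lam
    rw [hj, ← pow_mul] at h
    have h1 : orderOf D.γ ∣ j * D.k := orderOf_dvd_of_pow_eq_one h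
    rw [D.hord] at h1
    have h2 : r ∣ j := Nat.dvd_of_mul_dvd_mul_right D.kpos h1
    obtain ⟨i, hi⟩ := h2
    exact ⟨D.γ ^ i, by rw [hj, hi, ← pow_mul, mul_comm]⟩
  · rintro ⟨c, rfl⟩
    rw [← pow_mul, ← D.hord]
    obtain ⟨j, hj⟩ := D.hgen c
    rw [hj, ← pow_mul, mul_comm, pow_mul, pow_orderOf_eq_one, one_pow]

lemma KData.exists_pow_mul_eq (lam lam' : Fˣ) (h : lam ^ D.k = lam' ^ D.k) :
    ∃ c : Fˣ, c ^ r * lam = lam' := by
  have h1 : (lam' * lam⁻¹) ^ D.k = 1 := by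
    rw [mul_pow, inv_pow, ← h, mul_inv_cancel]
  obtain ⟨c, hc⟩ := (D.pow_k_eq_one_iff _).mp h1
  exact ⟨c, by rw [hc, inv_mul_cancel_right]⟩

lemma KData.char_root (a : ZMod r) : (D.γ ^ a.val) ^ D.k = D.root a := by
  unfold KData.root KData.ζ
  rw [← pow_mul, ← pow_mul, mul_comm]

lemma KData.root_eq_one_iff (a : ZMod r) : D.root a = 1 ↔ a = 0 := by
  rw [← D.root_zero]
  exact D.root_injective.eq_iff

end field

end Cfsg.Agent.Helper42.PGLr
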