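import Mathlib
import Cfsg.Agent.Lib.Helper42.PGLr1
import Cfsg.Agent.Lib.Helper42.SemiConj5

set_option autoImplicit false
set_option linter.unusedSectionVars false

namespace Cfsg.Agent.Helper42.PGLr

open Polynomial Module Matrix
open Cfsg.Agent.Helper42.SemiConj

universe u

section mat

variable {F : Type u} [Field F] [Fintype F] {r : ℕ} [NeZero r] (D : KData F r) {n : ℕ}

/-- the linear factor attached to `a` -/
noncomputable def fac (a : ZMod r) : F[X] := X - C ((D.root a : Fˣ) : F)

lemma fac_injective : Function.Injective (fac D) := by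
  intro a b hab
  unfold fac at hab
  have h1 : C ((D.root a : Fˣ) : F) = C ((D.root b : Fˣ) : F) := by
    have := sub_right_injective hab
    exact this
  exact D.root_injective (Units.ext (C_injective h1))

/-- the set of factors of `X ^ r - 1` -/
noncomputable def facSet : Finset F[X] := by
  classical
  exact Finset.univ.image (fac D)

lemma mem_facSet (f : F[X]) : f ∈ facSet D ↔ ∃ a, fac D a = f := by
  classical
  unfold facSet
  simp

lemma facSet_irr (f : F[X]) (hf : f ∈ facSet D) : Irreducible f := by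
  obtain ⟨a, rfl⟩ := (mem_facSet D f).mp hf
  exact irreducible_X_sub_C _

lemma facSet_coprime : ((facSet D : Finset F[X]) : Set F[X]).Pairwise IsCoprime := by
  intro f hf g hg hfg
  obtain ⟨a, rfl⟩ := (mem_facSet D f).mp (Finset.mem_coe.mp hf)
  obtain ⟨b, rfl⟩ := (mem_facSet D g).mp (Finset.mem_coe.mp hg)
  have hinj : Function.Injective (fun a : ZMod r => ((D.root a : Fˣ) : F)) := fun x y hxy =>
    D.root_injective (Units.ext hxy)
  exact pairwise_coprime_X_sub_C hinj (fun h => hfg (by rw [h]))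

lemma isPrimitiveRoot_ζ : IsPrimitiveRoot ((D.ζ : Fˣ) : F) r := by
  rw [IsPrimitiveRoot.coe_units_iff]
  have := IsPrimitiveRoot.orderOf D.ζ
  rwa [D.orderOf_ζ] at this

lemma facSet_prod : ∏ f ∈ facSet D, f = X ^ r - 1 := by
  classical
  have hrpos : 0 < r := Nat.pos_of_ne_zero (NeZero.ne r)
  unfold facSet
  rw [Finset.prod_image (fun a _ b _ h => fac_injective D h)]
  rw [X_pow_sub_one_eq_prod hrpos (isPrimitiveRoot_ζ D)]
  have hinj : Function.Injective (fun a : ZMod r => ((D.root a : Fˣ) : F)) := fun x y hxy =>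
    D.root_injective (Units.ext hxy)
  have himg : Finset.univ.image (fun a : ZMod r => ((D.root a : Fˣ) : F)) = nthRootsFinset r (1 : F) := by
    apply Finset.eq_of_subset_of_card_le
    · intro x hx
      obtain ⟨a, -, rfl⟩ := Finset.mem_image.mp hx
      rw [mem_nthRootsFinset hrpos]
      rw [← Units.val_pow_eq_pow_val, D.root_pow, Units.val_one]
    · rw [(isPrimitiveRoot_ζ D).card_nthRootsFinset, Finset.card_image_of_injective _ hinj,
        Finset.card_univ, ZMod.card]
  rw [← himg, Finset.prod_image (fun a _ b _ h => hinj h)]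
  rfl

/-- the eigenvalue multiplicity vector -/
noncomputable def eA (A : Matrix (Fin n) (Fin n) F) : ZMod r → ℕ := fun a => kd A (fac D a)

lemma aeval_facSet_iff (A : Matrix (Fin n) (Fin n) F) :
    aeval A (∏ f ∈ facSet D, f) = 0 ↔ A ^ r = 1 := by
  rw [facSet_prod, aeval_pow_sub_one, sub_eq_zero]

lemma sum_eA (A : Matrix (Fin n) (Fin n) F) (hA : A ^ r = 1) : ∑ a, eA D A a = n := by
  classical
  have := sum_kd (facSet D) (facSet_coprime D) A ((aeval_facSet_iff D A).mpr hA)
  unfold facSet at this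
  rw [Finset.sum_image (fun a _ b _ h => fac_injective D h)] at this
  exact this

theorem exists_GL_conj_of_eA_eq (A B : Matrix (Fin n) (Fin n) F) (hA : A ^ r = 1) (hB : B ^ r = 1)
    (h : eA D A = eA D B) : ∃ P : GL (Fin n) F, P.val * A = B * P.val := by
  apply exists_GL_conj_of_kd_eq (facSet D) (facSet_irr D) (facSet_coprime D) A B
    ((aeval_facSet_iff D A).mpr hA) ((aeval_facSet_iff D B).mpr hB)
  intro f hf
  obtain ⟨a, rfl⟩ := (mem_facSet D f).mp hf
  exact congrFun h a

lemma eA_eq_of_conj (A B : Matrix (Fin n) (Fin n) F) (P : GL (Fin n) F)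
    (hP : P.val * A = B * P.val) : eA D A = eA D B := by
  funext a
  exact kd_eq_of_conj A B P hP _

lemma natDegree_fac (a : ZMod r) : (fac D a).natDegree = 1 := natDegree_X_sub_C _

theorem exists_matrix_of_eA (e : ZMod r → ℕ) (he : ∑ a, e a = n) :
    ∃ A : Matrix (Fin n) (Fin n) F, A ^ r = 1 ∧ eA D A = e := by
  classical
  let m : F[X] → ℕ := fun f => if h : ∃ a, fac D a = f then e h.choose else 0
  have hm : ∀ a, m (fac D a) = e a := by
    intro a
    have h : ∃ b, fac D b = fac D a := ⟨a, rfl⟩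
    simp only [m, dif_pos h]
    congr 1
    exact fac_injective D h.choose_spec
  have hsum : ∑ f ∈ facSet D, f.natDegree * m f = n := by
    unfold facSet
    rw [Finset.sum_image (fun a _ b _ h => fac_injective D h), ← he]
    apply Finset.sum_congr rfl
    intro a _
    rw [natDegree_fac, one_mul, hm]
  obtain ⟨A, hA0, hAk⟩ := exists_matrix_of_kd (facSet D) (facSet_irr D) (facSet_coprime D) m hsum
  refine ⟨A, (aeval_facSet_iff D A).mp hA0, ?_⟩
  funext a
  show kd A (fac D a) = e a
  rw [hAk _ ((mem_facSet D _).mpr ⟨a, rfl⟩), natDegree_fac, one_mul, hm]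

lemma kd_X_sub_C (A : Matrix (Fin n) (Fin n) F) (c : F) :
    kd A (X - C c) = finrank F (LinearMap.ker (Matrix.toLin' A - c • (1 : Module.End F (Fin n → F)))) := by
  unfold kd
  rw [map_sub, aeval_X, aeval_C, Algebra.algebraMap_eq_smul_one]

lemma kd_smul (A : Matrix (Fin n) (Fin n) F) (z c : F) (hz : z ≠ 0) :
    kd (z • A) (X - C (z * c)) = kd A (X - C c) := by
  rw [kd_X_sub_C, kd_X_sub_C]
  have : Matrix.toLin' (z • A) - (z * c) • (1 : Module.End F (Fin n → F)) =
      z • (Matrix.toLin' A - c • (1 : Module.End F (Fin n → F))) := by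
    rw [map_smul, smul_sub, smul_smul]
  rw [this, LinearMap.ker_smul _ _ hz]

lemma eA_smul_root (A : Matrix (Fin n) (Fin n) F) (b a : ZMod r) :
    eA D (((D.root b : Fˣ) : F) • A) a = eA D A (a - b) := by
  unfold eA fac
  have h1 : ((D.root a : Fˣ) : F) = ((D.root b : Fˣ) : F) * ((D.root (a - b) : Fˣ) : F) := by
    rw [← Units.val_mul, ← D.root_add, add_sub_cancel]
  rw [h1, kd_smul _ _ _ (Units.ne_zero _)]

lemma eA_scalar (a : ZMod r) :
    eA D (((D.root a : Fˣ) : F) • (1 : Matrix (Fin n) (Fin n) F)) a = n := by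
  unfold eA fac
  rw [kd_X_sub_C, map_smul, Matrix.toLin'_one]
  have : ((D.root a : Fˣ) : F) • (LinearMap.id : (Fin n → F) →ₗ[F] (Fin n → F)) -
      ((D.root a : Fˣ) : F) • (1 : Module.End F (Fin n → F)) = 0 := sub_self _
  rw [this, LinearMap.ker_zero, finrank_top, Module.finrank_fin_fun]

lemma eq_scalar_of_eA (A : Matrix (Fin n) (Fin n) F) (a : ZMod r) (h : eA D A a = n) :
    A = ((D.root a : Fˣ) : F) • (1 : Matrix (Fin n) (Fin n) F) := by
  unfold eA fac at h
  rw [kd_X_sub_C] at h
  have h1 : LinearMap.ker (Matrix.toLin' A - ((D.root a : Fˣ) : F) • (1 : Module.End F (Fin n → F))) = ⊤ := by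
    apply Submodule.eq_top_of_finrank_eq
    rw [h, Module.finrank_fin_fun]
  rw [LinearMap.ker_eq_top, sub_eq_zero] at h1
  apply Matrix.toLin'.injective
  rw [h1, map_smul, Matrix.toLin'_one]
  rfl

end mat

end Cfsg.Agent.Helper42.PGLr
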