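import Mathlib
import Cfsg.Agent.Lib.Helper42.PGLr2
import Cfsg.Agent.Lib.Helper42.PGLInv3

set_option autoImplicit false
set_option linter.unusedSectionVars false

namespace Cfsg.Agent.Helper42.PGLr

open Polynomial Module Matrix
open Cfsg.Agent.Helper42.SemiConj
open Cfsg.Agent.Helper42.PGLInv (mem_center_iff isConj_mk val_ne_zero_of_pos)

universe u

section pgl

variable {F : Type u} [Field F] [Fintype F] {r : ℕ} [NeZero r] (D : KData F r) {n : ℕ}

/-- the matrix-level description of an element of order `r` of `PGL` -/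
def IsOrdMat (r : ℕ) (g : GL (Fin n) F) : Prop :=
  (∃ lam : F, g.val ^ r = lam • (1 : Matrix (Fin n) (Fin n) F)) ∧
    ¬ ∃ c : F, g.val = c • (1 : Matrix (Fin n) (Fin n) F)

lemma orderOf_mk_eq_iff (hr : r.Prime) (g : GL (Fin n) F) :
    orderOf (QuotientGroup.mk g : GL (Fin n) F ⧸ Subgroup.center (GL (Fin n) F)) = r ↔
      IsOrdMat r g := by
  have : Fact (Nat.Prime r) := ⟨hr⟩
  rw [orderOf_eq_prime_iff, ← QuotientGroup.mk_pow, QuotientGroup.eq_one_iff, Ne,
    QuotientGroup.eq_one_iff, mem_center_iff, mem_center_iff, Units.val_pow_eq_pow_val]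
  rfl

lemma exists_of_isConj_mk (hn : 0 < n) (g h : GL (Fin n) F)
    (hc : IsConj (QuotientGroup.mk g : GL (Fin n) F ⧸ Subgroup.center (GL (Fin n) F))
      (QuotientGroup.mk h)) :
    ∃ (P : GL (Fin n) F) (z : F), z ≠ 0 ∧ h.val = z • (P.val * g.val * P⁻¹.val) := by
  rw [isConj_iff] at hc
  obtain ⟨c, hc⟩ := hc
  obtain ⟨P, rfl⟩ := QuotientGroup.mk_surjective c
  rw [← QuotientGroup.mk_inv, ← QuotientGroup.mk_mul, ← QuotientGroup.mk_mul, QuotientGroup.eq,
    mem_center_iff] at hc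
  obtain ⟨z, hz⟩ := hc
  have hz0 : z ≠ 0 := by
    rintro rfl
    rw [zero_smul] at hz
    exact val_ne_zero_of_pos hn _ hz
  refine ⟨P, z, hz0, ?_⟩
  have : h = (P * g * P⁻¹) * ((P * g * P⁻¹)⁻¹ * h) := by group
  rw [this, Units.val_mul, hz, Matrix.mul_smul, Matrix.mul_one, Units.val_mul, Units.val_mul]

lemma smul_one_eq_one_iff (hn : 0 < n) (c : F) :
    c • (1 : Matrix (Fin n) (Fin n) F) = 1 ↔ c = 1 := by
  constructor
  · intro h
    have := congrFun (congrFun h ⟨0, hn⟩) ⟨0, hn⟩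
    simpa using this
  · rintro rfl; rw [one_smul]

lemma smul_one_injective (hn : 0 < n) (c d : F)
    (h : c • (1 : Matrix (Fin n) (Fin n) F) = d • 1) : c = d := by
  have := congrFun (congrFun h ⟨0, hn⟩) ⟨0, hn⟩
  simpa using this

lemma smul_pow' (z : F) (A : Matrix (Fin n) (Fin n) F) (k : ℕ) : (z • A) ^ k = z ^ k • A ^ k :=
  _root_.smul_pow z A k

/-- a nonzero field element with `r`-th power one is a `root` -/
lemma exists_root_eq (z : F) (hz : z ^ r = 1) : ∃ b : ZMod r, z = ((D.root b : Fˣ) : F) := by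
  have hrpos : 0 < r := Nat.pos_of_ne_zero (NeZero.ne r)
  have hz0 : z ≠ 0 := by
    rintro rfl
    rw [zero_pow hrpos.ne'] at hz
    exact zero_ne_one hz
  obtain ⟨b, hb⟩ := D.exists_root_of_pow (Units.mk0 z hz0) (Units.ext (by simpa using hz))
  exact ⟨b, by rw [← hb]; rfl⟩

/-- matrices of `r`-th power one: non-scalar iff all multiplicities are `< n` -/
lemma eA_lt_of_not_scalar (A : Matrix (Fin n) (Fin n) F) (hA : A ^ r = 1)
    (hns : ¬ ∃ c : F, A = c • (1 : Matrix (Fin n) (Fin n) F)) (a : ZMod r) : eA D A a < n := by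
  have h1 : eA D A a ≤ n := by
    have h0 := sum_eA D A hA
    have h2 : eA D A a ≤ ∑ a, eA D A a :=
      Finset.single_le_sum (f := eA D A) (fun _ _ => Nat.zero_le _) (Finset.mem_univ a)
    omega
  rcases Nat.lt_or_ge (eA D A a) n with h | h
  · exact h
  · exact absurd ⟨_, eq_scalar_of_eA D A a (le_antisymm h1 h)⟩ hns

lemma not_scalar_of_eA_lt (hn : 0 < n) (A : Matrix (Fin n) (Fin n) F) (hA : A ^ r = 1)
    (h : ∀ a, eA D A a < n) : ¬ ∃ c : F, A = c • (1 : Matrix (Fin n) (Fin n) F) := by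
  rintro ⟨c, rfl⟩
  rw [smul_pow', one_pow, smul_one_eq_one_iff hn] at hA
  obtain ⟨b, rfl⟩ := exists_root_eq D c hA
  have := h b
  rw [eA_scalar] at this
  exact lt_irrefl _ this

/-- two matrices of `r`-th power one give conjugate elements of `PGL` iff the multiplicity
vectors are translates of one another -/
theorem isConj_mk_of_translate (g h : GL (Fin n) F) (hg : g.val ^ r = 1) (hh : h.val ^ r = 1)
    (b : ZMod r) (hb : ∀ a, eA D h.val a = eA D g.val (a - b)) :
    IsConj (QuotientGroup.mk g : GL (Fin n) F ⧸ Subgroup.center (GL (Fin n) F))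
      (QuotientGroup.mk h) := by
  set z : F := ((D.root b : Fˣ) : F) with hz
  have hz0 : z ≠ 0 := Units.ne_zero _
  have hzr : z ^ r = 1 := by
    rw [hz, ← Units.val_pow_eq_pow_val, D.root_pow, Units.val_one]
  have h1 : (z • g.val) ^ r = 1 := by rw [smul_pow', hzr, hg, one_smul]
  have h2 : eA D (z • g.val) = eA D h.val := by
    funext a
    rw [eA_smul_root, hb]
  obtain ⟨P, hP⟩ := exists_GL_conj_of_eA_eq D _ _ h1 hh h2
  apply isConj_mk g h P z⁻¹ (inv_ne_zero hz0)
  rw [Matrix.mul_smul] at hP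
  rw [← hP, smul_smul, inv_mul_cancel₀ hz0, one_smul]

theorem exists_translate_of_isConj_mk (hn : 0 < n) (g h : GL (Fin n) F) (hg : g.val ^ r = 1)
    (hh : h.val ^ r = 1)
    (hc : IsConj (QuotientGroup.mk g : GL (Fin n) F ⧸ Subgroup.center (GL (Fin n) F))
      (QuotientGroup.mk h)) :
    ∃ b : ZMod r, ∀ a, eA D h.val a = eA D g.val (a - b) := by
  obtain ⟨P, z, hz0, hP⟩ := exists_of_isConj_mk hn g h hc
  have hconj : (P.val * g.val * P⁻¹.val) ^ r = 1 := by
    have : P.val * g.val * P⁻¹.val = (P * g * P⁻¹ : GL (Fin n) F).val := by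
      rw [Units.val_mul, Units.val_mul]
    rw [this, ← Units.val_pow_eq_pow_val, conj_pow, Units.val_mul, Units.val_mul,
      Units.val_pow_eq_pow_val, hg, Matrix.mul_one, ← Units.val_mul, mul_inv_cancel, Units.val_one]
  have hzr : z ^ r = 1 := by
    have := hh
    rw [hP, smul_pow', hconj] at this
    exact (smul_one_eq_one_iff hn _).mp this
  obtain ⟨b, hb⟩ := exists_root_eq D z hzr
  refine ⟨b, fun a => ?_⟩
  rw [hP, hb, eA_smul_root]
  have hPc : P.val * g.val = (P.val * g.val * P⁻¹.val) * P.val := by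
    rw [Matrix.mul_assoc (P.val * g.val), ← Units.val_mul P⁻¹, inv_mul_cancel, Units.val_one, Matrix.mul_one]
  exact (congrFun (eA_eq_of_conj D _ _ P hPc) (a - b)).symm

end pgl

end Cfsg.Agent.Helper42.PGLr
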