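import Mathlib
import Cfsg.Agent.Lib.Helper42.PGLr3

set_option autoImplicit false
set_option linter.unusedSectionVars false

namespace Cfsg.Agent.Helper42.PGLr

open Polynomial Module Matrix
open Cfsg.Agent.Helper42.SemiConj
open Cfsg.Agent.Helper42.PGLInv (mem_center_iff isConj_mk val_ne_zero_of_pos scalarGL scalarGL_mem_center)

universe u

section nonsplit

variable {F : Type u} [Field F] [Fintype F] {r : ℕ} [NeZero r] (D : KData F r) {n : ℕ}

lemma orderOf_eq_of_isConj' {G : Type*} [Group G] {a b : G} (h : IsConj a b) :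
    orderOf a = orderOf b := by
  obtain ⟨c, hc⟩ := h
  exact hc.orderOf_eq

lemma pow_rk_eq_one (z : Fˣ) : z ^ (r * D.k) = 1 := by
  obtain ⟨j, hj⟩ := D.hgen z
  rw [hj, ← pow_mul, mul_comm, pow_mul, ← D.hord, pow_orderOf_eq_one, one_pow]

/-- the `r`-th power scalar of conjugate elements of `PGL` has the same character value -/
theorem char_eq_of_isConj (hn : 0 < n) (g h : GL (Fin n) F) (lam lam' : Fˣ)
    (hg : g.val ^ r = (lam : F) • (1 : Matrix (Fin n) (Fin n) F))
    (hh : h.val ^ r = (lam' : F) • (1 : Matrix (Fin n) (Fin n) F))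
    (hc : IsConj (QuotientGroup.mk g : GL (Fin n) F ⧸ Subgroup.center (GL (Fin n) F))
      (QuotientGroup.mk h)) : lam ^ D.k = lam' ^ D.k := by
  obtain ⟨P, z, hz0, hP⟩ := exists_of_isConj_mk hn g h hc
  have hconj : (P.val * g.val * P⁻¹.val) ^ r = (lam : F) • (1 : Matrix (Fin n) (Fin n) F) := by
    have : P.val * g.val * P⁻¹.val = (P * g * P⁻¹ : GL (Fin n) F).val := by
      rw [Units.val_mul, Units.val_mul]
    rw [this, ← Units.val_pow_eq_pow_val, conj_pow, Units.val_mul, Units.val_mul,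
      Units.val_pow_eq_pow_val, hg, Matrix.mul_smul, Matrix.mul_one, Matrix.smul_mul,
      ← Units.val_mul, mul_inv_cancel, Units.val_one]
  have h1 : (lam' : F) = z ^ r * (lam : F) := by
    have := hh
    rw [hP, smul_pow', hconj, smul_smul] at this
    exact (smul_one_injective hn _ _ this).symm
  have h2 : lam' = (Units.mk0 z hz0) ^ r * lam := Units.ext (by simpa using h1)
  rw [h2, mul_pow, ← pow_mul, pow_rk_eq_one, one_mul]

lemma not_pow_of_char_ne (lam : Fˣ) (h : lam ^ D.k ≠ 1) : ∀ b : F, b ^ r ≠ (lam : F) := by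
  intro b hb
  have hrpos : 0 < r := Nat.pos_of_ne_zero (NeZero.ne r)
  have hb0 : b ≠ 0 := by
    rintro rfl
    rw [zero_pow hrpos.ne'] at hb
    exact lam.ne_zero hb.symm
  apply h
  rw [D.pow_k_eq_one_iff]
  exact ⟨Units.mk0 b hb0, Units.ext (by simpa using hb)⟩

lemma aeval_X_pow_sub_C (A : Matrix (Fin n) (Fin n) F) (lam : F) :
    aeval A (X ^ r - C lam : F[X]) = A ^ r - lam • (1 : Matrix (Fin n) (Fin n) F) := by
  rw [map_sub, map_pow, aeval_X, aeval_C, Algebra.algebraMap_eq_smul_one]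

/-- nonsplit elements with the same character value are conjugate -/
theorem isConj_of_char_eq (g h : GL (Fin n) F) (lam lam' : Fˣ)
    (hg : g.val ^ r = (lam : F) • (1 : Matrix (Fin n) (Fin n) F))
    (hh : h.val ^ r = (lam' : F) • (1 : Matrix (Fin n) (Fin n) F))
    (hk : lam ^ D.k = lam' ^ D.k) (hns : lam' ^ D.k ≠ 1) :
    IsConj (QuotientGroup.mk g : GL (Fin n) F ⧸ Subgroup.center (GL (Fin n) F))
      (QuotientGroup.mk h) := by
  classical
  obtain ⟨c, hc⟩ := D.exists_pow_mul_eq lam lam' hk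
  have hirr : Irreducible (X ^ r - C (lam' : F) : F[X]) :=
    X_pow_sub_C_irreducible_of_prime D.hr (not_pow_of_char_ne D lam' hns)
  have hcg : ((c : F) • g.val) ^ r = (lam' : F) • (1 : Matrix (Fin n) (Fin n) F) := by
    rw [smul_pow', hg, smul_smul, ← hc]
    simp
  let S : Finset F[X] := {X ^ r - C (lam' : F)}
  have hSirr : ∀ f ∈ S, Irreducible f := by
    intro f hf
    rw [Finset.mem_singleton.mp hf]; exact hirr
  have hScop : (S : Set F[X]).Pairwise IsCoprime := by
    intro f hf g' hg' hfg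
    rw [Finset.mem_coe, Finset.mem_singleton] at hf hg'
    exact absurd (hf.trans hg'.symm) hfg
  have hA : aeval ((c : F) • g.val) (∏ f ∈ S, f) = 0 := by
    rw [Finset.prod_singleton, aeval_X_pow_sub_C, hcg, sub_self]
  have hB : aeval h.val (∏ f ∈ S, f) = 0 := by
    rw [Finset.prod_singleton, aeval_X_pow_sub_C, hh, sub_self]
  have hkd : ∀ f ∈ S, kd ((c : F) • g.val) f = kd h.val f := by
    intro f hf
    have h1 := sum_kd S hScop _ hA
    have h2 := sum_kd S hScop _ hB
    rw [Finset.sum_singleton] at h1 h2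
    rw [Finset.mem_singleton.mp hf, h1, h2]
  obtain ⟨P, hP⟩ := exists_GL_conj_of_kd_eq S hSirr hScop _ _ hA hB hkd
  apply isConj_mk g h P (c : F)⁻¹ (inv_ne_zero c.ne_zero)
  rw [Matrix.mul_smul] at hP
  rw [← hP, smul_smul, inv_mul_cancel₀ c.ne_zero, one_smul]

/-- nonsplit elements force `r ∣ n` -/
theorem dvd_of_nonsplit (g : GL (Fin n) F) (lam : Fˣ)
    (hg : g.val ^ r = (lam : F) • (1 : Matrix (Fin n) (Fin n) F)) (hns : lam ^ D.k ≠ 1) : r ∣ n := by
  classical
  have hirr : Irreducible (X ^ r - C (lam : F) : F[X]) :=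
    X_pow_sub_C_irreducible_of_prime D.hr (not_pow_of_char_ne D lam hns)
  let S : Finset F[X] := {X ^ r - C (lam : F)}
  have hScop : (S : Set F[X]).Pairwise IsCoprime := by
    intro f hf g' hg' hfg
    rw [Finset.mem_coe, Finset.mem_singleton] at hf hg'
    exact absurd (hf.trans hg'.symm) hfg
  have hA : aeval g.val (∏ f ∈ S, f) = 0 := by
    rw [Finset.prod_singleton, aeval_X_pow_sub_C, hg, sub_self]
  have h1 := sum_kd S hScop _ hA
  rw [Finset.sum_singleton] at h1
  have h2 := natDegree_dvd_kd g.val _ hirr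
  rw [h1, natDegree_X_pow_sub_C] at h2
  exact h2

/-- existence of nonsplit elements -/
theorem exists_nonsplit (hrn : r ∣ n) (lam : Fˣ) (hns : lam ^ D.k ≠ 1) :
    ∃ g : GL (Fin n) F, g.val ^ r = (lam : F) • (1 : Matrix (Fin n) (Fin n) F) := by
  classical
  have hrpos : 0 < r := Nat.pos_of_ne_zero (NeZero.ne r)
  have hirr : Irreducible (X ^ r - C (lam : F) : F[X]) :=
    X_pow_sub_C_irreducible_of_prime D.hr (not_pow_of_char_ne D lam hns)
  let S : Finset F[X] := {X ^ r - C (lam : F)}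
  have hSirr : ∀ f ∈ S, Irreducible f := by
    intro f hf
    rw [Finset.mem_singleton.mp hf]; exact hirr
  have hScop : (S : Set F[X]).Pairwise IsCoprime := by
    intro f hf g' hg' hfg
    rw [Finset.mem_coe, Finset.mem_singleton] at hf hg'
    exact absurd (hf.trans hg'.symm) hfg
  have hsum : ∑ f ∈ S, f.natDegree * (fun _ => n / r) f = n := by
    rw [Finset.sum_singleton, natDegree_X_pow_sub_C]
    exact Nat.mul_div_cancel' hrn
  obtain ⟨A, hA, -⟩ := exists_matrix_of_kd S hSirr hScop (fun _ => n / r) hsum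
  rw [Finset.prod_singleton, aeval_X_pow_sub_C, sub_eq_zero] at hA
  refine ⟨⟨A, (lam : F)⁻¹ • A ^ (r - 1), ?_, ?_⟩, hA⟩
  · rw [Matrix.mul_smul, ← pow_succ', Nat.sub_add_cancel hrpos, hA, smul_smul,
      inv_mul_cancel₀ lam.ne_zero, one_smul]
  · rw [Matrix.smul_mul, ← pow_succ, Nat.sub_add_cancel hrpos, hA, smul_smul,
      inv_mul_cancel₀ lam.ne_zero, one_smul]

end nonsplit

end Cfsg.Agent.Helper42.PGLr
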