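import Mathlib
import Cfsg.Agent.Lib.Helper42.PGLr4

set_option autoImplicit false
set_option linter.unusedSectionVars false

namespace Cfsg.Agent.Helper42.PGLr

open Polynomial Module Matrix
open Cfsg.Agent.Helper42.SemiConj
open Cfsg.Agent.Helper42.PGLInv (mem_center_iff isConj_mk val_ne_zero_of_pos scalarGL scalarGL_mem_center)

universe u

section classes

variable {F : Type u} [Field F] [Fintype F] {r : ℕ} [NeZero r] (D : KData F r) {n : ℕ}

/-- the classes of elements of order `r` of `PGL` -/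
abbrev Cls (F : Type u) [Field F] (n r : ℕ) :=
  {C : ConjClasses (GL (Fin n) F ⧸ Subgroup.center (GL (Fin n) F)) //
    ∃ x : GL (Fin n) F ⧸ Subgroup.center (GL (Fin n) F), ConjClasses.mk x = C ∧ orderOf x = r}

/-- a class is split if it contains the image of a matrix with `r`-th power one -/
def IsSplit (r : ℕ) (C : ConjClasses (GL (Fin n) F ⧸ Subgroup.center (GL (Fin n) F))) : Prop :=
  ∃ g : GL (Fin n) F, ConjClasses.mk (QuotientGroup.mk g) = C ∧ g.val ^ r = 1

include D in
lemma cls_lift (C : Cls F n r) :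
    ∃ g : GL (Fin n) F, ConjClasses.mk (QuotientGroup.mk g :
      GL (Fin n) F ⧸ Subgroup.center (GL (Fin n) F)) = C.1 ∧ IsOrdMat r g := by
  obtain ⟨x, hx1, hx2⟩ := C.2
  obtain ⟨g, rfl⟩ := QuotientGroup.mk_surjective x
  exact ⟨g, hx1, (orderOf_mk_eq_iff D.hr g).mp hx2⟩

lemma mk_scalar_mul (c : F) (hc : c ≠ 0) (g : GL (Fin n) F) :
    (QuotientGroup.mk (scalarGL c hc * g) : GL (Fin n) F ⧸ Subgroup.center (GL (Fin n) F)) =
      QuotientGroup.mk g := by
  rw [QuotientGroup.mk_mul, (QuotientGroup.eq_one_iff _).mpr (scalarGL_mem_center c hc), one_mul]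

lemma scalar_mul_val (c : F) (hc : c ≠ 0) (g : GL (Fin n) F) :
    (scalarGL c hc * g).val = c • g.val := by
  rw [Units.val_mul]
  show (c • (1 : Matrix (Fin n) (Fin n) F)) * g.val = _
  rw [Matrix.smul_mul, Matrix.one_mul]

/-- data of a nonsplit class -/
theorem nonsplit_data (hn : 0 < n) (C : Cls F n r) (hC : ¬ IsSplit r C.1) :
    ∃ (g : GL (Fin n) F) (lam : Fˣ) (a : ZMod r),
      ConjClasses.mk (QuotientGroup.mk g : GL (Fin n) F ⧸ Subgroup.center (GL (Fin n) F)) = C.1 ∧
      g.val ^ r = (lam : F) • (1 : Matrix (Fin n) (Fin n) F) ∧ lam ^ D.k = D.root a ∧ a ≠ 0 := by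
  obtain ⟨g, hg1, ⟨lam0, hlam0⟩, hns⟩ := cls_lift D C
  have hlam00 : lam0 ≠ 0 := by
    rintro rfl
    rw [zero_smul, ← Units.val_pow_eq_pow_val] at hlam0
    exact val_ne_zero_of_pos hn _ hlam0
  obtain ⟨a, ha⟩ := D.exists_char (Units.mk0 lam0 hlam00)
  refine ⟨g, Units.mk0 lam0 hlam00, a, hg1, hlam0, ha, ?_⟩
  rintro rfl
  rw [D.root_zero, D.pow_k_eq_one_iff] at ha
  obtain ⟨c, hc⟩ := ha
  apply hC
  refine ⟨scalarGL (c : F)⁻¹ (inv_ne_zero c.ne_zero) * g, ?_, ?_⟩
  · rw [mk_scalar_mul]; exact hg1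
  · rw [scalar_mul_val, smul_pow', hlam0, smul_smul]
    have h1 : (c : F) ^ r = lam0 := by
      have := congrArg Units.val hc
      simpa using this
    rw [← h1, inv_pow, inv_mul_cancel₀ (pow_ne_zero _ c.ne_zero), one_smul]

include D in
theorem card_nonsplit (hn : 0 < n) :
    Nat.card {C : Cls F n r // ¬ IsSplit r C.1} = (r - 1) * (if r ∣ n then 1 else 0) := by
  classical
  have : Fact r.Prime := ⟨D.hr⟩
  by_cases hrn : r ∣ n
  · rw [if_pos hrn, mul_one]
    have hdata := fun C : {C : Cls F n r // ¬ IsSplit r C.1} => nonsplit_data D hn C.1 C.2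
    choose g lam a h1 h2 h3 h4 using hdata
    have hbij : Function.Bijective (fun C => (⟨a C, h4 C⟩ : {a : ZMod r // a ≠ 0})) := by
      constructor
      · intro C C' hCC
        have haa : a C = a C' := congrArg Subtype.val hCC
        have hk : lam C ^ D.k = lam C' ^ D.k := by rw [h3, h3, haa]
        have hne : lam C' ^ D.k ≠ 1 := by
          rw [h3, Ne, D.root_eq_one_iff]; exact h4 C'
        have := isConj_of_char_eq D (g C) (g C') (lam C) (lam C') (h2 C) (h2 C') hk hne
        apply Subtype.ext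
        apply Subtype.ext
        rw [← h1 C, ← h1 C']
        exact ConjClasses.mk_eq_mk_iff_isConj.mpr this
      · rintro ⟨a₀, ha₀⟩
        have hne : (D.γ ^ a₀.val) ^ D.k ≠ 1 := by
          rw [D.char_root, Ne, D.root_eq_one_iff]; exact ha₀
        obtain ⟨g₀, hg₀⟩ := exists_nonsplit D hrn (D.γ ^ a₀.val) hne
        have hord : IsOrdMat r g₀ := by
          refine ⟨⟨_, hg₀⟩, ?_⟩
          rintro ⟨c, hc⟩
          rw [hc, smul_pow', one_pow] at hg₀
          exact not_pow_of_char_ne D _ hne c (smul_one_injective hn _ _ hg₀)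
        let C₀ : Cls F n r := ⟨ConjClasses.mk (QuotientGroup.mk g₀), QuotientGroup.mk g₀, rfl,
          (orderOf_mk_eq_iff D.hr g₀).mpr hord⟩
        have hC₀ : ¬ IsSplit r C₀.1 := by
          rintro ⟨h, hh1, hh2⟩
          have hc : IsConj (QuotientGroup.mk h : GL (Fin n) F ⧸ Subgroup.center (GL (Fin n) F))
              (QuotientGroup.mk g₀) := ConjClasses.mk_eq_mk_iff_isConj.mp hh1
          have := char_eq_of_isConj D hn h g₀ 1 (D.γ ^ a₀.val)
            (by rw [hh2, Units.val_one, one_smul]) hg₀ hc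
          rw [one_pow] at this
          exact hne this.symm
        refine ⟨⟨C₀, hC₀⟩, ?_⟩
        apply Subtype.ext
        show a ⟨C₀, hC₀⟩ = a₀
        have hc : IsConj (QuotientGroup.mk (g ⟨C₀, hC₀⟩) :
            GL (Fin n) F ⧸ Subgroup.center (GL (Fin n) F)) (QuotientGroup.mk g₀) :=
          ConjClasses.mk_eq_mk_iff_isConj.mp (h1 ⟨C₀, hC₀⟩)
        have := char_eq_of_isConj D hn _ g₀ _ (D.γ ^ a₀.val) (h2 ⟨C₀, hC₀⟩) hg₀ hc
        rw [h3, D.char_root] at this
        exact D.root_injective this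
    rw [Nat.card_eq_of_bijective _ hbij, Nat.card_eq_fintype_card, Fintype.card_subtype_compl,
      Fintype.card_subtype_eq, ZMod.card]
  · rw [if_neg hrn, mul_zero]
    have : IsEmpty {C : Cls F n r // ¬ IsSplit r C.1} := by
      constructor
      rintro ⟨C, hC⟩
      obtain ⟨g, lam, a, -, h2, h3, h4⟩ := nonsplit_data D hn C hC
      apply hrn
      apply dvd_of_nonsplit D g lam h2
      rw [h3, Ne, D.root_eq_one_iff]; exact h4
    exact Nat.card_of_isEmpty

end classes

end Cfsg.Agent.Helper42.PGLr
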