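import Mathlib
import Cfsg.Agent.Lib.Helper42.SemiConj7

set_option autoImplicit false
set_option linter.unusedSectionVars false

namespace Cfsg.Agent.Helper42.PGLr

universe u

section comb

variable {r : ℕ} [NeZero r] {n : ℕ}

/-- non-scalar multiplicity vectors -/
def Xns (n r : ℕ) [NeZero r] := {e : ZMod r → ℕ // (∑ a, e a = n) ∧ ∀ a, e a < n}

instance : Finite (Xns n r) := by
  have : Function.Injective (fun e : Xns n r => (fun a => (⟨e.1 a, e.2.2 a⟩ : Fin n))) := by
    intro e e' h
    apply Subtype.ext
    funext a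
    have := congrFun h a
    exact congrArg Fin.val this
  exact Finite.of_injective _ this

/-- translation -/
def Xns.translate (b : ZMod r) (e : Xns n r) : Xns n r :=
  ⟨fun a => e.1 (a - b), (Equiv.sum_comp (Equiv.subRight b) e.1).trans e.2.1, fun a => e.2.2 _⟩

instance : MulAction (Multiplicative (ZMod r)) (Xns n r) where
  smul b e := Xns.translate b.toAdd e
  one_smul e := by
    apply Subtype.ext
    funext a
    show e.1 (a - 0) = e.1 a
    rw [sub_zero]
  mul_smul b b' e := by
    apply Subtype.ext
    funext a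
    show e.1 (a - (b.toAdd + b'.toAdd)) = e.1 (a - b.toAdd - b'.toAdd)
    rw [sub_sub]

lemma smul_apply (b : Multiplicative (ZMod r)) (e : Xns n r) (a : ZMod r) :
    (b • e).1 a = e.1 (a - b.toAdd) := rfl

/-- card of all compositions -/
lemma card_Xall : Nat.card {e : ZMod r → ℕ // ∑ a, e a = n} = (n + r - 1).choose (r - 1) := by
  have hrpos : 0 < r := Nat.pos_of_ne_zero (NeZero.ne r)
  rw [SemiConj.card_compositions, ZMod.card]
  have h1 : r + n - 1 = n + r - 1 := by omega
  rw [h1]
  apply Nat.choose_symm_of_eq_add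
  omega

/-- the scalar vectors -/
lemma card_scalar (hn : 0 < n) :
    Nat.card {e : {e : ZMod r → ℕ // ∑ a, e a = n} // ¬ ∀ a, e.1 a < n} = r := by
  classical
  have hbij : Function.Bijective (fun a : ZMod r =>
      (⟨⟨Pi.single a n, by rw [Finset.sum_pi_single']; simp⟩, by
        push Not
        exact ⟨a, by simp⟩⟩ : {e : {e : ZMod r → ℕ // ∑ a, e a = n} // ¬ ∀ a, e.1 a < n})) := by
    constructor
    · intro a b hab
      have h1 : (Pi.single a n : ZMod r → ℕ) = Pi.single b n :=
        congrArg (fun x => x.1.1) hab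
      by_contra hne
      have := congrFun h1 a
      rw [Pi.single_eq_same, Pi.single_eq_of_ne hne] at this
      omega
    · rintro ⟨⟨e, he⟩, hns⟩
      push Not at hns
      obtain ⟨a, ha⟩ := hns
      refine ⟨a, ?_⟩
      apply Subtype.ext
      apply Subtype.ext
      funext b
      show (Pi.single a n : ZMod r → ℕ) b = e b
      have hle : e a ≤ n := by
        rw [← he]
        exact Finset.single_le_sum (f := e) (fun _ _ => Nat.zero_le _) (Finset.mem_univ a)
      have hea : e a = n := le_antisymm hle ha
      by_cases hb : b = a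
      · rw [hb, Pi.single_eq_same, hea]
      · rw [Pi.single_eq_of_ne hb]
        have h2 : e a + e b ≤ ∑ x, e x := by
          have : ({a, b} : Finset (ZMod r)) ⊆ Finset.univ := Finset.subset_univ _
          have h3 := Finset.sum_le_sum_of_subset (f := e) this
          rw [Finset.sum_pair (Ne.symm hb)] at h3
          exact h3
        omega
  rw [← Nat.card_eq_of_bijective _ hbij, Nat.card_eq_fintype_card, ZMod.card]

lemma card_Xns (hn : 0 < n) : Nat.card (Xns n r) = (n + r - 1).choose (r - 1) - r := by
  classical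
  have hfin : Finite {e : ZMod r → ℕ // ∑ a, e a = n} :=
    Finite.of_equiv _ (Sym.equivNatSumOfFintype (ZMod r) n)
  have : Fintype {e : ZMod r → ℕ // ∑ a, e a = n} := Fintype.ofFinite _
  have e1 : Xns n r ≃ {e : {e : ZMod r → ℕ // ∑ a, e a = n} // ∀ a, e.1 a < n} :=
    { toFun := fun e => ⟨⟨e.1, e.2.1⟩, e.2.2⟩
      invFun := fun e => ⟨e.1.1, e.1.2, e.2⟩
      left_inv := fun e => rfl
      right_inv := fun e => rfl }
  have h2 := Fintype.card_subtype_compl (fun e : {e : ZMod r → ℕ // ∑ a, e a = n} => ∀ a, e.1 a < n)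
  have h3 := card_scalar (r := r) hn
  rw [Nat.card_eq_fintype_card] at h3
  rw [h3] at h2
  have h4 := card_Xall (r := r) (n := n)
  rw [Nat.card_eq_fintype_card] at h4
  rw [Nat.card_congr e1, Nat.card_eq_fintype_card]
  have h5 : Fintype.card {e : {e : ZMod r → ℕ // ∑ a, e a = n} // ∀ a, e.1 a < n} ≤
      Fintype.card {e : ZMod r → ℕ // ∑ a, e a = n} := Fintype.card_subtype_le _
  omega

end comb

end Cfsg.Agent.Helper42.PGLr
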