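import Mathlib
import Cfsg.Agent.Lib.Helper42.PGLr6

set_option autoImplicit false
set_option linter.unusedSectionVars false

namespace Cfsg.Agent.Helper42.PGLr

universe u

section burnside

variable {r : ℕ} [NeZero r] {n : ℕ}

lemma const_of_fixed (hr : r.Prime) (b : ZMod r) (hb : b ≠ 0) (e : Xns n r)
    (hfix : ∀ a, e.1 (a - b) = e.1 a) (a : ZMod r) : e.1 a = e.1 0 := by
  have : Fact r.Prime := ⟨hr⟩
  have hk : ∀ (k : ℕ) (a : ZMod r), e.1 (a - k • b) = e.1 a := by
    intro k
    induction k with
    | zero => intro a; rw [zero_smul, sub_zero]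
    | succ k ih =>
      intro a
      rw [succ_nsmul, ← sub_sub, hfix, ih]
  have h1 := hk (a * b⁻¹).val a
  rw [nsmul_eq_mul, ZMod.natCast_zmod_val, mul_assoc, inv_mul_cancel₀ hb, mul_one, sub_self] at h1
  exact h1.symm

lemma sum_const_eq (e : Xns n r) (h : ∀ a, e.1 a = e.1 0) : r * e.1 0 = n := by
  have := e.2.1
  rw [Finset.sum_congr rfl (fun a _ => h a), Finset.sum_const, Finset.card_univ, ZMod.card,
    smul_eq_mul] at this
  exact this

lemma fixed_iff (b : Multiplicative (ZMod r)) (e : Xns n r) :
    e ∈ MulAction.fixedBy (Xns n r) b ↔ ∀ a, e.1 (a - b.toAdd) = e.1 a := by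
  rw [MulAction.mem_fixedBy]
  constructor
  · intro h a
    have := congrArg (fun x : Xns n r => x.1 a) h
    exact this
  · intro h
    apply Subtype.ext
    funext a
    exact h a

lemma card_fixedBy (hr : r.Prime) (hn : 0 < n) (b : Multiplicative (ZMod r)) (hb : b ≠ 1) :
    Nat.card (MulAction.fixedBy (Xns n r) b) = if r ∣ n then 1 else 0 := by
  have hb' : b.toAdd ≠ 0 := fun h => hb (by
    have : b = Multiplicative.ofAdd b.toAdd := rfl
    rw [this, h]; rfl)
  have hconst : ∀ e : Xns n r, e ∈ MulAction.fixedBy (Xns n r) b → ∀ a, e.1 a = e.1 0 :=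
    fun e he => const_of_fixed hr b.toAdd hb' e ((fixed_iff b e).mp he)
  by_cases hrn : r ∣ n
  · rw [if_pos hrn, Nat.card_eq_one_iff_unique]
    constructor
    · constructor
      rintro ⟨e, he⟩ ⟨e', he'⟩
      apply Subtype.ext
      apply Subtype.ext
      funext a
      show e.1 a = e'.1 a
      rw [hconst e he a, hconst e' he' a]
      have h1 := sum_const_eq e (hconst e he)
      have h2 := sum_const_eq e' (hconst e' he')
      have hrpos : 0 < r := hr.pos
      exact Nat.eq_of_mul_eq_mul_left hrpos (h1.trans h2.symm)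
    · obtain ⟨c, hc⟩ := hrn
      have hr2 := hr.two_le
      have hcpos : 0 < c := by
        rcases Nat.eq_zero_or_pos c with h | h
        · rw [h, mul_zero] at hc; omega
        · exact h
      have h1 : ∑ _a : ZMod r, c = n := by
        rw [Finset.sum_const, Finset.card_univ, ZMod.card, smul_eq_mul, hc]
      have h2 : ∀ _a : ZMod r, c < n := by
        intro _
        rw [hc]
        nlinarith
      let e₀ : Xns n r := ⟨fun _ => c, h1, h2⟩
      exact ⟨⟨e₀, (fixed_iff b e₀).mpr (fun a => rfl)⟩⟩
  · rw [if_neg hrn]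
    have : IsEmpty (MulAction.fixedBy (Xns n r) b) := by
      constructor
      rintro ⟨e, he⟩
      exact hrn ⟨_, (sum_const_eq e (hconst e he)).symm⟩
    exact Nat.card_of_isEmpty

theorem burnside (hr : r.Prime) (hn : 0 < n) :
    Nat.card (MulAction.orbitRel.Quotient (Multiplicative (ZMod r)) (Xns n r)) * r =
      Nat.card (Xns n r) + (r - 1) * (if r ∣ n then 1 else 0) := by
  classical
  have : Fintype (Xns n r) := Fintype.ofFinite _
  have h := MulAction.sum_card_fixedBy_eq_card_orbits_mul_card_group (Multiplicative (ZMod r)) (Xns n r)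
  have hG : Fintype.card (Multiplicative (ZMod r)) = r := by
    rw [Fintype.card_multiplicative, ZMod.card]
  rw [hG, ← Nat.card_eq_fintype_card] at h
  rw [← h, ← Finset.add_sum_erase Finset.univ _ (Finset.mem_univ (1 : Multiplicative (ZMod r)))]
  congr 1
  · rw [← Nat.card_eq_fintype_card]
    have : MulAction.fixedBy (Xns n r) (1 : Multiplicative (ZMod r)) = Set.univ := by
      ext e; simp
    rw [this, Nat.card_congr (Equiv.Set.univ _)]
  · have h2 : ∀ b ∈ Finset.univ.erase (1 : Multiplicative (ZMod r)),
        Fintype.card (MulAction.fixedBy (Xns n r) b) = if r ∣ n then 1 else 0 := by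
      intro b hb
      rw [← Nat.card_eq_fintype_card]
      exact card_fixedBy hr hn b (Finset.ne_of_mem_erase hb)
    rw [Finset.sum_congr rfl h2, Finset.sum_const, Finset.card_erase_of_mem (Finset.mem_univ _),
      Finset.card_univ, hG, smul_eq_mul]

end burnside

end Cfsg.Agent.Helper42.PGLr
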