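import Mathlib
import Cfsg.Agent.Lib.Helper42.PGLr5
import Cfsg.Agent.Lib.Helper42.PGLr7

set_option autoImplicit false
set_option linter.unusedSectionVars false

namespace Cfsg.Agent.Helper42.PGLr

open Polynomial Module Matrix
open Cfsg.Agent.Helper42.SemiConj

universe u

section final

variable {F : Type u} [Field F] [Fintype F] {r : ℕ} [NeZero r] (D : KData F r) {n : ℕ}

include D in
theorem card_split (hn : 0 < n) :
    Nat.card {C : Cls F n r // IsSplit r C.1} =
      Nat.card (MulAction.orbitRel.Quotient (Multiplicative (ZMod r)) (Xns n r)) := by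
  classical
  have hrpos : 0 < r := Nat.pos_of_ne_zero (NeZero.ne r)
  have hS : ∀ e : Xns n r, ∃ g : GL (Fin n) F, g.val ^ r = 1 ∧ eA D g.val = e.1 := by
    intro e
    obtain ⟨A, hA, hAe⟩ := exists_matrix_of_eA D e.1 e.2.1
    exact ⟨glOfPow A r hrpos hA, hA, hAe⟩
  choose repS hS1 hS2 using hS
  have hord : ∀ e : Xns n r, orderOf (QuotientGroup.mk (repS e) :
      GL (Fin n) F ⧸ Subgroup.center (GL (Fin n) F)) = r := by
    intro e
    rw [orderOf_mk_eq_iff D.hr]
    refine ⟨⟨1, by rw [hS1, one_smul]⟩, not_scalar_of_eA_lt D hn _ (hS1 e) ?_⟩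
    rw [hS2]; exact e.2.2
  let Ψ : Xns n r → {C : Cls F n r // IsSplit r C.1} := fun e =>
    ⟨⟨ConjClasses.mk (QuotientGroup.mk (repS e)), QuotientGroup.mk (repS e), rfl, hord e⟩,
      repS e, rfl, hS1 e⟩
  have hΨ : ∀ e e' : Xns n r, Ψ e = Ψ e' ↔ ∃ b : ZMod r, ∀ a, e'.1 a = e.1 (a - b) := by
    intro e e'
    constructor
    · intro h
      have h1 : ConjClasses.mk (QuotientGroup.mk (repS e) :
          GL (Fin n) F ⧸ Subgroup.center (GL (Fin n) F)) =
          ConjClasses.mk (QuotientGroup.mk (repS e')) := congrArg (fun x => x.1.1) h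
      rw [ConjClasses.mk_eq_mk_iff_isConj] at h1
      obtain ⟨b, hb⟩ := exists_translate_of_isConj_mk D hn _ _ (hS1 e) (hS1 e') h1
      refine ⟨b, fun a => ?_⟩
      have := hb a
      rw [hS2, hS2] at this
      exact this
    · rintro ⟨b, hb⟩
      apply Subtype.ext
      apply Subtype.ext
      show ConjClasses.mk _ = ConjClasses.mk _
      rw [ConjClasses.mk_eq_mk_iff_isConj]
      apply isConj_mk_of_translate D _ _ (hS1 e) (hS1 e') b
      intro a
      rw [hS2, hS2]
      exact hb a
  have hrel : ∀ e e' : Xns n r,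
      (MulAction.orbitRel (Multiplicative (ZMod r)) (Xns n r)) e e' ↔ Ψ e = Ψ e' := by
    intro e e'
    rw [MulAction.orbitRel_apply, MulAction.mem_orbit_iff, eq_comm, hΨ]
    constructor
    · rintro ⟨g, hg⟩
      refine ⟨g.toAdd, fun a => ?_⟩
      rw [← hg]; rfl
    · rintro ⟨b, hb⟩
      refine ⟨Multiplicative.ofAdd b, ?_⟩
      apply Subtype.ext
      funext a
      exact (hb a).symm
  let Ψq : MulAction.orbitRel.Quotient (Multiplicative (ZMod r)) (Xns n r) →
      {C : Cls F n r // IsSplit r C.1} :=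
    Quotient.lift Ψ (fun e e' h => (hrel e e').mp h)
  have hbij : Function.Bijective Ψq := by
    constructor
    · intro x y
      induction x using Quotient.inductionOn with
      | h e =>
        induction y using Quotient.inductionOn with
        | h e' =>
          intro h
          exact Quotient.sound ((hrel e e').mpr h)
    · rintro ⟨C, g, hg1, hg2⟩
      obtain ⟨x, hx1, hx2⟩ := C.2
      have hc : IsConj (QuotientGroup.mk g : GL (Fin n) F ⧸ Subgroup.center (GL (Fin n) F)) x :=
        ConjClasses.mk_eq_mk_iff_isConj.mp (hg1.trans hx1.symm)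
      have hog : orderOf (QuotientGroup.mk g : GL (Fin n) F ⧸ Subgroup.center (GL (Fin n) F)) = r := by
        rw [orderOf_eq_of_isConj' hc, hx2]
      have hns := ((orderOf_mk_eq_iff D.hr g).mp hog).2
      let e : Xns n r := ⟨eA D g.val, sum_eA D _ hg2, eA_lt_of_not_scalar D _ hg2 hns⟩
      refine ⟨Quotient.mk _ e, ?_⟩
      apply Subtype.ext
      apply Subtype.ext
      show ConjClasses.mk (QuotientGroup.mk (repS e)) = C.1
      rw [← hg1, ConjClasses.mk_eq_mk_iff_isConj]
      apply isConj_mk_of_translate D _ _ (hS1 e) hg2 0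
      intro a
      rw [sub_zero, hS2]
  exact (Nat.card_eq_of_bijective Ψq hbij).symm

theorem card_cls (hr : r.Prime) (hrq : r ∣ Fintype.card F - 1) (hn : 2 ≤ n) :
    Nat.card (Cls F n r) =
      ((n + r - 1).choose (r - 1) - r - (if r ∣ n then 1 else 0)) / r +
        r * (if r ∣ n then 1 else 0) := by
  classical
  obtain ⟨D⟩ := exists_kdata (F := F) r hr hrq
  have hn0 : 0 < n := by omega
  have hrpos : 0 < r := hr.pos
  have hr2 := hr.two_le
  have : Fintype (Cls F n r) := Fintype.ofFinite _
  have h1 := Fintype.card_subtype_compl (fun C : Cls F n r => IsSplit r C.1)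
  have h1' : Fintype.card {C : Cls F n r // IsSplit r C.1} ≤ Fintype.card (Cls F n r) :=
    Fintype.card_subtype_le _
  have h2 := card_split D hn0
  have h3 := card_nonsplit D hn0
  have h4 := burnside (r := r) (n := n) hr hn0
  have h5 := card_Xns (r := r) (n := n) hn0
  rw [Nat.card_eq_fintype_card] at h2 h3
  rw [Nat.card_eq_fintype_card]
  set Q := Nat.card (MulAction.orbitRel.Quotient (Multiplicative (ZMod r)) (Xns n r)) with hQ
  set M := Nat.card (Xns n r) with hM
  set Cc := (n + r - 1).choose (r - 1) with hCc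
  have htot : Fintype.card (Cls F n r) = Q + (r - 1) * (if r ∣ n then 1 else 0) := by
    rw [← h2, ← h3]; omega
  rw [htot, ← h5]
  by_cases hrn : r ∣ n
  · simp only [if_pos hrn, mul_one] at h4 ⊢
    have hM1 : 1 ≤ M := by
      rcases Nat.eq_zero_or_pos M with h | h
      · rw [h, zero_add] at h4
        have : r ∣ r - 1 := ⟨Q, by rw [← h4, mul_comm]⟩
        have := Nat.le_of_dvd (by omega) this
        omega
      · exact h
    have hQ1 : 1 ≤ Q := by
      rcases Nat.eq_zero_or_pos Q with h | h
      · rw [h, zero_mul] at h4; omega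
      · exact h
    have h6 : M - 1 = (Q - 1) * r := by
      rw [Nat.sub_mul, one_mul, h4]; omega
    rw [h6, Nat.mul_div_cancel _ hrpos]
    omega
  · simp only [if_neg hrn, mul_zero, add_zero, Nat.sub_zero] at h4 ⊢
    rw [← h4, Nat.mul_div_cancel _ hrpos]

end final

end Cfsg.Agent.Helper42.PGLr
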