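import Mathlib

set_option autoImplicit false

/-! `PSL_3(4)` has no element of order 6 (centralisers of involutions are 2-groups). Used for S2550. -/

namespace Cfsg.Agent.Helper42


open Matrix

/-- the elementary nilpotent matrix `E₁₃` -/
def E13 (K : Type*) [Field K] : Matrix (Fin 3) (Fin 3) K := !![0, 0, 1; 0, 0, 0; 0, 0, 0]

theorem scalar_of_comm_E13 {K : Type*} [Field K] (h2 : (2 : K) = 0)
    (hcube : ∀ a : K, a ≠ 0 → a ^ 3 = 1)
    (Y : Matrix (Fin 3) (Fin 3) K) (c : K) (hcomm : Y * E13 K = E13 K * Y)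
    (hY3 : Y * Y * Y = c • (1 : Matrix (Fin 3) (Fin 3) K)) (hdet : Y.det = 1) :
    ∃ a : K, Y = a • (1 : Matrix (Fin 3) (Fin 3) K) := by
  have e10 : Y 1 0 = 0 := by
    have := congrFun (congrFun hcomm 1) 2
    simpa [E13, Matrix.mul_apply, Fin.sum_univ_three] using this
  have e20 : Y 2 0 = 0 := by
    have := congrFun (congrFun hcomm 2) 2
    simpa [E13, Matrix.mul_apply, Fin.sum_univ_three] using this
  have e21 : Y 2 1 = 0 := by
    have := congrFun (congrFun hcomm 0) 1
    simpa [E13, Matrix.mul_apply, Fin.sum_univ_three] using this.symm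
  have e22 : Y 2 2 = Y 0 0 := by
    have := congrFun (congrFun hcomm 0) 2
    simpa [E13, Matrix.mul_apply, Fin.sum_univ_three] using this.symm
  have hdet' : Y 0 0 * Y 1 1 * Y 0 0 = 1 := by
    rw [Matrix.det_fin_three] at hdet
    rw [e10, e20, e21, e22] at hdet
    linear_combination hdet
  have ha0 : Y 0 0 ≠ 0 := by
    intro h
    rw [h] at hdet'
    simp at hdet'
  have ha3 : Y 0 0 ^ 3 = 1 := hcube _ ha0
  have hba : Y 1 1 = Y 0 0 := by
    linear_combination Y 0 0 * hdet' - Y 1 1 * ha3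
  have h01 := congrFun (congrFun hY3 0) 1
  have h12 := congrFun (congrFun hY3 1) 2
  have h02 := congrFun (congrFun hY3 0) 2
  simp only [Matrix.mul_apply, Fin.sum_univ_three, Matrix.smul_apply, Matrix.one_apply_ne,
    ne_eq, Fin.reduceEq, not_false_eq_true, smul_zero, e10, e20, e21, e22, hba] at h01 h12 h02
  have ha2 : Y 0 0 ^ 2 ≠ 0 := pow_ne_zero 2 ha0
  have hx0 : Y 0 1 = 0 := by
    have : Y 0 0 ^ 2 * Y 0 1 = 0 := by
      linear_combination h01 - Y 0 0 ^ 2 * Y 0 1 * h2
    exact (mul_eq_zero.mp this).resolve_left ha2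
  have hw0 : Y 1 2 = 0 := by
    have : Y 0 0 ^ 2 * Y 1 2 = 0 := by
      linear_combination h12 - Y 0 0 ^ 2 * Y 1 2 * h2
    exact (mul_eq_zero.mp this).resolve_left ha2
  have hz0 : Y 0 2 = 0 := by
    have : Y 0 0 ^ 2 * Y 0 2 = 0 := by
      rw [hx0, hw0] at h02
      linear_combination h02 - Y 0 0 ^ 2 * Y 0 2 * h2
    exact (mul_eq_zero.mp this).resolve_left ha2
  refine ⟨Y 0 0, ?_⟩
  ext i j
  fin_cases i <;> fin_cases j <;> simp [e10, e20, e21, e22, hx0, hz0, hw0, hba]




theorem exists_normal_form_E13 {K : Type*} [Field K] (N : Matrix (Fin 3) (Fin 3) K) (hN : N ≠ 0)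
    (hNN : N * N = 0) :
    ∃ P : Matrix (Fin 3) (Fin 3) K, P.det ≠ 0 ∧ N * P = P * E13 K := by
  classical
  set φ : (Fin 3 → K) →ₗ[K] (Fin 3 → K) := Matrix.toLin' N with hφ
  have hφ2 : ∀ v, φ (φ v) = 0 := by
    intro v
    rw [hφ, Matrix.toLin'_apply, Matrix.toLin'_apply, Matrix.mulVec_mulVec, hNN, Matrix.zero_mulVec]
  have hrk : LinearMap.range φ ≤ LinearMap.ker φ := by
    rintro _ ⟨v, rfl⟩
    rw [LinearMap.mem_ker]
    exact hφ2 v
  have hdim := LinearMap.finrank_range_add_finrank_ker φ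
  have h3 : Module.finrank K (Fin 3 → K) = 3 := by simp
  have hle := Submodule.finrank_mono hrk
  have hker2 : 2 ≤ Module.finrank K (LinearMap.ker φ) := by omega
  obtain ⟨v, hv⟩ : ∃ v, φ v ≠ 0 := by
    by_contra h
    push Not at h
    apply hN
    have h0 : φ = 0 := LinearMap.ext h
    have : Matrix.toLin' N = Matrix.toLin' (0 : Matrix (Fin 3) (Fin 3) K) := by
      rw [← hφ, h0, map_zero]
    exact Matrix.toLin'.injective this
  have hu : φ (φ v) = 0 := hφ2 v
  obtain ⟨w, hwker, hwspan⟩ : ∃ w, w ∈ LinearMap.ker φ ∧ w ∉ Submodule.span K {φ v} := by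
    by_contra h
    push Not at h
    have hle2 : LinearMap.ker φ ≤ Submodule.span K {φ v} := h
    have h4 := Submodule.finrank_mono hle2
    have h5 := finrank_span_singleton (K := K) hv
    omega
  rw [LinearMap.mem_ker] at hwker
  let P : Matrix (Fin 3) (Fin 3) K := Matrix.of (fun i j => ![φ v, w, v] j i)
  have hP0 : ∀ i, P i 0 = φ v i := fun i => rfl
  have hP1 : ∀ i, P i 1 = w i := fun i => rfl
  have hP2 : ∀ i, P i 2 = v i := fun i => rfl
  refine ⟨P, ?_, ?_⟩
  · intro hdet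
    obtain ⟨c, hc0, hc⟩ := Matrix.exists_mulVec_eq_zero_iff.mpr hdet
    have hsum : c 0 • φ v + c 1 • w + c 2 • v = 0 := by
      rw [← hc]
      ext i
      simp only [Pi.add_apply, Pi.smul_apply, smul_eq_mul, Matrix.mulVec, dotProduct,
        Fin.sum_univ_three, hP0, hP1, hP2]
      ring
    have h2 : c 2 = 0 := by
      have h6 := congrArg φ hsum
      rw [map_add, map_add, map_smul, map_smul, map_smul, hu, hwker, smul_zero, smul_zero,
        zero_add, zero_add, map_zero] at h6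
      exact (smul_eq_zero.mp h6).resolve_right hv
    rw [h2, zero_smul, add_zero] at hsum
    have h1 : c 1 = 0 := by
      by_contra hc1
      apply hwspan
      rw [Submodule.mem_span_singleton]
      refine ⟨-(c 0 / c 1), ?_⟩
      have h7 : c 1 • w = -(c 0 • φ v) := eq_neg_of_add_eq_zero_right hsum
      have h8 : w = (c 1)⁻¹ • (c 1 • w) := by rw [smul_smul, inv_mul_cancel₀ hc1, one_smul]
      rw [h8, h7, smul_neg, smul_smul, neg_smul]
      congr 2
      field_simp
    rw [h1, zero_smul, add_zero] at hsum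
    have h0 : c 0 = 0 := (smul_eq_zero.mp hsum).resolve_right hv
    apply hc0
    ext i
    fin_cases i
    · exact h0
    · exact h1
    · exact h2
  · have hNP : ∀ (x : Fin 3 → K) (i : Fin 3), ∑ k, N i k * x k = φ x i := by
      intro x i
      rw [hφ, Matrix.toLin'_apply]
      rfl
    ext i j
    fin_cases j
    · simp only [Fin.zero_eta, Matrix.mul_apply, E13]
      have := hNP (φ v) i
      rw [hu] at this
      simp only [Pi.zero_apply] at this
      simp [Fin.sum_univ_three] at this ⊢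
      rw [hP0, hP0, hP0]
      exact this
    · simp only [Fin.mk_one, Matrix.mul_apply, E13]
      have := hNP w i
      rw [hwker] at this
      simp only [Pi.zero_apply] at this
      simp [Fin.sum_univ_three] at this ⊢
      rw [hP1, hP1, hP1]
      exact this
    · simp only [Fin.reduceFinMk, Matrix.mul_apply, E13]
      have := hNP v i
      simp [Fin.sum_univ_three] at this ⊢
      rw [hP2, hP2, hP2, hP0]
      exact this






theorem scalar_of_comm_involution {K : Type*} [Field K] (h2 : (2 : K) = 0)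
    (hcube : ∀ a : K, a ≠ 0 → a ^ 3 = 1)
    (t y : Matrix (Fin 3) (Fin 3) K) (c : K) (ht2 : t * t = 1) (ht1 : t ≠ 1)
    (hcomm : y * t = t * y) (hy3 : y * y * y = c • (1 : Matrix (Fin 3) (Fin 3) K))
    (hdet : y.det = 1) : ∃ a : K, y = a • (1 : Matrix (Fin 3) (Fin 3) K) := by
  have hdouble : ∀ M : Matrix (Fin 3) (Fin 3) K, M + M = 0 := by
    intro M
    ext i j
    simp only [Matrix.add_apply, Matrix.zero_apply]
    linear_combination M i j * h2
  have hNN : (t + 1) * (t + 1) = 0 := by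
    rw [mul_add, add_mul, ht2, mul_one, one_mul]
    calc (1 : Matrix (Fin 3) (Fin 3) K) + t + (t + 1) = (1 + 1) + (t + t) := by abel
      _ = 0 := by rw [hdouble, hdouble, add_zero]
  have hN : t + 1 ≠ 0 := by
    intro h
    apply ht1
    have h3 : t + 1 + 1 = 0 + 1 := by rw [h]
    rw [add_assoc, hdouble, add_zero, zero_add] at h3
    exact h3
  have hyN : y * (t + 1) = (t + 1) * y := by
    rw [mul_add, add_mul, hcomm, mul_one, one_mul]
  obtain ⟨P, hPdet, hNP⟩ := exists_normal_form_E13 (t + 1) hN hNN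
  have hPunit : IsUnit P.det := isUnit_iff_ne_zero.mpr hPdet
  have hPP : P * P⁻¹ = 1 := Matrix.mul_nonsing_inv P hPunit
  have hPP' : P⁻¹ * P = 1 := Matrix.nonsing_inv_mul P hPunit
  have hPN : P⁻¹ * (t + 1) = E13 K * P⁻¹ := by
    calc P⁻¹ * (t + 1) = P⁻¹ * (t + 1) * (P * P⁻¹) := by rw [hPP, mul_one]
      _ = P⁻¹ * ((t + 1) * P) * P⁻¹ := by simp only [Matrix.mul_assoc]
      _ = P⁻¹ * (P * E13 K) * P⁻¹ := by rw [hNP]
      _ = (P⁻¹ * P) * E13 K * P⁻¹ := by simp only [Matrix.mul_assoc]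
      _ = E13 K * P⁻¹ := by rw [hPP', one_mul]
  set Y := P⁻¹ * y * P with hY
  have hYE : Y * E13 K = E13 K * Y := by
    calc Y * E13 K = P⁻¹ * y * (P * E13 K) := by rw [hY]; simp only [Matrix.mul_assoc]
      _ = P⁻¹ * (y * (t + 1)) * P := by rw [← hNP]; simp only [Matrix.mul_assoc]
      _ = P⁻¹ * ((t + 1) * y) * P := by rw [hyN]
      _ = (P⁻¹ * (t + 1)) * y * P := by simp only [Matrix.mul_assoc]
      _ = E13 K * P⁻¹ * y * P := by rw [hPN]
      _ = E13 K * Y := by rw [hY]; simp only [Matrix.mul_assoc]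
  have hYY : Y * Y = P⁻¹ * (y * y) * P := by
    calc Y * Y = P⁻¹ * y * (P * P⁻¹) * y * P := by rw [hY]; simp only [Matrix.mul_assoc]
      _ = P⁻¹ * (y * y) * P := by rw [hPP, mul_one]; simp only [Matrix.mul_assoc]
  have hY3 : Y * Y * Y = c • (1 : Matrix (Fin 3) (Fin 3) K) := by
    calc Y * Y * Y = P⁻¹ * (y * y) * (P * P⁻¹) * y * P := by
          rw [hYY, hY]; simp only [Matrix.mul_assoc]
      _ = P⁻¹ * (y * y * y) * P := by rw [hPP, mul_one]; simp only [Matrix.mul_assoc]
      _ = c • (1 : Matrix (Fin 3) (Fin 3) K) := by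
          rw [hy3, Matrix.mul_smul, Matrix.smul_mul, mul_one, hPP']
  have hYdet : Y.det = 1 := by
    rw [hY, Matrix.det_mul, Matrix.det_mul, hdet, mul_one, ← Matrix.det_mul, hPP', Matrix.det_one]
  obtain ⟨a, ha⟩ := scalar_of_comm_E13 h2 hcube Y c hYE hY3 hYdet
  refine ⟨a, ?_⟩
  calc y = (P * P⁻¹) * y * (P * P⁻¹) := by rw [hPP, one_mul, mul_one]
    _ = P * Y * P⁻¹ := by rw [hY]; simp only [Matrix.mul_assoc]
    _ = a • (1 : Matrix (Fin 3) (Fin 3) K) := by
        rw [ha, Matrix.mul_smul, Matrix.smul_mul, mul_one, hPP]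





theorem psl34_orderOf_ne_six {K : Type*} [Field K] [Fintype K] (hK : Fintype.card K = 4)
    (x : Matrix.ProjectiveSpecialLinearGroup (Fin 3) K) : orderOf x ≠ 6 := by
  classical
  intro hx
  have h4 : ((4 : ℕ) : K) = 0 := by
    have := Nat.cast_card_eq_zero K
    rwa [hK] at this
  have h2 : (2 : K) = 0 := by
    have h5 : (2 : K) * 2 = 0 := by
      have : ((4 : ℕ) : K) = 2 * 2 := by norm_num
      rw [← this]; exact h4
    exact mul_self_eq_zero.mp h5
  have hcube : ∀ a : K, a ≠ 0 → a ^ 3 = 1 := by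
    intro a ha
    have := FiniteField.pow_card_sub_one_eq_one a ha
    rwa [hK] at this
  obtain ⟨g, rfl⟩ := QuotientGroup.mk_surjective x
  have hpow : ∀ k : ℕ, g ^ k ∈ Subgroup.center (Matrix.SpecialLinearGroup (Fin 3) K) ↔ 6 ∣ k := by
    intro k
    rw [← hx, orderOf_dvd_iff_pow_eq_one, ← QuotientGroup.mk_pow, QuotientGroup.eq_one_iff]
  have h6 : g ^ 6 ∈ Subgroup.center (Matrix.SpecialLinearGroup (Fin 3) K) := (hpow 6).mpr dvd_rfl
  have hn2 : g ^ 2 ∉ Subgroup.center (Matrix.SpecialLinearGroup (Fin 3) K) := by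
    rw [hpow]; norm_num
  have hn9 : g ^ 9 ∉ Subgroup.center (Matrix.SpecialLinearGroup (Fin 3) K) := by
    rw [hpow]; norm_num
  rw [Matrix.SpecialLinearGroup.mem_center_iff] at h6
  obtain ⟨r, hr3, hr⟩ := h6
  rw [Fintype.card_fin] at hr3
  set G : Matrix (Fin 3) (Fin 3) K := g.1 with hG
  have hG6 : G ^ 6 = r • (1 : Matrix (Fin 3) (Fin 3) K) := by
    have : (g ^ 6).1 = G ^ 6 := Matrix.SpecialLinearGroup.coe_pow g 6
    rw [← this, ← hr]
    ext i j
    simp [Matrix.scalar_apply, Matrix.diagonal_apply, Matrix.one_apply]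
  have hT2 : G ^ 9 * G ^ 9 = 1 := by
    rw [← pow_add]
    have : G ^ (9 + 9) = (G ^ 6) ^ 3 := by rw [← pow_mul]
    rw [this, hG6, smul_pow, one_pow, hr3, one_smul]
  have hT1 : G ^ 9 ≠ 1 := by
    intro h
    apply hn9
    have : g ^ 9 = 1 := by
      apply Subtype.ext
      rw [Matrix.SpecialLinearGroup.coe_pow]
      exact h
    rw [this]
    exact Subgroup.one_mem _
  have hcomm : G ^ 2 * G ^ 9 = G ^ 9 * G ^ 2 := by rw [← pow_add, ← pow_add]
  have hy3 : G ^ 2 * G ^ 2 * G ^ 2 = r • (1 : Matrix (Fin 3) (Fin 3) K) := by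
    rw [← pow_add, ← pow_add]; exact hG6
  have hdet : (G ^ 2).det = 1 := by
    rw [Matrix.det_pow, hG, g.2, one_pow]
  obtain ⟨a, ha⟩ := scalar_of_comm_involution h2 hcube (G ^ 9) (G ^ 2) r hT2 hT1 hcomm hy3 hdet
  apply hn2
  rw [Matrix.SpecialLinearGroup.mem_center_iff]
  refine ⟨a, ?_, ?_⟩
  · rw [Fintype.card_fin]
    have : (G ^ 2).det = a ^ 3 := by
      rw [ha, Matrix.det_smul, Matrix.det_one, mul_one, Fintype.card_fin]
    rw [← this, hdet]
  · have : (g ^ 2).1 = G ^ 2 := Matrix.SpecialLinearGroup.coe_pow g 2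
    rw [this, ha]
    ext i j
    simp [Matrix.scalar_apply, Matrix.diagonal_apply, Matrix.one_apply]


end Cfsg.Agent.Helper42
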