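import Mathlib

set_option autoImplicit false
set_option linter.unusedSectionVars false

namespace Cfsg.Agent.Helper42.SpReg

open Matrix

section tau

variable {F : Type*} [Field F] {m : ℕ}

/-- the symplectic adjoint -/
def tau (X : Matrix (Fin m ⊕ Fin m) (Fin m ⊕ Fin m) F) : Matrix (Fin m ⊕ Fin m) (Fin m ⊕ Fin m) F :=
  -J (Fin m) F * Xᵀ * J (Fin m) F

lemma tau_add (X Y : Matrix (Fin m ⊕ Fin m) (Fin m ⊕ Fin m) F) : tau (X + Y) = tau X + tau Y := by
  unfold tau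
  rw [transpose_add, Matrix.mul_add, Matrix.add_mul]

lemma tau_smul (c : F) (X : Matrix (Fin m ⊕ Fin m) (Fin m ⊕ Fin m) F) : tau (c • X) = c • tau X := by
  unfold tau
  rw [transpose_smul, Matrix.mul_smul, Matrix.smul_mul]

lemma tau_neg (X : Matrix (Fin m ⊕ Fin m) (Fin m ⊕ Fin m) F) : tau (-X) = -tau X := by
  unfold tau
  rw [transpose_neg, Matrix.mul_neg, Matrix.neg_mul]

lemma tau_sub (X Y : Matrix (Fin m ⊕ Fin m) (Fin m ⊕ Fin m) F) : tau (X - Y) = tau X - tau Y := by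
  rw [sub_eq_add_neg, tau_add, tau_neg, sub_eq_add_neg]

lemma tau_zero : tau (0 : Matrix (Fin m ⊕ Fin m) (Fin m ⊕ Fin m) F) = 0 := by
  unfold tau
  rw [transpose_zero, Matrix.mul_zero, Matrix.zero_mul]

lemma tau_one : tau (1 : Matrix (Fin m ⊕ Fin m) (Fin m ⊕ Fin m) F) = 1 := by
  unfold tau
  rw [transpose_one, Matrix.mul_one, Matrix.neg_mul, J_squared, neg_neg]

lemma tau_mul (X Y : Matrix (Fin m ⊕ Fin m) (Fin m ⊕ Fin m) F) : tau (X * Y) = tau Y * tau X := by
  unfold tau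
  rw [transpose_mul]
  have h : J (Fin m) F * J (Fin m) F = -1 := J_squared (Fin m) F
  calc -J (Fin m) F * (Yᵀ * Xᵀ) * J (Fin m) F
      = -(J (Fin m) F * Yᵀ * (1 : Matrix _ _ F) * Xᵀ * J (Fin m) F) := by
        simp only [Matrix.neg_mul, Matrix.mul_one, Matrix.mul_assoc]
    _ = -(J (Fin m) F * Yᵀ * (-(J (Fin m) F * J (Fin m) F)) * Xᵀ * J (Fin m) F) := by
        rw [h, neg_neg]
    _ = -J (Fin m) F * Yᵀ * J (Fin m) F * (-J (Fin m) F * Xᵀ * J (Fin m) F) := by
        simp only [Matrix.neg_mul, Matrix.mul_neg, Matrix.mul_assoc, neg_neg]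

lemma tau_tau (X : Matrix (Fin m ⊕ Fin m) (Fin m ⊕ Fin m) F) : tau (tau X) = X := by
  unfold tau
  have h : J (Fin m) F * J (Fin m) F = -1 := J_squared (Fin m) F
  rw [transpose_mul, transpose_mul, transpose_neg, transpose_transpose, J_transpose]
  simp only [Matrix.neg_mul, Matrix.mul_neg, neg_neg, Matrix.mul_assoc]
  rw [h, Matrix.mul_neg, Matrix.mul_one, ← Matrix.mul_assoc, h, Matrix.neg_mul, Matrix.one_mul, neg_neg]

lemma tau_pow (X : Matrix (Fin m ⊕ Fin m) (Fin m ⊕ Fin m) F) (k : ℕ) : tau (X ^ k) = tau X ^ k := by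
  induction k with
  | zero => rw [pow_zero, pow_zero, tau_one]
  | succ k ih => rw [pow_succ, tau_mul, ih, pow_succ']

lemma mem_symp_iff (X : Matrix (Fin m ⊕ Fin m) (Fin m ⊕ Fin m) F) :
    X ∈ symplecticGroup (Fin m) F ↔ X * tau X = 1 := by
  have h : J (Fin m) F * J (Fin m) F = -1 := J_squared (Fin m) F
  rw [SymplecticGroup.mem_iff]
  unfold tau
  constructor
  · intro hX
    calc X * (-J (Fin m) F * Xᵀ * J (Fin m) F) = -(X * J (Fin m) F * Xᵀ * J (Fin m) F) := by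
          simp only [Matrix.neg_mul, Matrix.mul_neg, Matrix.mul_assoc]
      _ = 1 := by rw [hX, h, neg_neg]
  · intro hX
    have h1 : X * J (Fin m) F * Xᵀ * J (Fin m) F = -1 := by
      have : X * (-J (Fin m) F * Xᵀ * J (Fin m) F) = -(X * J (Fin m) F * Xᵀ * J (Fin m) F) := by
        simp only [Matrix.neg_mul, Matrix.mul_neg, Matrix.mul_assoc]
      rw [this] at hX
      rw [← hX, neg_neg]
    calc X * J (Fin m) F * Xᵀ = -(X * J (Fin m) F * Xᵀ * (J (Fin m) F * J (Fin m) F)) := by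
          rw [h, Matrix.mul_neg, Matrix.mul_one, neg_neg]
      _ = -((X * J (Fin m) F * Xᵀ * J (Fin m) F) * J (Fin m) F) := by
          simp only [Matrix.mul_assoc]
      _ = J (Fin m) F := by rw [h1, Matrix.neg_mul, Matrix.one_mul, neg_neg]

lemma transpose_mul_J (X : Matrix (Fin m ⊕ Fin m) (Fin m ⊕ Fin m) F) :
    Xᵀ * J (Fin m) F = J (Fin m) F * tau X := by
  have h : J (Fin m) F * J (Fin m) F = -1 := J_squared (Fin m) F
  unfold tau
  calc Xᵀ * J (Fin m) F = -((J (Fin m) F * J (Fin m) F) * Xᵀ * J (Fin m) F) := by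
        rw [h, Matrix.neg_mul, Matrix.one_mul, Matrix.neg_mul, neg_neg]
    _ = J (Fin m) F * (-J (Fin m) F * Xᵀ * J (Fin m) F) := by
        simp only [Matrix.neg_mul, Matrix.mul_neg, Matrix.mul_assoc]

end tau

end Cfsg.Agent.Helper42.SpReg
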