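import Mathlib
import Cfsg.Agent.Lib.Helper42.SpReg2
import Cfsg.Agent.Lib.Helper43.CyclicNilp2

set_option autoImplicit false
set_option linter.unusedSectionVars false

namespace Cfsg.Agent.Helper42.SpReg

open Matrix Polynomial Module

section comm

variable {F : Type*} [Field F] {ι : Type*} [Fintype ι] [DecidableEq ι]

lemma aeval_toLin'' (A : Matrix ι ι F) (q : F[X]) :
    aeval (Matrix.toLin' A) q = Matrix.toLin' (aeval A q) := by
  have := Polynomial.aeval_algHom_apply (Matrix.toLinAlgEquiv' (R := F) (n := ι)) A q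
  exact this

/-- the hypotheses on a regular nilpotent matrix, in terms of the linear map -/
lemma toLin'_pow_finrank (N : Matrix ι ι F) (hnil : N ^ Fintype.card ι = 0) :
    (Matrix.toLin' N) ^ finrank F (ι → F) = 0 := by
  rw [Module.finrank_fintype_fun_eq_card, ← Matrix.toLin'_pow, hnil, map_zero]

lemma finrank_ker_toLin'_le_one (N : Matrix ι ι F) (hreg : N.rank = Fintype.card ι - 1)
    (hpos : 0 < Fintype.card ι) : finrank F (LinearMap.ker (Matrix.toLin' N)) ≤ 1 := by
  have h1 := LinearMap.finrank_range_add_finrank_ker (Matrix.toLin' N)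
  rw [Module.finrank_fintype_fun_eq_card] at h1
  have h2 : finrank F (LinearMap.range (Matrix.toLin' N)) = N.rank := rfl
  omega

/-- everything commuting with a regular nilpotent matrix is a polynomial in it -/
theorem exists_aeval_of_commute (N : Matrix ι ι F) (hnil : N ^ Fintype.card ι = 0)
    (hreg : N.rank = Fintype.card ι - 1) (hpos : 0 < Fintype.card ι)
    (X : Matrix ι ι F) (hX : X * N = N * X) : ∃ p : F[X], aeval N p = X := by
  have hfin : finrank F (ι → F) = Fintype.card ι := Module.finrank_fintype_fun_eq_card F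
  have hnilf := toLin'_pow_finrank N hnil
  have hker := finrank_ker_toLin'_le_one N hreg hpos
  obtain ⟨v, hv⟩ := Cfsg.Agent.Helper43.exists_cyclic_vector (Matrix.toLin' N)
    (by rw [hfin]; exact hpos) hnilf hker
  obtain ⟨b, hb⟩ := Cfsg.Agent.Helper43.exists_cyclic_basis (Matrix.toLin' N) hnilf hker v hv
  let c := b.repr (Matrix.toLin' X v)
  let p : F[X] := ∑ i : Fin (finrank F (ι → F)), C (c i) * Polynomial.X ^ (i : ℕ)
  refine ⟨p, ?_⟩
  have hcomm : Commute (Matrix.toLin' X) (Matrix.toLin' N) := by
    show Matrix.toLin' X * Matrix.toLin' N = Matrix.toLin' N * Matrix.toLin' X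
    rw [Module.End.mul_eq_comp, Module.End.mul_eq_comp, ← Matrix.toLin'_mul, ← Matrix.toLin'_mul, hX]
  have hcomm' : Commute (Matrix.toLin' (aeval N p)) (Matrix.toLin' N) := by
    rw [← aeval_toLin'']
    show aeval (Matrix.toLin' N) p * Matrix.toLin' N = Matrix.toLin' N * aeval (Matrix.toLin' N) p
    have h1 : aeval (Matrix.toLin' N) (p * Polynomial.X) = aeval (Matrix.toLin' N) (Polynomial.X * p) := by
      rw [mul_comm]
    rwa [map_mul, map_mul, aeval_X] at h1
  have hv' : Matrix.toLin' (aeval N p) v = Matrix.toLin' X v := by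
    rw [← aeval_toLin'']
    simp only [p, map_sum, map_mul, aeval_C, map_pow, aeval_X, LinearMap.sum_apply,
      Algebra.algebraMap_eq_smul_one, Module.End.mul_apply, LinearMap.smul_apply,
      Module.End.one_apply]
    have := b.sum_repr (Matrix.toLin' X v)
    rw [← this]
    apply Finset.sum_congr rfl
    intro i _
    rw [hb i]
  have := Cfsg.Agent.Helper43.eq_of_commute_of_cyclic (Matrix.toLin' N) hnilf hker v hv
    _ _ hcomm' hcomm hv'
  exact Matrix.toLin'.injective this

end comm

end Cfsg.Agent.Helper42.SpReg
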