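import Mathlib
import Cfsg.Agent.Lib.Helper42.SpReg3

set_option autoImplicit false
set_option linter.unusedSectionVars false

/-!
# The commutant of a regular nilpotent matrix (general index type)
-/

namespace Cfsg.Agent.Helper42.SUReg

open Matrix Polynomial Module
open scoped IsMulCommutative
open Cfsg.Agent.Helper42.SpReg

/-- a regular nilpotent matrix -/
structure RegN (F : Type*) [Field F] (ι : Type*) [Fintype ι] [DecidableEq ι] where
  N : Matrix ι ι F
  hnil : N ^ Fintype.card ι = 0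
  hreg : N.rank = Fintype.card ι - 1
  hpos : 0 < Fintype.card ι

section reg

variable {F : Type*} [Field F] {ι : Type*} [Fintype ι] [DecidableEq ι] (D : RegN F ι)

/-- the commutant algebra -/
def RegN.R : Subalgebra F (Matrix ι ι F) :=
  Algebra.adjoin F ({D.N} : Set (Matrix ι ι F))

lemma RegN.mem_R_iff (X : Matrix ι ι F) : X ∈ D.R ↔ ∃ p : F[X], aeval D.N p = X := by
  unfold RegN.R
  rw [Algebra.adjoin_singleton_eq_range_aeval]
  rfl

lemma RegN.mem_R_of_commute (X : Matrix ι ι F) (h : X * D.N = D.N * X) : X ∈ D.R :=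
  (D.mem_R_iff X).mpr (exists_aeval_of_commute D.N D.hnil D.hreg D.hpos X h)

lemma RegN.commute_of_mem (X : Matrix ι ι F) (h : X ∈ D.R) : X * D.N = D.N * X := by
  obtain ⟨p, rfl⟩ := (D.mem_R_iff X).mp h
  have h1 : aeval D.N (p * Polynomial.X) = aeval D.N (Polynomial.X * p) := by rw [mul_comm]
  rwa [map_mul, map_mul, aeval_X] at h1

lemma RegN.N_mem : D.N ∈ D.R := (D.mem_R_iff _).mpr ⟨Polynomial.X, aeval_X _⟩

lemma RegN.mul_comm' (X Y : Matrix ι ι F) (hX : X ∈ D.R) (hY : Y ∈ D.R) : X * Y = Y * X := by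
  obtain ⟨p, rfl⟩ := (D.mem_R_iff X).mp hX
  obtain ⟨q, rfl⟩ := (D.mem_R_iff Y).mp hY
  rw [← map_mul, ← map_mul, mul_comm]

noncomputable instance RegN.instCommRingR : CommRing ↥D.R :=
  inferInstanceAs (CommRing ↥(Algebra.adjoin F ({D.N} : Set (Matrix ι ι F))))

lemma RegN.exists_w0 : ∃ w : ι → F, w ≠ 0 ∧ D.N *ᵥ w = 0 := by
  have h1 := LinearMap.finrank_range_add_finrank_ker (Matrix.toLin' D.N)
  rw [Module.finrank_fintype_fun_eq_card] at h1
  have h2 : finrank F (LinearMap.range (Matrix.toLin' D.N)) = D.N.rank := rfl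
  have h3 : 0 < finrank F (LinearMap.ker (Matrix.toLin' D.N)) := by
    have := D.hreg
    have := D.hpos
    omega
  obtain ⟨⟨w, hw⟩, hw0⟩ := Module.finrank_pos_iff_exists_ne_zero.mp h3
  refine ⟨w, fun h => hw0 (Subtype.ext h), ?_⟩
  rw [LinearMap.mem_ker, Matrix.toLin'_apply] at hw
  exact hw

/-- the socle vector -/
noncomputable def RegN.w0 : ι → F := D.exists_w0.choose

lemma RegN.w0_ne : D.w0 ≠ 0 := D.exists_w0.choose_spec.1

lemma RegN.N_w0 : D.N *ᵥ D.w0 = 0 := D.exists_w0.choose_spec.2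

lemma RegN.exists_i0 : ∃ i, D.w0 i ≠ 0 := by
  by_contra h
  push Not at h
  exact D.w0_ne (funext h)

noncomputable def RegN.i0 : ι := D.exists_i0.choose

lemma RegN.w0_i0 : D.w0 D.i0 ≠ 0 := D.exists_i0.choose_spec

/-- the augmentation as a function on all matrices -/
noncomputable def RegN.epsFun (X : Matrix ι ι F) : F := (X *ᵥ D.w0) D.i0 / D.w0 D.i0

lemma RegN.aeval_mulVec_w0 (Z : Matrix ι ι F) (hZ : Z *ᵥ D.w0 = 0) (p : F[X]) :
    (aeval Z p) *ᵥ D.w0 = p.coeff 0 • D.w0 := by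
  conv_lhs => rw [← Polynomial.divX_mul_X_add p]
  rw [map_add, map_mul, aeval_X, aeval_C, Matrix.add_mulVec, ← Matrix.mulVec_mulVec, hZ,
    Matrix.mulVec_zero, zero_add, Algebra.algebraMap_eq_smul_one, Matrix.smul_mulVec,
    Matrix.one_mulVec]

lemma RegN.epsFun_aeval (Z : Matrix ι ι F) (hZ : Z *ᵥ D.w0 = 0) (p : F[X]) :
    D.epsFun (aeval Z p) = p.coeff 0 := by
  unfold RegN.epsFun
  rw [D.aeval_mulVec_w0 Z hZ p, Pi.smul_apply, smul_eq_mul, mul_div_assoc, div_self D.w0_i0, mul_one]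

/-- the augmentation -/
noncomputable def RegN.eps : ↥D.R →+* F where
  toFun x := D.epsFun x.1
  map_one' := by
    have : ((1 : ↥D.R) : Matrix ι ι F) = aeval D.N (1 : F[X]) := by
      rw [map_one]; rfl
    show D.epsFun ((1 : ↥D.R) : Matrix ι ι F) = 1
    rw [this, D.epsFun_aeval D.N D.N_w0, Polynomial.coeff_one_zero]
  map_mul' x y := by
    obtain ⟨p, hp⟩ := (D.mem_R_iff x.1).mp x.2
    obtain ⟨q, hq⟩ := (D.mem_R_iff y.1).mp y.2
    show D.epsFun (x.1 * y.1) = D.epsFun x.1 * D.epsFun y.1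
    rw [← hp, ← hq, ← map_mul, D.epsFun_aeval D.N D.N_w0, D.epsFun_aeval D.N D.N_w0,
      D.epsFun_aeval D.N D.N_w0, Polynomial.mul_coeff_zero]
  map_zero' := by
    show D.epsFun 0 = 0
    unfold RegN.epsFun
    rw [Matrix.zero_mulVec, Pi.zero_apply, zero_div]
  map_add' x y := by
    show D.epsFun (x.1 + y.1) = D.epsFun x.1 + D.epsFun y.1
    unfold RegN.epsFun
    rw [Matrix.add_mulVec, Pi.add_apply, add_div]

lemma RegN.eps_apply (x : ↥D.R) : D.eps x = D.epsFun x.1 := rfl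

lemma RegN.mulVec_w0 (x : ↥D.R) : x.1 *ᵥ D.w0 = D.eps x • D.w0 := by
  obtain ⟨p, hp⟩ := (D.mem_R_iff x.1).mp x.2
  rw [D.eps_apply, ← hp, D.epsFun_aeval _ D.N_w0, D.aeval_mulVec_w0 _ D.N_w0]

lemma RegN.eps_smul (c : F) (x : ↥D.R) : D.eps (c • x) = c * D.eps x := by
  rw [D.eps_apply, D.eps_apply]
  show D.epsFun (c • x.1) = c * D.epsFun x.1
  unfold RegN.epsFun
  rw [Matrix.smul_mulVec, Pi.smul_apply, smul_eq_mul, mul_div_assoc]

lemma RegN.eps_algebraMap (c : F) : D.eps (algebraMap F ↥D.R c) = c := by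
  rw [Algebra.algebraMap_eq_smul_one, D.eps_smul, map_one, mul_one]

/-- the nilpotent generator as an element of the commutant -/
def RegN.Nr : ↥D.R := ⟨D.N, D.N_mem⟩

lemma RegN.eps_Nr : D.eps D.Nr = 0 := by
  rw [D.eps_apply]
  show D.epsFun D.N = 0
  unfold RegN.epsFun
  rw [D.N_w0, Pi.zero_apply, zero_div]

lemma RegN.Nr_pow_card : D.Nr ^ Fintype.card ι = 0 := by
  apply Subtype.ext
  show D.N ^ Fintype.card ι = 0
  exact D.hnil

lemma RegN.exists_mul_of_eps (x : ↥D.R) (h : D.eps x = 0) : ∃ y : ↥D.R, x = D.Nr * y := by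
  obtain ⟨p, hp⟩ := (D.mem_R_iff x.1).mp x.2
  have hc : D.eps x = p.coeff 0 := by
    rw [D.eps_apply, ← hp, D.epsFun_aeval D.N D.N_w0]
  rw [hc] at h
  refine ⟨⟨aeval D.N p.divX, (D.mem_R_iff _).mpr ⟨_, rfl⟩⟩, ?_⟩
  apply Subtype.ext
  show x.1 = D.N * aeval D.N p.divX
  rw [← hp]
  conv_lhs => rw [← Polynomial.divX_mul_X_add p]
  rw [h, map_add, map_mul, aeval_X, map_zero, map_zero, add_zero]
  exact D.commute_of_mem _ ((D.mem_R_iff _).mpr ⟨_, rfl⟩)

lemma RegN.pow_eq_zero_of_eps (x : ↥D.R) (h : D.eps x = 0) : x ^ Fintype.card ι = 0 := by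
  obtain ⟨y, rfl⟩ := D.exists_mul_of_eps x h
  rw [mul_pow, D.Nr_pow_card, zero_mul]

lemma RegN.isUnit_iff (x : ↥D.R) : IsUnit x ↔ D.eps x ≠ 0 := by
  constructor
  · rintro ⟨u, rfl⟩
    intro h
    have h1 : D.eps (u : ↥D.R) * D.eps ((u⁻¹ : (↥D.R)ˣ) : ↥D.R) = 1 := by
      rw [← map_mul, Units.mul_inv, map_one]
    rw [h, zero_mul] at h1
    exact zero_ne_one h1
  · intro h
    have hx : x = algebraMap F ↥D.R (D.eps x) + (x - algebraMap F ↥D.R (D.eps x)) := by ring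
    have hnil : IsNilpotent (x - algebraMap F ↥D.R (D.eps x)) := by
      refine ⟨Fintype.card ι, D.pow_eq_zero_of_eps _ ?_⟩
      rw [map_sub, D.eps_algebraMap, sub_self]
    have hu : IsUnit (algebraMap F ↥D.R (D.eps x)) := (IsUnit.mk0 _ h).map _
    rw [hx]
    exact hnil.isUnit_add_left_of_commute hu (Algebra.commute_algebraMap_right _ _)

/-- a cyclic vector exists, so the top power of the generator is non-zero -/
lemma RegN.Nr_pow_ne_zero : D.Nr ^ (Fintype.card ι - 1) ≠ 0 := by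
  obtain ⟨v, hv⟩ := Cfsg.Agent.Helper43.exists_cyclic_vector (Matrix.toLin' D.N)
    (by rw [finrank_fintype_fun_eq_card]; exact D.hpos) (toLin'_pow_finrank D.N D.hnil)
    (finrank_ker_toLin'_le_one D.N D.hreg D.hpos)
  intro h0
  apply hv
  rw [finrank_fintype_fun_eq_card, ← Matrix.toLin'_pow]
  have : D.N ^ (Fintype.card ι - 1) = 0 := congrArg Subtype.val h0
  rw [this, map_zero, LinearMap.zero_apply]

lemma RegN.Nr_pow_ne_zero' (k : ℕ) (hk : k < Fintype.card ι) : D.Nr ^ k ≠ 0 := by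
  intro h0
  apply D.Nr_pow_ne_zero
  have : Fintype.card ι - 1 = k + (Fintype.card ι - 1 - k) := by omega
  rw [this, pow_add, h0, zero_mul]

lemma RegN.eps_eq_zero_of_mul (k : ℕ) (hk : k < Fintype.card ι) (w : ↥D.R)
    (h : D.Nr ^ k * w = 0) : D.eps w = 0 := by
  by_contra hne
  obtain ⟨u, rfl⟩ := (D.isUnit_iff w).mpr hne
  apply D.Nr_pow_ne_zero' k hk
  calc D.Nr ^ k = D.Nr ^ k * (u : ↥D.R) * ((u⁻¹ : (↥D.R)ˣ) : ↥D.R) := by
        rw [mul_assoc, Units.mul_inv, mul_one]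
    _ = 0 := by rw [h, zero_mul]

instance RegN.finiteR [Finite F] : Finite ↥D.R := by
  have : Finite (Matrix ι ι F) := by
    unfold Matrix; infer_instance
  exact Subtype.finite

end reg

end Cfsg.Agent.Helper42.SUReg
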