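import Mathlib
import Cfsg.Prelude.Def_LieClassical
import Cfsg.Agent.Lib.Helper19.HermCount

set_option autoImplicit false
set_option linter.unusedSectionVars false

/-!
# The unitary adjoint on matrices over a field with `q^2` elements
-/

namespace Cfsg.Agent.Helper42.SUReg

open Matrix Module

section sg

variable {K : Type*} [Field K] [Fintype K] {q : ℕ}

lemma q_ne_zero (hK : Fintype.card K = q ^ 2) : q ≠ 0 := by
  have := Cfsg.Agent.Helper19.herm_two_le hK
  omega

lemma add_pow_q (hK : Fintype.card K = q ^ 2) (x y : K) : (x + y) ^ q = x ^ q + y ^ q := by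
  obtain ⟨p, hp, hc, j, rfl⟩ := Cfsg.Agent.Helper19.herm_q_eq_pow hK
  exact add_pow_char_pow x y p j

/-- the involutive field automorphism `x ↦ x ^ q` -/
def sg (hK : Fintype.card K = q ^ 2) : K →+* K where
  toFun x := x ^ q
  map_one' := one_pow q
  map_mul' x y := mul_pow x y q
  map_zero' := zero_pow (q_ne_zero hK)
  map_add' x y := add_pow_q hK x y

lemma sg_apply (hK : Fintype.card K = q ^ 2) (x : K) : sg hK x = x ^ q := rfl

lemma sg_sg (hK : Fintype.card K = q ^ 2) (x : K) : sg hK (sg hK x) = x := by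
  rw [sg_apply, sg_apply, ← pow_mul, ← sq, ← hK, FiniteField.pow_card]

lemma sg_injective (hK : Fintype.card K = q ^ 2) : Function.Injective (sg hK) :=
  (sg hK).injective

lemma sg_surjective (hK : Fintype.card K = q ^ 2) : Function.Surjective (sg hK) :=
  fun x => ⟨sg hK x, sg_sg hK x⟩

variable {ι : Type*} [Fintype ι] [DecidableEq ι]

/-- the unitary adjoint -/
def ad (hK : Fintype.card K = q ^ 2) (X : Matrix ι ι K) : Matrix ι ι K :=
  ((sg hK).mapMatrix X)ᵀ

lemma ad_apply (hK : Fintype.card K = q ^ 2) (X : Matrix ι ι K) (i j : ι) :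
    ad hK X i j = (X j i) ^ q := rfl

lemma ad_add (hK : Fintype.card K = q ^ 2) (X Y : Matrix ι ι K) :
    ad hK (X + Y) = ad hK X + ad hK Y := by
  unfold ad
  rw [map_add, transpose_add]

lemma ad_sub (hK : Fintype.card K = q ^ 2) (X Y : Matrix ι ι K) :
    ad hK (X - Y) = ad hK X - ad hK Y := by
  unfold ad
  rw [map_sub, transpose_sub]

lemma ad_neg (hK : Fintype.card K = q ^ 2) (X : Matrix ι ι K) : ad hK (-X) = -ad hK X := by
  unfold ad
  rw [map_neg, transpose_neg]

lemma ad_zero (hK : Fintype.card K = q ^ 2) : ad hK (0 : Matrix ι ι K) = 0 := by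
  unfold ad
  rw [map_zero, transpose_zero]

lemma ad_one (hK : Fintype.card K = q ^ 2) : ad hK (1 : Matrix ι ι K) = 1 := by
  unfold ad
  rw [map_one, transpose_one]

lemma ad_mul (hK : Fintype.card K = q ^ 2) (X Y : Matrix ι ι K) :
    ad hK (X * Y) = ad hK Y * ad hK X := by
  unfold ad
  rw [map_mul, transpose_mul]

lemma ad_smul (hK : Fintype.card K = q ^ 2) (c : K) (X : Matrix ι ι K) :
    ad hK (c • X) = sg hK c • ad hK X := by
  ext i j
  rw [ad_apply, Matrix.smul_apply, Matrix.smul_apply, ad_apply, smul_eq_mul, smul_eq_mul, mul_pow,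
    sg_apply]

lemma ad_ad (hK : Fintype.card K = q ^ 2) (X : Matrix ι ι K) : ad hK (ad hK X) = X := by
  ext i j
  rw [ad_apply, ad_apply]
  exact sg_sg hK (X i j)

lemma ad_pow (hK : Fintype.card K = q ^ 2) (X : Matrix ι ι K) (k : ℕ) :
    ad hK (X ^ k) = ad hK X ^ k := by
  induction k with
  | zero => rw [pow_zero, pow_zero, ad_one]
  | succ k ih => rw [pow_succ, ad_mul, ih, pow_succ']

/-- `X` is unitary -/
def IsU (hK : Fintype.card K = q ^ 2) (X : Matrix ι ι K) : Prop := ad hK X * X = 1

lemma IsU.mul' {hK : Fintype.card K = q ^ 2} {X : Matrix ι ι K} (h : IsU hK X) :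
    X * ad hK X = 1 := mul_eq_one_comm.mp h

lemma IsU.mul {hK : Fintype.card K = q ^ 2} {X Y : Matrix ι ι K} (hX : IsU hK X)
    (hY : IsU hK Y) : IsU hK (X * Y) := by
  unfold IsU at *
  rw [ad_mul]
  calc ad hK Y * ad hK X * (X * Y) = ad hK Y * (ad hK X * X) * Y := by simp only [mul_assoc]
    _ = 1 := by rw [hX, mul_one, hY]

lemma IsU.ad {hK : Fintype.card K = q ^ 2} {X : Matrix ι ι K} (hX : IsU hK X) :
    IsU hK (ad hK X) := by
  unfold IsU
  rw [ad_ad]
  exact hX.mul'

lemma isU_one (hK : Fintype.card K = q ^ 2) : IsU hK (1 : Matrix ι ι K) := by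
  unfold IsU
  rw [ad_one, one_mul]

lemma isU_smul_one (hK : Fintype.card K = q ^ 2) (c : K) (hc : c ^ (q + 1) = 1) :
    IsU hK (c • (1 : Matrix ι ι K)) := by
  unfold IsU
  rw [ad_smul, ad_one, smul_mul_smul_comm, mul_one, sg_apply, ← pow_succ, hc, one_smul]

lemma IsU.smul {hK : Fintype.card K = q ^ 2} {X : Matrix ι ι K} (hX : IsU hK X) (c : K)
    (hc : c ^ (q + 1) = 1) : IsU hK (c • X) := by
  have : c • X = (c • (1 : Matrix ι ι K)) * X := by rw [Matrix.smul_mul, one_mul]
  rw [this]
  exact (isU_smul_one hK c hc).mul hX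

/-- the Hermitian form in terms of the dot product -/
lemma hermForm_eq (hK : Fintype.card K = q ^ 2) (n : ℕ) (u v : Fin n → K) :
    Cfsg.hermForm n K q u v = u ⬝ᵥ (fun i => sg hK (v i)) := rfl

lemma sg_mulVec (hK : Fintype.card K = q ^ 2) (M : Matrix ι ι K) (v : ι → K) :
    (fun i => sg hK ((M *ᵥ v) i)) = ((sg hK).mapMatrix M) *ᵥ (fun i => sg hK (v i)) := by
  funext i
  simp only [Matrix.mulVec, dotProduct, map_sum, map_mul, RingHom.mapMatrix_apply, Matrix.map_apply]

/-- a matrix preserves the Hermitian form iff it is unitary -/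
lemma preserves_iff (hK : Fintype.card K = q ^ 2) (n : ℕ) (M : Matrix (Fin n) (Fin n) K) :
    (∀ u v, Cfsg.hermForm n K q (M *ᵥ u) (M *ᵥ v) = Cfsg.hermForm n K q u v) ↔ IsU hK M := by
  have key : ∀ u v : Fin n → K, Cfsg.hermForm n K q (M *ᵥ u) (M *ᵥ v) =
      u ⬝ᵥ ((Mᵀ * (sg hK).mapMatrix M) *ᵥ (fun i => sg hK (v i))) := by
    intro u v
    rw [hermForm_eq hK, sg_mulVec, ← Matrix.mulVec_mulVec, Matrix.dotProduct_mulVec u,
      Matrix.vecMul_transpose]
  constructor
  · intro h
    have h1 : Mᵀ * (sg hK).mapMatrix M = 1 := by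
      ext i j
      have := h (Pi.single i 1) (Pi.single j 1)
      rw [key, hermForm_eq hK] at this
      have e1 : (fun k => sg hK ((Pi.single j (1 : K) : Fin n → K) k)) = Pi.single j 1 := by
        funext k
        by_cases hk : k = j
        · subst hk; simp
        · simp [Pi.single_eq_of_ne hk]
      rw [e1, Matrix.mulVec_single_one, single_one_dotProduct, single_one_dotProduct] at this
      rw [Matrix.one_apply]
      simpa [Pi.single_apply, eq_comm] using this
    unfold IsU ad
    have h2 := congrArg transpose h1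
    rw [transpose_mul, transpose_transpose, transpose_one] at h2
    exact h2
  · intro h u v
    unfold IsU ad at h
    have h1 : Mᵀ * (sg hK).mapMatrix M = 1 := by
      have h2 := congrArg transpose h
      rw [transpose_mul, transpose_transpose, transpose_one] at h2
      exact h2
    rw [key, h1, Matrix.one_mulVec, hermForm_eq hK]

end sg

end Cfsg.Agent.Helper42.SUReg
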