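import Mathlib
import Cfsg.Agent.Lib.Helper42.SUReg1
import Cfsg.Agent.Lib.Helper42.SUReg2

set_option autoImplicit false
set_option linter.unusedSectionVars false

/-!
# Regular unipotent unitary matrices: the commutant with its involution
-/

namespace Cfsg.Agent.Helper42.SUReg

open Matrix Polynomial Module
open scoped IsMulCommutative

/-- a regular unipotent unitary matrix -/
structure RegU {K : Type*} [Field K] [Fintype K] {q : ℕ} (hK : Fintype.card K = q ^ 2) (n : ℕ) where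
  A : Matrix (Fin n) (Fin n) K
  hA : IsU hK A
  hnil : (A - 1) ^ n = 0
  hreg : (A - 1).rank = n - 1
  hn : 1 ≤ n

section regu

variable {K : Type*} [Field K] [Fintype K] {q : ℕ} {hK : Fintype.card K = q ^ 2} {n : ℕ}

lemma ad_aeval {ι : Type*} [Fintype ι] [DecidableEq ι] (X : Matrix ι ι K) (p : K[X]) :
    ad hK (aeval X p) = aeval (ad hK X) (p.map (sg hK)) := by
  induction p using Polynomial.induction_on' with
  | add p q hp hq => rw [map_add, Polynomial.map_add, map_add, ad_add, hp, hq]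
  | monomial n a =>
    rw [Polynomial.map_monomial, Polynomial.aeval_monomial, Polynomial.aeval_monomial,
      Algebra.algebraMap_eq_smul_one, Algebra.algebraMap_eq_smul_one, smul_mul_assoc,
      smul_mul_assoc, one_mul, one_mul, ad_smul, ad_pow]

variable (D : RegU hK n)

/-- the underlying regular nilpotent datum -/
def RegU.E : RegN K (Fin n) where
  N := D.A - 1
  hnil := by rw [Fintype.card_fin]; exact D.hnil
  hreg := by rw [Fintype.card_fin]; exact D.hreg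
  hpos := by rw [Fintype.card_fin]; exact D.hn

lemma RegU.E_N : D.E.N = D.A - 1 := rfl

lemma RegU.A_eq : D.A = 1 + D.E.N := by rw [D.E_N]; abel

lemma RegU.commute_A_iff (X : Matrix (Fin n) (Fin n) K) :
    X * D.A = D.A * X ↔ X * D.E.N = D.E.N * X := by
  rw [D.A_eq, Matrix.mul_add, Matrix.add_mul, Matrix.mul_one, Matrix.one_mul, add_right_inj]

lemma RegU.adA_mul : ad hK D.A * D.A = 1 := D.hA

lemma RegU.mul_adA : D.A * ad hK D.A = 1 := D.hA.mul'

lemma RegU.ad_N : ad hK D.E.N = ad hK D.A - 1 := by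
  rw [D.E_N, ad_sub, ad_one]

lemma RegU.ad_N_eq : ad hK D.E.N = -(ad hK D.A * D.E.N) := by
  rw [D.ad_N, D.E_N, Matrix.mul_sub, D.adA_mul, Matrix.mul_one]
  abel

lemma RegU.ad_N_commute : ad hK D.E.N * D.E.N = D.E.N * ad hK D.E.N := by
  rw [D.ad_N, D.E_N]
  simp only [Matrix.sub_mul, Matrix.mul_sub, D.adA_mul, D.mul_adA, Matrix.mul_one, Matrix.one_mul]
  abel

lemma RegU.ad_N_mem : ad hK D.E.N ∈ D.E.R := D.E.mem_R_of_commute _ D.ad_N_commute

lemma RegU.ad_N_w0 : ad hK D.E.N *ᵥ D.E.w0 = 0 := by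
  rw [D.ad_N_eq, Matrix.neg_mulVec, ← Matrix.mulVec_mulVec, D.E.N_w0, Matrix.mulVec_zero, neg_zero]

lemma RegU.ad_mem (X : Matrix (Fin n) (Fin n) K) (hX : X ∈ D.E.R) : ad hK X ∈ D.E.R := by
  obtain ⟨p, rfl⟩ := (D.E.mem_R_iff X).mp hX
  obtain ⟨t, ht⟩ := (D.E.mem_R_iff _).mp D.ad_N_mem
  rw [ad_aeval, ← ht, ← Polynomial.aeval_comp]
  exact (D.E.mem_R_iff _).mpr ⟨_, rfl⟩

/-- the unitary adjoint on the commutant -/
noncomputable def RegU.tauR : ↥D.E.R →+* ↥D.E.R where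
  toFun x := ⟨ad hK x.1, D.ad_mem x.1 x.2⟩
  map_one' := by
    apply Subtype.ext
    show ad hK (1 : Matrix (Fin n) (Fin n) K) = 1
    exact ad_one hK
  map_mul' x y := by
    apply Subtype.ext
    show ad hK (x.1 * y.1) = ad hK x.1 * ad hK y.1
    rw [ad_mul]
    exact D.E.mul_comm' _ _ (D.ad_mem _ y.2) (D.ad_mem _ x.2)
  map_zero' := by
    apply Subtype.ext
    show ad hK (0 : Matrix (Fin n) (Fin n) K) = 0
    exact ad_zero hK
  map_add' x y := by
    apply Subtype.ext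
    show ad hK (x.1 + y.1) = ad hK x.1 + ad hK y.1
    exact ad_add hK _ _

lemma RegU.tauR_val (x : ↥D.E.R) : (D.tauR x).1 = ad hK x.1 := rfl

lemma RegU.eps_tauR (x : ↥D.E.R) : D.E.eps (D.tauR x) = sg hK (D.E.eps x) := by
  obtain ⟨p, hp⟩ := (D.E.mem_R_iff x.1).mp x.2
  rw [D.E.eps_apply, D.E.eps_apply, D.tauR_val, ← hp, ad_aeval, D.E.epsFun_aeval _ D.ad_N_w0,
    D.E.epsFun_aeval _ D.E.N_w0, Polynomial.coeff_map]

lemma RegU.tauR_tauR (x : ↥D.E.R) : D.tauR (D.tauR x) = x := by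
  apply Subtype.ext
  show ad hK (ad hK x.1) = x.1
  exact ad_ad hK _

lemma RegU.tauR_smul (c : K) (x : ↥D.E.R) : D.tauR (c • x) = sg hK c • D.tauR x := by
  apply Subtype.ext
  show ad hK (c • x.1) = sg hK c • ad hK x.1
  exact ad_smul hK _ _

/-- the element `m` with `τ N = N m` -/
noncomputable def RegU.mm : ↥D.E.R := -D.tauR (1 + D.E.Nr)

lemma RegU.tauR_one_add_Nr_val : (D.tauR (1 + D.E.Nr)).1 = ad hK D.A := by
  rw [D.tauR_val]
  show ad hK ((1 : Matrix (Fin n) (Fin n) K) + D.E.N) = ad hK D.A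
  rw [← D.A_eq]

lemma RegU.tauR_Nr : D.tauR D.E.Nr = D.E.Nr * D.mm := by
  apply Subtype.ext
  show ad hK D.E.N = D.E.N * (-(D.tauR (1 + D.E.Nr)).1)
  rw [D.tauR_one_add_Nr_val, D.ad_N_eq, Matrix.mul_neg]
  congr 1
  have h1 : ad hK D.A ∈ D.E.R := by
    rw [← D.tauR_one_add_Nr_val]
    exact (D.tauR (1 + D.E.Nr)).2
  exact D.E.commute_of_mem _ h1

lemma RegU.eps_mm : D.E.eps D.mm = -1 := by
  unfold RegU.mm
  rw [map_neg, D.eps_tauR, map_add, map_one, D.E.eps_Nr, add_zero, map_one]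

lemma RegU.tauR_Nr_pow (k : ℕ) : D.tauR (D.E.Nr ^ k) = D.E.Nr ^ k * D.mm ^ k := by
  rw [map_pow, D.tauR_Nr, mul_pow]

end regu

end Cfsg.Agent.Helper42.SUReg
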