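import Mathlib
import Cfsg.Agent.Lib.Helper42.SUReg3
import Cfsg.Agent.Lib.Lead.UnitaryCard

set_option autoImplicit false
set_option linter.unusedSectionVars false

/-!
# Surjectivity of the norm on the commutant of a regular unipotent unitary matrix
-/

namespace Cfsg.Agent.Helper42.SUReg

open Matrix Polynomial Module
open scoped IsMulCommutative

section norm

variable {K : Type*} [Field K] [Fintype K] {q : ℕ} {hK : Fintype.card K = q ^ 2} {n : ℕ}
variable (D : RegU hK n)

lemma RegU.tauR_algebraMap (c : K) :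
    D.tauR (algebraMap K ↥D.E.R c) = algebraMap K ↥D.E.R (sg hK c) := by
  rw [Algebra.algebraMap_eq_smul_one, D.tauR_smul, map_one, Algebra.algebraMap_eq_smul_one]

lemma RegU.Nr_pow_eq_zero (k : ℕ) (hk : n ≤ k) : D.E.Nr ^ k = 0 := by
  have h := D.E.Nr_pow_card
  rw [Fintype.card_fin] at h
  exact pow_eq_zero_of_le hk h

lemma exists_trace_ne_zero' (hK : Fintype.card K = q ^ 2) : ∃ c : K, c + sg hK c ≠ 0 :=
  Cfsg.Agent.Lead.HermForm.exists_trace_ne_zero hK

lemma RegU.norm_aux (d : ℕ) : ∀ k, 1 ≤ k → n ≤ k + d → ∀ z : ↥D.E.R, D.tauR z = z →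
    (∃ y, z = 1 + D.E.Nr ^ k * y) → ∃ x, x * D.tauR x = z := by
  induction d with
  | zero =>
    intro k _ hkn z _ hy
    obtain ⟨y, rfl⟩ := hy
    refine ⟨1, ?_⟩
    rw [D.Nr_pow_eq_zero k (by omega), zero_mul, add_zero, map_one, mul_one]
  | succ d ih =>
    intro k hk1 hkn z hz hy
    by_cases hkn' : n ≤ k
    · obtain ⟨y, rfl⟩ := hy
      refine ⟨1, ?_⟩
      rw [D.Nr_pow_eq_zero k hkn', zero_mul, add_zero, map_one, mul_one]
    · have hklt : k < Fintype.card (Fin n) := by rw [Fintype.card_fin]; omega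
      obtain ⟨y, hy⟩ := hy
      set P : ↥D.E.R := D.E.Nr ^ k with hP
      set M : ↥D.E.R := D.mm ^ k with hM
      have hτP : D.tauR P = P * M := D.tauR_Nr_pow k
      have hepsP : D.E.eps P = 0 := by
        rw [hP, map_pow, D.E.eps_Nr, zero_pow (by omega)]
      have hepsM : D.E.eps M = (-1) ^ k := by rw [hM, map_pow, D.eps_mm]
      set e : K := D.E.eps y with he
      -- the symmetry of e
      have hsym : (-1) ^ k * sg hK e = e := by
        have h1 : P * (M * D.tauR y - y) = 0 := by
          have h2 : D.tauR z = 1 + P * M * D.tauR y := by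
            rw [hy, map_add, map_one, map_mul, hτP]
          rw [hz, hy] at h2
          have h3 : P * y = P * M * D.tauR y := add_left_cancel h2
          rw [mul_sub, ← mul_assoc, ← h3, sub_self]
        have h4 := D.E.eps_eq_zero_of_mul k hklt _ h1
        rw [map_sub, map_mul, hepsM, D.eps_tauR] at h4
        exact sub_eq_zero.mp h4
      obtain ⟨ω, hω⟩ := exists_trace_ne_zero' hK
      set t : K := ω + sg hK ω with ht
      have htfix : sg hK t = t := by rw [ht, map_add, sg_sg, add_comm]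
      set c : K := e * ω / t with hc
      have hcs : c + (-1) ^ k * sg hK c = e := by
        have h5 : sg hK c = sg hK e * sg hK ω / t := by
          rw [hc, map_div₀, map_mul, htfix]
        rw [h5]
        have h6 : (-1) ^ k * (sg hK e * sg hK ω / t) = ((-1) ^ k * sg hK e) * sg hK ω / t := by
          ring
        rw [h6, hsym, hc]
        field_simp
        rw [ht]
      set a : ↥D.E.R := algebraMap K ↥D.E.R c with ha
      set a' : ↥D.E.R := algebraMap K ↥D.E.R (sg hK c) with ha'
      have hτa : D.tauR a = a' := D.tauR_algebraMap c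
      have hτa' : D.tauR a' = a := by rw [ha', D.tauR_algebraMap, sg_sg]
      set x₁ : ↥D.E.R := 1 + a * P with hx₁
      have hτx₁ : D.tauR x₁ = 1 + a' * (P * M) := by
        rw [hx₁, map_add, map_one, map_mul, hτa, hτP]
      set nrm : ↥D.E.R := x₁ * D.tauR x₁ with hnrm
      have hτnrm : D.tauR nrm = nrm := by
        rw [hnrm, map_mul, D.tauR_tauR, mul_comm]
      -- the difference
      set w : ↥D.E.R := y - a - a' * M - a * a' * P * M with hw
      have hdiff : z - nrm = P * w := by
        rw [hy, hnrm, hτx₁, hx₁, hw]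
        ring
      have hepsw : D.E.eps w = 0 := by
        rw [hw, map_sub, map_sub, map_sub, map_mul, map_mul, map_mul, map_mul, hepsP, hepsM,
          ha, ha', D.E.eps_algebraMap, D.E.eps_algebraMap, ← he]
        rw [← hcs]
        ring
      obtain ⟨y', hy'⟩ := D.E.exists_mul_of_eps w hepsw
      have hepsnrm : D.E.eps nrm = 1 := by
        rw [hnrm, hτx₁, hx₁, map_mul, map_add, map_add, map_one, map_mul, map_mul, map_mul,
          hepsP]
        ring
      have hunit : IsUnit nrm := by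
        rw [D.E.isUnit_iff, hepsnrm]
        exact one_ne_zero
      obtain ⟨u, hu⟩ := hunit
      set u₁ : ↥D.E.R := ((u⁻¹ : (↥D.E.R)ˣ) : ↥D.E.R) with hu₁
      have hnu : nrm * u₁ = 1 := by rw [← hu, hu₁, Units.mul_inv]
      have hτu₁ : D.tauR u₁ = u₁ := by
        have h1 : D.tauR u₁ * nrm = 1 := by
          rw [← hτnrm, ← map_mul, mul_comm, hnu, map_one]
        calc D.tauR u₁ = D.tauR u₁ * (nrm * u₁) := by rw [hnu, mul_one]
          _ = (D.tauR u₁ * nrm) * u₁ := (mul_assoc _ _ _).symm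
          _ = u₁ := by rw [h1, one_mul]
      have hz₁ : D.tauR (z * u₁) = z * u₁ := by rw [map_mul, hz, hτu₁]
      have hz₁' : ∃ y'', z * u₁ = 1 + D.E.Nr ^ (k + 1) * y'' := by
        refine ⟨y' * u₁, ?_⟩
        have h7 : z * u₁ - 1 = (z - nrm) * u₁ := by rw [sub_mul, hnu]
        have h8 : z * u₁ = 1 + (z - nrm) * u₁ := by rw [← h7]; ring
        rw [h8, hdiff, hy', pow_succ]
        ring
      obtain ⟨x₂, hx₂⟩ := ih (k + 1) (by omega) (by omega) (z * u₁) hz₁ hz₁'
      refine ⟨x₁ * x₂, ?_⟩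
      rw [map_mul]
      calc x₁ * x₂ * (D.tauR x₁ * D.tauR x₂) = nrm * (x₂ * D.tauR x₂) := by rw [hnrm]; ring
        _ = nrm * (z * u₁) := by rw [hx₂]
        _ = z * (nrm * u₁) := by ring
        _ = z := by rw [hnu, mul_one]

/-- the norm is onto the symmetric units -/
theorem RegU.norm_surj (z : ↥D.E.R) (hz : D.tauR z = z) (hze : D.E.eps z ≠ 0) :
    ∃ x : ↥D.E.R, x * D.tauR x = z := by
  classical
  set e : K := D.E.eps z with he
  have hefix : e ^ q = e := by
    have := D.eps_tauR z
    rw [hz] at this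
    exact this.symm
  have hmem : e ∈ Cfsg.Agent.Helper19.hermFixed K q :=
    Cfsg.Agent.Helper19.mem_hermFixed.mpr ⟨hze, hefix⟩
  obtain ⟨-, hfib⟩ := Cfsg.Agent.Helper19.herm_sandwich hK
  have hpos : 0 < (Finset.univ.filter (fun x : K => x ^ (q + 1) = e)).card := by
    rw [hfib e hmem]; omega
  obtain ⟨c, hc⟩ := Finset.card_pos.mp hpos
  rw [Finset.mem_filter] at hc
  have hc' : c * sg hK c = e := by rw [sg_apply, ← pow_succ', hc.2]
  set z' : ↥D.E.R := algebraMap K ↥D.E.R e⁻¹ * z with hz'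
  have hτz' : D.tauR z' = z' := by
    rw [hz', map_mul, D.tauR_algebraMap, hz, sg_apply, inv_pow, hefix]
  have hepsz' : D.E.eps z' = 1 := by
    rw [hz', map_mul, D.E.eps_algebraMap, ← he, inv_mul_cancel₀ hze]
  obtain ⟨y, hy⟩ := D.E.exists_mul_of_eps (z' - 1) (by rw [map_sub, hepsz', map_one, sub_self])
  obtain ⟨x', hx'⟩ := D.norm_aux n 1 le_rfl (by omega) z' hτz' ⟨y, by rw [pow_one, ← hy]; ring⟩
  refine ⟨algebraMap K ↥D.E.R c * x', ?_⟩
  rw [map_mul, D.tauR_algebraMap]
  calc algebraMap K ↥D.E.R c * x' * (algebraMap K ↥D.E.R (sg hK c) * D.tauR x')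
      = (algebraMap K ↥D.E.R c * algebraMap K ↥D.E.R (sg hK c)) * (x' * D.tauR x') := by ring
    _ = algebraMap K ↥D.E.R e * z' := by rw [hx', ← map_mul, hc']
    _ = z := by
        rw [hz', ← mul_assoc, ← map_mul, mul_inv_cancel₀ hze, map_one, one_mul]

end norm

end Cfsg.Agent.Helper42.SUReg
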