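import Mathlib

set_option autoImplicit false

/-!
# The Cayley correspondence in a commutative local ring with involution
-/

namespace Cfsg.Agent.Helper42.SpReg

section abs

variable {R : Type*} [CommRing R] {F : Type*} [Field F]

/-- the Cayley map `z ↦ 2 (1+z)⁻¹ - 1` on elements with `1 + z` invertible -/
noncomputable def cay (z : {z : R // IsUnit (1 + z)}) : R :=
  2 * ((z.2.unit⁻¹ : Rˣ) : R) - 1

lemma one_add_mul_inv (z : {z : R // IsUnit (1 + z)}) :
    (1 + z.1) * ((z.2.unit⁻¹ : Rˣ) : R) = 1 := z.2.mul_val_inv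

lemma one_add_cay (z : {z : R // IsUnit (1 + z)}) :
    1 + cay z = 2 * ((z.2.unit⁻¹ : Rˣ) : R) := by
  unfold cay; ring

lemma isUnit_one_add_cay (h2 : IsUnit (2 : R)) (z : {z : R // IsUnit (1 + z)}) :
    IsUnit (1 + cay z) := by
  rw [one_add_cay]
  exact h2.mul (Units.isUnit _)

/-- the Cayley map as a self-map -/
noncomputable def cayU (h2 : IsUnit (2 : R)) (z : {z : R // IsUnit (1 + z)}) :
    {z : R // IsUnit (1 + z)} := ⟨cay z, isUnit_one_add_cay h2 z⟩

lemma cayU_cayU (h2 : IsUnit (2 : R)) (z : {z : R // IsUnit (1 + z)}) :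
    cayU h2 (cayU h2 z) = z := by
  apply Subtype.ext
  show cay (cayU h2 z) = z.1
  set b : R := ((z.2.unit⁻¹ : Rˣ) : R) with hb
  set d : R := (((cayU h2 z).2.unit⁻¹ : Rˣ) : R) with hd
  have h1 : (1 + z.1) * b = 1 := one_add_mul_inv z
  have h3 : (1 + cay z) * d = 1 := one_add_mul_inv (cayU h2 z)
  rw [one_add_cay] at h3
  have h4 : 2 * d = 1 + z.1 := by
    have : (1 + z.1) * (2 * b * d) = 1 + z.1 := by rw [h3, mul_one]
    calc 2 * d = ((1 + z.1) * b) * (2 * d) := by rw [h1, one_mul]
      _ = (1 + z.1) * (2 * b * d) := by ring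
      _ = 1 + z.1 := this
  show 2 * d - 1 = z.1
  rw [h4]; ring

/-- the Cayley map as an equivalence -/
noncomputable def cayEquiv (h2 : IsUnit (2 : R)) :
    {z : R // IsUnit (1 + z)} ≃ {z : R // IsUnit (1 + z)} where
  toFun := cayU h2
  invFun := cayU h2
  left_inv := cayU_cayU h2
  right_inv := cayU_cayU h2

lemma cay_iff (h2 : IsUnit (2 : R)) (τ : R →+* R) (z : {z : R // IsUnit (1 + z)}) :
    z.1 * τ z.1 = 1 ↔ τ (cay z) = - cay z := by
  set b : R := ((z.2.unit⁻¹ : Rˣ) : R) with hb
  have h1 : (1 + z.1) * b = 1 := one_add_mul_inv z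
  have h1' : (1 + τ z.1) * τ b = 1 := by
    have := congrArg τ h1
    simpa using this
  have hcay : cay z = 2 * b - 1 := rfl
  have hτcay : τ (cay z) = 2 * τ b - 1 := by
    rw [hcay, map_sub, map_mul, map_ofNat, map_one]
  rw [hτcay, hcay]
  have hbunit : IsUnit (b * τ b) := by
    refine IsUnit.of_mul_eq_one ((1 + z.1) * (1 + τ z.1)) ?_
    calc b * τ b * ((1 + z.1) * (1 + τ z.1)) = ((1 + z.1) * b) * ((1 + τ z.1) * τ b) := by ring
      _ = 1 := by rw [h1, h1', one_mul]
  constructor
  · intro hz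
    have h3 : (1 + z.1) * (1 + τ z.1) = (1 + z.1) + (1 + τ z.1) := by
      have : (1 + z.1) * (1 + τ z.1) = 1 + z.1 + τ z.1 + z.1 * τ z.1 := by ring
      rw [this, hz]; ring
    have h4 : τ b + b = 1 := by
      calc τ b + b = τ b * ((1 + z.1) * b) + b * ((1 + τ z.1) * τ b) := by rw [h1, h1', mul_one, mul_one]
        _ = b * τ b * ((1 + z.1) + (1 + τ z.1)) := by ring
        _ = b * τ b * ((1 + z.1) * (1 + τ z.1)) := by rw [h3]
        _ = ((1 + z.1) * b) * ((1 + τ z.1) * τ b) := by ring
        _ = 1 := by rw [h1, h1', one_mul]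
    have : 2 * τ b - 1 + (2 * b - 1) = 0 := by
      have : 2 * τ b - 1 + (2 * b - 1) = 2 * (τ b + b) - 2 := by ring
      rw [this, h4]; ring
    exact eq_neg_of_add_eq_zero_left this
  · intro hy
    have h4 : τ b + b = 1 := by
      have h5 : 2 * (τ b + b) = 2 * 1 := by
        have : 2 * τ b - 1 + (2 * b - 1) = 0 := by rw [hy]; ring
        linear_combination this
      exact h2.mul_left_cancel h5
    have h3 : b * τ b * ((1 + z.1) * (1 + τ z.1)) = b * τ b * ((1 + z.1) + (1 + τ z.1)) := by
      calc b * τ b * ((1 + z.1) * (1 + τ z.1)) = ((1 + z.1) * b) * ((1 + τ z.1) * τ b) := by ring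
        _ = 1 := by rw [h1, h1', one_mul]
        _ = τ b + b := h4.symm
        _ = τ b * ((1 + z.1) * b) + b * ((1 + τ z.1) * τ b) := by rw [h1, h1', mul_one, mul_one]
        _ = b * τ b * ((1 + z.1) + (1 + τ z.1)) := by ring
    have h6 := hbunit.mul_left_cancel h3
    have : (1 + z.1) * (1 + τ z.1) = 1 + z.1 + τ z.1 + z.1 * τ z.1 := by ring
    rw [this] at h6
    linear_combination h6

end abs

end Cfsg.Agent.Helper42.SpReg

namespace Cfsg.Agent.Helper42.SpReg

section count

variable {R : Type*} [CommRing R] [Finite R] {F : Type*} [Field F]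

theorem card_norm_one (h2 : (2 : F) ≠ 0) (ε : R →+* F) (hε : ∀ z : R, IsUnit z ↔ ε z ≠ 0)
    (τ : R →+* R) (hετ : ∀ z, ε (τ z) = ε z) :
    Nat.card {x : R // x * τ x = 1} = 2 * Nat.card {y : R // τ y = -y} := by
  classical
  have h2R : IsUnit (2 : R) := by
    rw [hε, map_ofNat]; exact h2
  have hneg1 : (1 : F) ≠ -1 := by
    intro h
    apply h2
    have : (2 : F) = 1 + 1 := by norm_num
    rw [this]; nth_rewrite 2 [h]; ring
  -- the value of ε on the norm-one elements
  have hεC : ∀ x : R, x * τ x = 1 → ε x = 1 ∨ ε x = -1 := by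
    intro x hx
    have := congrArg ε hx
    rw [map_mul, hετ, map_one] at this
    exact mul_self_eq_one_iff.mp this
  have hP : ∀ x : R, x * τ x = 1 → (IsUnit (1 + x) ↔ ε x = 1) := by
    intro x hx
    rw [hε, map_add, map_one]
    rcases hεC x hx with h | h
    · rw [h]
      constructor
      · intro _; rfl
      · intro _
        have : (1 : F) + 1 = 2 := by norm_num
        rw [this]; exact h2
    · rw [h]
      constructor
      · intro h0; exact absurd (by ring) h0
      · intro h1; exact absurd h1.symm hneg1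
  -- split
  have : Fintype {x : R // x * τ x = 1} := Fintype.ofFinite _
  have hsplit := Fintype.card_subtype_compl (fun x : {x : R // x * τ x = 1} => IsUnit (1 + x.1))
  have hle : Fintype.card {x : {x : R // x * τ x = 1} // IsUnit (1 + x.1)} ≤
      Fintype.card {x : R // x * τ x = 1} := Fintype.card_subtype_le _
  -- negation
  have eneg : {x : {x : R // x * τ x = 1} // ¬ IsUnit (1 + x.1)} ≃
      {x : {x : R // x * τ x = 1} // IsUnit (1 + x.1)} :=
    { toFun := fun x => ⟨⟨-x.1.1, by rw [map_neg, neg_mul_neg]; exact x.1.2⟩, by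
        have hx := x.1.2
        have h1 : ε x.1.1 = -1 := by
          rcases hεC _ hx with h | h
          · exact absurd ((hP _ hx).mpr h) x.2
          · exact h
        show IsUnit (1 + -x.1.1)
        rw [hP _ (by rw [map_neg, neg_mul_neg]; exact hx), map_neg, h1, neg_neg]⟩
      invFun := fun x => ⟨⟨-x.1.1, by rw [map_neg, neg_mul_neg]; exact x.1.2⟩, by
        have hx := x.1.2
        have h1 : ε x.1.1 = 1 := (hP _ hx).mp x.2
        show ¬ IsUnit (1 + -x.1.1)
        rw [hP _ (by rw [map_neg, neg_mul_neg]; exact hx), map_neg, h1]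
        exact fun h => hneg1 h.symm⟩
      left_inv := fun x => by
        apply Subtype.ext; apply Subtype.ext
        show - -x.1.1 = x.1.1
        rw [neg_neg]
      right_inv := fun x => by
        apply Subtype.ext; apply Subtype.ext
        show - -x.1.1 = x.1.1
        rw [neg_neg] }
  -- Cayley
  have hS : ∀ y : R, τ y = -y → IsUnit (1 + y) := by
    intro y hy
    have h1 : ε y = 0 := by
      have := congrArg ε hy
      rw [hετ, map_neg] at this
      have h3 : (2 : F) * ε y = 0 := by linear_combination this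
      exact (mul_eq_zero.mp h3).resolve_left h2
    rw [hε, map_add, map_one, h1, add_zero]
    exact one_ne_zero
  have e1 : {x : {x : R // x * τ x = 1} // IsUnit (1 + x.1)} ≃
      {z : {z : R // IsUnit (1 + z)} // z.1 * τ z.1 = 1} :=
    { toFun := fun x => ⟨⟨x.1.1, x.2⟩, x.1.2⟩
      invFun := fun z => ⟨⟨z.1.1, z.2⟩, z.1.2⟩
      left_inv := fun x => rfl
      right_inv := fun z => rfl }
  have e2 : {z : {z : R // IsUnit (1 + z)} // z.1 * τ z.1 = 1} ≃
      {z : {z : R // IsUnit (1 + z)} // τ z.1 = -z.1} :=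
    (cayEquiv h2R).subtypeEquiv (fun z => cay_iff h2R τ z)
  have e3 : {z : {z : R // IsUnit (1 + z)} // τ z.1 = -z.1} ≃ {y : R // τ y = -y} :=
    { toFun := fun z => ⟨z.1.1, z.2⟩
      invFun := fun y => ⟨⟨y.1, hS y.1 y.2⟩, y.2⟩
      left_inv := fun z => rfl
      right_inv := fun y => rfl }
  have hc1 : Nat.card {x : {x : R // x * τ x = 1} // IsUnit (1 + x.1)} =
      Nat.card {y : R // τ y = -y} := Nat.card_congr ((e1.trans e2).trans e3)
  have hc2 : Nat.card {x : {x : R // x * τ x = 1} // ¬ IsUnit (1 + x.1)} =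
      Nat.card {y : R // τ y = -y} := (Nat.card_congr eneg).trans hc1
  rw [Nat.card_eq_fintype_card] at hc1 hc2
  rw [Nat.card_eq_fintype_card]
  omega

end count

end Cfsg.Agent.Helper42.SpReg
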