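import Mathlib
import Cfsg.Agent.Lib.Helper42.SpReg3

set_option autoImplicit false
set_option linter.unusedSectionVars false

namespace Cfsg.Agent.Helper42.SpReg

open Matrix Polynomial Module
open scoped IsMulCommutative

/-- a regular unipotent symplectic matrix -/
structure RegSp (F : Type*) [Field F] (m : ℕ) where
  A : Matrix (Fin m ⊕ Fin m) (Fin m ⊕ Fin m) F
  hA : A ∈ symplecticGroup (Fin m) F
  hnil : (A - 1) ^ (2 * m) = 0
  hreg : (A - 1).rank = 2 * m - 1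
  hm : 1 ≤ m

section reg

variable {F : Type*} [Field F] {m : ℕ} (D : RegSp F m)

lemma card_idx : Fintype.card (Fin m ⊕ Fin m) = 2 * m := by
  rw [Fintype.card_sum, Fintype.card_fin]; ring

/-- the nilpotent part -/
def RegSp.N : Matrix (Fin m ⊕ Fin m) (Fin m ⊕ Fin m) F := D.A - 1

lemma RegSp.hnil' : D.N ^ Fintype.card (Fin m ⊕ Fin m) = 0 := by
  rw [card_idx]; exact D.hnil

lemma RegSp.hreg' : D.N.rank = Fintype.card (Fin m ⊕ Fin m) - 1 := by
  rw [card_idx]; exact D.hreg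

include D in
lemma RegSp.hpos : 0 < Fintype.card (Fin m ⊕ Fin m) := by
  rw [card_idx]; have := D.hm; omega

lemma RegSp.N_pow : D.N ^ (2 * m) = 0 := D.hnil

/-- the commutant algebra -/
def RegSp.R : Subalgebra F (Matrix (Fin m ⊕ Fin m) (Fin m ⊕ Fin m) F) :=
  Algebra.adjoin F ({D.N} : Set (Matrix (Fin m ⊕ Fin m) (Fin m ⊕ Fin m) F))

lemma RegSp.mem_R_iff (X : Matrix (Fin m ⊕ Fin m) (Fin m ⊕ Fin m) F) :
    X ∈ D.R ↔ ∃ p : F[X], aeval D.N p = X := by
  unfold RegSp.R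
  rw [Algebra.adjoin_singleton_eq_range_aeval]
  rfl

lemma RegSp.mem_R_of_commute (X : Matrix (Fin m ⊕ Fin m) (Fin m ⊕ Fin m) F)
    (h : X * D.N = D.N * X) : X ∈ D.R :=
  (D.mem_R_iff X).mpr (exists_aeval_of_commute D.N D.hnil' D.hreg' D.hpos X h)

lemma RegSp.commute_of_mem (X : Matrix (Fin m ⊕ Fin m) (Fin m ⊕ Fin m) F) (h : X ∈ D.R) :
    X * D.N = D.N * X := by
  obtain ⟨p, rfl⟩ := (D.mem_R_iff X).mp h
  have h1 : aeval D.N (p * Polynomial.X) = aeval D.N (Polynomial.X * p) := by rw [mul_comm]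
  rwa [map_mul, map_mul, aeval_X] at h1

lemma RegSp.N_mem : D.N ∈ D.R := (D.mem_R_iff _).mpr ⟨Polynomial.X, aeval_X _⟩

lemma RegSp.A_eq : D.A = 1 + D.N := by unfold RegSp.N; abel

lemma RegSp.commute_A_iff (X : Matrix (Fin m ⊕ Fin m) (Fin m ⊕ Fin m) F) :
    X * D.A = D.A * X ↔ X * D.N = D.N * X := by
  rw [D.A_eq, Matrix.mul_add, Matrix.add_mul, Matrix.mul_one, Matrix.one_mul, add_right_inj]

lemma RegSp.exists_w0 : ∃ w : Fin m ⊕ Fin m → F, w ≠ 0 ∧ D.N *ᵥ w = 0 := by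
  have h1 := LinearMap.finrank_range_add_finrank_ker (Matrix.toLin' D.N)
  rw [Module.finrank_fintype_fun_eq_card] at h1
  have h2 : finrank F (LinearMap.range (Matrix.toLin' D.N)) = D.N.rank := rfl
  have h3 : 0 < finrank F (LinearMap.ker (Matrix.toLin' D.N)) := by
    have := D.hreg'
    have := D.hpos
    omega
  obtain ⟨⟨w, hw⟩, hw0⟩ := Module.finrank_pos_iff_exists_ne_zero.mp h3
  refine ⟨w, fun h => hw0 (Subtype.ext h), ?_⟩
  rw [LinearMap.mem_ker, Matrix.toLin'_apply] at hw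
  exact hw

/-- the socle vector -/
noncomputable def RegSp.w0 : Fin m ⊕ Fin m → F := D.exists_w0.choose

lemma RegSp.w0_ne : D.w0 ≠ 0 := D.exists_w0.choose_spec.1

lemma RegSp.N_w0 : D.N *ᵥ D.w0 = 0 := D.exists_w0.choose_spec.2

lemma RegSp.exists_i0 : ∃ i, D.w0 i ≠ 0 := by
  by_contra h
  push Not at h
  exact D.w0_ne (funext h)

noncomputable def RegSp.i0 : Fin m ⊕ Fin m := D.exists_i0.choose

lemma RegSp.w0_i0 : D.w0 D.i0 ≠ 0 := D.exists_i0.choose_spec

/-- the augmentation as a function on all matrices -/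
noncomputable def RegSp.epsFun (X : Matrix (Fin m ⊕ Fin m) (Fin m ⊕ Fin m) F) : F :=
  (X *ᵥ D.w0) D.i0 / D.w0 D.i0

lemma RegSp.aeval_mulVec_w0 (Z : Matrix (Fin m ⊕ Fin m) (Fin m ⊕ Fin m) F) (hZ : Z *ᵥ D.w0 = 0)
    (p : F[X]) : (aeval Z p) *ᵥ D.w0 = p.coeff 0 • D.w0 := by
  conv_lhs => rw [← Polynomial.divX_mul_X_add p]
  rw [map_add, map_mul, aeval_X, aeval_C, Matrix.add_mulVec, ← Matrix.mulVec_mulVec, hZ,
    Matrix.mulVec_zero, zero_add, Algebra.algebraMap_eq_smul_one, Matrix.smul_mulVec,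
    Matrix.one_mulVec]

lemma RegSp.epsFun_aeval (Z : Matrix (Fin m ⊕ Fin m) (Fin m ⊕ Fin m) F) (hZ : Z *ᵥ D.w0 = 0)
    (p : F[X]) : D.epsFun (aeval Z p) = p.coeff 0 := by
  unfold RegSp.epsFun
  rw [D.aeval_mulVec_w0 Z hZ p, Pi.smul_apply, smul_eq_mul, mul_div_assoc, div_self D.w0_i0, mul_one]

/-- the augmentation -/
noncomputable def RegSp.eps : ↥D.R →+* F where
  toFun x := D.epsFun x.1
  map_one' := by
    have : ((1 : ↥D.R) : Matrix (Fin m ⊕ Fin m) (Fin m ⊕ Fin m) F) = aeval D.N (1 : F[X]) := by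
      rw [map_one]; rfl
    show D.epsFun ((1 : ↥D.R) : Matrix (Fin m ⊕ Fin m) (Fin m ⊕ Fin m) F) = 1
    rw [this, D.epsFun_aeval D.N D.N_w0, Polynomial.coeff_one_zero]
  map_mul' x y := by
    obtain ⟨p, hp⟩ := (D.mem_R_iff x.1).mp x.2
    obtain ⟨q, hq⟩ := (D.mem_R_iff y.1).mp y.2
    show D.epsFun (x.1 * y.1) = D.epsFun x.1 * D.epsFun y.1
    rw [← hp, ← hq, ← map_mul, D.epsFun_aeval D.N D.N_w0, D.epsFun_aeval D.N D.N_w0,
      D.epsFun_aeval D.N D.N_w0, Polynomial.mul_coeff_zero]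
  map_zero' := by
    show D.epsFun 0 = 0
    unfold RegSp.epsFun
    rw [Matrix.zero_mulVec, Pi.zero_apply, zero_div]
  map_add' x y := by
    show D.epsFun (x.1 + y.1) = D.epsFun x.1 + D.epsFun y.1
    unfold RegSp.epsFun
    rw [Matrix.add_mulVec, Pi.add_apply, add_div]

lemma RegSp.eps_apply (x : ↥D.R) : D.eps x = D.epsFun x.1 := rfl

lemma RegSp.isUnit_iff (x : ↥D.R) : IsUnit x ↔ D.eps x ≠ 0 := by
  constructor
  · rintro ⟨u, rfl⟩
    intro h
    have h1 : D.eps (u : ↥D.R) * D.eps ((u⁻¹ : (↥D.R)ˣ) : ↥D.R) = 1 := by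
      rw [← map_mul, Units.mul_inv, map_one]
    rw [h, zero_mul] at h1
    exact zero_ne_one h1
  · intro h
    obtain ⟨p, hp⟩ := (D.mem_R_iff x.1).mp x.2
    have hc : D.eps x = p.coeff 0 := by
      rw [D.eps_apply, ← hp, D.epsFun_aeval D.N D.N_w0]
    rw [hc] at h
    -- decomposition
    let n : ↥D.R := ⟨aeval D.N (p.divX * Polynomial.X), (D.mem_R_iff _).mpr ⟨_, rfl⟩⟩
    have hx : x = algebraMap F ↥D.R (p.coeff 0) + n := by
      apply Subtype.ext
      show x.1 = algebraMap F _ (p.coeff 0) + aeval D.N (p.divX * Polynomial.X)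
      rw [← hp]
      conv_lhs => rw [← Polynomial.divX_mul_X_add p]
      rw [map_add, aeval_C, add_comm]
    have hnil : IsNilpotent n := by
      refine ⟨2 * m, ?_⟩
      apply Subtype.ext
      show (aeval D.N (p.divX * Polynomial.X)) ^ (2 * m) = 0
      rw [map_mul, aeval_X]
      have hcomm : Commute (aeval D.N p.divX) D.N := by
        have := D.commute_of_mem (aeval D.N p.divX) ((D.mem_R_iff _).mpr ⟨_, rfl⟩)
        exact this
      rw [hcomm.mul_pow, D.N_pow, mul_zero]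
    have hu : IsUnit (algebraMap F ↥D.R (p.coeff 0)) := (IsUnit.mk0 _ h).map _
    rw [hx]
    exact hnil.isUnit_add_left_of_commute hu (Algebra.commute_algebraMap_right _ _)

end reg

end Cfsg.Agent.Helper42.SpReg
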