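import Mathlib
import Cfsg.Agent.Lib.Helper42.SpReg4
import Cfsg.Agent.Lib.Helper42.SpReg1

set_option autoImplicit false
set_option linter.unusedSectionVars false

namespace Cfsg.Agent.Helper42.SpReg

open Matrix Polynomial Module
open scoped IsMulCommutative

section reg

variable {F : Type*} [Field F] {m : ℕ} (D : RegSp F m)

noncomputable instance RegSp.instCommRingR : CommRing ↥D.R :=
  inferInstanceAs (CommRing ↥(Algebra.adjoin F
    ({D.N} : Set (Matrix (Fin m ⊕ Fin m) (Fin m ⊕ Fin m) F))))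

lemma tau_aeval (X : Matrix (Fin m ⊕ Fin m) (Fin m ⊕ Fin m) F) (p : F[X]) :
    tau (aeval X p) = aeval (tau X) p := by
  induction p using Polynomial.induction_on' with
  | add p q hp hq => rw [map_add, map_add, tau_add, hp, hq]
  | monomial n a =>
    rw [Polynomial.aeval_monomial, Polynomial.aeval_monomial, Algebra.algebraMap_eq_smul_one,
      smul_mul_assoc, smul_mul_assoc, one_mul, one_mul, tau_smul, tau_pow]

lemma RegSp.A_tau : D.A * tau D.A = 1 := (mem_symp_iff D.A).mp D.hA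

lemma RegSp.tau_A_mul : tau D.A * D.A = 1 := mul_eq_one_comm.mp D.A_tau

lemma RegSp.tau_N : tau D.N = tau D.A - 1 := by
  unfold RegSp.N
  rw [tau_sub, tau_one]

lemma RegSp.tau_N_eq : tau D.N = -(tau D.A * D.N) := by
  rw [D.tau_N]
  unfold RegSp.N
  rw [Matrix.mul_sub, D.tau_A_mul, Matrix.mul_one]
  abel

lemma RegSp.tau_N_commute : tau D.N * D.N = D.N * tau D.N := by
  rw [D.tau_N]
  unfold RegSp.N
  simp only [Matrix.sub_mul, Matrix.mul_sub, D.tau_A_mul, D.A_tau, Matrix.mul_one, Matrix.one_mul]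
  abel

lemma RegSp.tau_N_mem : tau D.N ∈ D.R := D.mem_R_of_commute _ D.tau_N_commute

lemma RegSp.tau_N_w0 : tau D.N *ᵥ D.w0 = 0 := by
  rw [D.tau_N_eq, Matrix.neg_mulVec, ← Matrix.mulVec_mulVec, D.N_w0, Matrix.mulVec_zero, neg_zero]

lemma RegSp.tau_mem (X : Matrix (Fin m ⊕ Fin m) (Fin m ⊕ Fin m) F) (hX : X ∈ D.R) :
    tau X ∈ D.R := by
  obtain ⟨p, rfl⟩ := (D.mem_R_iff X).mp hX
  obtain ⟨t, ht⟩ := (D.mem_R_iff _).mp D.tau_N_mem
  rw [tau_aeval, ← ht, ← Polynomial.aeval_comp]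
  exact (D.mem_R_iff _).mpr ⟨_, rfl⟩

lemma RegSp.mul_comm' (X Y : Matrix (Fin m ⊕ Fin m) (Fin m ⊕ Fin m) F) (hX : X ∈ D.R)
    (hY : Y ∈ D.R) : X * Y = Y * X := by
  obtain ⟨p, rfl⟩ := (D.mem_R_iff X).mp hX
  obtain ⟨q, rfl⟩ := (D.mem_R_iff Y).mp hY
  rw [← map_mul, ← map_mul, mul_comm]

/-- the symplectic adjoint on the commutant -/
noncomputable def RegSp.tauR : ↥D.R →+* ↥D.R where
  toFun x := ⟨tau x.1, D.tau_mem x.1 x.2⟩
  map_one' := by
    apply Subtype.ext
    show tau (1 : Matrix (Fin m ⊕ Fin m) (Fin m ⊕ Fin m) F) = 1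
    exact tau_one
  map_mul' x y := by
    apply Subtype.ext
    show tau (x.1 * y.1) = tau x.1 * tau y.1
    rw [tau_mul]
    exact D.mul_comm' _ _ (D.tau_mem _ y.2) (D.tau_mem _ x.2)
  map_zero' := by
    apply Subtype.ext
    show tau (0 : Matrix (Fin m ⊕ Fin m) (Fin m ⊕ Fin m) F) = 0
    exact tau_zero
  map_add' x y := by
    apply Subtype.ext
    show tau (x.1 + y.1) = tau x.1 + tau y.1
    exact tau_add _ _

lemma RegSp.tauR_val (x : ↥D.R) : (D.tauR x).1 = tau x.1 := rfl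

lemma RegSp.eps_tauR (x : ↥D.R) : D.eps (D.tauR x) = D.eps x := by
  obtain ⟨p, hp⟩ := (D.mem_R_iff x.1).mp x.2
  rw [D.eps_apply, D.eps_apply, D.tauR_val, ← hp, tau_aeval, D.epsFun_aeval _ D.tau_N_w0,
    D.epsFun_aeval _ D.N_w0]

lemma RegSp.tauR_tauR (x : ↥D.R) : D.tauR (D.tauR x) = x := by
  apply Subtype.ext
  show tau (tau x.1) = x.1
  exact tau_tau _

lemma RegSp.tauR_smul (c : F) (x : ↥D.R) : D.tauR (c • x) = c • D.tauR x := by
  apply Subtype.ext
  show tau (c • x.1) = c • tau x.1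
  exact tau_smul _ _

instance RegSp.finiteR [Finite F] : Finite ↥D.R := by
  have : Finite (Matrix (Fin m ⊕ Fin m) (Fin m ⊕ Fin m) F) := by
    unfold Matrix; infer_instance
  exact Subtype.finite

/-- the count of the norm-one elements in terms of the skew elements -/
theorem RegSp.card_norm_one_R [Finite F] (h2 : (2 : F) ≠ 0) :
    Nat.card {x : ↥D.R // x * D.tauR x = 1} = 2 * Nat.card {y : ↥D.R // D.tauR y = -y} :=
  card_norm_one h2 D.eps D.isUnit_iff D.tauR D.eps_tauR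

end reg

end Cfsg.Agent.Helper42.SpReg
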