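import Mathlib
import Cfsg.Agent.Lib.Helper42.SpReg5
import Cfsg.Agent.Lib.Helper43.DotOrth

set_option autoImplicit false
set_option linter.unusedSectionVars false

namespace Cfsg.Agent.Helper42.SpReg

open Matrix Polynomial Module
open scoped IsMulCommutative

section skew

variable {F : Type*} [Field F] {ι : Type*} [Fintype ι] [DecidableEq ι]

lemma dot_skew (h2 : (2 : F) ≠ 0) (B : Matrix ι ι F) (hB : Bᵀ = -B) (v : ι → F) :
    v ⬝ᵥ B *ᵥ v = 0 := by
  have h1 : v ⬝ᵥ B *ᵥ v = -(v ⬝ᵥ B *ᵥ v) := by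
    calc v ⬝ᵥ B *ᵥ v = (v ᵥ* B) ⬝ᵥ v := Matrix.dotProduct_mulVec _ _ _
      _ = (Bᵀ *ᵥ v) ⬝ᵥ v := by rw [Matrix.mulVec_transpose]
      _ = -(B *ᵥ v ⬝ᵥ v) := by rw [hB, Matrix.neg_mulVec, neg_dotProduct]
      _ = -(v ⬝ᵥ B *ᵥ v) := by rw [dotProduct_comm]
  have h3 : (2 : F) * (v ⬝ᵥ B *ᵥ v) = 0 := by
    rw [two_mul]
    nth_rewrite 1 [h1]
    exact neg_add_cancel _
  rcases mul_eq_zero.mp h3 with h | h
  · exact absurd h h2
  · exact h

lemma mulVec_dot (X : Matrix ι ι F) (v u : ι → F) : (X *ᵥ v) ⬝ᵥ u = v ⬝ᵥ (Xᵀ *ᵥ u) := by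
  rw [Matrix.dotProduct_mulVec, Matrix.vecMul_transpose]

end skew

section reg

variable {F : Type*} [Field F] {m : ℕ} (D : RegSp F m)

lemma RegSp.exists_v : ∃ v : Fin m ⊕ Fin m → F,
    ((Matrix.toLin' D.N) ^ (finrank F (Fin m ⊕ Fin m → F) - 1)) v ≠ 0 :=
  Cfsg.Agent.Helper43.exists_cyclic_vector (Matrix.toLin' D.N)
    (by rw [finrank_fintype_fun_eq_card]; exact D.hpos) (toLin'_pow_finrank D.N D.hnil')
    (finrank_ker_toLin'_le_one D.N D.hreg' D.hpos)

/-- a cyclic vector -/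
noncomputable def RegSp.v : Fin m ⊕ Fin m → F := D.exists_v.choose

lemma RegSp.v_spec : ((Matrix.toLin' D.N) ^ (finrank F (Fin m ⊕ Fin m → F) - 1)) D.v ≠ 0 :=
  D.exists_v.choose_spec

/-- evaluation at the cyclic vector -/
noncomputable def RegSp.ev : ↥D.R →ₗ[F] (Fin m ⊕ Fin m → F) where
  toFun x := x.1 *ᵥ D.v
  map_add' x y := Matrix.add_mulVec _ _ _
  map_smul' c x := Matrix.smul_mulVec _ _ _

lemma RegSp.ev_apply (x : ↥D.R) : D.ev x = x.1 *ᵥ D.v := rfl

lemma toLin'_commute {ι : Type*} [Fintype ι] [DecidableEq ι] (X N : Matrix ι ι F)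
    (h : X * N = N * X) : Commute (Matrix.toLin' X) (Matrix.toLin' N) := by
  show Matrix.toLin' X * Matrix.toLin' N = Matrix.toLin' N * Matrix.toLin' X
  rw [Module.End.mul_eq_comp, Module.End.mul_eq_comp, ← Matrix.toLin'_mul, ← Matrix.toLin'_mul, h]

lemma RegSp.ev_injective : Function.Injective D.ev := by
  intro x y hxy
  apply Subtype.ext
  have := Cfsg.Agent.Helper43.eq_of_commute_of_cyclic (Matrix.toLin' D.N)
    (toLin'_pow_finrank D.N D.hnil') (finrank_ker_toLin'_le_one D.N D.hreg' D.hpos) D.v D.v_spec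
    (Matrix.toLin' x.1) (Matrix.toLin' y.1) (toLin'_commute _ _ (D.commute_of_mem _ x.2))
    (toLin'_commute _ _ (D.commute_of_mem _ y.2))
    (by rw [Matrix.toLin'_apply, Matrix.toLin'_apply]; exact hxy)
  exact Matrix.toLin'.injective this

lemma RegSp.ev_surjective : Function.Surjective D.ev := by
  intro w
  obtain ⟨g, hg, hgw⟩ := Cfsg.Agent.Helper43.exists_commute_apply_eq (Matrix.toLin' D.N)
    (toLin'_pow_finrank D.N D.hnil') (finrank_ker_toLin'_le_one D.N D.hreg' D.hpos) D.v D.v_spec w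
  have hX : LinearMap.toMatrix' g * D.N = D.N * LinearMap.toMatrix' g := by
    apply Matrix.toLin'.injective
    rw [Matrix.toLin'_mul, Matrix.toLin'_mul, Matrix.toLin'_toMatrix']
    exact hg.eq
  refine ⟨⟨LinearMap.toMatrix' g, D.mem_R_of_commute _ hX⟩, ?_⟩
  rw [D.ev_apply]
  show LinearMap.toMatrix' g *ᵥ D.v = w
  rw [← Matrix.toLin'_apply, Matrix.toLin'_toMatrix']
  exact hgw

lemma RegSp.finrank_R : finrank F ↥D.R = 2 * m := by
  rw [(LinearEquiv.ofBijective D.ev ⟨D.ev_injective, D.ev_surjective⟩).finrank_eq,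
    finrank_fintype_fun_eq_card, card_idx]

/-- eigenspaces of the adjoint on the commutant -/
def RegSp.eig (s : F) : Submodule F ↥D.R where
  carrier := {x | D.tauR x = s • x}
  add_mem' := by
    intro x y hx hy
    show D.tauR (x + y) = s • (x + y)
    rw [map_add, smul_add]
    rw [Set.mem_ofPred_eq] at hx hy
    rw [hx, hy]
  zero_mem' := by
    show D.tauR 0 = s • (0 : ↥D.R)
    rw [map_zero, smul_zero]
  smul_mem' := by
    intro c x hx
    show D.tauR (c • x) = s • (c • x)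
    rw [Set.mem_ofPred_eq] at hx
    rw [D.tauR_smul, hx, smul_comm]

lemma RegSp.mem_eig (s : F) (x : ↥D.R) : x ∈ D.eig s ↔ D.tauR x = s • x := Iff.rfl

lemma J_mul_J : J (Fin m) F * J (Fin m) F = -1 := J_squared (Fin m) F

lemma RegSp.isotropic (h2 : (2 : F) ≠ 0) (s : F) (hs : s * s = 1) (x y : ↥D.R)
    (hx : x ∈ D.eig s) (hy : y ∈ D.eig s) :
    (D.ev x) ⬝ᵥ (J (Fin m) F *ᵥ D.ev y) = 0 := by
  rw [D.ev_apply, D.ev_apply, mulVec_dot, Matrix.mulVec_mulVec, Matrix.mulVec_mulVec,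
    transpose_mul_J]
  have hx' : tau x.1 = s • x.1 := by
    have := congrArg Subtype.val ((D.mem_eig s x).mp hx)
    exact this
  have hy' : tau y.1 = s • y.1 := by
    have := congrArg Subtype.val ((D.mem_eig s y).mp hy)
    exact this
  rw [hx', Matrix.mul_smul, Matrix.smul_mul, Matrix.smul_mulVec, dotProduct_smul, Matrix.mul_assoc]
  have hz : tau (x.1 * y.1) = x.1 * y.1 := by
    rw [tau_mul, hx', hy', Matrix.smul_mul, Matrix.mul_smul, smul_smul, hs, one_smul]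
    exact D.mul_comm' _ _ y.2 x.2
  have hB : (J (Fin m) F * (x.1 * y.1))ᵀ = -(J (Fin m) F * (x.1 * y.1)) := by
    rw [transpose_mul, J_transpose, Matrix.mul_neg, transpose_mul_J, hz]
  rw [dot_skew h2 _ hB, smul_zero]

lemma J_mulVec_injective : Function.Injective (Matrix.toLin' (J (Fin m) F)) := by
  intro a b hab
  have h1 : J (Fin m) F *ᵥ (J (Fin m) F *ᵥ a) = J (Fin m) F *ᵥ (J (Fin m) F *ᵥ b) := by
    rw [Matrix.toLin'_apply, Matrix.toLin'_apply] at hab
    rw [hab]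
  rw [Matrix.mulVec_mulVec, Matrix.mulVec_mulVec, J_mul_J, Matrix.neg_mulVec, Matrix.neg_mulVec,
    Matrix.one_mulVec, Matrix.one_mulVec] at h1
  exact neg_injective h1

lemma RegSp.finrank_eig_le (h2 : (2 : F) ≠ 0) (s : F) (hs : s * s = 1) :
    finrank F ↥(D.eig s) ≤ m := by
  let U : Submodule F (Fin m ⊕ Fin m → F) := (D.eig s).map D.ev
  let T : Submodule F (Fin m ⊕ Fin m → F) := U.map (Matrix.toLin' (J (Fin m) F))
  have hU : finrank F ↥U = finrank F ↥(D.eig s) :=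
    (Submodule.equivMapOfInjective D.ev D.ev_injective (D.eig s)).finrank_eq.symm
  have hT : finrank F ↥T = finrank F ↥U :=
    (Submodule.equivMapOfInjective _ J_mulVec_injective U).finrank_eq.symm
  have h := Cfsg.Agent.Helper43.finrank_add_le_of_dotProduct_eq_zero U T (by
    rintro a ⟨x, hx, rfl⟩ b ⟨c, ⟨y, hy, rfl⟩, rfl⟩
    rw [Matrix.toLin'_apply]
    exact D.isotropic h2 s hs x y hx hy)
  rw [card_idx] at h
  omega

lemma RegSp.eig_sup (h2 : (2 : F) ≠ 0) : D.eig 1 ⊔ D.eig (-1) = ⊤ := by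
  rw [eq_top_iff]
  intro x _
  rw [Submodule.mem_sup]
  refine ⟨(2 : F)⁻¹ • (x + D.tauR x), ?_, (2 : F)⁻¹ • (x - D.tauR x), ?_, ?_⟩
  · apply Submodule.smul_mem
    rw [D.mem_eig, map_add, D.tauR_tauR, one_smul, add_comm]
  · apply Submodule.smul_mem
    rw [D.mem_eig, map_sub, D.tauR_tauR, neg_one_smul, neg_sub]
  · rw [← smul_add]
    have : x + D.tauR x + (x - D.tauR x) = (2 : F) • x := by
      rw [two_smul]; abel
    rw [this, smul_smul, inv_mul_cancel₀ h2, one_smul]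

lemma RegSp.finrank_eig_neg (h2 : (2 : F) ≠ 0) : finrank F ↥(D.eig (-1)) = m := by
  have h1 := D.finrank_eig_le h2 1 (by ring)
  have h3 := D.finrank_eig_le h2 (-1) (by ring)
  have h4 := Submodule.finrank_add_le_finrank_add_finrank (D.eig 1) (D.eig (-1))
  rw [D.eig_sup h2, finrank_top, D.finrank_R] at h4
  omega

/-- the count of the skew elements -/
theorem RegSp.card_skew [Finite F] (h2 : (2 : F) ≠ 0) :
    Nat.card {y : ↥D.R // D.tauR y = -y} = Nat.card F ^ m := by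
  have h1 : Nat.card {y : ↥D.R // D.tauR y = -y} = Nat.card ↥(D.eig (-1)) := by
    apply Nat.card_congr
    refine Equiv.subtypeEquivRight ?_
    intro y
    rw [← SetLike.mem_coe]
    show _ ↔ D.tauR y = (-1 : F) • y
    rw [neg_one_smul]
  rw [h1, Module.natCard_eq_pow_finrank (K := F), D.finrank_eig_neg h2]

end reg

end Cfsg.Agent.Helper42.SpReg
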