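import Mathlib
import Cfsg.Agent.Lib.Helper42.SpReg6

set_option autoImplicit false
set_option linter.unusedSectionVars false

namespace Cfsg.Agent.Helper42.SpReg

open Matrix Polynomial Module
open scoped IsMulCommutative

section reg

variable {F : Type*} [Field F] {m : ℕ} (D : RegSp F m)

lemma two_ne_zero_of_odd [Fintype F] (hq : Odd (Fintype.card F)) : (2 : F) ≠ 0 := by
  intro h
  have h1 : ringChar F = 2 := CharP.ringChar_of_prime_eq_zero Nat.prime_two (by exact_mod_cast h)
  rw [FiniteField.even_card_iff_char_two] at h1
  rcases hq with ⟨k, hk⟩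
  omega

/-- the element of the symplectic group -/
def RegSp.u : ↥(symplecticGroup (Fin m) F) := ⟨D.A, D.hA⟩

/-- the centraliser as the norm-one group of the commutant -/
noncomputable def RegSp.centEquiv :
    ↥(Subgroup.centralizer ({D.u} : Set ↥(symplecticGroup (Fin m) F))) ≃
      {x : ↥D.R // x * D.tauR x = 1} where
  toFun g := ⟨⟨g.1.1, D.mem_R_of_commute _ ((D.commute_A_iff _).mp (by
      have h := Subgroup.mem_centralizer_singleton_iff.mp g.2
      have := congrArg Subtype.val h
      exact this))⟩, by
    apply Subtype.ext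
    show g.1.1 * tau g.1.1 = 1
    exact (mem_symp_iff _).mp g.1.2⟩
  invFun x := ⟨⟨x.1.1, (mem_symp_iff _).mpr (by
      have := congrArg Subtype.val x.2
      exact this)⟩, by
    rw [Subgroup.mem_centralizer_singleton_iff]
    apply Subtype.ext
    show x.1.1 * D.A = D.A * x.1.1
    exact (D.commute_A_iff _).mpr (D.commute_of_mem _ x.1.2)⟩
  left_inv g := by
    apply Subtype.ext
    apply Subtype.ext
    rfl
  right_inv x := by
    apply Subtype.ext
    apply Subtype.ext
    rfl

theorem RegSp.card_centralizer [Fintype F] (hq : Odd (Fintype.card F)) :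
    Nat.card ↥(Subgroup.centralizer ({D.u} : Set ↥(symplecticGroup (Fin m) F))) =
      2 * Fintype.card F ^ m := by
  have h2 := two_ne_zero_of_odd hq
  rw [Nat.card_congr D.centEquiv, D.card_norm_one_R h2, D.card_skew h2, Nat.card_eq_fintype_card]

end reg

end Cfsg.Agent.Helper42.SpReg
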