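import Mathlib
import Cfsg.Agent.Lib.Helper42.SpReg7

set_option autoImplicit false
set_option linter.unusedSectionVars false

namespace Cfsg.Agent.Helper42.SpReg

open Matrix Polynomial Module
open scoped IsMulCommutative

lemma cancel_l {M : Type*} [Monoid M] {a b : M} (h : a * b = 1) (X : M) : a * (b * X) = X := by
  rw [← mul_assoc, h, one_mul]

section reg

variable {F : Type*} [Field F] {m : ℕ} (D : RegSp F m)

lemma RegSp.mulVec_w0 (x : ↥D.R) : x.1 *ᵥ D.w0 = D.eps x • D.w0 := by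
  obtain ⟨p, hp⟩ := (D.mem_R_iff x.1).mp x.2
  rw [D.eps_apply, ← hp, D.epsFun_aeval _ D.N_w0, D.aeval_mulVec_w0 _ D.N_w0]

lemma RegSp.eps_smul (c : F) (x : ↥D.R) : D.eps (c • x) = c * D.eps x := by
  rw [D.eps_apply, D.eps_apply]
  show D.epsFun (c • x.1) = c * D.epsFun x.1
  unfold RegSp.epsFun
  rw [Matrix.smul_mulVec, Pi.smul_apply, smul_eq_mul, mul_div_assoc]

lemma RegSp.pow_eq_zero_of_eps (x : ↥D.R) (h : D.eps x = 0) : x ^ (2 * m) = 0 := by
  obtain ⟨p, hp⟩ := (D.mem_R_iff x.1).mp x.2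
  have hc : D.eps x = p.coeff 0 := by
    rw [D.eps_apply, ← hp, D.epsFun_aeval D.N D.N_w0]
  rw [hc] at h
  apply Subtype.ext
  show x.1 ^ (2 * m) = 0
  rw [← hp]
  conv_lhs => rw [← Polynomial.divX_mul_X_add p]
  rw [h, map_add, map_mul, aeval_X, map_zero, map_zero, add_zero]
  have hcomm : Commute (aeval D.N p.divX) D.N :=
    D.commute_of_mem (aeval D.N p.divX) ((D.mem_R_iff _).mpr ⟨_, rfl⟩)
  rw [hcomm.mul_pow, D.N_pow, mul_zero]

/-- square roots of symmetric elements whose augmentation is a square -/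
theorem RegSp.exists_sqrt [Fintype F] (hq : Odd (Fintype.card F)) (z : ↥D.R)
    (hz : D.tauR z = z) (a : F) (ha : a ≠ 0) (hza : D.eps z = a * a) :
    ∃ y : ↥D.R, D.tauR y = y ∧ y * y = z := by
  obtain ⟨p, hp⟩ := CharP.exists F
  have hprime : p.Prime := by
    rcases CharP.char_is_prime_or_zero F p with h | h
    · exact h
    · exfalso
      subst h
      have : CharZero F := CharP.charP_to_charZero F
      exact not_finite F
  have : Fact p.Prime := ⟨hprime⟩
  have : Nontrivial ↥D.R := D.eps.domain_nontrivial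
  have hcharR : CharP ↥D.R p := charP_of_injective_algebraMap (algebraMap F ↥D.R).injective p
  have hpodd : Odd p := by
    rcases hprime.eq_two_or_odd' with h | h
    · exfalso
      subst h
      have h2 : (2 : F) = 0 := by
        have := CharP.cast_eq_zero F 2
        exact_mod_cast this
      exact two_ne_zero_of_odd hq h2
    · exact h
  -- the normalised element
  set t : ↥D.R := (a * a)⁻¹ • z with ht
  have haa : a * a ≠ 0 := mul_ne_zero ha ha
  have ht_eps : D.eps t = 1 := by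
    rw [ht, D.eps_smul, hza, inv_mul_cancel₀ haa]
  have ht_tau : D.tauR t = t := by rw [ht, D.tauR_smul, hz]
  have hn : (t - 1) ^ (2 * m) = 0 := by
    apply D.pow_eq_zero_of_eps
    rw [map_sub, ht_eps, map_one, sub_self]
  have hle : 2 * m ≤ p ^ (2 * m) := (Nat.lt_pow_self hprime.one_lt).le
  have hn' : (t - 1) ^ (p ^ (2 * m)) = 0 := pow_eq_zero_of_le hle hn
  have htp : t ^ (p ^ (2 * m)) = 1 := by
    have h1 : t = (t - 1) + 1 := by ring
    rw [h1, add_pow_char_pow, hn', one_pow, zero_add]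
  obtain ⟨j, hj⟩ := hpodd.pow (n := 2 * m)
  refine ⟨a • t ^ (j + 1), ?_, ?_⟩
  · rw [D.tauR_smul, map_pow, ht_tau]
  · have h2 : t ^ (j + 1) * t ^ (j + 1) = t := by
      rw [← pow_add]
      have : j + 1 + (j + 1) = p ^ (2 * m) + 1 := by omega
      rw [this, pow_succ, htp, one_mul]
    rw [smul_mul_smul_comm, h2, ht, smul_smul, mul_inv_cancel₀ haa, one_smul]

/-- the cocycle element commutes with `A` -/
lemma RegSp.z_commute (g g' : Matrix (Fin m ⊕ Fin m) (Fin m ⊕ Fin m) F) (hgg' : g * g' = 1)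
    (hB : (g * D.A * g') * tau (g * D.A * g') = 1) :
    (tau g * g) * D.A = D.A * (tau g * g) := by
  have hg'g : g' * g = 1 := mul_eq_one_comm.mp hgg'
  have htg : tau g * tau g' = 1 := by rw [← tau_mul, hg'g, tau_one]
  have hB' : tau (g * D.A * g') * (g * D.A * g') = 1 := mul_eq_one_comm.mp hB
  rw [tau_mul, tau_mul] at hB'
  have h1 : tau D.A * (tau g * g) * D.A = tau g * g := by
    calc tau D.A * (tau g * g) * D.A
        = tau g * (tau g' * (tau D.A * tau g) * (g * D.A * g')) * g := by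
          simp only [mul_assoc, cancel_l htg, hg'g, mul_one]
      _ = tau g * g := by rw [hB', mul_one]
  calc (tau g * g) * D.A = D.A * tau D.A * (tau g * g) * D.A := by rw [D.A_tau, one_mul]
    _ = D.A * (tau D.A * (tau g * g) * D.A) := by simp only [mul_assoc]
    _ = D.A * (tau g * g) := by rw [h1]

lemma RegSp.z_mem (g g' : Matrix (Fin m ⊕ Fin m) (Fin m ⊕ Fin m) F) (hgg' : g * g' = 1)
    (hB : (g * D.A * g') * tau (g * D.A * g') = 1) : tau g * g ∈ D.R :=
  D.mem_R_of_commute _ ((D.commute_A_iff _).mp (D.z_commute g g' hgg' hB))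

/-- conjugacy criterion -/
theorem RegSp.exists_symp_conj [Fintype F] (hq : Odd (Fintype.card F))
    (g g' : Matrix (Fin m ⊕ Fin m) (Fin m ⊕ Fin m) F) (hgg' : g * g' = 1)
    (hB : (g * D.A * g') * tau (g * D.A * g') = 1)
    (c : F) (hc : c ≠ 0) (δ δ' : Matrix (Fin m ⊕ Fin m) (Fin m ⊕ Fin m) F) (hδ'δ : δ' * δ = 1)
    (hδ' : tau δ' * δ' = c⁻¹ • 1) (a : F) (ha : a ≠ 0)
    (hz : D.epsFun (tau g * g) = c * (a * a)) :
    ∃ h : Matrix (Fin m ⊕ Fin m) (Fin m ⊕ Fin m) F, h * tau h = 1 ∧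
      h * (δ * D.A * δ') = (g * D.A * g') * h := by
  have hg'g : g' * g = 1 := mul_eq_one_comm.mp hgg'
  set z : ↥D.R := ⟨tau g * g, D.z_mem g g' hgg' hB⟩ with hzdef
  have hzt : D.tauR z = z := by
    apply Subtype.ext
    show tau (tau g * g) = tau g * g
    rw [tau_mul, tau_tau]
  have hze : D.eps z = c * (a * a) := hz
  have haa : a * a ≠ 0 := mul_ne_zero ha ha
  have hzu : IsUnit z := by
    rw [D.isUnit_iff, hze]
    exact mul_ne_zero hc haa
  obtain ⟨zu, hzu'⟩ := hzu
  set zi : ↥D.R := ((zu⁻¹ : (↥D.R)ˣ) : ↥D.R) with hzi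
  have hzzi : z * zi = 1 := by rw [← hzu', hzi, Units.mul_inv]
  have hzit : D.tauR zi = zi := by
    have h1 : D.tauR zi * z = 1 := by
      rw [← hzt, ← map_mul, mul_comm, hzzi, map_one]
    calc D.tauR zi = D.tauR zi * (z * zi) := by rw [hzzi, mul_one]
      _ = (D.tauR zi * z) * zi := by rw [mul_assoc]
      _ = zi := by rw [h1, one_mul]
  have hzie : D.eps zi = (c * (a * a))⁻¹ := by
    have : D.eps z * D.eps zi = 1 := by rw [← map_mul, hzzi, map_one]
    rw [hze] at this
    exact eq_inv_of_mul_eq_one_right this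
  obtain ⟨y, hyt, hyy⟩ := D.exists_sqrt hq (c • zi) (by rw [D.tauR_smul, hzit]) a⁻¹ (inv_ne_zero ha)
    (by rw [D.eps_smul, hzie]; field_simp)
  have hyt' : tau y.1 = y.1 := congrArg Subtype.val hyt
  -- the key identity in R
  have hkey : y * z * y = c • (1 : ↥D.R) := by
    calc y * z * y = z * (y * y) := by ring
      _ = z * (c • zi) := by rw [hyy]
      _ = c • (z * zi) := by rw [mul_smul_comm]
      _ = c • 1 := by rw [hzzi]
  have hkey' : y.1 * (tau g * g) * y.1 = c • (1 : Matrix (Fin m ⊕ Fin m) (Fin m ⊕ Fin m) F) :=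
    congrArg Subtype.val hkey
  have hyA : y.1 * D.A = D.A * y.1 := (D.commute_A_iff _).mpr (D.commute_of_mem _ y.2)
  refine ⟨g * y.1 * δ', ?_, ?_⟩
  · apply mul_eq_one_comm.mp
    rw [tau_mul, tau_mul, hyt']
    calc tau δ' * (y.1 * tau g) * (g * y.1 * δ')
        = tau δ' * (y.1 * (tau g * g) * y.1) * δ' := by simp only [mul_assoc]
      _ = c • (tau δ' * δ') := by
          rw [hkey', Matrix.mul_smul, Matrix.smul_mul, Matrix.mul_one]
      _ = 1 := by rw [hδ', smul_smul, mul_inv_cancel₀ hc, one_smul]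
  · calc g * y.1 * δ' * (δ * D.A * δ') = g * (y.1 * D.A) * δ' := by
          simp only [mul_assoc, cancel_l hδ'δ]
      _ = g * D.A * y.1 * δ' := by rw [hyA]; simp only [mul_assoc]
      _ = g * D.A * g' * (g * y.1 * δ') := by simp only [mul_assoc, cancel_l hg'g]

/-- non-conjugacy under a similitude with non-square multiplier -/
theorem RegSp.not_symp_conj (c : F) (hc : ¬ IsSquare c)
    (δ δ' : Matrix (Fin m ⊕ Fin m) (Fin m ⊕ Fin m) F) (hδδ' : δ * δ' = 1)
    (hδ : tau δ * δ = c • 1) (h : Matrix (Fin m ⊕ Fin m) (Fin m ⊕ Fin m) F)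
    (hh : h * tau h = 1) (hconj : h * D.A = (δ * D.A * δ') * h) : False := by
  have hδ'δ : δ' * δ = 1 := mul_eq_one_comm.mp hδδ'
  have hxA : (δ' * h) * D.A = D.A * (δ' * h) := by
    calc (δ' * h) * D.A = δ' * (h * D.A) := by rw [mul_assoc]
      _ = δ' * ((δ * D.A * δ') * h) := by rw [hconj]
      _ = D.A * (δ' * h) := by simp only [mul_assoc, cancel_l hδ'δ]
  set x : ↥D.R := ⟨δ' * h, D.mem_R_of_commute _ ((D.commute_A_iff _).mp hxA)⟩ with hx
  have hhx : h = δ * (δ' * h) := by rw [← mul_assoc, hδδ', one_mul]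
  have h1 : tau h * h = 1 := mul_eq_one_comm.mp hh
  have h2 : c • (tau (δ' * h) * (δ' * h)) = 1 := by
    calc c • (tau (δ' * h) * (δ' * h)) = tau (δ' * h) * (c • 1) * (δ' * h) := by
          rw [Matrix.mul_smul, Matrix.smul_mul, Matrix.mul_one]
      _ = tau (δ' * h) * (tau δ * δ) * (δ' * h) := by rw [hδ]
      _ = tau (δ * (δ' * h)) * (δ * (δ' * h)) := by
          rw [tau_mul δ (δ' * h)]; simp only [mul_assoc]
      _ = 1 := by rw [← hhx, h1]
  have h3 : c • (D.tauR x * x) = 1 := by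
    apply Subtype.ext
    exact h2
  have h4 : c * (D.eps x * D.eps x) = 1 := by
    have := congrArg D.eps h3
    rw [D.eps_smul, map_mul, D.eps_tauR, map_one] at this
    exact this
  apply hc
  have hex : D.eps x ≠ 0 := by
    intro h0
    rw [h0, mul_zero, mul_zero] at h4
    exact zero_ne_one h4
  refine ⟨(D.eps x)⁻¹, ?_⟩
  field_simp
  rw [← h4]; ring

end reg

end Cfsg.Agent.Helper42.SpReg
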