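import Mathlib
import Cfsg.Agent.Lib.Helper42.SUReg4
import Cfsg.Agent.Lib.Helper42.SpReg8

set_option autoImplicit false
set_option linter.unusedSectionVars false

/-!
# All regular unipotent unitary matrices are conjugate under the unitary group
-/

namespace Cfsg.Agent.Helper42.SUReg

open Matrix Polynomial Module
open scoped IsMulCommutative
open Cfsg.Agent.Helper42.SpReg (cancel_l toLin'_pow_finrank finrank_ker_toLin'_le_one)

section conj

variable {F : Type*} [Field F] {ι : Type*} [Fintype ι] [DecidableEq ι]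

/-- any two regular nilpotent matrices are conjugate -/
theorem RegN.exists_conj (D D' : RegN F ι) :
    ∃ g g' : Matrix ι ι F, g * g' = 1 ∧ g * D.N = D'.N * g := by
  obtain ⟨e, he⟩ := Cfsg.Agent.Helper43.exists_linearEquiv_conj (Matrix.toLin' D.N)
    (Matrix.toLin' D'.N) (by rw [finrank_fintype_fun_eq_card]; exact D.hpos)
    (toLin'_pow_finrank D.N D.hnil) (finrank_ker_toLin'_le_one D.N D.hreg D.hpos)
    (toLin'_pow_finrank D'.N D'.hnil) (finrank_ker_toLin'_le_one D'.N D'.hreg D'.hpos)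
  set g := LinearMap.toMatrix' e.toLinearMap with hg
  set g' := LinearMap.toMatrix' e.symm.toLinearMap with hg'
  have hgg' : g * g' = 1 := by
    rw [hg, hg', ← LinearMap.toMatrix'_comp]
    have : e.toLinearMap ∘ₗ e.symm.toLinearMap = LinearMap.id := by
      ext x; simp
    rw [this, LinearMap.toMatrix'_id]
  have hgN : g * D.N = D'.N * g := by
    apply Matrix.toLin'.injective
    rw [Matrix.toLin'_mul, Matrix.toLin'_mul, hg, Matrix.toLin'_toMatrix']
    apply LinearMap.ext
    intro x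
    exact he x
  exact ⟨g, g', hgg', hgN⟩

end conj

section unitary

variable {K : Type*} [Field K] [Fintype K] {q : ℕ} {hK : Fintype.card K = q ^ 2} {n : ℕ}
variable (D : RegU hK n)

/-- the cocycle element commutes with `A` -/
lemma RegU.z_commute (g g' : Matrix (Fin n) (Fin n) K) (hgg' : g * g' = 1)
    (hB : IsU hK (g * D.A * g')) : (ad hK g * g) * D.A = D.A * (ad hK g * g) := by
  have hg'g : g' * g = 1 := mul_eq_one_comm.mp hgg'
  have htg : ad hK g * ad hK g' = 1 := by rw [← ad_mul, hg'g, ad_one]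
  have hB' : ad hK (g * D.A * g') * (g * D.A * g') = 1 := hB
  rw [ad_mul, ad_mul] at hB'
  have h1 : ad hK D.A * (ad hK g * g) * D.A = ad hK g * g := by
    calc ad hK D.A * (ad hK g * g) * D.A
        = ad hK g * (ad hK g' * (ad hK D.A * ad hK g) * (g * D.A * g')) * g := by
          simp only [mul_assoc, cancel_l htg, hg'g, mul_one]
      _ = ad hK g * g := by rw [hB', mul_one]
  calc (ad hK g * g) * D.A = D.A * ad hK D.A * (ad hK g * g) * D.A := by
        rw [D.mul_adA, one_mul]
    _ = D.A * (ad hK D.A * (ad hK g * g) * D.A) := by simp only [mul_assoc]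
    _ = D.A * (ad hK g * g) := by rw [h1]

lemma RegU.z_mem (g g' : Matrix (Fin n) (Fin n) K) (hgg' : g * g' = 1)
    (hB : IsU hK (g * D.A * g')) : ad hK g * g ∈ D.E.R :=
  D.E.mem_R_of_commute _ ((D.commute_A_iff _).mp (D.z_commute g g' hgg' hB))

lemma RegU.eps_z_ne_zero (g g' : Matrix (Fin n) (Fin n) K) (hgg' : g * g' = 1)
    (hB : IsU hK (g * D.A * g')) :
    D.E.eps ⟨ad hK g * g, D.z_mem g g' hgg' hB⟩ ≠ 0 := by
  intro h0
  have h1 := D.E.mulVec_w0 ⟨ad hK g * g, D.z_mem g g' hgg' hB⟩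
  rw [h0, zero_smul] at h1
  change (ad hK g * g) *ᵥ D.E.w0 = 0 at h1
  have hg'g : g' * g = 1 := mul_eq_one_comm.mp hgg'
  have h2 : (g' * ad hK g') * (ad hK g * g) = 1 := by
    have : ad hK g' * ad hK g = 1 := by rw [← ad_mul, hgg', ad_one]
    simp only [mul_assoc, cancel_l this, hg'g]
  apply D.E.w0_ne
  calc D.E.w0 = ((g' * ad hK g') * (ad hK g * g)) *ᵥ D.E.w0 := by rw [h2, Matrix.one_mulVec]
    _ = 0 := by rw [← Matrix.mulVec_mulVec, h1, Matrix.mulVec_zero]

/-- all regular unipotent unitary matrices are conjugate under the unitary group -/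
theorem RegU.exists_unitary_conj (D' : RegU hK n) :
    ∃ h : Matrix (Fin n) (Fin n) K, IsU hK h ∧ h * D.A = D'.A * h := by
  obtain ⟨g, g', hgg', hgN⟩ := RegN.exists_conj D.E D'.E
  have hg'g : g' * g = 1 := mul_eq_one_comm.mp hgg'
  have hgA : g * D.A * g' = D'.A := by
    rw [D.A_eq, D'.A_eq, mul_add, mul_one, add_mul, hgg', hgN, mul_assoc, hgg', mul_one]
  have hB : IsU hK (g * D.A * g') := by rw [hgA]; exact D'.hA
  set z : ↥D.E.R := ⟨ad hK g * g, D.z_mem g g' hgg' hB⟩ with hzdef
  have hzt : D.tauR z = z := by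
    apply Subtype.ext
    show ad hK (ad hK g * g) = ad hK g * g
    rw [ad_mul, ad_ad]
  have hze : D.E.eps z ≠ 0 := D.eps_z_ne_zero g g' hgg' hB
  obtain ⟨zu, hzu'⟩ := (D.E.isUnit_iff z).mpr hze
  set zi : ↥D.E.R := ((zu⁻¹ : (↥D.E.R)ˣ) : ↥D.E.R) with hzi
  have hzzi : z * zi = 1 := by rw [← hzu', hzi, Units.mul_inv]
  have hzit : D.tauR zi = zi := by
    have h1 : D.tauR zi * z = 1 := by
      rw [← hzt, ← map_mul, mul_comm, hzzi, map_one]
    calc D.tauR zi = D.tauR zi * (z * zi) := by rw [hzzi, mul_one]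
      _ = (D.tauR zi * z) * zi := (mul_assoc _ _ _).symm
      _ = zi := by rw [h1, one_mul]
  have hzie : D.E.eps zi ≠ 0 := by
    intro h0
    have : D.E.eps z * D.E.eps zi = 1 := by rw [← map_mul, hzzi, map_one]
    rw [h0, mul_zero] at this
    exact zero_ne_one this
  obtain ⟨x, hx⟩ := D.norm_surj zi hzit hzie
  have hkey : D.tauR x * z * x = 1 := by
    calc D.tauR x * z * x = z * (x * D.tauR x) := by ring
      _ = 1 := by rw [hx, hzzi]
  have hkey' : ad hK x.1 * (ad hK g * g) * x.1 = (1 : Matrix (Fin n) (Fin n) K) :=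
    congrArg Subtype.val hkey
  have hxA : x.1 * D.A = D.A * x.1 := (D.commute_A_iff _).mpr (D.E.commute_of_mem _ x.2)
  refine ⟨g * x.1, ?_, ?_⟩
  · unfold IsU
    rw [ad_mul]
    calc ad hK x.1 * ad hK g * (g * x.1) = ad hK x.1 * (ad hK g * g) * x.1 := by
          simp only [mul_assoc]
      _ = 1 := hkey'
  · calc g * x.1 * D.A = g * (x.1 * D.A) := by rw [mul_assoc]
      _ = g * D.A * x.1 := by rw [hxA, mul_assoc]
      _ = g * D.A * g' * (g * x.1) := by simp only [mul_assoc, cancel_l hg'g]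
      _ = D'.A * (g * x.1) := by rw [hgA]

end unitary

end Cfsg.Agent.Helper42.SUReg
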