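import Mathlib
import Cfsg.Agent.Lib.Helper42.SpReg8

set_option autoImplicit false
set_option linter.unusedSectionVars false

namespace Cfsg.Agent.Helper42.SpReg

open Matrix Polynomial Module

section chain

variable {F : Type*} [Field F] {ι : Type*} [Fintype ι] [DecidableEq ι]

lemma chain_pow_entry (h : ι → ℕ) (M : Matrix ι ι F) (hM : ∀ i j, M i j ≠ 0 → h i = h j + 1) :
    ∀ k i j, (M ^ k) i j ≠ 0 → h i = h j + k := by
  intro k
  induction k with
  | zero =>
    intro i j hij
    rw [pow_zero] at hij
    by_cases e : i = j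
    · subst e; simp
    · rw [Matrix.one_apply_ne e] at hij
      exact absurd rfl hij
  | succ k ih =>
    intro i j hij
    rw [pow_succ, Matrix.mul_apply] at hij
    obtain ⟨l, _, hl⟩ := Finset.exists_ne_zero_of_sum_ne_zero hij
    have h1 := ih i l (left_ne_zero_of_mul hl)
    have h2 := hM l j (right_ne_zero_of_mul hl)
    omega

lemma chain_nil (h : ι → ℕ) (n : ℕ) (hn : ∀ i, h i < n) (M : Matrix ι ι F)
    (hM : ∀ i j, M i j ≠ 0 → h i = h j + 1) : M ^ n = 0 := by
  ext i j
  by_contra hne
  have h1 := chain_pow_entry h M hM n i j hne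
  have h2 := hn i
  omega

lemma chain_ker (h : ι → ℕ) (hinj : Function.Injective h) (M : Matrix ι ι F)
    (hM : ∀ i j, M i j ≠ 0 → h i = h j + 1) (hM' : ∀ i j, h i = h j + 1 → M i j ≠ 0)
    (w : ι → F) (hw : M *ᵥ w = 0) (i j : ι) (hij : h i = h j + 1) : w j = 0 := by
  have h1 : (M *ᵥ w) i = M i j * w j := by
    show ∑ l, M i l * w l = M i j * w j
    apply Finset.sum_eq_single j
    · intro l _ hl
      by_cases hz : M i l = 0
      · rw [hz, zero_mul]
      · exfalso
        have := hM i l hz
        apply hl
        apply hinj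
        omega
    · intro hj
      exact absurd (Finset.mem_univ j) hj
  rw [hw, Pi.zero_apply] at h1
  rcases mul_eq_zero.mp h1.symm with h0 | h0
  · exact absurd h0 (hM' i j hij)
  · exact h0

lemma chain_rank (h : ι → ℕ) (hinj : Function.Injective h) (M : Matrix ι ι F)
    (hM : ∀ i j, M i j ≠ 0 → h i = h j + 1) (hM' : ∀ i j, h i = h j + 1 → M i j ≠ 0)
    (top : ι) (htop : ∀ i, h i ≤ h top) (hsucc : ∀ j, j ≠ top → ∃ i, h i = h j + 1) :
    M.rank = Fintype.card ι - 1 := by
  have h1 := LinearMap.finrank_range_add_finrank_ker (Matrix.toLin' M)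
  rw [Module.finrank_fintype_fun_eq_card] at h1
  have h2 : finrank F (LinearMap.range (Matrix.toLin' M)) = M.rank := rfl
  have ha : finrank F (LinearMap.ker (Matrix.toLin' M)) ≤ 1 := by
    let φ : ↥(LinearMap.ker (Matrix.toLin' M)) →ₗ[F] F :=
      (LinearMap.proj top) ∘ₗ (LinearMap.ker (Matrix.toLin' M)).subtype
    have hφ : Function.Injective φ := by
      rw [injective_iff_map_eq_zero]
      rintro ⟨w, hw⟩ hw0
      apply Subtype.ext
      show w = 0
      rw [LinearMap.mem_ker, Matrix.toLin'_apply] at hw
      funext j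
      by_cases hj : j = top
      · subst hj
        exact hw0
      · obtain ⟨i, hi⟩ := hsucc j hj
        exact chain_ker h hinj M hM hM' w hw i j hi
    have := LinearMap.finrank_le_finrank_of_injective hφ
    rwa [Module.finrank_self] at this
  have hb : 0 < finrank F (LinearMap.ker (Matrix.toLin' M)) := by
    rw [Module.finrank_pos_iff_exists_ne_zero]
    have hmem : (Pi.single top (1 : F) : ι → F) ∈ LinearMap.ker (Matrix.toLin' M) := by
      rw [LinearMap.mem_ker, Matrix.toLin'_apply]
      funext i
      rw [Matrix.mulVec_single_one]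
      show M i top = 0
      by_contra hne
      have := hM i top hne
      have := htop i
      omega
    refine ⟨⟨_, hmem⟩, ?_⟩
    intro h0
    have := congrArg Subtype.val h0
    have := congrFun this top
    simp at this
  omega

end chain

section explicit

variable (F : Type*) [Field F] (m : ℕ)

/-- the shift -/
def shiftA : Matrix (Fin m) (Fin m) F :=
  Matrix.of fun i j => if (i : ℕ) = (j : ℕ) + 1 then 1 else 0

/-- the corner -/
def cornerB : Matrix (Fin m) (Fin m) F :=
  Matrix.of fun i j => if (i : ℕ) = 0 ∧ (j : ℕ) = 0 then 1 else 0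

/-- the explicit regular nilpotent skew-adjoint matrix -/
def nil0 : Matrix (Fin m ⊕ Fin m) (Fin m ⊕ Fin m) F :=
  Matrix.fromBlocks (shiftA F m) (cornerB F m) 0 (-(shiftA F m)ᵀ)

/-- the height -/
def height : Fin m ⊕ Fin m → ℕ := Sum.elim (fun i => m + (i : ℕ)) (fun j => m - 1 - (j : ℕ))

lemma height_injective : Function.Injective (height m) := by
  rintro (i | i) (j | j) hij
  · simp only [height, Sum.elim_inl] at hij
    congr 1
    apply Fin.ext
    omega
  · simp only [height, Sum.elim_inl, Sum.elim_inr] at hij
    have := i.2; have := j.2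
    omega
  · simp only [height, Sum.elim_inl, Sum.elim_inr] at hij
    have := i.2; have := j.2
    omega
  · simp only [height, Sum.elim_inr] at hij
    congr 1
    apply Fin.ext
    have := i.2; have := j.2
    omega

lemma nil0_entry (i j : Fin m ⊕ Fin m) : nil0 F m i j ≠ 0 ↔ height m i = height m j + 1 := by
  rcases i with i | i <;> rcases j with j | j
  · simp only [nil0, Matrix.fromBlocks_apply₁₁, shiftA, Matrix.of_apply, height, Sum.elim_inl]
    split_ifs with h
    · simp only [ne_eq, one_ne_zero, not_false_eq_true, true_iff]; omega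
    · simp only [ne_eq, not_true_eq_false, false_iff]; omega
  · simp only [nil0, Matrix.fromBlocks_apply₁₂, cornerB, Matrix.of_apply, height, Sum.elim_inl,
      Sum.elim_inr]
    have := i.2; have := j.2
    split_ifs with h
    · simp only [ne_eq, one_ne_zero, not_false_eq_true, true_iff]; omega
    · simp only [ne_eq, not_true_eq_false, false_iff]; omega
  · simp only [nil0, Matrix.fromBlocks_apply₂₁, Matrix.zero_apply, height, Sum.elim_inl,
      Sum.elim_inr]
    have := i.2; have := j.2
    simp only [ne_eq, not_true_eq_false, false_iff]; omega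
  · simp only [nil0, Matrix.fromBlocks_apply₂₂, Matrix.neg_apply, Matrix.transpose_apply, shiftA,
      Matrix.of_apply, height, Sum.elim_inr]
    have := i.2; have := j.2
    split_ifs with h
    · simp only [ne_eq, neg_eq_zero, one_ne_zero, not_false_eq_true, true_iff]; omega
    · simp only [ne_eq, neg_zero, not_true_eq_false, false_iff]; omega

lemma nil0_pow : nil0 F m ^ (2 * m) = 0 := by
  apply chain_nil (height m) (2 * m)
  · rintro (i | i)
    · simp only [height, Sum.elim_inl]; have := i.2; omega
    · simp only [height, Sum.elim_inr]; have := i.2; omega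
  · intro i j hij
    exact (nil0_entry F m i j).mp hij

lemma nil0_rank (hm : 1 ≤ m) : (nil0 F m).rank = 2 * m - 1 := by
  rw [← card_idx (m := m)]
  apply chain_rank (height m) (height_injective m) (nil0 F m)
    (fun i j hij => (nil0_entry F m i j).mp hij) (fun i j hij => (nil0_entry F m i j).mpr hij)
    (Sum.inl ⟨m - 1, by omega⟩)
  · rintro (i | i)
    · simp only [height, Sum.elim_inl]; have := i.2; omega
    · simp only [height, Sum.elim_inl, Sum.elim_inr]; have := i.2; omega
  · rintro (j | j) hj
    · have hj' : (j : ℕ) ≠ m - 1 := by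
        intro h
        apply hj
        congr 1
        apply Fin.ext
        exact h
      refine ⟨Sum.inl ⟨j + 1, by have := j.2; omega⟩, ?_⟩
      simp only [height, Sum.elim_inl]
      omega
    · by_cases h0 : (j : ℕ) = 0
      · refine ⟨Sum.inl ⟨0, by omega⟩, ?_⟩
        simp only [height, Sum.elim_inl, Sum.elim_inr]
        omega
      · refine ⟨Sum.inr ⟨j - 1, by have := j.2; omega⟩, ?_⟩
        simp only [height, Sum.elim_inr]
        have := j.2
        omega

lemma tau_fromBlocks (P Q R S : Matrix (Fin m) (Fin m) F) :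
    tau (Matrix.fromBlocks P Q R S) = Matrix.fromBlocks Sᵀ (-Qᵀ) (-Rᵀ) Pᵀ := by
  unfold tau J
  rw [Matrix.fromBlocks_transpose, Matrix.fromBlocks_neg, Matrix.fromBlocks_multiply,
    Matrix.fromBlocks_multiply]
  simp

lemma cornerB_transpose : (cornerB F m)ᵀ = cornerB F m := by
  ext i j
  simp only [Matrix.transpose_apply, cornerB, Matrix.of_apply]
  congr 1
  exact propext and_comm

lemma tau_nil0 : tau (nil0 F m) = -nil0 F m := by
  unfold nil0
  rw [tau_fromBlocks, Matrix.fromBlocks_neg, cornerB_transpose]
  simp

end explicit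

end Cfsg.Agent.Helper42.SpReg
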