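import Mathlib
import Cfsg.Agent.Lib.Helper42.SUReg5
import Cfsg.Agent.Lib.Helper42.SpReg9

set_option autoImplicit false
set_option linter.unusedSectionVars false

/-!
# An explicit regular nilpotent matrix, skew-adjoint for an explicit Hermitian matrix
-/

namespace Cfsg.Agent.Helper42.SUReg

open Matrix Polynomial Module
open Cfsg.Agent.Helper42.SpReg (chain_nil chain_rank)

section explicit

variable {K : Type*} [Field K] [Fintype K] {q : ℕ} (hK : Fintype.card K = q ^ 2) (n : ℕ)

lemma neg_one_pow_congr {R : Type*} [Ring R] (a b : ℕ) (h : a % 2 = b % 2) :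
    (-1 : R) ^ a = (-1) ^ b := by
  rw [neg_one_pow_eq_pow_mod_two, h, ← neg_one_pow_eq_pow_mod_two]

/-- the shift -/
def shiftN : Matrix (Fin n) (Fin n) K :=
  Matrix.of fun i j => if (i : ℕ) = (j : ℕ) + 1 then 1 else 0

lemma shiftN_apply (i j : Fin n) :
    shiftN (K := K) n i j = if (i : ℕ) = (j : ℕ) + 1 then 1 else 0 := rfl

lemma shiftN_entry (i j : Fin n) : shiftN (K := K) n i j ≠ 0 ↔ (i : ℕ) = (j : ℕ) + 1 := by
  rw [shiftN_apply]
  split_ifs with h
  · simp [h]
  · simp [h]

lemma shiftN_pow : shiftN (K := K) n ^ n = 0 := by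
  apply chain_nil (fun i : Fin n => (i : ℕ)) n (fun i => i.2)
  intro i j hij
  exact (shiftN_entry n i j).mp hij

lemma shiftN_rank (hn : 1 ≤ n) : (shiftN (K := K) n).rank = n - 1 := by
  have h := chain_rank (F := K) (fun i : Fin n => (i : ℕ)) (fun a b hab => Fin.ext hab)
    (shiftN n) (fun i j hij => (shiftN_entry n i j).mp hij)
    (fun i j hij => (shiftN_entry n i j).mpr hij) ⟨n - 1, by omega⟩
    (fun i => by have := i.2; simp only; omega)
    (fun j hj => by
      have hj' : (j : ℕ) ≠ n - 1 := fun h => hj (Fin.ext h)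
      exact ⟨⟨j + 1, by have := j.2; omega⟩, rfl⟩)
  rw [Fintype.card_fin] at h
  exact h

lemma ad_shiftN : ad hK (shiftN (K := K) n) = (shiftN n)ᵀ := by
  ext i j
  rw [ad_apply, transpose_apply, shiftN_apply]
  split_ifs with h
  · rw [one_pow]
  · rw [zero_pow (q_ne_zero hK)]

/-- the anti-diagonal matrix with alternating signs -/
def antiM (κ : K) : Matrix (Fin n) (Fin n) K :=
  Matrix.of fun i j => if (i : ℕ) + (j : ℕ) + 1 = n then κ * (-1) ^ (i : ℕ) else 0

lemma antiM_apply (κ : K) (i j : Fin n) :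
    antiM n κ i j = if (i : ℕ) + (j : ℕ) + 1 = n then κ * (-1) ^ (i : ℕ) else 0 := rfl

/-- skew-adjointness of the shift -/
lemma shiftT_mul_antiM (κ : K) :
    (shiftN (K := K) n)ᵀ * antiM n κ = -(antiM n κ * shiftN n) := by
  ext i j
  rw [Matrix.mul_apply, Matrix.neg_apply, Matrix.mul_apply]
  simp only [transpose_apply, shiftN_apply, antiM_apply]
  by_cases h : (i : ℕ) + (j : ℕ) + 2 = n
  · have hi : (i : ℕ) + 1 < n := by omega
    have hj : (j : ℕ) + 1 < n := by omega
    rw [Finset.sum_eq_single (⟨(i : ℕ) + 1, hi⟩ : Fin n), Finset.sum_eq_single (⟨(j : ℕ) + 1, hj⟩ : Fin n)]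
    · simp only []
      rw [if_pos trivial, if_pos (by omega), if_pos (by omega), pow_succ]
      ring
    · intro b _ hb
      have : ¬ ((b : ℕ) = (j : ℕ) + 1) := fun hh => hb (Fin.ext hh)
      rw [if_neg this, mul_zero]
    · intro hh; exact absurd (Finset.mem_univ _) hh
    · intro b _ hb
      have : ¬ ((b : ℕ) = (i : ℕ) + 1) := fun hh => hb (Fin.ext hh)
      rw [if_neg this, zero_mul]
    · intro hh; exact absurd (Finset.mem_univ _) hh
  · rw [Finset.sum_eq_zero, Finset.sum_eq_zero, neg_zero]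
    · intro b _
      by_cases hb : (b : ℕ) = (j : ℕ) + 1
      · rw [if_pos hb, if_neg (by omega), zero_mul]
      · rw [if_neg hb, mul_zero]
    · intro b _
      by_cases hb : (b : ℕ) = (i : ℕ) + 1
      · rw [if_pos hb, if_neg (by omega), mul_zero]
      · rw [if_neg hb, zero_mul]

lemma ad_shiftN_mul_antiM (κ : K) :
    ad hK (shiftN (K := K) n) * antiM n κ = -(antiM n κ * shiftN n) := by
  rw [ad_shiftN, shiftT_mul_antiM]

lemma ad_antiM (κ : K) (hκ : sg hK κ * (-1) ^ (n + 1) = κ) : ad hK (antiM n κ) = antiM n κ := by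
  ext i j
  rw [ad_apply, antiM_apply, antiM_apply]
  by_cases h : (i : ℕ) + (j : ℕ) + 1 = n
  · rw [if_pos h, if_pos (by omega)]
    have h1 : (κ * (-1) ^ (j : ℕ)) ^ q = sg hK κ * (-1) ^ (j : ℕ) := by
      rw [← sg_apply hK, map_mul, map_pow, map_neg, map_one]
    rw [h1]
    have h2 : ((-1 : K)) ^ (i : ℕ) = (-1) ^ (n + 1) * (-1) ^ (j : ℕ) := by
      rw [← pow_add]
      apply neg_one_pow_congr
      omega
    have h3 : sg hK κ = κ * (-1) ^ (n + 1) := by
      have h4 : ((-1 : K)) ^ (n + 1) * (-1) ^ (n + 1) = 1 := by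
        rw [← mul_pow, neg_one_mul, neg_neg, one_pow]
      calc sg hK κ = sg hK κ * ((-1) ^ (n + 1) * (-1) ^ (n + 1)) := by rw [h4, mul_one]
        _ = sg hK κ * (-1) ^ (n + 1) * (-1) ^ (n + 1) := by rw [mul_assoc]
        _ = κ * (-1) ^ (n + 1) := by rw [hκ]
    rw [h2, h3, mul_assoc]
  · rw [if_neg h, if_neg (by omega), zero_pow (q_ne_zero hK)]

lemma antiM_mul_self (κ : K) : antiM n κ * antiM n κ = (κ * κ * (-1) ^ (n + 1)) • 1 := by
  ext i k
  rw [Matrix.mul_apply, Matrix.smul_apply, Matrix.one_apply, smul_eq_mul]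
  simp only [antiM_apply]
  have hi : n - 1 - (i : ℕ) < n := by have := i.2; omega
  rw [Finset.sum_eq_single (⟨n - 1 - (i : ℕ), hi⟩ : Fin n)]
  · simp only []
    have hi2 := i.2
    rw [if_pos (by omega)]
    by_cases hik : i = k
    · subst hik
      rw [if_pos (by omega), if_pos rfl, mul_one]
      have h2 : ((-1 : K)) ^ (i : ℕ) * (-1) ^ (n - 1 - (i : ℕ)) = (-1) ^ (n + 1) := by
        rw [← pow_add]
        apply neg_one_pow_congr
        omega
      calc κ * (-1) ^ (i : ℕ) * (κ * (-1) ^ (n - 1 - (i : ℕ)))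
          = κ * κ * ((-1) ^ (i : ℕ) * (-1) ^ (n - 1 - (i : ℕ))) := by ring
        _ = κ * κ * (-1) ^ (n + 1) := by rw [h2]
    · have : ¬ (n - 1 - (i : ℕ) + (k : ℕ) + 1 = n) := by
        intro hh
        apply hik
        apply Fin.ext
        omega
      rw [if_neg this, if_neg hik, mul_zero, mul_zero]
  · intro b _ hb
    have : ¬ ((i : ℕ) + (b : ℕ) + 1 = n) := by
      intro hh
      apply hb
      apply Fin.ext
      show (b : ℕ) = n - 1 - (i : ℕ)
      omega
    rw [if_neg this, zero_mul]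
  · intro hh; exact absurd (Finset.mem_univ _) hh

/-- a suitable scalar for the Hermitian matrix -/
lemma exists_kappa : ∃ κ : K, κ ≠ 0 ∧ sg hK κ * (-1) ^ (n + 1) = κ := by
  classical
  rcases Nat.even_or_odd n with hn | hn
  · -- need sg κ = -κ
    have hex : ∃ c : K, sg hK c ≠ c := by
      by_contra hall
      push Not at hall
      have hq := Cfsg.Agent.Helper19.herm_two_le hK
      have h1 := Cfsg.Agent.Helper19.card_hermFixed_le hK
      have h2 : Cfsg.Agent.Helper19.hermFixed K q = Finset.univ.erase 0 := by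
        ext y
        rw [Cfsg.Agent.Helper19.mem_hermFixed]
        simp only [Finset.mem_erase, Finset.mem_univ, and_true, ne_eq, and_iff_left_iff_imp]
        intro _
        exact hall y
      rw [h2, Finset.card_erase_of_mem (Finset.mem_univ _), Finset.card_univ, hK] at h1
      have : q ^ 2 ≥ 2 * q := by nlinarith
      omega
    obtain ⟨c, hc⟩ := hex
    refine ⟨c - sg hK c, sub_ne_zero.mpr (Ne.symm hc), ?_⟩
    rw [map_sub, sg_sg, Odd.neg_one_pow (Even.add_one hn)]
    ring
  · refine ⟨1, one_ne_zero, ?_⟩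
    rw [map_one, one_mul, Even.neg_one_pow (Odd.add_one hn)]

end explicit

end Cfsg.Agent.Helper42.SUReg
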