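import Mathlib
import Cfsg.Agent.Lib.Helper42.SUReg6
import Cfsg.Agent.Lib.Helper44.UnitaryTv

set_option autoImplicit false
set_option linter.unusedSectionVars false

/-!
# Existence of a regular unipotent unitary matrix
-/

namespace Cfsg.Agent.Helper42.SUReg

open Matrix Polynomial Module
open Cfsg.Agent.Helper42.SpReg (cancel_l mulVec_dot)

section exist

variable {K : Type*} [Field K] [Fintype K] {q : ℕ} (hK : Fintype.card K = q ^ 2) {n : ℕ}

lemma conj_pow'' {M : Type*} [Monoid M] (g g' X : M) (h : g * g' = 1) (h' : g' * g = 1) (k : ℕ) :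
    (g * X * g') ^ k = g * X ^ k * g' := by
  induction k with
  | zero => rw [pow_zero, pow_zero, mul_one, h]
  | succ k ih =>
    rw [pow_succ, ih, pow_succ]
    simp only [mul_assoc, cancel_l h']

lemma sg_dot (u w : Fin n → K) :
    sg hK (u ⬝ᵥ w) = (fun i => sg hK (u i)) ⬝ᵥ (fun i => sg hK (w i)) := by
  simp only [dotProduct, map_sum, map_mul]

lemma mapMatrix_transpose_eq_ad (H : Matrix (Fin n) (Fin n) K) :
    ((sg hK).mapMatrix H)ᵀ = ad hK H := rfl

/-- the Hermitian form with Gram matrix `H` -/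
noncomputable def hermOf (H : Matrix (Fin n) (Fin n) K) (hH : ad hK H = H) :
    Cfsg.Agent.Lead.HermForm K q (Fin n → K) where
  toFun x y := x ⬝ᵥ (H *ᵥ (fun i => sg hK (y i)))
  add_left u v w := add_dotProduct _ _ _
  smul_left a u w := by rw [smul_dotProduct, smul_eq_mul]
  conj u v := by
    rw [← sg_apply hK, sg_dot, sg_mulVec]
    have h1 : (fun i => sg hK ((fun j => sg hK (v j)) i)) = v := by
      funext i
      exact sg_sg hK (v i)
    have h2 : Hᵀ = (sg hK).mapMatrix H :=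
      (congrArg transpose hH).symm.trans (transpose_transpose _)
    rw [h1, dotProduct_comm, mulVec_dot, h2]

lemma hermOf_apply (H : Matrix (Fin n) (Fin n) K) (hH : ad hK H = H) (x y : Fin n → K) :
    hermOf hK H hH x y = x ⬝ᵥ (H *ᵥ (fun i => sg hK (y i))) := rfl

lemma hermOf_nondeg (H : Matrix (Fin n) (Fin n) K) (hH : ad hK H = H) (c : K) (hc : c ≠ 0)
    (hHH : H * H = c • 1) : (hermOf hK H hH).Nondeg := by
  intro u hu
  have h1 : H *ᵥ (fun i => sg hK (u i)) = 0 := by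
    funext j
    have := hu (Pi.single j 1)
    rw [hermOf_apply, single_one_dotProduct] at this
    exact this
  have h2 : (fun i => sg hK (u i)) = 0 := by
    have h3 : H *ᵥ (H *ᵥ (fun i => sg hK (u i))) = 0 := by rw [h1, Matrix.mulVec_zero]
    rw [Matrix.mulVec_mulVec, hHH, Matrix.smul_mulVec, Matrix.one_mulVec] at h3
    exact (smul_eq_zero.mp h3).resolve_left hc
  funext i
  have := congrFun h2 i
  simp only [Pi.zero_apply] at this ⊢
  exact (map_eq_zero (sg hK)).mp this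

/-- a Hermitian invertible matrix is of the form `ad Q * Q` -/
theorem exists_Q (H : Matrix (Fin n) (Fin n) K) (hH : ad hK H = H) (c : K) (hc : c ≠ 0)
    (hHH : H * H = c • 1) :
    ∃ Q Q' : Matrix (Fin n) (Fin n) K, Q * Q' = 1 ∧ ad hK Q * Q = H := by
  obtain ⟨y, hy⟩ := Cfsg.Agent.Helper44.exists_frame hK n (Fin n → K) (hermOf hK H hH)
    (hermOf_nondeg hK H hH c hc hHH) (by rw [finrank_fintype_fun_eq_card, Fintype.card_fin])
  set Y : Matrix (Fin n) (Fin n) K := Matrix.of y with hY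
  have h1 : Y * (H * ad hK Y) = 1 := by
    ext l k
    have := hy l k
    rw [hermOf_apply] at this
    rw [Matrix.one_apply, ← this]
    rfl
  set Q' := ad hK Y with hQ'
  have h2 : ad hK Q' * H * Q' = 1 := by
    rw [hQ', ad_ad, mul_assoc]
    exact h1
  set Q := ad hK Q' * H with hQ
  have hQQ' : Q * Q' = 1 := h2
  have hQ'Q : Q' * Q = 1 := mul_eq_one_comm.mp hQQ'
  refine ⟨Q, Q', hQQ', ?_⟩
  have h3 : ad hK Q = H * Q' := by rw [hQ, ad_mul, ad_ad, hH]
  rw [h3, mul_assoc, hQ'Q, mul_one]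

/-- a regular unipotent isometry of a form with a skew-adjoint regular nilpotent -/
theorem exists_unip_of_skew (N0 M : Matrix (Fin n) (Fin n) K)
    (hskew : ad hK N0 * M = -(M * N0)) (hnil : N0 ^ n = 0) (hrank : N0.rank = n - 1) :
    ∃ u : Matrix (Fin n) (Fin n) K, ad hK u * M * u = M ∧ (u - 1) ^ n = 0 ∧
      (u - 1).rank = n - 1 := by
  obtain ⟨ω, hω⟩ := exists_trace_ne_zero' hK
  set t : K := ω + sg hK ω with ht
  set P₁ : Matrix (Fin n) (Fin n) K := 1 + ω • N0 with hP₁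
  set P₂ : Matrix (Fin n) (Fin n) K := 1 - sg hK ω • N0 with hP₂
  have hnilP : IsNilpotent (sg hK ω • N0) := by
    refine ⟨n, ?_⟩
    rw [_root_.smul_pow, hnil, smul_zero]
  obtain ⟨uQ, huQ⟩ := IsNilpotent.isUnit_one_sub hnilP
  set P₂i : Matrix (Fin n) (Fin n) K :=
    ((uQ⁻¹ : (Matrix (Fin n) (Fin n) K)ˣ) : Matrix (Fin n) (Fin n) K) with hP₂i
  have h22 : P₂ * P₂i = 1 := by rw [hP₂, ← huQ, hP₂i, Units.mul_inv]
  have h22' : P₂i * P₂ = 1 := by rw [hP₂, ← huQ, hP₂i, Units.inv_mul]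
  have hadP₁ : ad hK P₁ * M = M * P₂ := by
    rw [hP₁, hP₂, ad_add, ad_one, ad_smul, add_mul, one_mul, Matrix.smul_mul, hskew, mul_sub,
      mul_one, Matrix.mul_smul, smul_neg, sub_eq_add_neg]
  have hadP₂ : ad hK P₂ * M = M * P₁ := by
    rw [hP₁, hP₂, ad_sub, ad_one, ad_smul, sg_sg, sub_mul, one_mul, Matrix.smul_mul, hskew,
      mul_add, mul_one, Matrix.mul_smul, smul_neg, sub_neg_eq_add]
  have hT : ad hK P₂i * ad hK P₂ = 1 := by rw [← ad_mul, h22, ad_one]
  have hcomm : P₁ * P₂ = P₂ * P₁ := by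
    rw [hP₁, hP₂]
    simp only [mul_add, add_mul, mul_sub, sub_mul, mul_one, one_mul, Matrix.smul_mul,
      Matrix.mul_smul]
    rw [smul_comm]
    abel
  have hN2 : P₂ * N0 = N0 * P₂ := by
    rw [hP₂, sub_mul, mul_sub, one_mul, mul_one, Matrix.smul_mul, Matrix.mul_smul]
  have hN2i : P₂i * N0 = N0 * P₂i := by
    calc P₂i * N0 = P₂i * (N0 * P₂) * P₂i := by rw [mul_assoc, mul_assoc, h22, mul_one]
      _ = P₂i * (P₂ * N0) * P₂i := by rw [hN2]
      _ = N0 * P₂i := by rw [← mul_assoc, h22', one_mul]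
  have hu1 : P₁ * P₂i - 1 = N0 * (t • P₂i) := by
    calc P₁ * P₂i - 1 = P₁ * P₂i - P₂ * P₂i := by rw [h22]
      _ = (P₁ - P₂) * P₂i := (sub_mul P₁ P₂ P₂i).symm
      _ = (t • N0) * P₂i := by
          congr 1
          rw [hP₁, hP₂, ht, add_smul]
          abel
      _ = N0 * (t • P₂i) := by rw [Matrix.smul_mul, Matrix.mul_smul]
  have hWu : IsUnit (t • P₂i) := by
    refine IsUnit.of_mul_eq_one (t⁻¹ • P₂) ?_
    rw [Matrix.smul_mul, Matrix.mul_smul, smul_smul, h22', mul_inv_cancel₀ hω, one_smul]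
  refine ⟨P₁ * P₂i, ?_, ?_, ?_⟩
  · rw [ad_mul]
    calc ad hK P₂i * ad hK P₁ * M * (P₁ * P₂i)
        = ad hK P₂i * (ad hK P₁ * M) * P₁ * P₂i := by simp only [mul_assoc]
      _ = ad hK P₂i * M * (P₂ * P₁) * P₂i := by rw [hadP₁]; simp only [mul_assoc]
      _ = ad hK P₂i * (M * P₁) * (P₂ * P₂i) := by rw [← hcomm]; simp only [mul_assoc]
      _ = ad hK P₂i * (ad hK P₂ * M) := by rw [h22, mul_one, hadP₂]
      _ = M := by rw [← mul_assoc, hT, one_mul]
  · rw [hu1]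
    have hc : Commute N0 (t • P₂i) := by
      show N0 * (t • P₂i) = (t • P₂i) * N0
      rw [Matrix.mul_smul, Matrix.smul_mul, hN2i]
    rw [hc.mul_pow, hnil, zero_mul]
  · rw [hu1, Matrix.rank_mul_eq_left_of_isUnit_det _ _ ((Matrix.isUnit_iff_isUnit_det _).mp hWu),
      hrank]

theorem exists_regU (hn : 1 ≤ n) : Nonempty (RegU hK n) := by
  obtain ⟨κ, hκ0, hκ⟩ := exists_kappa hK n
  set M := antiM n κ with hM
  have hMM := antiM_mul_self n κ
  have hc : κ * κ * (-1) ^ (n + 1) ≠ 0 :=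
    mul_ne_zero (mul_ne_zero hκ0 hκ0) (pow_ne_zero _ (neg_ne_zero.mpr one_ne_zero))
  obtain ⟨Q, Q', hQQ', hQ⟩ := exists_Q hK M (ad_antiM hK n κ hκ) _ hc hMM
  have hQ'Q : Q' * Q = 1 := mul_eq_one_comm.mp hQQ'
  obtain ⟨u, hu, hunil, hurank⟩ := exists_unip_of_skew hK (shiftN n) M
    (ad_shiftN_mul_antiM hK n κ) (shiftN_pow n) (shiftN_rank n hn)
  have h1 : Q * u * Q' - 1 = Q * (u - 1) * Q' := by
    rw [mul_sub, sub_mul, mul_one, hQQ']
  refine ⟨⟨Q * u * Q', ?_, ?_, ?_, hn⟩⟩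
  · unfold IsU
    rw [ad_mul, ad_mul]
    calc ad hK Q' * (ad hK u * ad hK Q) * (Q * u * Q')
        = ad hK Q' * (ad hK u * (ad hK Q * Q) * u) * Q' := by simp only [mul_assoc]
      _ = ad hK Q' * (ad hK Q * Q) * Q' := by rw [hQ, hu]
      _ = ad hK (Q * Q') * (Q * Q') := by rw [ad_mul]; simp only [mul_assoc]
      _ = 1 := by rw [hQQ', ad_one, one_mul]
  · rw [h1, conj_pow'' _ _ _ hQQ' hQ'Q, hunil, mul_zero, zero_mul]
  · have hu1 : IsUnit Q.det :=
      (Matrix.isUnit_iff_isUnit_det _).mp (IsUnit.of_mul_eq_one _ hQQ')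
    have hu2 : IsUnit Q'.det :=
      (Matrix.isUnit_iff_isUnit_det _).mp (IsUnit.of_mul_eq_one _ hQ'Q)
    rw [h1, Matrix.rank_mul_eq_left_of_isUnit_det _ _ hu2,
      Matrix.rank_mul_eq_right_of_isUnit_det _ _ hu1, hurank]

end exist

end Cfsg.Agent.Helper42.SUReg
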