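import Mathlib
import Cfsg.Agent.Lib.Helper42.SUReg7

set_option autoImplicit false
set_option linter.unusedSectionVars false

/-!
# Determinants of unitary matrices, of the centraliser, and diagonal unitary matrices
-/

namespace Cfsg.Agent.Helper42.SUReg

open Matrix Polynomial Module
open Cfsg.Agent.Helper42.SpReg (cancel_l)

section dets

variable {K : Type*} [Field K] [Fintype K] {q : ℕ} {hK : Fintype.card K = q ^ 2} {n : ℕ}

lemma det_ad (X : Matrix (Fin n) (Fin n) K) : (ad hK X).det = sg hK X.det := by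
  unfold ad
  rw [Matrix.det_transpose]
  exact (RingHom.map_det (sg hK) X).symm

lemma IsU.det_pow {X : Matrix (Fin n) (Fin n) K} (hX : IsU hK X) : X.det ^ (q + 1) = 1 := by
  have h := congrArg Matrix.det hX
  rw [Matrix.det_mul, det_ad, Matrix.det_one, sg_apply, ← pow_succ] at h
  exact h

variable (D : RegU hK n)

/-- regular unipotent matrices have determinant one -/
lemma RegU.det_A : D.A.det = 1 := by
  have h := Cfsg.Agent.Helper43.det_smul_one_add_nilpotent (1 : K) D.E.N ⟨n, D.hnil⟩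
  rw [one_smul, one_pow, ← D.A_eq] at h
  exact h

/-- the determinant on the commutant -/
lemma RegU.det_R (x : ↥D.E.R) : x.1.det = D.E.eps x ^ n := by
  have hnil : IsNilpotent (x.1 - D.E.eps x • (1 : Matrix (Fin n) (Fin n) K)) := by
    refine ⟨Fintype.card (Fin n), ?_⟩
    have h1 := D.E.pow_eq_zero_of_eps (x - algebraMap K ↥D.E.R (D.E.eps x))
      (by rw [map_sub, D.E.eps_algebraMap, sub_self])
    have h2 := congrArg Subtype.val h1
    rw [Algebra.algebraMap_eq_smul_one] at h2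
    exact h2
  have h := Cfsg.Agent.Helper43.det_smul_one_add_nilpotent (D.E.eps x) _ hnil
  rw [add_sub_cancel, Fintype.card_fin] at h
  exact h

/-- a unitary matrix commuting with `A` has determinant an `n`-th power of a norm-one scalar -/
lemma RegU.det_centralizer (c : Matrix (Fin n) (Fin n) K) (hc : IsU hK c)
    (hcA : c * D.A = D.A * c) : ∃ ε : K, ε ^ (q + 1) = 1 ∧ c.det = ε ^ n := by
  have hmem : c ∈ D.E.R := D.E.mem_R_of_commute _ ((D.commute_A_iff _).mp hcA)
  set x : ↥D.E.R := ⟨c, hmem⟩ with hx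
  refine ⟨D.E.eps x, ?_, D.det_R x⟩
  have h1 : D.tauR x * x = 1 := by
    apply Subtype.ext
    exact hc
  have h2 := congrArg D.E.eps h1
  rw [map_mul, D.eps_tauR, map_one, sg_apply, ← pow_succ] at h2
  exact h2

end dets

section diag0

variable {K : Type*} [Field K] {n : ℕ}

/-- the diagonal matrix `diag(l, 1, …, 1)` -/
def dg (hn : 1 ≤ n) (l : K) : Matrix (Fin n) (Fin n) K :=
  Matrix.diagonal (Function.update (fun _ => (1 : K))
    (⟨0, Nat.lt_of_lt_of_le Nat.zero_lt_one hn⟩ : Fin n) l)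

lemma dg_mul (hn : 1 ≤ n) (l l' : K) : dg hn l * dg hn l' = dg hn (l * l') := by
  unfold dg
  rw [Matrix.diagonal_mul_diagonal]
  congr 1
  funext i
  by_cases hi : i = (⟨0, Nat.lt_of_lt_of_le Nat.zero_lt_one hn⟩ : Fin n)
  · subst hi; simp
  · simp [Function.update_of_ne hi]

lemma dg_one (hn : 1 ≤ n) : dg hn (1 : K) = 1 := by
  unfold dg
  rw [Function.update_eq_self_iff.mpr rfl]
  exact Matrix.diagonal_one

lemma dg_det (hn : 1 ≤ n) (l : K) : (dg hn l).det = l := by
  unfold dg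
  rw [Matrix.det_diagonal, Finset.prod_update_of_mem (Finset.mem_univ _)]
  simp

end diag0

section diag

variable {K : Type*} [Field K] [Fintype K] {q : ℕ} (hK : Fintype.card K = q ^ 2) {n : ℕ}

lemma ad_dg (hn : 1 ≤ n) (l : K) : ad hK (dg hn l) = dg hn (sg hK l) := by
  ext i j
  rw [ad_apply]
  unfold dg
  by_cases hij : i = j
  · subst hij
    rw [Matrix.diagonal_apply_eq, Matrix.diagonal_apply_eq]
    by_cases hi : i = (⟨0, Nat.lt_of_lt_of_le Nat.zero_lt_one hn⟩ : Fin n)
    · subst hi; simp [sg_apply]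
    · simp [Function.update_of_ne hi]
  · rw [Matrix.diagonal_apply_ne _ (Ne.symm hij), Matrix.diagonal_apply_ne _ hij,
      zero_pow (q_ne_zero hK)]

lemma isU_dg (hn : 1 ≤ n) (l : K) (hl : l ^ (q + 1) = 1) : IsU hK (dg hn l) := by
  unfold IsU
  rw [ad_dg, dg_mul, sg_apply, ← pow_succ, hl, dg_one]

lemma inv_pow_eq_one {l : K} (hl : l ^ (q + 1) = 1) : l⁻¹ ^ (q + 1) = 1 := by
  rw [inv_pow, hl, inv_one]

lemma ne_zero_of_pow {l : K} (hl : l ^ (q + 1) = 1) : l ≠ 0 := by
  rintro rfl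
  rw [zero_pow (by omega)] at hl
  exact zero_ne_one hl

variable {hK}

/-- the twisted regular unipotent -/
def RegU.twist (D : RegU hK n) (l : K) (hl : l ^ (q + 1) = 1) : RegU hK n where
  A := dg D.hn l * D.A * dg D.hn l⁻¹
  hA := ((isU_dg hK D.hn l hl).mul D.hA).mul (isU_dg hK D.hn l⁻¹ (inv_pow_eq_one hl))
  hnil := by
    have h0 := ne_zero_of_pow hl
    have h1 : dg D.hn l * D.A * dg D.hn l⁻¹ - 1 = dg D.hn l * (D.A - 1) * dg D.hn l⁻¹ := by
      rw [mul_sub, sub_mul, mul_one, dg_mul, mul_inv_cancel₀ h0, dg_one]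
    rw [h1, conj_pow'' _ _ _ (by rw [dg_mul, mul_inv_cancel₀ h0, dg_one])
      (by rw [dg_mul, inv_mul_cancel₀ h0, dg_one]), D.hnil, mul_zero, zero_mul]
  hreg := by
    have h0 := ne_zero_of_pow hl
    have h1 : dg D.hn l * D.A * dg D.hn l⁻¹ - 1 = dg D.hn l * (D.A - 1) * dg D.hn l⁻¹ := by
      rw [mul_sub, sub_mul, mul_one, dg_mul, mul_inv_cancel₀ h0, dg_one]
    have hu1 : IsUnit (dg (n := n) D.hn l).det := by
      rw [dg_det]; exact IsUnit.mk0 _ h0
    have hu2 : IsUnit (dg (n := n) D.hn l⁻¹).det := by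
      rw [dg_det]; exact IsUnit.mk0 _ (inv_ne_zero h0)
    rw [h1, Matrix.rank_mul_eq_left_of_isUnit_det _ _ hu2,
      Matrix.rank_mul_eq_right_of_isUnit_det _ _ hu1, D.hreg]
  hn := D.hn

lemma RegU.twist_A (D : RegU hK n) (l : K) (hl : l ^ (q + 1) = 1) :
    (D.twist l hl).A = dg D.hn l * D.A * dg D.hn l⁻¹ := rfl

end diag

end Cfsg.Agent.Helper42.SUReg
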