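import Mathlib
import Cfsg.Agent.Lib.Helper42.SUReg8

set_option autoImplicit false
set_option linter.unusedSectionVars false

/-!
# The classes of regular unipotent elements of the special unitary group
-/

namespace Cfsg.Agent.Helper42.SUReg

open Matrix Polynomial Module
open Cfsg.Agent.Helper42.SpReg (cancel_l)

section final

variable {K : Type*} [Field K] [Fintype K] {q n : ℕ} (hK : Fintype.card K = q ^ 2)

/-- the matrix of an element of the special unitary group -/
def matS (s : ↥(Cfsg.SU n K q)) : Matrix (Fin n) (Fin n) K :=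
  ((s : GL (Fin n) K) : Matrix (Fin n) (Fin n) K)

lemma matS_eq (s : ↥(Cfsg.SU n K q)) : matS s = s.1.1 := rfl

lemma matS_isU (s : ↥(Cfsg.SU n K q)) : IsU hK (matS s) :=
  (preserves_iff hK n _).mp s.2

lemma matS_det (s : ↥(Cfsg.SU n K q)) : (matS s).det = 1 := s.1.2

lemma matS_mul (s t : ↥(Cfsg.SU n K q)) : matS (s * t) = matS s * matS t := rfl

/-- an element of the special unitary group from a unitary matrix of determinant one -/
def mkS (W : Matrix (Fin n) (Fin n) K) (hU : IsU hK W) (hdet : W.det = 1) :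
    ↥(Cfsg.SU n K q) :=
  ⟨⟨W, hdet⟩, fun u v => (preserves_iff hK n W).mpr hU u v⟩

lemma matS_mkS (W : Matrix (Fin n) (Fin n) K) (hU : IsU hK W) (hdet : W.det = 1) :
    matS (mkS hK W hU hdet) = W := rfl

lemma mk_eq_of_matrix (u v : ↥(Cfsg.SU n K q)) (W : Matrix (Fin n) (Fin n) K) (hU : IsU hK W)
    (hdet : W.det = 1) (hc : W * matS u = matS v * W) : ConjClasses.mk u = ConjClasses.mk v := by
  rw [ConjClasses.mk_eq_mk_iff_isConj, isConj_iff]
  refine ⟨mkS hK W hU hdet, ?_⟩
  rw [mul_inv_eq_iff_eq_mul]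
  apply Subtype.ext
  apply Subtype.ext
  exact hc

include hK in
/-- the number of norm-one scalars -/
lemma card_mu : Nat.card ↥(rootsOfUnity (q + 1) K) = q + 1 := by
  classical
  have e : ↥(rootsOfUnity (q + 1) K) ≃ {x : K // x ^ (q + 1) = 1} :=
    { toFun := fun l => ⟨((l : Kˣ) : K), by
        have := (mem_rootsOfUnity _ _).mp l.2
        have h2 := congrArg Units.val this
        simpa using h2⟩
      invFun := fun x => ⟨Units.mk0 x.1 (ne_zero_of_pow x.2), by
        rw [mem_rootsOfUnity]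
        apply Units.ext
        simpa using x.2⟩
      left_inv := fun l => by
        apply Subtype.ext
        apply Units.ext
        rfl
      right_inv := fun x => by
        apply Subtype.ext
        rfl }
  rw [Nat.card_congr e, Nat.card_eq_fintype_card, Fintype.card_subtype]
  obtain ⟨-, hfib⟩ := Cfsg.Agent.Helper19.herm_sandwich hK
  exact hfib 1 Cfsg.Agent.Helper19.one_mem_hermFixed

/-- the value of a norm-one scalar -/
def muVal (l : ↥(rootsOfUnity (q + 1) K)) : K := ((l : Kˣ) : K)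

lemma muVal_pow (l : ↥(rootsOfUnity (q + 1) K)) : muVal l ^ (q + 1) = 1 := by
  have := (mem_rootsOfUnity _ _).mp l.2
  have h2 := congrArg Units.val this
  simpa [muVal] using h2

/-- a norm-one scalar as a root of unity -/
def muMk (c : K) (hc : c ^ (q + 1) = 1) : ↥(rootsOfUnity (q + 1) K) :=
  ⟨Units.mk0 c (ne_zero_of_pow hc), by
    rw [mem_rootsOfUnity]
    apply Units.ext
    simpa using hc⟩

lemma muVal_muMk (c : K) (hc : c ^ (q + 1) = 1) : muVal (muMk c hc) = c := rfl

lemma muVal_injective : Function.Injective (muVal (K := K) (q := q)) := by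
  intro a b hab
  apply Subtype.ext
  apply Units.ext
  exact hab

lemma muVal_mul (a b : ↥(rootsOfUnity (q + 1) K)) : muVal (a * b) = muVal a * muVal b := rfl

lemma muVal_inv (a : ↥(rootsOfUnity (q + 1) K)) : muVal a⁻¹ = (muVal a)⁻¹ := by
  unfold muVal
  simp

lemma muVal_pow' (a : ↥(rootsOfUnity (q + 1) K)) (k : ℕ) : muVal (a ^ k) = muVal a ^ k := by
  unfold muVal
  simp

include hK in
theorem card_classes_SU (hn : 2 ≤ n) :
    Nat.card {C : ConjClasses ↥(Cfsg.SU n K q) //
      ∃ u : ↥(Cfsg.SU n K q), ConjClasses.mk u = C ∧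
        (((u : GL (Fin n) K) : Matrix (Fin n) (Fin n) K) - 1) ^ n = 0 ∧
        (((u : GL (Fin n) K) : Matrix (Fin n) (Fin n) K) - 1).rank = n - 1} =
      Nat.gcd n (q + 1) := by
  classical
  have hn1 : 1 ≤ n := by omega
  obtain ⟨D₀⟩ := exists_regU hK hn1
  have hD₀n : D₀.hn = hn1 := rfl
  set P : Subgroup ↥(rootsOfUnity (q + 1) K) :=
    (powMonoidHom n : ↥(rootsOfUnity (q + 1) K) →* ↥(rootsOfUnity (q + 1) K)).range with hP
  -- the representatives
  let rep : ↥(rootsOfUnity (q + 1) K) → ↥(Cfsg.SU n K q) := fun l =>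
    mkS hK (D₀.twist (muVal l) (muVal_pow l)).A (D₀.twist (muVal l) (muVal_pow l)).hA
      (D₀.twist (muVal l) (muVal_pow l)).det_A
  have hrep : ∀ l, matS (rep l) = dg hn1 (muVal l) * D₀.A * dg hn1 (muVal l)⁻¹ := fun l => rfl
  let Φ : (↥(rootsOfUnity (q + 1) K) ⧸ P) → {C : ConjClasses ↥(Cfsg.SU n K q) //
      ∃ u : ↥(Cfsg.SU n K q), ConjClasses.mk u = C ∧
        (((u : GL (Fin n) K) : Matrix (Fin n) (Fin n) K) - 1) ^ n = 0 ∧
        (((u : GL (Fin n) K) : Matrix (Fin n) (Fin n) K) - 1).rank = n - 1} := fun t =>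
    ⟨ConjClasses.mk (rep t.out), rep t.out, rfl,
      (D₀.twist (muVal t.out) (muVal_pow t.out)).hnil,
      (D₀.twist (muVal t.out) (muVal_pow t.out)).hreg⟩
  have hinj : Function.Injective Φ := by
    intro t t' htt'
    have h1 : ConjClasses.mk (rep t.out) = ConjClasses.mk (rep t'.out) :=
      congrArg Subtype.val htt'
    rw [ConjClasses.mk_eq_mk_iff_isConj, isConj_iff] at h1
    obtain ⟨s, hs⟩ := h1
    rw [mul_inv_eq_iff_eq_mul] at hs
    have hs' : matS s * matS (rep t.out) = matS (rep t'.out) * matS s := by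
      rw [← matS_mul, ← matS_mul, hs]
    rw [hrep, hrep] at hs'
    set l := muVal t.out with hl
    set l' := muVal t'.out with hl'
    have hl0 : l ≠ 0 := ne_zero_of_pow (muVal_pow t.out)
    have hl'0 : l' ≠ 0 := ne_zero_of_pow (muVal_pow t'.out)
    have e1 : dg hn1 l⁻¹ * dg hn1 l = 1 := by rw [dg_mul, inv_mul_cancel₀ hl0, dg_one]
    have e2 : dg hn1 l'⁻¹ * dg hn1 l' = 1 := by rw [dg_mul, inv_mul_cancel₀ hl'0, dg_one]
    set c := dg hn1 l'⁻¹ * matS s * dg hn1 l with hc
    have hcU : IsU hK c :=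
      ((isU_dg hK hn1 l'⁻¹ (inv_pow_eq_one (muVal_pow t'.out))).mul (matS_isU hK s)).mul
        (isU_dg hK hn1 l (muVal_pow t.out))
    have hcA : c * D₀.A = D₀.A * c := by
      calc c * D₀.A = dg hn1 l'⁻¹ * (matS s * (dg hn1 l * D₀.A * dg hn1 l⁻¹)) * dg hn1 l := by
            rw [hc]; simp only [mul_assoc, e1, mul_one]
        _ = dg hn1 l'⁻¹ * (dg hn1 l' * D₀.A * dg hn1 l'⁻¹ * matS s) * dg hn1 l := by rw [hs']
        _ = D₀.A * c := by rw [hc]; simp only [mul_assoc, cancel_l e2]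
    obtain ⟨ε, hε, hdet⟩ := D₀.det_centralizer c hcU hcA
    have hdetc : c.det = l'⁻¹ * l := by
      rw [hc, Matrix.det_mul, Matrix.det_mul, dg_det, dg_det, matS_det, mul_one]
    have hmem : (t'.out)⁻¹ * t.out ∈ P := by
      refine MonoidHom.mem_range.mpr ⟨muMk ε hε, ?_⟩
      apply muVal_injective
      rw [powMonoidHom_apply, muVal_pow', muVal_muMk, muVal_mul, muVal_inv, ← hdet, hdetc]
    have h3 : ((t'.out : ↥(rootsOfUnity (q + 1) K)) : ↥(rootsOfUnity (q + 1) K) ⧸ P) = t.out :=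
      QuotientGroup.eq.mpr hmem
    rw [QuotientGroup.out_eq', QuotientGroup.out_eq'] at h3
    exact h3.symm
  have hsurj : Function.Surjective Φ := by
    rintro ⟨C, u, rfl, hnil, hreg⟩
    set D' : RegU hK n := ⟨matS u, matS_isU hK u, hnil, hreg, hn1⟩ with hD'
    obtain ⟨h, hU, hconj⟩ := D₀.exists_unitary_conj D'
    have hδ : h.det ^ (q + 1) = 1 := hU.det_pow
    set t : ↥(rootsOfUnity (q + 1) K) ⧸ P := ((muMk h.det hδ : ↥(rootsOfUnity (q + 1) K)) :
      ↥(rootsOfUnity (q + 1) K) ⧸ P) with ht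
    have h1 : ((t.out : ↥(rootsOfUnity (q + 1) K)) : ↥(rootsOfUnity (q + 1) K) ⧸ P) =
        (muMk h.det hδ : ↥(rootsOfUnity (q + 1) K)) := QuotientGroup.out_eq' t
    have h2 := QuotientGroup.eq.mp h1
    obtain ⟨ν, hν⟩ := MonoidHom.mem_range.mp h2
    have hν' : muVal ν ^ n = (muVal t.out)⁻¹ * h.det := by
      have := congrArg muVal hν
      rw [powMonoidHom_apply, muVal_pow', muVal_mul, muVal_inv, muVal_muMk] at this
      exact this
    set l := muVal t.out with hl
    have hl0 : l ≠ 0 := ne_zero_of_pow (muVal_pow t.out)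
    have hν0 : muVal ν ≠ 0 := ne_zero_of_pow (muVal_pow ν)
    have e1 : dg hn1 l⁻¹ * dg hn1 l = 1 := by rw [dg_mul, inv_mul_cancel₀ hl0, dg_one]
    set h' := (muVal ν)⁻¹ • h with hh'
    have hU' : IsU hK h' := hU.smul _ (inv_pow_eq_one (muVal_pow ν))
    have hconj' : h' * D₀.A = matS u * h' := by
      rw [hh', Matrix.smul_mul, Matrix.mul_smul, hconj]
    have hd0 : h.det ≠ 0 := ne_zero_of_pow hδ
    have hdet' : h'.det = l := by
      rw [hh', Matrix.det_smul, Fintype.card_fin, inv_pow, hν']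
      field_simp
    set W := h' * dg hn1 l⁻¹ with hW
    have hWU : IsU hK W := hU'.mul (isU_dg hK hn1 l⁻¹ (inv_pow_eq_one (muVal_pow t.out)))
    have hWdet : W.det = 1 := by
      rw [hW, Matrix.det_mul, dg_det, hdet', mul_inv_cancel₀ hl0]
    have hWc : W * matS (rep t.out) = matS u * W := by
      rw [hrep, hW]
      calc h' * dg hn1 l⁻¹ * (dg hn1 l * D₀.A * dg hn1 l⁻¹)
          = h' * D₀.A * dg hn1 l⁻¹ := by simp only [mul_assoc, cancel_l e1]
        _ = matS u * (h' * dg hn1 l⁻¹) := by rw [hconj', mul_assoc]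
    refine ⟨t, ?_⟩
    apply Subtype.ext
    exact mk_eq_of_matrix hK (rep t.out) u W hWU hWdet hWc
  rw [← Nat.card_congr (Equiv.ofBijective Φ ⟨hinj, hsurj⟩), ← Subgroup.index_eq_card, hP,
    IsCyclic.index_powMonoidHom_range, card_mu hK, Nat.gcd_comm]

end final

end Cfsg.Agent.Helper42.SUReg
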