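import Mathlib
import Cfsg.Agent.Lib.Helper42.SUReg9
import Cfsg.Agent.Lib.Helper63.PSUCent

set_option autoImplicit false
set_option linter.unusedSectionVars false

/-!
# Unitary matrices from a block diagonal matrix `diag(B, B^{-*})`
-/

namespace Cfsg.Agent.Helper42.UEig

open Matrix Cfsg.Agent.Helper42.SUReg Cfsg.Agent.Helper63.PSUCent

variable {K : Type*} [Field K] [Fintype K] {q : ℕ} (hK : Fintype.card K = q ^ 2)

lemma ad_fromBlocks {m : ℕ} (P Q R S : Matrix (Fin m) (Fin m) K) :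
    ad hK (fromBlocks P Q R S) = fromBlocks (ad hK P) (ad hK R) (ad hK Q) (ad hK S) := by
  ext (i | i) (j | j) <;> rfl

lemma fromBlocks_diag_pow {m : ℕ} (P S : Matrix (Fin m) (Fin m) K) (j : ℕ) :
    (fromBlocks P 0 0 S) ^ j = fromBlocks (P ^ j) 0 0 (S ^ j) := by
  induction j with
  | zero => rw [pow_zero, pow_zero, pow_zero, fromBlocks_one]
  | succ j ih =>
    rw [pow_succ, ih, fromBlocks_multiply, pow_succ, pow_succ]
    simp

lemma fromBlocks_diag_eq_smul_iff {m : ℕ} (P S : Matrix (Fin m) (Fin m) K) (c : K) :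
    fromBlocks P 0 0 S = c • (1 : Matrix (Fin m ⊕ Fin m) (Fin m ⊕ Fin m) K) ↔
      P = c • (1 : Matrix (Fin m) (Fin m) K) ∧ S = c • (1 : Matrix (Fin m) (Fin m) K) := by
  rw [← fromBlocks_one, fromBlocks_smul, fromBlocks_inj]
  simp

/-- the reindexing equivalence -/
def blockEquiv (m : ℕ) : Fin m ⊕ Fin m ≃ Fin (2 * m) :=
  finSumFinEquiv.trans (finCongr (two_mul m).symm)

lemma ad_reindex {m : ℕ} (X : Matrix (Fin m ⊕ Fin m) (Fin m ⊕ Fin m) K) :
    ad hK (Matrix.reindexAlgEquiv K K (blockEquiv m) X) =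
      Matrix.reindexAlgEquiv K K (blockEquiv m) (ad hK X) := by
  ext i j
  rfl

lemma conj_smul_one {n : ℕ} (Q Q' : Matrix (Fin n) (Fin n) K) (h : Q * Q' = 1) (c : K) :
    Q * (c • (1 : Matrix (Fin n) (Fin n) K)) * Q' = c • (1 : Matrix (Fin n) (Fin n) K) := by
  rw [Matrix.mul_smul, Matrix.smul_mul, mul_one, h]

/-- a special unitary matrix conjugate to `diag(B, B^{-*})` -/
theorem exists_SU_of_block {m : ℕ} (B B' : Matrix (Fin m) (Fin m) K) (hB : B * B' = 1)
    (hdet : sg hK B.det = B.det) :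
    ∃ g : Cfsg.SU (2 * m) K q, ∀ (j : ℕ) (c : K),
      mat g ^ j = c • (1 : Matrix (Fin (2 * m)) (Fin (2 * m)) K) ↔
        (B ^ j = c • (1 : Matrix (Fin m) (Fin m) K) ∧
          ad hK B' ^ j = c • (1 : Matrix (Fin m) (Fin m) K)) := by
  classical
  have hB' : B' * B = 1 := mul_eq_one_comm.mp hB
  set A : Matrix (Fin m ⊕ Fin m) (Fin m ⊕ Fin m) K := fromBlocks B 0 0 (ad hK B') with hA
  set J : Matrix (Fin m ⊕ Fin m) (Fin m ⊕ Fin m) K := fromBlocks 0 1 1 0 with hJ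
  have hadA : ad hK A = fromBlocks (ad hK B) 0 0 B' := by
    rw [hA, ad_fromBlocks, ad_ad, ad_zero]
  have hadJ : ad hK J = J := by
    rw [hJ, ad_fromBlocks, ad_zero, ad_one]
  have hJJ : J * J = 1 := by
    rw [hJ, fromBlocks_multiply]
    simp [fromBlocks_one]
  have hAJA : ad hK A * J * A = J := by
    rw [hadA, hJ, hA, fromBlocks_multiply, fromBlocks_multiply]
    have h1 : ad hK B * ad hK B' = 1 := by rw [← ad_mul, hB', ad_one]
    simp [h1, hB']
  have hdetA : A.det = 1 := by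
    rw [hA, Matrix.det_fromBlocks_zero₂₁, det_ad]
    have h1 : B.det * B'.det = 1 := by rw [← Matrix.det_mul, hB, Matrix.det_one]
    have h2 : sg hK B.det * sg hK B'.det = 1 := by rw [← map_mul, h1, map_one]
    rw [hdet] at h2
    exact h2
  set ρ := Matrix.reindexAlgEquiv K K (blockEquiv m) with hρ
  have hρad : ∀ X, ad hK (ρ X) = ρ (ad hK X) := fun X => ad_reindex hK X
  obtain ⟨Q, Q', hQQ', hQ⟩ := exists_Q hK (ρ J) (by rw [hρad, hadJ]) 1 one_ne_zero
    (by rw [← map_mul, hJJ, map_one, one_smul])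
  have hQ'Q : Q' * Q = 1 := mul_eq_one_comm.mp hQQ'
  set W := Q * ρ A * Q' with hW
  have hU : IsU hK W := by
    unfold IsU
    rw [hW, ad_mul, ad_mul]
    have h1 : ad hK Q' * (ad hK (ρ A) * ad hK Q) * (Q * ρ A * Q') =
        ad hK Q' * (ad hK (ρ A) * (ad hK Q * Q) * ρ A) * Q' := by
      simp only [mul_assoc]
    rw [h1, hQ, hρad, ← map_mul, ← map_mul, hAJA, ← hQ]
    have h2 : ad hK Q' * (ad hK Q * Q) * Q' = ad hK (Q * Q') * (Q * Q') := by
      rw [ad_mul]
      simp only [mul_assoc]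
    rw [h2, hQQ', ad_one, mul_one]
  have hdetW : W.det = 1 := by
    rw [hW, Matrix.det_mul, Matrix.det_mul, mul_right_comm, ← Matrix.det_mul, hQQ', Matrix.det_one,
      one_mul, hρ, Matrix.det_reindexAlgEquiv, hdetA]
  refine ⟨mkS hK W hU hdetW, fun j c => ?_⟩
  have hmat : mat (mkS hK W hU hdetW) = W := rfl
  rw [hmat, hW, conj_pow'' Q Q' (ρ A) hQQ' hQ'Q, ← map_pow, hA, fromBlocks_diag_pow,
    ← fromBlocks_diag_eq_smul_iff]
  constructor
  · intro h
    have h1 : Q' * (Q * ρ (fromBlocks (B ^ j) 0 0 (ad hK B' ^ j)) * Q') * Q =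
        Q' * (c • (1 : Matrix (Fin (2 * m)) (Fin (2 * m)) K)) * Q := by rw [h]
    rw [conj_smul_one Q' Q hQ'Q] at h1
    have h2 : Q' * (Q * ρ (fromBlocks (B ^ j) 0 0 (ad hK B' ^ j)) * Q') * Q =
        (Q' * Q) * ρ (fromBlocks (B ^ j) 0 0 (ad hK B' ^ j)) * (Q' * Q) := by
      simp only [mul_assoc]
    rw [h2, hQ'Q, one_mul, mul_one] at h1
    apply ρ.injective
    rw [h1, map_smul, map_one]
  · intro h
    rw [h, map_smul, map_one, conj_smul_one Q Q' hQQ']

end Cfsg.Agent.Helper42.UEig
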