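import Mathlib
import Cfsg.Agent.Lib.Helper42.SUReg9
import Cfsg.Agent.Lib.Helper42.UEig5
import Cfsg.Agent.Lib.Helper63.PSUCent

set_option autoImplicit false
set_option linter.unusedSectionVars false

/-!
# Elements of `PSU_n(q)` from isometries of an arbitrary Hermitian matrix
-/

namespace Cfsg.Agent.Helper42.SU3Spec

open Matrix Cfsg.Agent.Helper42.SUReg Cfsg.Agent.Helper63.PSUCent Cfsg.Agent.Helper42.UEig

variable {K : Type*} [Field K] [Fintype K] {q : ℕ} (hK : Fintype.card K = q ^ 2)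

/-- an isometry `A` of determinant one of a nondegenerate Hermitian matrix `H` whose powers are
scalar exactly at the multiples of `N` gives an element of order `N` in `PSU_n(q)` -/
theorem exists_psu_of_matrix {n : ℕ} (hn : 3 ≤ n) (H A : Matrix (Fin n) (Fin n) K)
    (hH : ad hK H = H) (c : K) (hc : c ≠ 0) (hHH : H * H = c • 1)
    (hA : ad hK A * H * A = H) (hdet : A.det = 1) (N : ℕ)
    (hN : ∀ j : ℕ, (∃ c : K, A ^ j = c • (1 : Matrix (Fin n) (Fin n) K)) ↔ N ∣ j) :
    ∃ x : Cfsg.PSU n K q, orderOf x = N := by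
  classical
  obtain ⟨Q, Q', hQQ', hQ⟩ := exists_Q hK H hH c hc hHH
  have hQ'Q : Q' * Q = 1 := mul_eq_one_comm.mp hQQ'
  set W := Q * A * Q' with hW
  have hU : IsU hK W := by
    unfold IsU
    rw [hW, ad_mul, ad_mul]
    have h1 : ad hK Q' * (ad hK A * ad hK Q) * (Q * A * Q') =
        ad hK Q' * (ad hK A * (ad hK Q * Q) * A) * Q' := by
      simp only [mul_assoc]
    rw [h1, hQ, hA, ← hQ]
    have h2 : ad hK Q' * (ad hK Q * Q) * Q' = ad hK (Q * Q') * (Q * Q') := by
      rw [ad_mul]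
      simp only [mul_assoc]
    rw [h2, hQQ', ad_one, mul_one]
  have hdetW : W.det = 1 := by
    rw [hW, Matrix.det_mul, Matrix.det_mul, mul_right_comm, ← Matrix.det_mul, hQQ', Matrix.det_one,
      one_mul, hdet]
  set g := mkS hK W hU hdetW with hg
  have hmat : mat g = W := rfl
  refine ⟨QuotientGroup.mk g, ?_⟩
  have hmk : ∀ j, ((QuotientGroup.mk g : Cfsg.PSU n K q) ^ j = 1 ↔
      g ^ j ∈ Subgroup.center (Cfsg.SU n K q)) := by
    intro j
    rw [← QuotientGroup.mk_pow, QuotientGroup.eq_one_iff]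
  have hWj : ∀ (j : ℕ) (c : K), W ^ j = c • (1 : Matrix (Fin n) (Fin n) K) ↔
      A ^ j = c • (1 : Matrix (Fin n) (Fin n) K) := by
    intro j c
    rw [hW, conj_pow'' Q Q' A hQQ' hQ'Q]
    constructor
    · intro h
      have h1 : Q' * (Q * A ^ j * Q') * Q =
          Q' * (c • (1 : Matrix (Fin n) (Fin n) K)) * Q := by rw [h]
      rw [conj_smul_one Q' Q hQ'Q] at h1
      have h2 : Q' * (Q * A ^ j * Q') * Q = (Q' * Q) * A ^ j * (Q' * Q) := by
        simp only [mul_assoc]
      rw [h2, hQ'Q, one_mul, mul_one] at h1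
      exact h1
    · intro h
      rw [h, conj_smul_one Q Q' hQQ']
  have key : ∀ j : ℕ, (QuotientGroup.mk g : Cfsg.PSU n K q) ^ j = 1 ↔ N ∣ j := by
    intro j
    rw [hmk, ← hN]
    constructor
    · intro hj
      obtain ⟨c', -, hc'2⟩ := exists_scalar_of_mem_center hK hn _ hj
      rw [mat_pow, hmat] at hc'2
      exact ⟨c', (hWj j c').mp hc'2⟩
    · rintro ⟨c', hc'⟩
      apply mem_center_of_scalar _ c'
      rw [mat_pow, hmat]
      exact (hWj j c').mpr hc'
  apply Nat.dvd_antisymm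
  · exact orderOf_dvd_of_pow_eq_one ((key N).mpr dvd_rfl)
  · exact (key _).mp (pow_orderOf_eq_one _)

/-- all divisors of an element order are element orders -/
lemma exists_orderOf_of_dvd {G : Type*} [Group G] (x : G) (N s : ℕ) (hx : orderOf x = N)
    (hN : 0 < N) (hs : s ∣ N) : ∃ y : G, orderOf y = s := by
  obtain ⟨t, rfl⟩ := hs
  refine ⟨x ^ t, ?_⟩
  have ht : 0 < t := by
    rcases Nat.eq_zero_or_pos t with h | h
    · rw [h, mul_zero] at hN
      omega
    · exact h
  rw [orderOf_pow_of_dvd ht.ne' (by rw [hx]; exact dvd_mul_left _ _), hx, Nat.mul_div_cancel _ ht]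

end Cfsg.Agent.Helper42.SU3Spec
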