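import Mathlib
import Cfsg.Agent.Lib.Helper42.PrimeCent2
import Cfsg.Agent.Lib.Helper98.Singer

set_option autoImplicit false

/-!
# Orders of elements of Singer tori in `PSL_n(q)`
-/

namespace Cfsg.Agent.Helper42.SingerOrd

open Module Polynomial Cfsg.Agent.Helper42.PrimeCent Cfsg.Agent.Helper98.Singer

section field

variable {F K : Type*} [Field F] [Fintype F] [Field K] [Algebra F K]

/-- the fixed points of the `q`-power map are exactly the base field -/
lemma exists_algebraMap_of_pow_card (s : K) (hs : s ^ Fintype.card F = s) :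
    ∃ c : F, s = algebraMap F K c := by
  classical
  by_contra hcon
  push Not at hcon
  set q := Fintype.card F with hq
  have hq2 : 1 < q := Fintype.one_lt_card
  set P : K[X] := X ^ q - X with hP
  have hP0 : P ≠ 0 := FiniteField.X_pow_card_sub_X_ne_zero K hq2
  have hdeg : P.natDegree = q := FiniteField.X_pow_card_sub_X_natDegree_eq K hq2
  set T : Finset K := insert s (Finset.univ.image (algebraMap F K)) with hT
  have hTcard : T.card = q + 1 := by
    rw [hT, Finset.card_insert_of_notMem, Finset.card_image_of_injective _ (algebraMap F K).injective,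
      Finset.card_univ]
    intro h
    rw [Finset.mem_image] at h
    obtain ⟨c, -, hc⟩ := h
    exact hcon c hc.symm
  have hsub : T.val ≤ P.roots := by
    rw [Multiset.le_iff_subset T.nodup]
    intro y hy
    rw [Finset.mem_val, hT, Finset.mem_insert, Finset.mem_image] at hy
    rw [Polynomial.mem_roots hP0, Polynomial.IsRoot.def, hP, eval_sub, eval_pow, eval_X, sub_eq_zero]
    rcases hy with rfl | ⟨c, -, rfl⟩
    · exact hs
    · rw [← map_pow, FiniteField.pow_card]
  have h1 := Multiset.card_le_card hsub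
  have h2 := Polynomial.card_roots' P
  rw [Finset.card_val, hTcard] at h1
  omega

lemma exists_algebraMap_iff (s : K) (hs0 : s ≠ 0) :
    (∃ c : F, s = algebraMap F K c) ↔ s ^ (Fintype.card F - 1) = 1 := by
  have hq1 : 1 ≤ Fintype.card F := Fintype.card_pos
  constructor
  · rintro ⟨c, rfl⟩
    have hc0 : c ≠ 0 := by
      rintro rfl
      exact hs0 (map_zero _)
    rw [← map_pow, FiniteField.pow_card_sub_one_eq_one c hc0, map_one]
  · intro h
    apply exists_algebraMap_of_pow_card
    conv_lhs => rw [← Nat.sub_add_cancel hq1, pow_succ, h, one_mul]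

end field

section arith

lemma gcd_pow_add_one_sub_one (q m : ℕ) (hq : Odd q) : Nat.gcd (q ^ m + 1) (q - 1) = 2 := by
  have hq1 : 1 ≤ q := hq.pos
  have hqm : 1 ≤ q ^ m := Nat.one_le_pow _ _ hq1
  apply Nat.dvd_antisymm
  · have h1 : Nat.gcd (q ^ m + 1) (q - 1) ∣ q ^ m + 1 := Nat.gcd_dvd_left _ _
    have h2 : Nat.gcd (q ^ m + 1) (q - 1) ∣ q ^ m - 1 :=
      (Nat.gcd_dvd_right _ _).trans (Nat.sub_one_dvd_pow_sub_one q m)
    have h3 := Nat.dvd_sub h1 h2
    have : q ^ m + 1 - (q ^ m - 1) = 2 := by omega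
    rwa [this] at h3
  · apply Nat.dvd_gcd
    · have : Odd (q ^ m) := hq.pow
      obtain ⟨t, ht⟩ := this
      exact ⟨t + 1, by omega⟩
    · obtain ⟨t, ht⟩ := hq
      exact ⟨t, by omega⟩

lemma geom_sum_modEq (q m : ℕ) (hq : 1 ≤ q) :
    (∑ i ∈ Finset.range m, q ^ i) ≡ m [MOD (q - 1)] := by
  have h1 : q ≡ 1 [MOD (q - 1)] := ((Nat.modEq_iff_dvd' hq).mpr dvd_rfl).symm
  induction m with
  | zero => simp [Nat.ModEq]
  | succ m ih =>
    rw [Finset.sum_range_succ]
    have h2 : q ^ m ≡ 1 [MOD (q - 1)] := by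
      have := h1.pow m
      rwa [one_pow] at this
    exact ih.add h2

/-- the arithmetic core: the minimal `j` with `o ∣ j (q-1)` is `N` and `o ∣ N S` force the
2-part of `q - 1` to divide `S` -/
lemma two_pow_dvd_of_order (N S q o a : ℕ) (hNeven : Even N) (hN : 0 < N)
    (hoNS : o ∣ N * S) (hoN : o ∣ N * (q - 1)) (hmin : ∀ j, o ∣ j * (q - 1) → N ∣ j)
    (ha : 2 ^ a ∣ q - 1) : 2 ^ a ∣ S := by
  by_cases hq1 : q - 1 = 0
  · -- then o ∣ 0 always, so N ∣ 1
    have := hmin 1 (by rw [hq1]; simp)
    have hN1 : N = 1 := Nat.dvd_one.mp this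
    rw [hN1] at hNeven
    exact absurd hNeven (by decide)
  set e := Nat.gcd (q - 1) S with he
  have hoe : o ∣ N * e := by
    rw [he, ← Nat.gcd_mul_left]
    exact Nat.dvd_gcd hoN hoNS
  have he1 : e ∣ q - 1 := Nat.gcd_dvd_left _ _
  obtain ⟨k, hk⟩ := he1
  have hkodd : ¬ Even k := by
    rintro ⟨t, ht⟩
    obtain ⟨N', hN'⟩ := hNeven
    have h1 : o ∣ N' * (q - 1) := by
      refine hoe.trans ⟨t, ?_⟩
      rw [hk, ht, hN']
      ring
    have h2 := hmin N' h1
    have h3 := Nat.le_of_dvd (by omega) h2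
    omega
  have hcop : Nat.Coprime (2 ^ a) k := by
    apply Nat.Coprime.pow_left
    rw [Nat.coprime_two_left]
    exact Nat.not_even_iff_odd.mp hkodd
  have h2e : 2 ^ a ∣ e := by
    rw [hk, mul_comm] at ha
    exact hcop.dvd_of_dvd_mul_left ha
  exact h2e.trans (Nat.gcd_dvd_right _ _)

end arith

section psl

variable {F K : Type*} [Field F] [Fintype F] [Field K] [Algebra F K]

lemma mk_pow_eq_one_iff {n : ℕ} (φ : K →ₐ[F] Matrix (Fin n) (Fin n) F)
    (hφ : Function.Injective φ) (g : Matrix.SpecialLinearGroup (Fin n) F) (s : K)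
    (hg : g.val = φ s) (j : ℕ) :
    ((QuotientGroup.mk g : Matrix.ProjectiveSpecialLinearGroup (Fin n) F) ^ j = 1) ↔
      ∃ c : F, s ^ j = algebraMap F K c := by
  have hscal : ∀ c : F, φ (algebraMap F K c) = c • (1 : Matrix (Fin n) (Fin n) F) := by
    intro c
    rw [φ.commutes, Algebra.algebraMap_eq_smul_one]
  have hpow : (g ^ j).val = φ (s ^ j) := by
    rw [Matrix.SpecialLinearGroup.coe_pow, hg, map_pow]
  rw [← QuotientGroup.mk_pow, QuotientGroup.eq_one_iff]
  constructor
  · intro h
    obtain ⟨c, -, hc⟩ := exists_scalar_of_mem_center _ h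
    refine ⟨c, hφ ?_⟩
    rw [← hpow, hc, hscal]
  · rintro ⟨c, hc⟩
    apply mem_center_of_scalar _ c
    rw [hpow, hc, hscal]

/-- the image in `PSL_n` of the `(q-1)`-th power of a field element -/
theorem exists_PSL_of_unit [Module.Finite F K] {n : ℕ} (hK : finrank F K = n) (s' : Kˣ) :
    ∃ x : Matrix.ProjectiveSpecialLinearGroup (Fin n) F, ∀ j : ℕ,
      x ^ j = 1 ↔ ∃ c : F, ((s' : K) ^ (Fintype.card F - 1)) ^ j = algebraMap F K c := by
  let b : Module.Basis (Fin n) F K := Module.finBasisOfFinrankEq F K hK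
  let φ : K →ₐ[F] Matrix (Fin n) (Fin n) F := Algebra.leftMulMatrix b
  have hφ : Function.Injective φ := Algebra.leftMulMatrix_injective b
  have hdet0 : (φ (s' : K)).det ≠ 0 := by
    intro h0
    have h1 : φ (s' : K) * φ ((s'⁻¹ : Kˣ) : K) = 1 := by
      rw [← map_mul, Units.mul_inv, map_one]
    have := congrArg Matrix.det h1
    rw [Matrix.det_mul, h0, zero_mul, Matrix.det_one] at this
    exact zero_ne_one this
  have hdet : (φ ((s' : K) ^ (Fintype.card F - 1))).det = 1 := by
    rw [map_pow, Matrix.det_pow, FiniteField.pow_card_sub_one_eq_one _ hdet0]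
  refine ⟨QuotientGroup.mk ⟨φ ((s' : K) ^ (Fintype.card F - 1)), hdet⟩, fun j => ?_⟩
  exact mk_pow_eq_one_iff φ hφ _ _ rfl j

end psl

section singer

variable {F : Type*} [Field F] [Fintype F]

/-- an endomorphism of `F^n` with a power of primitive prime order lies in a Singer torus:
it is the image of an element `s` of the degree `n` extension under an algebra embedding,
and its determinant is the norm of `s` -/
theorem exists_field_elt (K : Type*) [Field K] [Fintype K] [Algebra F K]
    {V : Type*} [AddCommGroup V] [Module F V] [Finite V]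
    {n : ℕ} (hn : 0 < n) (hK : finrank F K = n) (hVdim : finrank F V = n) {r : ℕ}
    (hp : PPD (Fintype.card F) n r) (G : Module.End F V) (t : ℕ)
    (hGr : (G ^ t) ^ r = 1) (hG1 : G ^ t ≠ 1) :
    ∃ (ψ : K →ₐ[F] Module.End F V) (s : K), Function.Injective ψ ∧ ψ s = G ∧
      LinearMap.det G = Algebra.norm F s := by
  classical
  have : Module.Finite F V := Module.Finite.of_finite
  have : Finite (Module.End F V) :=
    Finite.of_injective (fun f : Module.End F V => (f : V → V)) DFunLike.coe_injective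
  set H : Module.End F V := G ^ t with hH
  set A : Subalgebra F (Module.End F V) := Algebra.adjoin F {G} with hA
  have hGA : G ∈ A := Algebra.self_mem_adjoin_singleton F G
  have hHA : H ∈ A := Subalgebra.pow_mem A hGA t
  have hcomm : ∀ a ∈ A, ∀ b ∈ A, a * b = b * a := by
    intro a ha b hb
    have h1 : Commute G b := Algebra.commute_of_mem_adjoin_self hb
    exact (Algebra.commute_of_mem_adjoin_singleton_of_commute ha h1.symm).symm.eq
  have hker : ∀ a ∈ A, a ≠ 0 → LinearMap.ker a = ⊥ := by
    intro a ha ha0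
    exact ker_eq_bot_of_commute hp hn hVdim H hGr hG1 a (hcomm a ha H hHA) ha0
  have hdom : ∀ a ∈ A, ∀ b ∈ A, a * b = 0 → a = 0 ∨ b = 0 := by
    intro a ha b hb hab
    by_cases ha0 : a = 0
    · exact Or.inl ha0
    · right
      have hinj := LinearMap.ker_eq_bot.mp (hker a ha ha0)
      apply LinearMap.ext
      intro v
      apply hinj
      rw [LinearMap.zero_apply, map_zero, ← Module.End.mul_apply, hab, LinearMap.zero_apply]
  -- a nonzero vector
  obtain ⟨v₀, hv₀⟩ : ∃ v₀ : V, v₀ ≠ 0 := by
    have : Nontrivial V := Module.nontrivial_of_finrank_pos (R := F) (by rw [hVdim]; exact hn)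
    exact exists_ne 0
  -- dimension of A
  have hAle : finrank F A ≤ n := by
    rw [← hVdim]
    let f : A →ₗ[F] V := (LinearMap.applyₗ v₀).comp A.val.toLinearMap
    apply LinearMap.finrank_le_finrank_of_injective (f := f)
    rw [← LinearMap.ker_eq_bot, eq_bot_iff]
    intro a ha
    rw [LinearMap.mem_ker] at ha
    have ha' : (a : Module.End F V) v₀ = 0 := ha
    by_contra hne
    have ha0 : (a : Module.End F V) ≠ 0 := fun h => hne (by
      rw [Submodule.mem_bot]
      exact Subtype.ext h)
    have := hker a a.2 ha0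
    have hv : v₀ ∈ LinearMap.ker (a : Module.End F V) := ha'
    rw [this, Submodule.mem_bot] at hv
    exact hv₀ hv
  have hAdim : finrank F A = n := by
    let L : Module.End F A := LinearMap.mulLeft F (⟨H, hHA⟩ : A)
    have hLr : L ^ r = 1 := by
      apply LinearMap.ext
      intro a
      have : ∀ k : ℕ, (L ^ k) a = (⟨H, hHA⟩ : A) ^ k * a := by
        intro k
        induction k with
        | zero => simp
        | succ k ih => rw [pow_succ', Module.End.mul_apply, ih, pow_succ', mul_assoc]; rfl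
      rw [this]
      have h1 : (⟨H, hHA⟩ : A) ^ r = 1 := Subtype.ext hGr
      rw [h1, one_mul]; rfl
    have : Finite A := Finite.of_injective (fun a : A => (a : Module.End F V)) Subtype.val_injective
    rcases eq_one_or_ker_bot hp hn hAle L hLr with h1 | ⟨h1, -⟩
    · exfalso
      apply hG1
      have := congrArg (fun f : Module.End F A => ((f 1 : A) : Module.End F V)) h1
      simpa [L] using this
    · exact h1
  have : Finite A := Finite.of_injective (fun a : A => (a : Module.End F V)) Subtype.val_injective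
  have hcard : Nat.card A = Fintype.card K := by
    rw [Module.natCard_eq_pow_finrank (K := F) (V := A), hAdim, Nat.card_eq_fintype_card,
      Module.card_eq_pow_finrank (K := F) (V := K), hK]
  have hnt : (1 : Module.End F V) ≠ 0 := by
    intro h
    have := LinearMap.congr_fun h v₀
    simp at this
    exact hv₀ this
  obtain ⟨ψ, hψinj, hψA⟩ := exists_embedding (K := K) A hnt hcomm hdom hcard
  obtain ⟨s, hs⟩ := (hψA G).mp hGA
  refine ⟨ψ, s, hψinj, hs, ?_⟩
  -- the determinant
  let θ : K →ₗ[F] V := (LinearMap.applyₗ v₀).comp ψ.toLinearMap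
  have hθ : ∀ k, θ k = ψ k v₀ := fun k => rfl
  have hθinj : Function.Injective θ := by
    rw [← LinearMap.ker_eq_bot, eq_bot_iff]
    intro k hk
    rw [LinearMap.mem_ker, hθ] at hk
    rw [Submodule.mem_bot]
    by_contra hne
    have hne' : ψ k ≠ 0 := fun h => hne (hψinj (h.trans (map_zero ψ).symm))
    have := hker (ψ k) ((hψA _).mpr ⟨k, rfl⟩) hne'
    have hv : v₀ ∈ LinearMap.ker (ψ k) := hk
    rw [this, Submodule.mem_bot] at hv
    exact hv₀ hv
  have : Module.Finite F K := Module.finite_of_finrank_pos (by rw [hK]; exact hn)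
  let Θ : K ≃ₗ[F] V := LinearEquiv.ofInjectiveOfFinrankEq θ hθinj (by rw [hK, hVdim])
  have hΘ : ∀ k, Θ k = ψ k v₀ := fun k => rfl
  have hconj : G = (Θ : K →ₗ[F] V) ∘ₗ (LinearMap.mul F K s) ∘ₗ (Θ.symm : V →ₗ[F] K) := by
    apply LinearMap.ext
    intro v
    obtain ⟨k, rfl⟩ := Θ.surjective v
    simp only [LinearMap.coe_comp, LinearEquiv.coe_coe, Function.comp_apply,
      LinearEquiv.symm_apply_apply, LinearMap.mul_apply_apply]
    rw [hΘ, hΘ, map_mul, Module.End.mul_apply, hs]
  rw [Algebra.norm_apply, hconj, LinearMap.det_conj]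
  rfl

end singer

end Cfsg.Agent.Helper42.SingerOrd
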