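import Mathlib
import Cfsg.Agent.Lib.Helper41.Zsigmondy
import Cfsg.Agent.Lib.Helper42.SingerOrd

set_option autoImplicit false
set_option linter.unusedSectionVars false

/-!
# Arithmetic for the half-torus order criterion in even-dimensional unitary groups
-/

namespace Cfsg.Agent.Helper42.UEig

open Cfsg.Agent.Helper42.SingerOrd

/-- divisibility of `q ^ k - 1` by a primitive prime divisor -/
lemma ppd_dvd_iff (q e r : ℕ) (hq : 1 ≤ q) (he : 0 < e) (hr : r.Prime) (hdvd : r ∣ q ^ e - 1)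
    (hmin : ∀ k, 0 < k → k < e → ¬ r ∣ q ^ k - 1) (k : ℕ) : r ∣ q ^ k - 1 ↔ e ∣ k := by
  have : Fact r.Prime := ⟨hr⟩
  have hord : orderOf (q : ZMod r) = e := by
    rw [orderOf_eq_iff he]
    refine ⟨(Cfsg.Agent.Helper41.dvd_pow_sub_one_iff q r e hq).mp hdvd, fun k hk hk0 h => ?_⟩
    exact hmin k hk0 hk ((Cfsg.Agent.Helper41.dvd_pow_sub_one_iff q r k hq).mpr h)
  rw [Cfsg.Agent.Helper41.dvd_pow_sub_one_iff q r k hq, ← hord, orderOf_dvd_iff_pow_eq_one]

lemma sq_sub_one_eq (x : ℕ) (hx : 1 ≤ x) : x ^ 2 - 1 = (x - 1) * (x + 1) := by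
  obtain ⟨y, rfl⟩ : ∃ y, x = y + 1 := ⟨x - 1, by omega⟩
  have : (y + 1) ^ 2 = y * (y + 1 + 1) + 1 := by ring
  rw [this]
  simp

/-- the prime used in the eigenvalue argument -/
theorem exists_prime (q m : ℕ) (hq : Odd q) (hq3 : 3 ≤ q) (hm : 2 ≤ m) :
    ∃ r : ℕ, r.Prime ∧ r ∣ (if Even m then q ^ m + 1 else q ^ m - 1) ∧ ¬ r ∣ q + 1 ∧ ¬ r ∣ q ∧
      (∀ d, 0 < d → d < 2 * m → Even d → ¬ r ∣ q ^ d - 1) ∧
      (∀ d, 0 < d → d < 2 * m → ¬ Even d → ¬ r ∣ q ^ d + 1) := by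
  have hq1 : 1 ≤ q := by omega
  by_cases hme : Even m
  · -- exponent 2m
    obtain ⟨r, hr, hdvd, hmin⟩ := Cfsg.Agent.Helper41.zsigmondy q (2 * m) (by omega) (by omega)
      (by omega) (by omega)
    have hiff := ppd_dvd_iff q (2 * m) r hq1 (by omega) hr hdvd hmin
    have hQ : 1 ≤ q ^ m := Nat.one_le_pow _ _ hq1
    refine ⟨r, hr, ?_, ?_, ?_, ?_, ?_⟩
    · rw [if_pos hme]
      have h1 : q ^ (2 * m) - 1 = (q ^ m - 1) * (q ^ m + 1) := by
        rw [mul_comm 2 m, pow_mul]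
        exact sq_sub_one_eq _ hQ
      rw [h1] at hdvd
      rcases (Nat.Prime.dvd_mul hr).mp hdvd with h | h
      · exact absurd h (hmin m (by omega) (by omega))
      · exact h
    · intro h
      have h2 : r ∣ q ^ 2 - 1 := by
        rw [sq_sub_one_eq q hq1]
        exact Dvd.dvd.mul_left h _
      have := (hiff 2).mp h2
      have := Nat.le_of_dvd (by omega) this
      omega
    · intro h
      have h1 : r ∣ q ^ (2 * m) := dvd_pow h (by omega)
      have h2 : 1 ≤ q ^ (2 * m) := Nat.one_le_pow _ _ hq1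
      have h3 : r ∣ 1 := (Nat.dvd_sub_iff_right h2 h1).mp hdvd
      exact hr.one_lt.ne' (Nat.dvd_one.mp h3)
    · intro d hd0 hdn _
      exact hmin d hd0 hdn
    · intro d hd0 hdn hdo h
      have hQd : 1 ≤ q ^ d := Nat.one_le_pow _ _ hq1
      have h2 : r ∣ q ^ (2 * d) - 1 := by
        rw [mul_comm 2 d, pow_mul, sq_sub_one_eq _ hQd]
        exact Dvd.dvd.mul_left h _
      have h3 := (hiff (2 * d)).mp h2
      have h4 : m ∣ d := Nat.dvd_of_mul_dvd_mul_left (by omega) h3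
      exact hdo (hme.trans_dvd h4)
  · -- exponent m, odd
    have hmo : Odd m := Nat.not_even_iff_odd.mp hme
    have hm3 : 3 ≤ m := by
      obtain ⟨t, ht⟩ := hmo
      omega
    obtain ⟨r, hr, hdvd, hmin⟩ := Cfsg.Agent.Helper41.zsigmondy q m (by omega) (by omega)
      (by omega) (by omega)
    have hiff := ppd_dvd_iff q m r hq1 (by omega) hr hdvd hmin
    have hr2 : r ≠ 2 := by
      rintro rfl
      apply hmin 1 (by omega) (by omega)
      rw [pow_one]
      obtain ⟨t, ht⟩ := hq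
      exact ⟨t, by omega⟩
    refine ⟨r, hr, ?_, ?_, ?_, ?_, ?_⟩
    · rw [if_neg hme]
      exact hdvd
    · intro h
      have h2 : r ∣ q ^ 2 - 1 := by
        rw [sq_sub_one_eq q hq1]
        exact Dvd.dvd.mul_left h _
      have := (hiff 2).mp h2
      have := Nat.le_of_dvd (by omega) this
      omega
    · intro h
      have h1 : r ∣ q ^ m := dvd_pow h (by omega)
      have h2 : 1 ≤ q ^ m := Nat.one_le_pow _ _ hq1
      have h3 : r ∣ 1 := (Nat.dvd_sub_iff_right h2 h1).mp hdvd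
      exact hr.one_lt.ne' (Nat.dvd_one.mp h3)
    · intro d hd0 hdn hde h
      have h1 := (hiff d).mp h
      obtain ⟨c, hc⟩ := h1
      have hc1 : c = 1 := by
        rcases Nat.lt_or_ge c 2 with h2 | h2
        · rcases Nat.eq_zero_or_pos c with h0 | h0
          · rw [h0, mul_zero] at hc
            omega
          · omega
        · exfalso
          have : m * 2 ≤ m * c := Nat.mul_le_mul_left _ h2
          omega
      rw [hc1, mul_one] at hc
      rw [hc] at hde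
      exact hme hde
    · intro d hd0 hdn hdo h
      have hQd : 1 ≤ q ^ d := Nat.one_le_pow _ _ hq1
      have h2 : r ∣ q ^ (2 * d) - 1 := by
        rw [mul_comm 2 d, pow_mul, sq_sub_one_eq _ hQd]
        exact Dvd.dvd.mul_left h _
      have h3 := (hiff (2 * d)).mp h2
      have h4 : m ∣ d := by
        have hcop : Nat.Coprime m 2 := by
          rw [Nat.coprime_two_right]
          exact hmo
        exact hcop.dvd_of_dvd_mul_left h3
      have h5 : r ∣ q ^ d - 1 := (hiff d).mpr h4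
      have h6 := Nat.dvd_sub h h5
      have h7 : q ^ d + 1 - (q ^ d - 1) = 2 := by omega
      rw [h7] at h6
      exact hr2 ((Nat.prime_dvd_prime_iff_eq hr Nat.prime_two).mp h6)

/-- `(q + 1) M = q ^ (2 m) - 1` -/
lemma M_mul (q m : ℕ) (hq : 1 ≤ q) :
    ((q - 1) * ∑ k ∈ Finset.range m, (q ^ 2) ^ k) * (q + 1) = q ^ (2 * m) - 1 := by
  have h1 : (∑ k ∈ Finset.range m, (q ^ 2) ^ k) * (q ^ 2 - 1) = (q ^ 2) ^ m - 1 :=
    geom_sum_mul_of_one_le (Nat.one_le_pow _ _ hq) m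
  rw [pow_mul, ← h1, sq_sub_one_eq q hq]
  ring

/-- the factorisation of `M` for even `m` -/
lemma M_even (q m' : ℕ) (hq : 1 ≤ q) :
    (q - 1) * ∑ k ∈ Finset.range (2 * m'), (q ^ 2) ^ k =
      (q ^ (2 * m') + 1) * ((q - 1) * ∑ k ∈ Finset.range m', (q ^ 2) ^ k) := by
  have hq2 : 1 ≤ q ^ 2 := Nat.one_le_pow _ _ hq
  have h1 : (∑ k ∈ Finset.range (2 * m'), (q ^ 2) ^ k) * (q ^ 2 - 1) = (q ^ 2) ^ (2 * m') - 1 :=
    geom_sum_mul_of_one_le hq2 _
  have h2 : (∑ k ∈ Finset.range m', (q ^ 2) ^ k) * (q ^ 2 - 1) = (q ^ 2) ^ m' - 1 :=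
    geom_sum_mul_of_one_le hq2 _
  have h3 : (q ^ 2) ^ (2 * m') - 1 = ((q ^ 2) ^ m' - 1) * ((q ^ 2) ^ m' + 1) := by
    rw [mul_comm 2 m', pow_mul]
    exact sq_sub_one_eq _ (Nat.one_le_pow _ _ hq2)
  have h4 : (q ^ 2) ^ m' = q ^ (2 * m') := (pow_mul q 2 m').symm
  rcases Nat.eq_zero_or_pos (q ^ 2 - 1) with h0 | h0
  · -- q = 1
    have hq1 : q = 1 := by
      rcases Nat.lt_or_ge q 2 with h | h
      · omega
      · exfalso
        have : 2 ^ 2 ≤ q ^ 2 := Nat.pow_le_pow_left h 2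
        omega
    subst hq1
    simp
  · have h5 : (∑ k ∈ Finset.range (2 * m'), (q ^ 2) ^ k) =
        (q ^ (2 * m') + 1) * ∑ k ∈ Finset.range m', (q ^ 2) ^ k := by
      apply Nat.eq_of_mul_eq_mul_right h0
      rw [h1, h3, mul_assoc, h2, h4]
      ring
    rw [h5]
    ring

/-- the factorisation of `M` for odd `m` -/
lemma M_odd (q m : ℕ) (hq : Odd q) (hm : Odd m) :
    ∃ R, Odd R ∧ (q - 1) * ∑ k ∈ Finset.range m, (q ^ 2) ^ k = (q ^ m - 1) * R := by
  have hq1 : 1 ≤ q := hq.pos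
  have hQ : 1 ≤ q ^ m := Nat.one_le_pow _ _ hq1
  obtain ⟨R, hR⟩ : q + 1 ∣ q ^ m + 1 := by
    have := Odd.nat_add_dvd_pow_add_pow q 1 hm
    rwa [one_pow] at this
  refine ⟨R, ?_, ?_⟩
  · -- parity of R
    have h1 : ((q : ℤ) - (-1)) * ∑ i ∈ Finset.range m, (q : ℤ) ^ i * (-1) ^ (m - 1 - i) =
        (q : ℤ) ^ m - (-1) ^ m := by
      rw [mul_comm]
      exact (Commute.all (q : ℤ) (-1)).geom_sum₂_mul m
    rw [hm.neg_one_pow] at h1
    have h2 : ((q : ℤ) + 1) * (R : ℤ) = (q : ℤ) ^ m + 1 := by exact_mod_cast hR.symm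
    have h3 : (R : ℤ) = ∑ i ∈ Finset.range m, (q : ℤ) ^ i * (-1) ^ (m - 1 - i) := by
      have hne : ((q : ℤ) + 1) ≠ 0 := by positivity
      apply mul_left_cancel₀ hne
      rw [h2]
      have : (q : ℤ) - (-1) = (q : ℤ) + 1 := by ring
      rw [this] at h1
      rw [h1]
      ring
    have h4 : ((R : ℤ) : ZMod 2) = 1 := by
      rw [h3]
      push_cast
      have hq2 : ((q : ℕ) : ZMod 2) = 1 := (ZMod.natCast_eq_one_iff_odd).mpr hq
      have hneg : (-1 : ZMod 2) = 1 := by decide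
      simp only [hq2, hneg, one_pow, mul_one, Finset.sum_const, Finset.card_range, nsmul_eq_mul]
      exact (ZMod.natCast_eq_one_iff_odd).mpr hm
    have h5 : ((R : ℕ) : ZMod 2) = 1 := by exact_mod_cast h4
    exact (ZMod.natCast_eq_one_iff_odd).mp h5
  · have h1 := M_mul q m hq1
    have h2 : q ^ (2 * m) - 1 = (q ^ m - 1) * (q ^ m + 1) := by
      rw [mul_comm 2 m, pow_mul]
      exact sq_sub_one_eq _ hQ
    apply Nat.eq_of_mul_eq_mul_right (show 0 < q + 1 by omega)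
    rw [h1, h2, hR]
    ring

/-- `gcd (q ^ m + 1) (q + 1) = 2` for even `m` and odd `q` -/
lemma gcd_pow_add_one_add_one (q m : ℕ) (hq : Odd q) (hm : Even m) :
    Nat.gcd (q ^ m + 1) (q + 1) = 2 := by
  have hq1 : 1 ≤ q := hq.pos
  have hqm : 1 ≤ q ^ m := Nat.one_le_pow _ _ hq1
  obtain ⟨m', rfl⟩ := hm
  apply Nat.dvd_antisymm
  · have h1 : Nat.gcd (q ^ (m' + m') + 1) (q + 1) ∣ q ^ (m' + m') + 1 := Nat.gcd_dvd_left _ _
    have h2 : Nat.gcd (q ^ (m' + m') + 1) (q + 1) ∣ q ^ (m' + m') - 1 := by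
      refine (Nat.gcd_dvd_right _ _).trans ?_
      have h3 : q + 1 ∣ q ^ 2 - 1 := by
        rw [sq_sub_one_eq q hq1]
        exact Dvd.intro_left _ rfl
      refine h3.trans ?_
      rw [← two_mul, pow_mul]
      exact Nat.sub_one_dvd_pow_sub_one (q ^ 2) m'
    have h3 := Nat.dvd_sub h1 h2
    have : q ^ (m' + m') + 1 - (q ^ (m' + m') - 1) = 2 := by omega
    rwa [this] at h3
  · apply Nat.dvd_gcd
    · have : Odd (q ^ (m' + m')) := hq.pow
      obtain ⟨t, ht⟩ := this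
      exact ⟨t + 1, by omega⟩
    · obtain ⟨t, ht⟩ := hq
      exact ⟨t + 1, by omega⟩

/-- the 2-part condition, both directions -/
lemma two_pow_dvd_iff (q m' a : ℕ) (hq : Odd q) (ha : 2 ^ a ∣ q + 1) (ha1 : 1 ≤ a) :
    2 ^ a ∣ (q - 1) * ∑ k ∈ Finset.range m', (q ^ 2) ^ k ↔ 2 ^ a ∣ 2 * m' := by
  have hq1 : 1 ≤ q := hq.pos
  have hq2 : 1 ≤ q ^ 2 := Nat.one_le_pow _ _ hq1
  have hmod := geom_sum_modEq (q ^ 2) m' hq2
  have hdvd : ∀ d, d ∣ q + 1 → (d ∣ ∑ k ∈ Finset.range m', (q ^ 2) ^ k ↔ d ∣ m') := fun d hd =>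
    hmod.dvd_iff (hd.trans (by rw [sq_sub_one_eq q hq1]; exact Dvd.intro_left _ rfl))
  obtain ⟨a', rfl⟩ : ∃ a', a = a' + 1 := ⟨a - 1, by omega⟩
  have ha' : 2 ^ a' ∣ q + 1 := (pow_dvd_pow 2 (Nat.le_succ a')).trans ha
  rcases Nat.eq_zero_or_pos a' with h0 | h0
  · subst h0
    simp only [zero_add, pow_one]
    constructor
    · intro _
      exact Dvd.intro _ rfl
    · intro _
      obtain ⟨t, ht⟩ := hq
      exact Dvd.dvd.mul_right ⟨t, by omega⟩ _
  · -- 4 ∣ q + 1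
    have h4 : 4 ∣ q + 1 := by
      refine Dvd.dvd.trans ?_ ha
      exact pow_dvd_pow 2 (show 2 ≤ a' + 1 by omega)
    obtain ⟨u, hu⟩ : ∃ u, q - 1 = 2 * u := by
      obtain ⟨t, ht⟩ := hq
      exact ⟨t, by omega⟩
    have huodd : Odd u := by
      obtain ⟨w, hw⟩ := h4
      refine ⟨w - 1, ?_⟩
      have : 1 ≤ w := by
        rcases Nat.eq_zero_or_pos w with h | h
        · rw [h] at hw
          omega
        · exact h
      omega
    have hcop : Nat.Coprime (2 ^ a') u := by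
      apply Nat.Coprime.pow_left
      rw [Nat.coprime_two_left]
      exact huodd
    rw [hu, pow_succ, mul_comm (2 ^ a') 2, mul_assoc, Nat.mul_dvd_mul_iff_left (by norm_num),
      Nat.mul_dvd_mul_iff_left (by norm_num), hcop.dvd_mul_left, hdvd _ ha']

end Cfsg.Agent.Helper42.UEig
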