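import Mathlib
import Cfsg.Agent.Lib.Helper42.UEig3

set_option autoImplicit false
set_option linter.unusedSectionVars false

namespace Cfsg.Agent.Helper42.SU3Spec

open Cfsg.Agent.Helper42.UEig

lemma arith_e (q j : ℕ) : (q + 1) ∣ 3 * j ↔ (q + 1) / Nat.gcd 3 (q + 1) ∣ j := by
  set d := Nat.gcd 3 (q + 1) with hd
  have hd0 : 0 < d := Nat.gcd_pos_of_pos_left _ (by norm_num)
  obtain ⟨e, he⟩ : d ∣ q + 1 := Nat.gcd_dvd_right _ _
  obtain ⟨f, hf⟩ : d ∣ 3 := Nat.gcd_dvd_left _ _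
  have hdiv : (q + 1) / d = e := by rw [he, Nat.mul_div_cancel_left _ hd0]
  rw [hdiv]
  constructor
  · intro h
    have h1 : (q + 1) ∣ Nat.gcd (3 * j) ((q + 1) * j) := Nat.dvd_gcd h (dvd_mul_right _ _)
    rw [Nat.gcd_mul_right, ← hd, he] at h1
    exact Nat.dvd_of_mul_dvd_mul_left hd0 h1
  · rintro ⟨j', rfl⟩
    rw [he]
    refine ⟨f * j', ?_⟩
    rw [hf]
    ring

lemma arith_div (q : ℕ) : Nat.gcd 3 (q + 1) * ((q + 1) / Nat.gcd 3 (q + 1)) = q + 1 :=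
  Nat.mul_div_cancel' (Nat.gcd_dvd_right _ _)

lemma arith2 (q j : ℕ) (hq : 2 ≤ q) :
    ((q ^ 2 - 1) ∣ (q + 1) * j ∧ (q ^ 2 - 1) ∣ (q - 2) * j) ↔
      (q ^ 2 - 1) / Nat.gcd 3 (q + 1) ∣ j := by
  obtain ⟨r, rfl⟩ : ∃ r, q = r + 2 := ⟨q - 2, by omega⟩
  have h1 : (r + 2) ^ 2 - 1 = (r + 1) * (r + 2 + 1) := sq_sub_one_eq (r + 2) (by omega)
  have h2 : r + 2 - 2 = r := by omega
  rw [h1, h2, Nat.mul_div_assoc _ (Nat.gcd_dvd_right _ _)]
  set d := Nat.gcd 3 (r + 2 + 1) with hd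
  have hd0 : 0 < d := Nat.gcd_pos_of_pos_left _ (by norm_num)
  have hde := arith_div (r + 2)
  rw [← hd] at hde
  set e := (r + 2 + 1) / d with he
  constructor
  · rintro ⟨ha, hb⟩
    have h3 : (r + 1) ∣ j := by
      apply Nat.dvd_of_mul_dvd_mul_right (show 0 < r + 2 + 1 by omega)
      rw [mul_comm j]
      exact ha
    obtain ⟨j', rfl⟩ := h3
    have h4 : (r + 2 + 1) ∣ r * j' := by
      apply Nat.dvd_of_mul_dvd_mul_left (show 0 < r + 1 by omega)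
      convert hb using 1
      ring
    have h5 : (r + 2 + 1) ∣ 3 * j' := by
      have h6 : (r + 2 + 1) ∣ (r + 2 + 1) * j' - r * j' := Nat.dvd_sub (dvd_mul_right _ _) h4
      have h7 : (r + 2 + 1) * j' - r * j' = 3 * j' := by
        have : (r + 2 + 1) * j' = r * j' + 3 * j' := by ring
        omega
      rw [h7] at h6
      exact h6
    have h6 := (arith_e (r + 2) j').mp h5
    exact Nat.mul_dvd_mul_left _ h6
  · rintro ⟨j', rfl⟩
    have hdr : d ∣ r := by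
      have h3 : d ∣ 3 := Nat.gcd_dvd_left _ _
      have h4 : d ∣ r + 2 + 1 := Nat.gcd_dvd_right _ _
      have h5 : r + 2 + 1 - 3 = r := by omega
      rw [← h5]
      exact Nat.dvd_sub h4 h3
    obtain ⟨f, hf⟩ := hdr
    constructor
    · exact ⟨e * j', by ring⟩
    · refine ⟨f * j', ?_⟩
      have h8 : r * ((r + 1) * e * j') = (d * f) * ((r + 1) * e * j') := by rw [← hf]
      rw [h8, ← hde]
      ring

lemma arith3 (p q j : ℕ) (hcop : Nat.Coprime p (q + 1)) :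
    ((q + 1) ∣ 3 * j ∧ p ∣ j) ↔ p * (q + 1) / Nat.gcd 3 (q + 1) ∣ j := by
  rw [arith_e, Nat.mul_div_assoc _ (Nat.gcd_dvd_right _ _)]
  have hcop' : Nat.Coprime p ((q + 1) / Nat.gcd 3 (q + 1)) :=
    Nat.Coprime.coprime_dvd_right (Nat.div_dvd_of_dvd (Nat.gcd_dvd_right _ _)) hcop
  constructor
  · rintro ⟨h1, h2⟩
    exact hcop'.mul_dvd_of_dvd_of_dvd h2 h1
  · intro h
    exact ⟨(dvd_mul_left _ _).trans h, (dvd_mul_right _ _).trans h⟩

lemma arith4 (q j : ℕ) (hq : 2 ≤ q) :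
    (q ^ 2 - q + 1) ∣ j * (q ^ 2 - 1) ↔ (q ^ 2 - q + 1) / Nat.gcd 3 (q + 1) ∣ j := by
  obtain ⟨r, rfl⟩ : ∃ r, q = r + 2 := ⟨q - 2, by omega⟩
  have h1 : (r + 2) ^ 2 - 1 = (r + 1) * (r + 2 + 1) := sq_sub_one_eq (r + 2) (by omega)
  have h2 : (r + 2) ^ 2 - (r + 2) + 1 = r ^ 2 + 3 * r + 3 := by
    have : (r + 2) ^ 2 = r ^ 2 + 3 * r + 2 + (r + 2) := by ring
    omega
  rw [h1, h2]
  set n := r ^ 2 + 3 * r + 3 with hn
  set d := Nat.gcd 3 (r + 2 + 1) with hd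
  have hd0 : 0 < d := Nat.gcd_pos_of_pos_left _ (by norm_num)
  have hde := arith_div (r + 2)
  rw [← hd] at hde
  set e := (r + 2 + 1) / d with he
  have hn1 : n = (r + 2 + 1) * r + 3 := by rw [hn]; ring
  have hdn : d ∣ n := by
    rw [hn1]
    exact Nat.dvd_add ((Nat.gcd_dvd_right _ _).trans (dvd_mul_right _ _)) (Nat.gcd_dvd_left _ _)
  obtain ⟨n', hn'⟩ := hdn
  have hdiv : n / d = n' := by rw [hn', Nat.mul_div_cancel_left _ hd0]
  rw [hdiv]
  constructor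
  · intro h
    have hc1 : Nat.Coprime n (r + 1) := by
      have : n = 1 + (r + 2) * (r + 1) := by rw [hn]; ring
      rw [this, Nat.coprime_add_mul_right_left]
      exact Nat.coprime_one_left _
    have h3 : n ∣ j * (r + 2 + 1) := by
      apply hc1.dvd_of_dvd_mul_right
      convert h using 1
      ring
    have h4 : n ∣ Nat.gcd (j * (r + 2 + 1)) (j * n) := Nat.dvd_gcd h3 (dvd_mul_left _ _)
    rw [Nat.gcd_mul_left] at h4
    have h5 : Nat.gcd (r + 2 + 1) n = d := by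
      rw [hn1, Nat.gcd_comm, Nat.gcd_mul_left_add_left, hd]
    rw [h5, hn', mul_comm j d] at h4
    exact Nat.dvd_of_mul_dvd_mul_left hd0 h4
  · rintro ⟨j', rfl⟩
    refine ⟨j' * (r + 1) * e, ?_⟩
    rw [hn', ← hde]
    ring

end Cfsg.Agent.Helper42.SU3Spec
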