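import Mathlib
import Cfsg.Agent.Lib.Helper42.SU3Spec1
import Cfsg.Agent.Lib.Helper42.SU3Spec2

set_option autoImplicit false
set_option linter.unusedSectionVars false

namespace Cfsg.Agent.Helper42.SU3Spec

open Matrix Cfsg.Agent.Helper42.SUReg Cfsg.Agent.Helper63.PSUCent Cfsg.Agent.Helper42.UEig

variable {K : Type*} [Field K] [Fintype K] {q : ℕ} (hK : Fintype.card K = q ^ 2)

lemma diagonal_eq_smul_one_iff {n : ℕ} (d : Fin n → K) (c : K) :
    Matrix.diagonal d = c • (1 : Matrix (Fin n) (Fin n) K) ↔ ∀ i, d i = c := by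
  constructor
  · intro h i
    have := congrFun (congrFun h i) i
    rw [Matrix.diagonal_apply_eq, Matrix.smul_apply, Matrix.one_apply_eq, smul_eq_mul, mul_one]
      at this
    exact this
  · intro h
    ext i j
    by_cases hij : i = j
    · subst hij
      rw [Matrix.diagonal_apply_eq, Matrix.smul_apply, Matrix.one_apply_eq, smul_eq_mul, mul_one,
        h]
    · rw [Matrix.diagonal_apply_ne _ hij, Matrix.smul_apply, Matrix.one_apply_ne hij, smul_zero]

/-- the hyperbolic-plus-one Hermitian matrix -/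
def Jm : Matrix (Fin 3) (Fin 3) K := !![0, 1, 0; 1, 0, 0; 0, 0, 1]

lemma Jm_mul_Jm : (Jm : Matrix (Fin 3) (Fin 3) K) * Jm = (1 : K) • 1 := by
  rw [one_smul]
  ext i j
  fin_cases i <;> fin_cases j <;> simp [Jm, Matrix.mul_apply, Fin.sum_univ_three]


include hK

lemma ad_diagonal {n : ℕ} (d : Fin n → K) :
    ad hK (Matrix.diagonal d) = Matrix.diagonal (fun i => d i ^ q) := by
  ext i j
  rw [ad_apply]
  by_cases h : i = j
  · subst h
    rw [Matrix.diagonal_apply_eq, Matrix.diagonal_apply_eq]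
  · rw [Matrix.diagonal_apply_ne _ h, Matrix.diagonal_apply_ne _ (Ne.symm h),
      zero_pow (q_ne_zero hK)]

/-- a generator of the multiplicative group -/
lemma exists_gen : ∃ s : K, s ≠ 0 ∧ orderOf s = q ^ 2 - 1 := by
  classical
  obtain ⟨g, hg⟩ := IsCyclic.exists_ofOrder_eq_natCard (α := Kˣ)
  refine ⟨(g : K), g.ne_zero, ?_⟩
  rw [orderOf_units, hg, Nat.card_eq_fintype_card, Fintype.card_units, hK]

lemma ad_Jm : ad hK (Jm : Matrix (Fin 3) (Fin 3) K) = Jm := by
  have hq := q_ne_zero hK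
  ext i j
  rw [ad_apply]
  fin_cases i <;> fin_cases j <;> simp [Jm, hq]

lemma exists_a (hq : 2 ≤ q) : ∃ a : K, a ≠ 0 ∧ orderOf a = q + 1 := by
  obtain ⟨s, hs0, hs⟩ := exists_gen hK
  have h1 : q ^ 2 - 1 = (q - 1) * (q + 1) := sq_sub_one_eq q (by omega)
  refine ⟨s ^ (q - 1), pow_ne_zero _ hs0, ?_⟩
  rw [orderOf_pow_of_dvd (by omega) (by rw [hs, h1]; exact dvd_mul_right _ _), hs, h1,
    Nat.mul_div_cancel_left _ (by omega)]

lemma exists_t (hq : 2 ≤ q) : ∃ t : K, t ≠ 0 ∧ t ^ q = -t := by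
  obtain ⟨s, hs0, hs⟩ := exists_gen hK
  have h1 : q ^ 2 - 1 = (q - 1) * (q + 1) := sq_sub_one_eq q (by omega)
  have hsq : s ^ (q ^ 2) = s := by rw [← hK, FiniteField.pow_card]
  refine ⟨s - s ^ q, ?_, ?_⟩
  · intro h
    have h2 : s ^ q = s := (sub_eq_zero.mp h).symm
    have h3 : s ^ (q - 1) = 1 := by
      have h4 : s ^ (q - 1) * s = 1 * s := by
        rw [← pow_succ, Nat.sub_add_cancel (by omega), h2, one_mul]
      exact mul_right_cancel₀ hs0 h4
    have h4 := orderOf_dvd_of_pow_eq_one h3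
    rw [hs, h1] at h4
    have h5 := Nat.le_of_dvd (by omega) h4
    have h6 : (q - 1) * 3 ≤ (q - 1) * (q + 1) := Nat.mul_le_mul_left _ (by omega)
    omega
  · have h2 : (s - s ^ q) ^ q = s ^ q - (s ^ q) ^ q := by
      have := sg_apply hK (s - s ^ q)
      rw [map_sub, sg_apply, sg_apply] at this
      exact this.symm
    rw [h2, ← pow_mul, ← sq, hsq]
    ring

lemma diag_Jm (x y z : K) (hxy : x ^ q * y = 1) (hyx : y ^ q * x = 1) (hz : z ^ q * z = 1) :
    ad hK (Matrix.diagonal ![x, y, z]) * Jm * Matrix.diagonal ![x, y, z] = Jm := by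
  rw [ad_diagonal]
  ext i j
  rw [Matrix.mul_diagonal, Matrix.diagonal_mul]
  fin_cases i <;> fin_cases j <;> simp [Jm, hxy, hyx, hz]

/-- elements of order `q + 1` -/
theorem exists_order_one (hq : 2 ≤ q) : ∃ x : Cfsg.PSU 3 K q, orderOf x = q + 1 := by
  obtain ⟨a, ha0, ha⟩ := exists_a hK hq
  have ha1 : a ^ (q + 1) = 1 := by rw [← ha, pow_orderOf_eq_one]
  set A : Matrix (Fin 3) (Fin 3) K := Matrix.diagonal ![a, a⁻¹, 1] with hA
  apply exists_psu_of_matrix hK (le_refl 3) 1 A (ad_one hK) 1 one_ne_zero (by rw [mul_one, one_smul])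
  · rw [mul_one, hA, ad_diagonal, Matrix.diagonal_mul_diagonal, ← Matrix.diagonal_one]
    congr 1
    funext i
    fin_cases i
    · show a ^ q * a = 1
      rw [← pow_succ, ha1]
    · show a⁻¹ ^ q * a⁻¹ = 1
      rw [← pow_succ, inv_pow, ha1, inv_one]
    · show (1 : K) ^ q * 1 = 1
      rw [one_pow, mul_one]
  · rw [hA, Matrix.det_diagonal, Fin.prod_univ_three]
    show a * a⁻¹ * 1 = 1
    rw [mul_inv_cancel₀ ha0, mul_one]
  · intro j
    rw [hA, Matrix.diagonal_pow]
    constructor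
    · rintro ⟨c, hc⟩
      rw [diagonal_eq_smul_one_iff] at hc
      have h0 := hc 0
      have h2 := hc 2
      have h0' : a ^ j = c := h0
      have h2' : (1 : K) ^ j = c := h2
      rw [one_pow] at h2'
      rw [← h2'] at h0'
      rw [← ha]
      exact orderOf_dvd_of_pow_eq_one h0'
    · rintro ⟨j', rfl⟩
      refine ⟨1, ?_⟩
      rw [diagonal_eq_smul_one_iff]
      intro i
      fin_cases i
      · show a ^ ((q + 1) * j') = 1
        rw [pow_mul, ha1, one_pow]
      · show a⁻¹ ^ ((q + 1) * j') = 1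
        rw [inv_pow, pow_mul, ha1, one_pow, inv_one]
      · show (1 : K) ^ ((q + 1) * j') = 1
        rw [one_pow]


/-- elements of order `(q ^ 2 - 1) / d` -/
theorem exists_order_two (hq : 3 ≤ q) :
    ∃ x : Cfsg.PSU 3 K q, orderOf x = (q ^ 2 - 1) / Nat.gcd 3 (q + 1) := by
  obtain ⟨s, hs0, hs⟩ := exists_gen hK
  have hsq : s ^ (q ^ 2) = s := by rw [← hK, FiniteField.pow_card]
  have hsq0 : s ^ q ≠ 0 := pow_ne_zero _ hs0
  set A : Matrix (Fin 3) (Fin 3) K := Matrix.diagonal ![s, (s ^ q)⁻¹, s ^ q * s⁻¹] with hA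
  apply exists_psu_of_matrix hK (le_refl 3) Jm A (ad_Jm hK) 1 one_ne_zero Jm_mul_Jm
  · apply diag_Jm hK
    · exact mul_inv_cancel₀ hsq0
    · rw [inv_pow, ← pow_mul, ← sq, hsq, inv_mul_cancel₀ hs0]
    · rw [← pow_succ, mul_pow, ← pow_mul, inv_pow]
      have h1 : q * (q + 1) = q ^ 2 + q := by ring
      rw [h1, pow_add, hsq, pow_succ]
      field_simp
  · rw [hA, Matrix.det_diagonal, Fin.prod_univ_three]
    show s * (s ^ q)⁻¹ * (s ^ q * s⁻¹) = 1
    field_simp
  · intro j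
    rw [hA, Matrix.diagonal_pow, ← arith2 q j (by omega), ← hs, orderOf_dvd_iff_pow_eq_one,
      orderOf_dvd_iff_pow_eq_one]
    have e1 : s ^ j = ((s ^ q)⁻¹) ^ j ↔ s ^ ((q + 1) * j) = 1 := by
      have h1 : s ^ ((q + 1) * j) = s ^ j * (s ^ q) ^ j := by
        rw [← pow_mul, ← pow_add]
        congr 1
        ring
      rw [h1, inv_pow, mul_eq_one_iff_eq_inv₀ (pow_ne_zero _ hsq0)]
    have e2 : s ^ j = (s ^ q * s⁻¹) ^ j ↔ s ^ ((q - 2) * j) = 1 := by
      have h1 : (s ^ q) ^ j = s ^ (2 * j) * s ^ ((q - 2) * j) := by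
        rw [← pow_mul, ← pow_add]
        congr 1
        have : q = 2 + (q - 2) := by omega
        conv_lhs => rw [this]
        ring
      have h2 : s ^ (2 * j) ≠ 0 := pow_ne_zero _ hs0
      rw [mul_pow, inv_pow, eq_mul_inv_iff_mul_eq₀ (pow_ne_zero _ hs0), h1, ← pow_add, ← two_mul]
      constructor
      · intro h
        apply mul_left_cancel₀ h2
        rw [mul_one]
        exact h.symm
      · intro h
        rw [h, mul_one]
    constructor
    · rintro ⟨c, hc⟩
      rw [diagonal_eq_smul_one_iff] at hc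
      have h0 : s ^ j = c := hc 0
      have h1 : ((s ^ q)⁻¹) ^ j = c := hc 1
      have h2 : (s ^ q * s⁻¹) ^ j = c := hc 2
      exact ⟨e1.mp (h0.trans h1.symm), e2.mp (h0.trans h2.symm)⟩
    · rintro ⟨h1, h2⟩
      refine ⟨s ^ j, ?_⟩
      rw [diagonal_eq_smul_one_iff]
      intro i
      fin_cases i
      · rfl
      · exact (e1.mpr h1).symm
      · exact (e2.mpr h2).symm


omit hK in
lemma upper_pow (a t b : K) (j : ℕ) :
    (!![a, a * t, 0; 0, a, 0; 0, 0, b] : Matrix (Fin 3) (Fin 3) K) ^ j =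
      !![a ^ j, (j : K) * a ^ j * t, 0; 0, a ^ j, 0; 0, 0, b ^ j] := by
  induction j with
  | zero =>
    ext i k
    fin_cases i <;> fin_cases k <;> simp
  | succ j ih =>
    rw [pow_succ, ih, Matrix.mul_fin_three]
    ext i k
    fin_cases i <;> fin_cases k <;> simp <;> ring

/-- elements of order `p (q + 1) / d` -/
theorem exists_order_three (p : ℕ) [Fact p.Prime] [CharP K p] (hq : 2 ≤ q) :
    ∃ x : Cfsg.PSU 3 K q, orderOf x = p * (q + 1) / Nat.gcd 3 (q + 1) := by
  obtain ⟨a, ha0, ha⟩ := exists_a hK hq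
  obtain ⟨t, ht0, ht⟩ := exists_t hK hq
  have ha1 : a ^ (q + 1) = 1 := by rw [← ha, pow_orderOf_eq_one]
  have haq : a ^ q * a = 1 := by rw [← pow_succ, ha1]
  have hq0 := q_ne_zero hK
  have hpq : p ∣ q := by
    have h1 : p ∣ Fintype.card K := by
      have := (CharP.cast_eq_zero_iff K p (Fintype.card K)).mp (Nat.cast_card_eq_zero K)
      exact this
    rw [hK] at h1
    exact (Fact.out : p.Prime).dvd_of_dvd_pow h1
  have hcop : Nat.Coprime p (q + 1) := by
    rw [Nat.Prime.coprime_iff_not_dvd Fact.out]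
    intro h
    have h1 : p ∣ 1 := (Nat.dvd_add_right hpq).mp h
    exact (Fact.out : p.Prime).one_lt.ne' (Nat.dvd_one.mp h1)
  set A : Matrix (Fin 3) (Fin 3) K := !![a, a * t, 0; 0, a, 0; 0, 0, (a ^ 2)⁻¹] with hA
  have hadA : ad hK A = !![a ^ q, 0, 0; (a * t) ^ q, a ^ q, 0; 0, 0, ((a ^ 2)⁻¹) ^ q] := by
    ext i k
    rw [ad_apply]
    fin_cases i <;> fin_cases k <;> simp [hA, hq0]
  apply exists_psu_of_matrix hK (le_refl 3) Jm A (ad_Jm hK) 1 one_ne_zero Jm_mul_Jm
  · rw [hadA, hA, Jm, Matrix.mul_fin_three, Matrix.mul_fin_three]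
    have h1 : (a * t) ^ q * a + a ^ q * (a * t) = 0 := by
      rw [mul_pow, ht]
      linear_combination (t - t) * haq
    have h2 : ((a ^ 2)⁻¹) ^ q * (a ^ 2)⁻¹ = 1 := by
      rw [← pow_succ, inv_pow, ← pow_mul, mul_comm, pow_mul, ha1, one_pow, inv_one]
    ext i k
    fin_cases i <;> fin_cases k <;> simp [haq] <;>
      first | (rw [add_comm]; exact h1) | (rw [← inv_pow]; exact h2)
  · rw [hA, Matrix.det_fin_three]
    simp
    field_simp
  · intro j
    rw [hA, upper_pow, ← arith3 p q j hcop, ← ha, orderOf_dvd_iff_pow_eq_one,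
      ← CharP.cast_eq_zero_iff K p j]
    have e1 : a ^ j = ((a ^ 2)⁻¹) ^ j ↔ a ^ (3 * j) = 1 := by
      have h1 : a ^ (3 * j) = a ^ j * (a ^ 2) ^ j := by
        rw [← pow_mul, ← pow_add]
        congr 1
        ring
      rw [h1, inv_pow, mul_eq_one_iff_eq_inv₀ (pow_ne_zero _ (pow_ne_zero _ ha0))]
    constructor
    · rintro ⟨c, hc⟩
      have h00 : a ^ j = c := by
        have := congrFun (congrFun hc 0) 0
        simpa using this
      have h01 : (j : K) * a ^ j * t = 0 := by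
        have := congrFun (congrFun hc 0) 1
        simpa using this
      have h22 : ((a ^ 2)⁻¹) ^ j = c := by
        have := congrFun (congrFun hc 2) 2
        simpa using this
      refine ⟨e1.mp (h00.trans h22.symm), ?_⟩
      rcases mul_eq_zero.mp h01 with h | h
      · rcases mul_eq_zero.mp h with h | h
        · exact h
        · exact absurd h (pow_ne_zero _ ha0)
      · exact absurd h ht0
    · rintro ⟨h1, h2⟩
      refine ⟨a ^ j, ?_⟩
      rw [h2, ← e1.mpr h1]
      ext i k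
      fin_cases i <;> fin_cases k <;> simp

end Cfsg.Agent.Helper42.SU3Spec
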