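import Mathlib
import Cfsg.Agent.Lib.Helper42.PrimeCent2
import Cfsg.Agent.Lib.Helper42.SU3Spec3

set_option autoImplicit false
set_option linter.unusedSectionVars false

/-!
# Elements of `PSL_n(q)` from matrices, and some arithmetic
-/

namespace Cfsg.Agent.Helper42.PSL3Spec

open Matrix Cfsg.Agent.Helper42.PrimeCent Cfsg.Agent.Helper42.UEig Cfsg.Agent.Helper42.SU3Spec

section arith

/-- `m ∣ k * j` iff `m / gcd m k ∣ j` -/
lemma dvd_mul_iff_div_gcd (m k j : ℕ) (hm : 0 < m) : m ∣ k * j ↔ m / Nat.gcd m k ∣ j := by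
  set g := Nat.gcd m k with hg
  have hg0 : 0 < g := Nat.gcd_pos_of_pos_left _ hm
  obtain ⟨m', hm'⟩ : g ∣ m := Nat.gcd_dvd_left _ _
  obtain ⟨k', hk'⟩ : g ∣ k := Nat.gcd_dvd_right _ _
  have hdiv : m / g = m' := by rw [hm', Nat.mul_div_cancel_left _ hg0]
  have hcop : Nat.Coprime m' k' := by
    have h1 : Nat.gcd (g * m') (g * k') = g := by rw [← hm', ← hk']
    rw [Nat.gcd_mul_left] at h1
    have h2 : g * Nat.gcd m' k' = g * 1 := by rw [h1, mul_one]
    exact Nat.eq_of_mul_eq_mul_left hg0 h2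
  rw [hdiv]
  constructor
  · intro h
    have h1 : g * m' ∣ g * (k' * j) := by
      rw [← hm']
      convert h using 1
      rw [hk']
      ring
    have h2 := Nat.dvd_of_mul_dvd_mul_left hg0 h1
    exact hcop.dvd_of_dvd_mul_left h2
  · rintro ⟨j', rfl⟩
    refine ⟨k' * j', ?_⟩
    conv_lhs => rw [hk']
    conv_rhs => rw [hm']
    ring

lemma gcd_singer (q : ℕ) (hq : 1 ≤ q) : Nat.gcd (q ^ 2 + q + 1) (q - 1) = Nat.gcd 3 (q - 1) := by
  obtain ⟨r, rfl⟩ : ∃ r, q = r + 1 := ⟨q - 1, by omega⟩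
  have h1 : r + 1 - 1 = r := by omega
  have h2 : (r + 1) ^ 2 + (r + 1) + 1 = r * (r + 3) + 3 := by ring
  rw [h1, h2, Nat.gcd_mul_left_add_left]

lemma gcd_sq_sub_one (q : ℕ) (hq : 1 ≤ q) :
    Nat.gcd (q ^ 2 - 1) (q + 2) = Nat.gcd 3 (q - 1) := by
  obtain ⟨r, rfl⟩ : ∃ r, q = r + 1 := ⟨q - 1, by omega⟩
  have h1 : r + 1 - 1 = r := by omega
  have h0 : (r + 1) ^ 2 - 1 = r * (r + 1 + 1) := sq_sub_one_eq (r + 1) (by omega)
  rw [h1, h0]
  have hc : Nat.Coprime (r + 1 + 1) (r + 1 + 2) := by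
    have : r + 1 + 2 = r + 1 + 1 + 1 := by ring
    rw [this]
    simp
  rw [Nat.Coprime.gcd_mul_right_cancel r hc]
  have h3 : r + 1 + 2 = r + 3 := by ring
  rw [h3, Nat.gcd_comm, Nat.gcd_self_add_left]

end arith

section general

variable {F : Type*} [Field F] [Fintype F]

/-- a matrix of determinant one whose powers are scalar exactly at the multiples of `N` gives an
element of order `N` in `PSL_n` -/
theorem exists_psl_of_matrix {n : ℕ} (A : Matrix (Fin n) (Fin n) F) (hdet : A.det = 1) (N : ℕ)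
    (hN : ∀ j : ℕ, (∃ c : F, A ^ j = c • (1 : Matrix (Fin n) (Fin n) F)) ↔ N ∣ j) :
    ∃ x : Matrix.ProjectiveSpecialLinearGroup (Fin n) F, orderOf x = N := by
  classical
  set g : SpecialLinearGroup (Fin n) F := ⟨A, hdet⟩ with hg
  refine ⟨QuotientGroup.mk g, ?_⟩
  have hval : ∀ j : ℕ, (g ^ j).val = A ^ j := by
    intro j
    induction j with
    | zero => rfl
    | succ j ih =>
      rw [pow_succ, pow_succ, ← ih]
      rfl
  have key : ∀ j : ℕ, (QuotientGroup.mk g : Matrix.ProjectiveSpecialLinearGroup (Fin n) F) ^ j = 1 ↔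
      N ∣ j := by
    intro j
    rw [← QuotientGroup.mk_pow, QuotientGroup.eq_one_iff, ← hN]
    constructor
    · intro hj
      obtain ⟨c, -, hc⟩ := exists_scalar_of_mem_center _ hj
      rw [hval] at hc
      exact ⟨c, hc⟩
    · rintro ⟨c, hc⟩
      apply mem_center_of_scalar _ c
      rw [hval]
      exact hc
  apply Nat.dvd_antisymm
  · exact orderOf_dvd_of_pow_eq_one ((key N).mpr dvd_rfl)
  · exact (key _).mp (pow_orderOf_eq_one _)

end general


section constructions

variable {F : Type*} [Field F] [Fintype F]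

/-- a generator of the multiplicative group -/
lemma exists_gen' : ∃ a : F, a ≠ 0 ∧ orderOf a = Fintype.card F - 1 := by
  classical
  obtain ⟨g, hg⟩ := IsCyclic.exists_ofOrder_eq_natCard (α := Fˣ)
  refine ⟨(g : F), g.ne_zero, ?_⟩
  rw [orderOf_units, hg, Nat.card_eq_fintype_card, Fintype.card_units]

/-- elements of order `q - 1` -/
theorem exists_order_torus :
    ∃ x : Matrix.ProjectiveSpecialLinearGroup (Fin 3) F, orderOf x = Fintype.card F - 1 := by
  obtain ⟨a, ha0, ha⟩ := exists_gen' (F := F)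
  have ha1 : a ^ (Fintype.card F - 1) = 1 := by rw [← ha, pow_orderOf_eq_one]
  set A : Matrix (Fin 3) (Fin 3) F := Matrix.diagonal ![a, a⁻¹, 1] with hA
  apply exists_psl_of_matrix A
  · rw [hA, Matrix.det_diagonal, Fin.prod_univ_three]
    show a * a⁻¹ * 1 = 1
    rw [mul_inv_cancel₀ ha0, mul_one]
  · intro j
    rw [hA, Matrix.diagonal_pow]
    constructor
    · rintro ⟨c, hc⟩
      rw [diagonal_eq_smul_one_iff] at hc
      have h0 : a ^ j = c := hc 0
      have h2 : (1 : F) ^ j = c := hc 2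
      rw [one_pow] at h2
      rw [← h2] at h0
      rw [← ha]
      exact orderOf_dvd_of_pow_eq_one h0
    · rintro ⟨j', rfl⟩
      refine ⟨1, ?_⟩
      rw [diagonal_eq_smul_one_iff]
      intro i
      fin_cases i
      · show a ^ ((Fintype.card F - 1) * j') = 1
        rw [pow_mul, ha1, one_pow]
      · show a⁻¹ ^ ((Fintype.card F - 1) * j') = 1
        rw [inv_pow, pow_mul, ha1, one_pow, inv_one]
      · show (1 : F) ^ ((Fintype.card F - 1) * j') = 1
        rw [one_pow]

/-- elements of order `p (q - 1) / d` -/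
theorem exists_order_upper (p : ℕ) [Fact p.Prime] [CharP F p] :
    ∃ x : Matrix.ProjectiveSpecialLinearGroup (Fin 3) F,
      orderOf x = p * (Fintype.card F - 1) / Nat.gcd 3 (Fintype.card F - 1) := by
  obtain ⟨a, ha0, ha⟩ := exists_gen' (F := F)
  set q := Fintype.card F with hq
  have hq2 : 2 ≤ q := Fintype.one_lt_card
  have hpq : p ∣ q := by
    have := (CharP.cast_eq_zero_iff F p (Fintype.card F)).mp (Nat.cast_card_eq_zero F)
    exact this
  have hcop : Nat.Coprime p (q - 1) := by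
    rw [Nat.Prime.coprime_iff_not_dvd Fact.out]
    intro h
    have h1 : p ∣ q - 1 + 1 := by
      rw [Nat.sub_add_cancel (by omega)]
      exact hpq
    have h2 : p ∣ 1 := (Nat.dvd_add_right h).mp h1
    exact (Fact.out : p.Prime).one_lt.ne' (Nat.dvd_one.mp h2)
  set A : Matrix (Fin 3) (Fin 3) F := !![a, a * 1, 0; 0, a, 0; 0, 0, (a ^ 2)⁻¹] with hA
  apply exists_psl_of_matrix A
  · rw [hA, Matrix.det_fin_three]
    simp
    field_simp
  · intro j
    have hd1 : Nat.gcd 3 (q - 1) ∣ q - 1 := Nat.gcd_dvd_right _ _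
    have hcop' : Nat.Coprime p ((q - 1) / Nat.gcd 3 (q - 1)) :=
      Nat.Coprime.coprime_dvd_right (Nat.div_dvd_of_dvd hd1) hcop
    have harith : ((q - 1) ∣ 3 * j ∧ p ∣ j) ↔ p * (q - 1) / Nat.gcd 3 (q - 1) ∣ j := by
      rw [dvd_mul_iff_div_gcd (q - 1) 3 j (by omega), Nat.gcd_comm (q - 1) 3,
        Nat.mul_div_assoc _ hd1]
      constructor
      · rintro ⟨h1, h2⟩
        exact hcop'.mul_dvd_of_dvd_of_dvd h2 h1
      · intro h
        exact ⟨(dvd_mul_left _ _).trans h, (dvd_mul_right _ _).trans h⟩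
    rw [hA, upper_pow, ← harith, ← ha, orderOf_dvd_iff_pow_eq_one, ← CharP.cast_eq_zero_iff F p j]
    have e1 : a ^ j = ((a ^ 2)⁻¹) ^ j ↔ a ^ (3 * j) = 1 := by
      have h1 : a ^ (3 * j) = a ^ j * (a ^ 2) ^ j := by
        rw [← pow_mul, ← pow_add]
        congr 1
        ring
      rw [h1, inv_pow, mul_eq_one_iff_eq_inv₀ (pow_ne_zero _ (pow_ne_zero _ ha0))]
    constructor
    · rintro ⟨c, hc⟩
      have h00 : a ^ j = c := by
        have := congrFun (congrFun hc 0) 0
        simpa using this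
      have h01 : (j : F) * a ^ j * 1 = 0 := by
        have := congrFun (congrFun hc 0) 1
        simpa using this
      have h22 : ((a ^ 2)⁻¹) ^ j = c := by
        have := congrFun (congrFun hc 2) 2
        simpa using this
      refine ⟨e1.mp (h00.trans h22.symm), ?_⟩
      rw [mul_one] at h01
      rcases mul_eq_zero.mp h01 with h | h
      · exact h
      · exact absurd h (pow_ne_zero _ ha0)
    · rintro ⟨h1, h2⟩
      refine ⟨a ^ j, ?_⟩
      rw [h2, ← e1.mpr h1]
      ext i k
      fin_cases i <;> fin_cases k <;> simp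

/-- elements of order `4` in characteristic two -/
theorem exists_order_four_char_two [CharP F 2] :
    ∃ x : Matrix.ProjectiveSpecialLinearGroup (Fin 3) F, orderOf x = 4 := by
  classical
  have h2 : (2 : F) = 0 := CharP.ofNat_eq_zero F 2
  set U : Matrix (Fin 3) (Fin 3) F := !![1, 1, 0; 0, 1, 1; 0, 0, 1] with hU
  have hdet : U.det = 1 := by
    rw [hU, Matrix.det_fin_three]
    simp
  have hU2 : U ^ 2 = !![1, 0, 1; 0, 1, 0; 0, 0, 1] := by
    rw [sq, hU, Matrix.mul_fin_three]
    ext i k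
    fin_cases i <;> fin_cases k <;> simp [one_add_one_eq_two, h2]
  have hU4 : U ^ 4 = 1 := by
    have : U ^ 4 = U ^ 2 * U ^ 2 := by rw [← pow_add]
    rw [this, hU2, Matrix.mul_fin_three]
    ext i k
    fin_cases i <;> fin_cases k <;> simp [one_add_one_eq_two, h2]
  set g : SpecialLinearGroup (Fin 3) F := ⟨U, hdet⟩ with hg
  refine ⟨QuotientGroup.mk g, ?_⟩
  have : Fact (Nat.Prime 2) := ⟨Nat.prime_two⟩
  have h4 : (4 : ℕ) = 2 ^ (1 + 1) := by norm_num
  rw [h4]
  apply orderOf_eq_prime_pow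
  · rw [pow_one, ← QuotientGroup.mk_pow, QuotientGroup.eq_one_iff]
    intro hcen
    obtain ⟨c, -, hc⟩ := exists_scalar_of_mem_center _ hcen
    have hval : (g ^ 2).val = U ^ 2 := by
      rw [sq, sq]
      rfl
    rw [hval, hU2] at hc
    have h02 := congrFun (congrFun hc 0) 2
    simp at h02
  · rw [← h4, ← QuotientGroup.mk_pow]
    have : g ^ 4 = 1 := by
      apply Subtype.ext
      have hval : (g ^ 4).val = U ^ 4 := by
        have : g ^ 4 = g * g * g * g := by
          rw [pow_succ, pow_succ, pow_succ, pow_one]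
        rw [this]
        have : U ^ 4 = U * U * U * U := by
          rw [pow_succ, pow_succ, pow_succ, pow_one]
        rw [this]
        rfl
      rw [hval, hU4]
      rfl
    rw [this]
    rfl

end constructions

end Cfsg.Agent.Helper42.PSL3Spec
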