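import Mathlib
import Cfsg.Agent.Lib.Helper42.PrimeCent2

set_option autoImplicit false

namespace Cfsg.Agent.Helper42.PrimeCent

open Module

lemma dvd_pow_sub_one_iff (r : ℕ) [Fact r.Prime] (q d : ℕ) (hq : 1 ≤ q) :
    r ∣ q ^ d - 1 ↔ orderOf (q : ZMod r) ∣ d := by
  rw [orderOf_dvd_iff_pow_eq_one, ← (ZMod.natCast_eq_zero_iff (q ^ d - 1) r),
    Nat.cast_sub (Nat.one_le_pow d q hq), sub_eq_zero]
  simp

section core2

variable {F : Type*} [Field F] [Finite F] {V : Type*} [AddCommGroup V] [Module F V]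
  [Module.Finite F V]

/-- basic facts on `W = range (B - 1)` for `B ^ r = 1`, `r` invertible -/
lemma range_sub_one_facts (r : ℕ) [Fact r.Prime] (hr : (r : F) ≠ 0) (B : V →ₗ[F] V)
    (hB : B ^ r = 1) :
    (∀ w ∈ LinearMap.range (B - 1), B w ∈ LinearMap.range (B - 1)) ∧
    (∀ w ∈ LinearMap.range (B - 1), B w = w → w = 0) := by
  refine ⟨?_, ?_⟩
  · rintro _ ⟨x, rfl⟩
    refine ⟨B x, ?_⟩
    simp [LinearMap.sub_apply]
  · have hgeom : (∑ i ∈ Finset.range r, B ^ i) * (B - 1) = 0 := by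
      rw [geom_sum_mul, hB, sub_self]
    rintro _ ⟨x, rfl⟩ hw
    set w := (B - 1) x with hwdef
    have h1 : ∀ i : ℕ, (B ^ i) w = w := by
      intro i
      induction i with
      | zero => simp
      | succ i ih => rw [pow_succ, Module.End.mul_apply, hw, ih]
    have h2 : (∑ i ∈ Finset.range r, B ^ i) w = (r : F) • w := by
      rw [LinearMap.sum_apply, Finset.sum_congr rfl (fun i _ => h1 i), Finset.sum_const,
        Finset.card_range, Nat.cast_smul_eq_nsmul]
    have h3 : (∑ i ∈ Finset.range r, B ^ i) w = 0 := by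
      rw [hwdef, ← Module.End.mul_apply, hgeom]; rfl
    rw [h2] at h3
    exact (smul_eq_zero.mp h3).resolve_left hr

theorem core2 (r s : ℕ) [Fact r.Prime] [Fact s.Prime] (hr : (r : F) ≠ 0) (hs : (s : F) ≠ 0)
    (Br Bs : V →ₗ[F] V) (hBr : Br ^ r = 1) (hBr1 : Br ≠ 1) (hBs : Bs ^ s = 1) (hBs1 : Bs ≠ 1)
    (hcomm : Br * Bs = Bs * Br) (k l : ℕ) (hk : k = orderOf ((Nat.card F : ℕ) : ZMod r))
    (hl : l = orderOf ((Nat.card F : ℕ) : ZMod s)) (hkl : k ≤ l) (hndvd : ¬ k ∣ l) :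
    k + l ≤ finrank F V := by
  have hq1 : 1 ≤ Nat.card F := Nat.card_pos
  obtain ⟨hWrB, hWrf⟩ := range_sub_one_facts r hr Br hBr
  obtain ⟨hWsB, hWsf⟩ := range_sub_one_facts s hs Bs hBs
  set Wr : Submodule F V := LinearMap.range (Br - 1) with hWr
  set Ws : Submodule F V := LinearMap.range (Bs - 1) with hWs
  have hcomma : ∀ x, Br (Bs x) = Bs (Br x) := fun x => by
    rw [← Module.End.mul_apply, hcomm, Module.End.mul_apply]
  have hWr0 : Wr ≠ ⊥ := by
    intro h
    apply hBr1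
    rw [hWr, LinearMap.range_eq_bot, sub_eq_zero] at h
    exact h
  have hWs0 : Ws ≠ ⊥ := by
    intro h
    apply hBs1
    rw [hWs, LinearMap.range_eq_bot, sub_eq_zero] at h
    exact h
  have hpos : ∀ (U : Submodule F V), U ≠ ⊥ → 1 ≤ finrank F U := by
    intro U hU
    by_contra h0
    exact hU (Submodule.finrank_eq_zero.mp (by omega))
  have hkW : k ∣ finrank F Wr := by
    rw [hk, ← dvd_pow_sub_one_iff r _ _ hq1]
    exact dvd_card_sub_one_of_free Br r hBr Wr hWrB hWrf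
  have hlW : l ∣ finrank F Ws := by
    rw [hl, ← dvd_pow_sub_one_iff s _ _ hq1]
    exact dvd_card_sub_one_of_free Bs s hBs Ws hWsB hWsf
  have hkW' : k ≤ finrank F Wr := Nat.le_of_dvd (hpos Wr hWr0) hkW
  have hlW' : l ≤ finrank F Ws := Nat.le_of_dvd (hpos Ws hWs0) hlW
  -- the intersection
  set X : Submodule F V := Wr ⊓ Ws with hX
  have hWsBr : ∀ w ∈ Ws, Br w ∈ Ws := by
    rintro _ ⟨x, rfl⟩
    refine ⟨Br x, ?_⟩
    simp only [LinearMap.sub_apply, Module.End.one_apply, map_sub, hcomma]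
  have hWrBs : ∀ w ∈ Wr, Bs w ∈ Wr := by
    rintro _ ⟨x, rfl⟩
    refine ⟨Bs x, ?_⟩
    simp only [LinearMap.sub_apply, Module.End.one_apply, map_sub, hcomma]
  by_cases hX0 : X = ⊥
  swap
  · have hne := hX0
    have h1 : k ∣ finrank F X := by
      rw [hk, ← dvd_pow_sub_one_iff r _ _ hq1]
      exact dvd_card_sub_one_of_free Br r hBr X (fun u hu => ⟨hWrB u hu.1, hWsBr u hu.2⟩)
        (fun u hu => hWrf u hu.1)
    have h2 : l ∣ finrank F X := by
      rw [hl, ← dvd_pow_sub_one_iff s _ _ hq1]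
      exact dvd_card_sub_one_of_free Bs s hBs X (fun u hu => ⟨hWrBs u hu.1, hWsB u hu.2⟩)
        (fun u hu => hWsf u hu.2)
    have h3 : Nat.lcm k l ∣ finrank F X := Nat.lcm_dvd h1 h2
    have hXpos := hpos X hne
    have h4 : Nat.lcm k l ≤ finrank F X := Nat.le_of_dvd hXpos h3
    have hkpos : 0 < k := Nat.pos_of_dvd_of_pos h1 hXpos
    have hlpos : 0 < l := Nat.pos_of_dvd_of_pos h2 hXpos
    -- lcm ≥ 2 l
    obtain ⟨c, hc⟩ := Nat.dvd_lcm_right k l
    have hc1 : c ≠ 1 := by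
      intro h
      rw [h, mul_one] at hc
      exact hndvd (hc ▸ Nat.dvd_lcm_left k l)
    have hc0 : c ≠ 0 := by
      intro h
      rw [h, mul_zero] at hc
      exact (Nat.lcm_pos hkpos hlpos).ne' hc
    have h5 : 2 * l ≤ Nat.lcm k l := by
      rw [hc, mul_comm]
      exact Nat.mul_le_mul_left l (by omega)
    have h6 : finrank F X ≤ finrank F Wr := Submodule.finrank_mono inf_le_left
    have h7 : finrank F Wr ≤ finrank F V := Submodule.finrank_le _
    omega
  have hsum := Submodule.finrank_sup_add_finrank_inf_eq Wr Ws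
  rw [← hX, hX0, finrank_bot, add_zero] at hsum
  have : finrank F (Wr ⊔ Ws : Submodule F V) ≤ finrank F V := Submodule.finrank_le _
  omega

end core2

end Cfsg.Agent.Helper42.PrimeCent
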