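import Mathlib
import Cfsg.Agent.Lib.Helper42.PrimeCent3
import Cfsg.Agent.Lib.Helper40.SylowGLTorus

set_option autoImplicit false

namespace Cfsg.Agent.Helper42.PrimeCent

open Module

section constr

variable {F : Type*} [Field F] [Finite F]

/-- an element of any order dividing `q^d - 1` in the unit group of the degree `d` extension -/
lemma exists_unit_orderOf (p : ℕ) [Fact p.Prime] [CharP F p] (d : ℕ) [NeZero d] (m : ℕ)
    (hm : m ∣ Nat.card F ^ d - 1) :
    ∃ u : (FiniteField.Extension F p d)ˣ, orderOf u = m := by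
  obtain ⟨g, hg⟩ := IsCyclic.exists_ofOrder_eq_natCard (α := (FiniteField.Extension F p d)ˣ)
  have hcard : Nat.card (FiniteField.Extension F p d)ˣ = Nat.card F ^ d - 1 := by
    rw [Nat.card_units, FiniteField.natCard_extension]
  have hN : orderOf g ≠ 0 := by rw [hg]; exact Nat.card_pos.ne'
  refine ⟨g ^ (orderOf g / m), orderOf_pow_orderOf_div hN ?_⟩
  rw [hg, hcard]; exact hm

/-- units of two commutative algebras of total dimension `≤ n` give elements of `GL_n` -/
theorem exists_GL_orderOf (S1 S2 : Type*) [CommRing S1] [Algebra F S1] [Module.Finite F S1]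
    [CommRing S2] [Algebra F S2] [Module.Finite F S2] (n : ℕ)
    (h : finrank F S1 + finrank F S2 ≤ n) (u1 : S1ˣ) (u2 : S2ˣ) :
    ∃ g : GL (Fin n) F, orderOf g = Nat.lcm (orderOf u1) (orderOf u2) := by
  set m := n - (finrank F S1 + finrank F S2) with hm
  have hS : finrank F (S1 × S2 × (Fin m → F)) = n := by
    rw [Module.finrank_prod, Module.finrank_prod, Module.finrank_fin_fun]
    omega
  obtain ⟨φ, hφ⟩ := Cfsg.Agent.Helper40.SylGL.exists_unitsHom (F := F) (S1 × S2 × (Fin m → F)) hS
  let ψ : S1ˣ × S2ˣ →* (S1 × S2 × (Fin m → F))ˣ :=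
    MulEquiv.prodUnits.symm.toMonoidHom.comp
      ((MonoidHom.id S1ˣ).prodMap
        (MulEquiv.prodUnits.symm.toMonoidHom.comp (MonoidHom.inl S2ˣ (Fin m → F)ˣ)))
  have hψ : Function.Injective ψ := by
    intro x y hxy
    have h1 := MulEquiv.prodUnits.symm.injective hxy
    have h2 : x.1 = y.1 := congrArg (fun z => z.1) h1
    have h3 : MulEquiv.prodUnits.symm (x.2, (1 : (Fin m → F)ˣ)) =
        MulEquiv.prodUnits.symm (y.2, (1 : (Fin m → F)ˣ)) := congrArg (fun z => z.2) h1
    have h4 := MulEquiv.prodUnits.symm.injective h3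
    have h5 : x.2 = y.2 := congrArg (fun z => z.1) h4
    exact Prod.ext h2 h5
  refine ⟨φ (ψ (u1, u2)), ?_⟩
  rw [orderOf_injective φ hφ, orderOf_injective ψ hψ, Prod.orderOf_mk]

end constr

end Cfsg.Agent.Helper42.PrimeCent
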