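import Mathlib
import Cfsg.Agent.Lib.Helper42.PSL3Spec1
import Cfsg.Agent.Lib.Helper42.SingerOrd
import Cfsg.Agent.Lib.Helper42.PrimeCent4

set_option autoImplicit false
set_option linter.unusedSectionVars false

/-!
# Elements of order `(q^2+q+1)/d` and `(q^2-1)/d` in `PSL_3(q)`
-/

namespace Cfsg.Agent.Helper42.PSL3Spec

open Matrix Module Cfsg.Agent.Helper42.PrimeCent Cfsg.Agent.Helper42.UEig
  Cfsg.Agent.Helper42.SingerOrd

section blocks

variable {F : Type*} [Field F] {l m : Type*} [Fintype l] [Fintype m] [DecidableEq l]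
  [DecidableEq m]

lemma fromBlocks_diag_pow' (P : Matrix l l F) (S : Matrix m m F) (j : ℕ) :
    (fromBlocks P 0 0 S) ^ j = fromBlocks (P ^ j) 0 0 (S ^ j) := by
  induction j with
  | zero => rw [pow_zero, pow_zero, pow_zero, fromBlocks_one]
  | succ j ih =>
    rw [pow_succ, ih, fromBlocks_multiply, pow_succ, pow_succ]
    simp

lemma fromBlocks_diag_eq_smul_iff' (P : Matrix l l F) (S : Matrix m m F) (c : F) :
    fromBlocks P 0 0 S = c • (1 : Matrix (l ⊕ m) (l ⊕ m) F) ↔
      P = c • (1 : Matrix l l F) ∧ S = c • (1 : Matrix m m F) := by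
  rw [← fromBlocks_one, fromBlocks_smul, fromBlocks_inj]
  simp

end blocks

section singer

variable {F : Type*} [Field F] [Fintype F]

/-- elements of order `(q ^ 2 + q + 1) / d` -/
theorem exists_order_singer (p : ℕ) [Fact p.Prime] [CharP F p] :
    ∃ x : Matrix.ProjectiveSpecialLinearGroup (Fin 3) F,
      orderOf x = (Fintype.card F ^ 2 + Fintype.card F + 1) / Nat.gcd 3 (Fintype.card F - 1) := by
  classical
  set q := Fintype.card F with hq
  have hq2 : 2 ≤ q := Fintype.one_lt_card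
  set E := FiniteField.Extension F p 3 with hE
  have hfin : finrank F E = 3 := FiniteField.finrank_extension F p 3
  have hq3 : q ^ 3 - 1 = (q - 1) * (q ^ 2 + q + 1) := by
    obtain ⟨r, hr⟩ : ∃ r, q = r + 1 := ⟨q - 1, by omega⟩
    rw [hr]
    have : (r + 1) ^ 3 = (r + 1 - 1) * ((r + 1) ^ 2 + (r + 1) + 1) + 1 := by
      rw [Nat.add_sub_cancel]
      ring
    omega
  have hdiv : (q ^ 2 + q + 1) ∣ Nat.card F ^ 3 - 1 := by
    rw [Nat.card_eq_fintype_card, ← hq, hq3]
    exact dvd_mul_left _ _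
  obtain ⟨z', hz'⟩ := exists_unit_orderOf (F := F) p 3 _ hdiv
  set z : E := (z' : E) with hz
  have hz0 : z ≠ 0 := z'.ne_zero
  have hord : orderOf z = q ^ 2 + q + 1 := by rw [hz, orderOf_units, hz']
  have hz1 : z ^ (q ^ 2 + q + 1) = 1 := by rw [← hord, pow_orderOf_eq_one]
  let b : Basis (Fin 3) F E := Module.finBasisOfFinrankEq F E hfin
  let φ : E →ₐ[F] Matrix (Fin 3) (Fin 3) F := Algebra.leftMulMatrix b
  have hφ : Function.Injective φ := Algebra.leftMulMatrix_injective b
  have hφc : ∀ c : F, φ (algebraMap F E c) = c • (1 : Matrix (Fin 3) (Fin 3) F) := fun c => by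
    rw [AlgHom.commutes, Algebra.algebraMap_eq_smul_one]
  set M := φ z with hM
  have hdet : M.det = 1 := by
    have h1 : M.det = Algebra.norm F z := (Algebra.norm_eq_matrix_det b z).symm
    rw [h1]
    apply (algebraMap F E).injective
    rw [FiniteField.algebraMap_norm_eq_pow_sum, hfin, Nat.card_eq_fintype_card, ← hq,
      Finset.sum_range_succ, Finset.sum_range_succ, Finset.sum_range_one, pow_zero, pow_one,
      map_one]
    have h2 : 1 + q + q ^ 2 = q ^ 2 + q + 1 := by ring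
    rw [h2, hz1]
  apply exists_psl_of_matrix M hdet
  intro j
  have hgcd := gcd_singer q (by omega)
  rw [← hgcd, ← dvd_mul_iff_div_gcd _ _ _ (by positivity), ← hord, orderOf_dvd_iff_pow_eq_one,
    mul_comm, pow_mul]
  have hzj0 : z ^ j ≠ 0 := pow_ne_zero _ hz0
  have h1 := exists_algebraMap_iff (F := F) (z ^ j) hzj0
  rw [← h1]
  constructor
  · rintro ⟨c, hc⟩
    refine ⟨c, ?_⟩
    apply hφ
    rw [hφc, map_pow]
    exact hc
  · rintro ⟨c, hc⟩
    refine ⟨c, ?_⟩
    rw [hM, ← map_pow, hc, hφc]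

/-- elements of order `(q ^ 2 - 1) / d` -/
theorem exists_order_quad (p : ℕ) [Fact p.Prime] [CharP F p] :
    ∃ x : Matrix.ProjectiveSpecialLinearGroup (Fin 3) F,
      orderOf x = (Fintype.card F ^ 2 - 1) / Nat.gcd 3 (Fintype.card F - 1) := by
  classical
  set q := Fintype.card F with hq
  have hq2 : 2 ≤ q := Fintype.one_lt_card
  set E := FiniteField.Extension F p 2 with hE
  have hfin : finrank F E = 2 := FiniteField.finrank_extension F p 2
  have hdiv : (q ^ 2 - 1) ∣ Nat.card F ^ 2 - 1 := by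
    rw [Nat.card_eq_fintype_card, ← hq]
  obtain ⟨z', hz'⟩ := exists_unit_orderOf (F := F) p 2 _ hdiv
  set z : E := (z' : E) with hz
  have hz0 : z ≠ 0 := z'.ne_zero
  have hord : orderOf z = q ^ 2 - 1 := by rw [hz, orderOf_units, hz']
  let b : Basis (Fin 2) F E := Module.finBasisOfFinrankEq F E hfin
  let φ : E →ₐ[F] Matrix (Fin 2) (Fin 2) F := Algebra.leftMulMatrix b
  have hφ : Function.Injective φ := Algebra.leftMulMatrix_injective b
  have hφc : ∀ c : F, φ (algebraMap F E c) = c • (1 : Matrix (Fin 2) (Fin 2) F) := fun c => by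
    rw [AlgHom.commutes, Algebra.algebraMap_eq_smul_one]
  set B := φ z with hB
  set ν := Algebra.norm F z with hν
  have hνz : algebraMap F E ν = z ^ (1 + q) := by
    rw [hν, FiniteField.algebraMap_norm_eq_pow_sum, hfin, Nat.card_eq_fintype_card, ← hq,
      Finset.sum_range_succ, Finset.sum_range_one, pow_zero, pow_one]
  have hν0 : ν ≠ 0 := by
    intro h
    rw [h, map_zero] at hνz
    exact pow_ne_zero _ hz0 hνz.symm
  have hdetB : B.det = ν := (Algebra.norm_eq_matrix_det b z).symm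
  set S : Matrix (Fin 1) (Fin 1) F := ν⁻¹ • 1 with hS
  set ρ := Matrix.reindexAlgEquiv F F (finSumFinEquiv : Fin 2 ⊕ Fin 1 ≃ Fin 3) with hρ
  set A := ρ (fromBlocks B 0 0 S) with hA
  have hdet : A.det = 1 := by
    rw [hA, hρ, Matrix.det_reindexAlgEquiv, Matrix.det_fromBlocks_zero₂₁, hdetB, hS,
      Matrix.det_smul, Matrix.det_one, Fintype.card_fin, pow_one, mul_one, mul_inv_cancel₀ hν0]
  apply exists_psl_of_matrix A hdet
  intro j
  have hgcd := gcd_sq_sub_one q (by omega)
  have hpos : 0 < q ^ 2 - 1 := by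
    have : 1 < q ^ 2 := Nat.one_lt_pow (by norm_num) (by omega)
    omega
  rw [← hgcd, ← dvd_mul_iff_div_gcd _ _ _ hpos, ← hord, orderOf_dvd_iff_pow_eq_one]
  have hSj : S ^ j = (ν⁻¹ ^ j) • (1 : Matrix (Fin 1) (Fin 1) F) := by
    rw [hS, _root_.smul_pow, one_pow]
  have hkey : z ^ ((q + 2) * j) = z ^ j * (algebraMap F E ν) ^ j := by
    rw [hνz, ← pow_mul, ← pow_add]
    congr 1
    ring
  have hAj : ∀ c : F, A ^ j = c • (1 : Matrix (Fin 3) (Fin 3) F) ↔
      (B ^ j = c • (1 : Matrix (Fin 2) (Fin 2) F) ∧ S ^ j = c • (1 : Matrix (Fin 1) (Fin 1) F)) := by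
    intro c
    rw [hA, ← map_pow, fromBlocks_diag_pow', ← fromBlocks_diag_eq_smul_iff']
    constructor
    · intro h
      apply ρ.injective
      rw [h, map_smul, map_one]
    · intro h
      rw [h, map_smul, map_one]
  have hS1 : ∀ c : F, S ^ j = c • (1 : Matrix (Fin 1) (Fin 1) F) ↔ ν⁻¹ ^ j = c := by
    intro c
    rw [hSj]
    constructor
    · intro h
      have := congrFun (congrFun h 0) 0
      simpa using this
    · intro h
      rw [h]
  have hνj0 : (algebraMap F E ν) ^ j ≠ 0 := pow_ne_zero _ (by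
    rw [hνz]
    exact pow_ne_zero _ hz0)
  constructor
  · rintro ⟨c, hc⟩
    obtain ⟨h1, h2⟩ := (hAj c).mp hc
    rw [hS1] at h2
    have h3 : z ^ j = algebraMap F E c := by
      apply hφ
      rw [hφc, map_pow]
      exact h1
    rw [hkey, h3, ← h2, map_pow, map_inv₀, inv_pow, inv_mul_cancel₀ hνj0]
  · intro h
    rw [hkey] at h
    refine ⟨ν⁻¹ ^ j, (hAj _).mpr ⟨?_, (hS1 _).mpr rfl⟩⟩
    rw [hB, ← map_pow]
    have h3 : z ^ j = algebraMap F E (ν⁻¹ ^ j) := by
      rw [map_pow, map_inv₀, inv_pow]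
      exact eq_inv_of_mul_eq_one_left h
    rw [h3, hφc]

end singer

end Cfsg.Agent.Helper42.PSL3Spec
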