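import Mathlib

set_option autoImplicit false
set_option linter.unusedSectionVars false

/-!
# Eigenvalues of matrices that are unitary with respect to a ring endomorphism

For a field `L`, a ring endomorphism `ψ` and a matrix `G` with `(G.map ψ)ᵀ * G = 1`, the set of roots
of the characteristic polynomial is closed under `x ↦ (ψ x)⁻¹`.  When the orbit of one root has `n`
distinct members, the matrix is determined by it up to conjugacy; we record the consequences we need.
-/

namespace Cfsg.Agent.Helper42.UEig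

open Matrix Polynomial

variable {L : Type*} [Field L] {ι : Type*} [Fintype ι] [DecidableEq ι]

/-- roots of the characteristic polynomial of the inverse -/
lemma isRoot_inv_of_mul_eq_one (G G' : Matrix ι ι L) (h : G' * G = 1) (x : L)
    (hx : G'.charpoly.IsRoot x) : G.charpoly.IsRoot x⁻¹ := by
  have h' : G * G' = 1 := mul_eq_one_comm.mp h
  rw [← Matrix.mem_spectrum_iff_isRoot_charpoly] at hx ⊢
  set a : (Matrix ι ι L)ˣ := ⟨G, G', h', h⟩ with ha
  have hx0 : x ≠ 0 := by
    rintro rfl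
    rw [spectrum.zero_mem_iff] at hx
    exact hx ⟨a⁻¹, rfl⟩
  have h1 := spectrum.inv_mem_iff (R := L) (r := Units.mk0 x⁻¹ (inv_ne_zero hx0)) (a := a)
  have h2 : ((Units.mk0 x⁻¹ (inv_ne_zero hx0))⁻¹ : Lˣ) = Units.mk0 x hx0 := by
    ext
    simp
  rw [h2] at h1
  exact h1.mpr hx

/-- closure of the roots of the characteristic polynomial under `x ↦ (ψ x)⁻¹` -/
lemma isRoot_of_unitary (ψ : L →+* L) (G : Matrix ι ι L) (hG : (G.map ψ)ᵀ * G = 1) (x : L)
    (hx : G.charpoly.IsRoot x) : G.charpoly.IsRoot (ψ x)⁻¹ := by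
  apply isRoot_inv_of_mul_eq_one G _ hG
  rw [Matrix.charpoly_transpose, Matrix.charpoly_map]
  exact hx.map

/-- a root of the characteristic polynomial of a matrix with scalar `j`-th power -/
lemma pow_eq_of_isRoot (G : Matrix ι ι L) (x : L) (hx : G.charpoly.IsRoot x) (j : ℕ) (c : L)
    (h : G ^ j = c • (1 : Matrix ι ι L)) : x ^ j = c := by
  rcases isEmpty_or_nonempty ι with hι | hι
  · exfalso
    rw [Matrix.charpoly_isEmpty] at hx
    simp at hx
  rw [← Matrix.mem_spectrum_iff_isRoot_charpoly] at hx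
  have h1 := spectrum.pow_mem_pow G j hx
  rw [h, ← Algebra.algebraMap_eq_smul_one, spectrum.scalar_eq] at h1
  exact h1

/-- the orbit of `x` under `x ↦ (ψ x)⁻¹` -/
def orb (ψ : L →+* L) (x : L) (i : ℕ) : L := (fun y => (ψ y)⁻¹)^[i] x

lemma orb_zero (ψ : L →+* L) (x : L) : orb ψ x 0 = x := rfl

lemma orb_succ (ψ : L →+* L) (x : L) (i : ℕ) : orb ψ x (i + 1) = (ψ (orb ψ x i))⁻¹ :=
  Function.iterate_succ_apply' _ _ _

lemma orb_add (ψ : L →+* L) (x : L) (i j : ℕ) : orb ψ x (i + j) = orb ψ (orb ψ x j) i :=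
  Function.iterate_add_apply _ _ _ _

lemma orb_pow (ψ : L →+* L) (x : L) (i t : ℕ) : orb ψ (x ^ t) i = orb ψ x i ^ t := by
  induction i with
  | zero => rfl
  | succ i ih => rw [orb_succ, orb_succ, ih, map_pow, inv_pow]

lemma orb_injective (ψ : L →+* L) (i : ℕ) : Function.Injective (fun x => orb ψ x i) := by
  apply Function.Injective.iterate
  intro x y hxy
  exact ψ.injective (inv_injective hxy)

lemma isRoot_orb (ψ : L →+* L) (G : Matrix ι ι L) (hG : (G.map ψ)ᵀ * G = 1) (x : L)
    (hx : G.charpoly.IsRoot x) (i : ℕ) : G.charpoly.IsRoot (orb ψ x i) := by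
  induction i with
  | zero => exact hx
  | succ i ih =>
    rw [orb_succ]
    exact isRoot_of_unitary ψ G hG _ ih

/-- explicit form of the orbit when `ψ` is a `q`-th power map -/
lemma orb_eq (ψ : L →+* L) (q : ℕ) (hψ : ∀ x, ψ x = x ^ q) (x : L) (i : ℕ) :
    orb ψ x i = if Even i then x ^ (q ^ i) else (x ^ (q ^ i))⁻¹ := by
  induction i with
  | zero => simp [orb_zero]
  | succ i ih =>
    rw [orb_succ, ih, hψ]
    by_cases hi : Even i
    · have hi' : ¬ Even (i + 1) := by
        rw [Nat.even_add_one]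
        exact not_not.mpr hi
      rw [if_pos hi, if_neg hi', ← pow_mul, ← pow_succ]
    · have hi' : Even (i + 1) := by
        rw [Nat.even_add_one]
        exact hi
      rw [if_neg hi, if_pos hi', inv_pow, inv_inv, ← pow_mul, ← pow_succ]

/-- if `c = x ^ j` has `c ^ (q + 1) = 1` then all members of the orbit have `j`-th power `c` -/
lemma orb_pow_eq (ψ : L →+* L) (q : ℕ) (hψ : ∀ x, ψ x = x ^ q) (x : L) (j : ℕ)
    (hc : (x ^ j) ^ (q + 1) = 1) (i : ℕ) : orb ψ x i ^ j = x ^ j := by
  induction i with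
  | zero => rfl
  | succ i ih =>
    rw [orb_succ, hψ, inv_pow, ← pow_mul, mul_comm, pow_mul, ih]
    have h0 : (x ^ j) ^ q ≠ 0 := by
      intro h0
      rw [pow_succ, h0, zero_mul] at hc
      exact zero_ne_one hc
    apply inv_eq_of_mul_eq_one_left
    rw [← pow_succ']
    exact hc

/-- distinctness of the orbit -/
lemma orb_distinct (ψ : L →+* L) (q : ℕ) (hq : 1 ≤ q) (hψ : ∀ x, ψ x = x ^ q) (x : L) (hx0 : x ≠ 0)
    (r n : ℕ) (hxr : orderOf x = r)
    (heven : ∀ d, 0 < d → d < n → Even d → ¬ r ∣ q ^ d - 1)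
    (hodd : ∀ d, 0 < d → d < n → ¬ Even d → ¬ r ∣ q ^ d + 1)
    (i j : ℕ) (hi : i < n) (hj : j < n) (hij : orb ψ x i = orb ψ x j) : i = j := by
  wlog hlt : i ≤ j generalizing i j
  · exact (this j i hj hi hij.symm (by omega)).symm
  by_contra hne
  obtain ⟨d, rfl⟩ : ∃ d, j = i + d := ⟨j - i, by omega⟩
  have hd0 : 0 < d := by omega
  have hdn : d < n := by omega
  rw [orb_add] at hij
  have h1 : x = orb ψ x d := orb_injective ψ i hij
  rw [orb_eq ψ q hψ] at h1
  have hQ : 1 ≤ q ^ d := Nat.one_le_pow _ _ hq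
  by_cases hd : Even d
  · rw [if_pos hd] at h1
    apply heven d hd0 hdn hd
    rw [← hxr]
    apply orderOf_dvd_of_pow_eq_one
    have h2 : x ^ (q ^ d - 1) * x = 1 * x := by
      rw [← pow_succ, Nat.sub_add_cancel hQ, one_mul]
      exact h1.symm
    exact mul_right_cancel₀ hx0 h2
  · rw [if_neg hd] at h1
    apply hodd d hd0 hdn hd
    rw [← hxr]
    apply orderOf_dvd_of_pow_eq_one
    rw [pow_succ]
    have h0 : x ^ q ^ d ≠ 0 := pow_ne_zero _ hx0
    nth_rewrite 2 [h1]
    exact mul_inv_cancel₀ h0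

end Cfsg.Agent.Helper42.UEig
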