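import Mathlib
import Cfsg.Agent.Lib.Helper42.UEig1

set_option autoImplicit false
set_option linter.unusedSectionVars false

/-!
# Matrices whose characteristic polynomial has a full set of distinct known roots
-/

namespace Cfsg.Agent.Helper42.UEig

open Matrix Polynomial

variable {L : Type*} [Field L] {ι : Type*} [Fintype ι] [DecidableEq ι]

/-- a product of distinct linear factors divides any polynomial vanishing at the points -/
lemma prod_dvd_of_roots (s : ℕ → L) (n : ℕ) (hinj : ∀ i < n, ∀ j < n, s i = s j → i = j)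
    (P : L[X]) (hP : ∀ i < n, P.IsRoot (s i)) :
    (∏ i ∈ Finset.range n, (X - C (s i))) ∣ P := by
  apply Finset.prod_dvd_of_coprime
  · intro i hi j hj hij
    have hi' : i < n := Finset.mem_range.mp hi
    have hj' : j < n := Finset.mem_range.mp hj
    apply Polynomial.isCoprime_X_sub_C_of_isUnit_sub
    apply IsUnit.mk0
    intro h
    exact hij (hinj i hi' j hj' (sub_eq_zero.mp h))
  · intro i hi
    exact Polynomial.dvd_iff_isRoot.mpr (hP i (Finset.mem_range.mp hi))

/-- the characteristic polynomial is the product of the linear factors -/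
lemma charpoly_eq_prod (G : Matrix ι ι L) (s : ℕ → L)
    (hs : ∀ i < Fintype.card ι, G.charpoly.IsRoot (s i))
    (hinj : ∀ i < Fintype.card ι, ∀ j < Fintype.card ι, s i = s j → i = j) :
    G.charpoly = ∏ i ∈ Finset.range (Fintype.card ι), (X - C (s i)) := by
  have h1 := prod_dvd_of_roots s _ hinj G.charpoly hs
  have hm : (∏ i ∈ Finset.range (Fintype.card ι), (X - C (s i))).Monic :=
    Polynomial.monic_prod_of_monic _ _ fun i _ => Polynomial.monic_X_sub_C _
  refine Polynomial.eq_of_monic_of_dvd_of_natDegree_le hm G.charpoly_monic h1 ?_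
  rw [Matrix.charpoly_natDegree_eq_dim, Polynomial.natDegree_prod_of_monic _ _
    fun i _ => Polynomial.monic_X_sub_C _]
  simp

/-- polynomials vanishing on the roots annihilate the matrix -/
lemma aeval_eq_zero_of_roots (G : Matrix ι ι L) (s : ℕ → L)
    (hs : ∀ i < Fintype.card ι, G.charpoly.IsRoot (s i))
    (hinj : ∀ i < Fintype.card ι, ∀ j < Fintype.card ι, s i = s j → i = j)
    (P : L[X]) (hP : ∀ i < Fintype.card ι, P.IsRoot (s i)) : aeval G P = 0 := by
  obtain ⟨Q, hQ⟩ := prod_dvd_of_roots s _ hinj P hP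
  rw [hQ, ← charpoly_eq_prod G s hs hinj, map_mul, Matrix.aeval_self_charpoly, zero_mul]

/-- the determinant is the product of the roots -/
lemma det_eq_prod (G : Matrix ι ι L) (s : ℕ → L)
    (hs : ∀ i < Fintype.card ι, G.charpoly.IsRoot (s i))
    (hinj : ∀ i < Fintype.card ι, ∀ j < Fintype.card ι, s i = s j → i = j) :
    G.det = ∏ i ∈ Finset.range (Fintype.card ι), s i := by
  rw [Matrix.det_eq_sign_charpoly_coeff, charpoly_eq_prod G s hs hinj,
    Polynomial.coeff_zero_eq_eval_zero, Polynomial.eval_prod]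
  simp only [eval_sub, eval_X, eval_C, zero_sub]
  rw [Finset.prod_neg, Finset.card_range, ← mul_assoc, ← mul_pow]
  simp

/-- a scalar power from the roots -/
lemma pow_eq_smul_of_roots (G : Matrix ι ι L) (s : ℕ → L)
    (hs : ∀ i < Fintype.card ι, G.charpoly.IsRoot (s i))
    (hinj : ∀ i < Fintype.card ι, ∀ j < Fintype.card ι, s i = s j → i = j)
    (j : ℕ) (c : L) (hc : ∀ i < Fintype.card ι, s i ^ j = c) :
    G ^ j = c • (1 : Matrix ι ι L) := by
  have h := aeval_eq_zero_of_roots G s hs hinj (X ^ j - C c) (fun i hi => by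
    rw [IsRoot.def, eval_sub, eval_pow, eval_X, eval_C, hc i hi, sub_self])
  rw [map_sub, map_pow, aeval_X, aeval_C, sub_eq_zero] at h
  rw [h, Algebra.algebraMap_eq_smul_one]

/-- existence of a root of the characteristic polynomial at which a cyclotomic-type sum vanishes -/
lemma exists_root_of_pow [IsAlgClosed L] (G : Matrix ι ι L) (t r : ℕ) (hr : G ^ (t * r) = 1)
    (hne : G ^ t ≠ 1) :
    ∃ s, G.charpoly.IsRoot s ∧ ∑ i ∈ Finset.range r, (s ^ t) ^ i = 0 := by
  by_contra hcon
  push Not at hcon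
  set Θ : L[X] := ∑ i ∈ Finset.range r, (X ^ t) ^ i with hΘ
  have hcop : IsCoprime Θ G.charpoly := by
    rw [Polynomial.isCoprime_iff_aeval_ne_zero_of_isAlgClosed (k := L) L]
    intro a
    by_cases ha : G.charpoly.IsRoot a
    · left
      have := hcon a ha
      rw [Polynomial.coe_aeval_eq_eval, hΘ, eval_finsetSum]
      simpa using this
    · right
      rw [Polynomial.coe_aeval_eq_eval]
      exact ha
  obtain ⟨u, v, huv⟩ := hcop
  have h1 : aeval G (u * Θ) = 1 := by
    have := congrArg (aeval G) huv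
    rw [map_add, map_mul _ v, Matrix.aeval_self_charpoly, mul_zero, add_zero, map_one] at this
    exact this
  apply hne
  have h2 : (X ^ t - 1 : L[X]) * Θ = X ^ (t * r) - 1 := by
    rw [hΘ, mul_geom_sum, pow_mul]
  have h3 : aeval G ((X ^ t - 1 : L[X]) * (u * Θ)) = 0 := by
    rw [mul_left_comm, h2, map_mul, map_sub, map_pow, aeval_X, map_one, hr, sub_self, mul_zero]
  rw [map_mul, h1, mul_one, map_sub, map_pow, aeval_X, map_one, sub_eq_zero] at h3
  exact h3

/-- the order of a root of `∑ i < r, x ^ i` -/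
lemma orderOf_of_geom_sum (x : L) (r : ℕ) (hr : r.Prime) (hrL : (r : L) ≠ 0)
    (h : ∑ i ∈ Finset.range r, x ^ i = 0) : orderOf x = r := by
  have : Fact r.Prime := ⟨hr⟩
  apply orderOf_eq_prime
  · have := mul_geom_sum x r
    rw [h, mul_zero] at this
    exact (sub_eq_zero.mp this.symm)
  · rintro rfl
    simp at h
    exact hrL h

/-- the product over the orbit, for even length -/
lemma prod_orb (ψ : L →+* L) (q : ℕ) (hq : 1 ≤ q) (hψ : ∀ x, ψ x = x ^ q) (x : L) (hx0 : x ≠ 0)
    (m : ℕ) :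
    (∏ i ∈ Finset.range (2 * m), orb ψ x i) * x ^ ((q - 1) * ∑ k ∈ Finset.range m, (q ^ 2) ^ k)
      = 1 := by
  induction m with
  | zero => simp
  | succ m ih =>
    rw [show 2 * (m + 1) = 2 * m + 1 + 1 from by ring, Finset.prod_range_succ,
      Finset.prod_range_succ, Finset.sum_range_succ, mul_add, pow_add]
    rw [orb_eq ψ q hψ x (2 * m), orb_eq ψ q hψ x (2 * m + 1), if_pos (even_two_mul m),
      if_neg (by rw [Nat.even_add_one]; exact not_not.mpr (even_two_mul m))]
    have h1 : x ^ q ^ (2 * m + 1) = x ^ q ^ (2 * m) * x ^ ((q - 1) * (q ^ 2) ^ m) := by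
      rw [← pow_add]
      congr 1
      obtain ⟨q', rfl⟩ : ∃ q', q = q' + 1 := ⟨q - 1, by omega⟩
      rw [Nat.add_sub_cancel, ← pow_mul]
      ring
    have h0 : x ^ q ^ (2 * m + 1) ≠ 0 := pow_ne_zero _ hx0
    calc (∏ i ∈ Finset.range (2 * m), orb ψ x i) * x ^ q ^ (2 * m) * (x ^ q ^ (2 * m + 1))⁻¹ *
          (x ^ ((q - 1) * ∑ k ∈ Finset.range m, (q ^ 2) ^ k) * x ^ ((q - 1) * (q ^ 2) ^ m))
        = ((∏ i ∈ Finset.range (2 * m), orb ψ x i) *
            x ^ ((q - 1) * ∑ k ∈ Finset.range m, (q ^ 2) ^ k)) *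
          ((x ^ q ^ (2 * m) * x ^ ((q - 1) * (q ^ 2) ^ m)) * (x ^ q ^ (2 * m + 1))⁻¹) := by ring
      _ = 1 := by rw [ih, one_mul, ← h1, mul_inv_cancel₀ h0]

end Cfsg.Agent.Helper42.UEig
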