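import Mathlib
import Cfsg.Agent.Lib.Helper42.UEig2

set_option autoImplicit false
set_option linter.unusedSectionVars false

/-!
# Eigenvalues of symplectic matrices over a finite field

The roots (in an extension field `L`) of the characteristic polynomial of a symplectic matrix over a
finite field `F` are closed under `x ↦ x ^ |F|` and under `x ↦ x⁻¹`.  We also record versions of the
"full set of distinct roots" lemmas for finsets of roots, and the size of the orbits.
-/

namespace Cfsg.Agent.Helper42.SpEig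

open Matrix Polynomial Cfsg.Agent.Helper42.UEig

section closure

variable {F : Type*} [Field F] [Fintype F] {L : Type*} [Field L] [Algebra F L]
  {ι : Type*} [Fintype ι] [DecidableEq ι]

/-- the roots of the characteristic polynomial of a matrix over `F` are closed under Frobenius -/
lemma isRoot_pow_card (A : Matrix ι ι F) (x : L)
    (hx : ((algebraMap F L).mapMatrix A).charpoly.IsRoot x) :
    ((algebraMap F L).mapMatrix A).charpoly.IsRoot (x ^ Fintype.card F) := by
  rw [RingHom.mapMatrix_apply, Matrix.charpoly_map, IsRoot.def, eval_map_algebraMap] at hx ⊢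
  rw [← Polynomial.expand_aeval, FiniteField.expand_card, map_pow, hx,
    zero_pow Fintype.card_ne_zero]

lemma isRoot_pow_card_pow (A : Matrix ι ι F) (x : L)
    (hx : ((algebraMap F L).mapMatrix A).charpoly.IsRoot x) (i : ℕ) :
    ((algebraMap F L).mapMatrix A).charpoly.IsRoot (x ^ (Fintype.card F ^ i)) := by
  induction i with
  | zero => simpa using hx
  | succ i ih =>
    rw [pow_succ, pow_mul]
    exact isRoot_pow_card A _ ih

end closure

section symp

variable {L : Type*} [Field L] {l : Type*} [Fintype l] [DecidableEq l]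

/-- the roots of the characteristic polynomial of a symplectic matrix are closed under inversion -/
lemma isRoot_inv_of_symplectic (G : Matrix (l ⊕ l) (l ⊕ l) L) (hG : G ∈ symplecticGroup l L) (x : L)
    (hx : G.charpoly.IsRoot x) : G.charpoly.IsRoot x⁻¹ := by
  set G' : Matrix (l ⊕ l) (l ⊕ l) L := -J l L * Gᵀ * J l L with hG'
  have h1 : G' * G = 1 := by
    have := SymplecticGroup.inv_left_mul_aux hG
    rw [hG']
    rw [← this]
    simp only [Matrix.neg_mul, Matrix.mul_assoc]
  have hJ1 : -J l L * J l L = 1 := by rw [Matrix.neg_mul, J_squared, neg_neg]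
  have hJ2 : J l L * -J l L = 1 := by rw [Matrix.mul_neg, J_squared, neg_neg]
  set U : (Matrix (l ⊕ l) (l ⊕ l) L)ˣ := ⟨-J l L, J l L, hJ1, hJ2⟩ with hU
  have h2 : G'.charpoly = G.charpoly := by
    have := Matrix.charpoly_units_conj U Gᵀ
    rw [Matrix.charpoly_transpose] at this
    have h3 : ((U : Matrix (l ⊕ l) (l ⊕ l) L))⁻¹ = J l L := Matrix.inv_eq_right_inv hJ1
    rw [h3] at this
    exact this
  apply isRoot_inv_of_mul_eq_one G G' h1
  rw [h2]
  exact hx

end symp

section finset

variable {L : Type*} [Field L] {ι : Type*} [Fintype ι] [DecidableEq ι]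

lemma prod_dvd_of_root_set (T : Finset L) (P : L[X]) (hP : ∀ x ∈ T, P.IsRoot x) :
    (∏ x ∈ T, (X - C x)) ∣ P := by
  apply Finset.prod_dvd_of_coprime
  · intro x _ y _ hxy
    apply Polynomial.isCoprime_X_sub_C_of_isUnit_sub
    apply IsUnit.mk0
    intro h
    exact hxy (sub_eq_zero.mp h)
  · intro x hx
    exact Polynomial.dvd_iff_isRoot.mpr (hP x hx)

lemma natDegree_prod_root_set (T : Finset L) : (∏ x ∈ T, (X - C x)).natDegree = T.card := by
  rw [Polynomial.natDegree_prod_of_monic _ _ fun i _ => Polynomial.monic_X_sub_C _]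
  simp

/-- the number of distinct roots of the characteristic polynomial is at most the dimension -/
lemma card_le_of_root_set (G : Matrix ι ι L) (T : Finset L) (hT : ∀ x ∈ T, G.charpoly.IsRoot x) :
    T.card ≤ Fintype.card ι := by
  have h1 := prod_dvd_of_root_set T G.charpoly hT
  have h2 := Polynomial.natDegree_le_of_dvd h1 G.charpoly_monic.ne_zero
  rw [natDegree_prod_root_set, Matrix.charpoly_natDegree_eq_dim] at h2
  exact h2

/-- a scalar power from a full set of distinct roots -/
lemma pow_eq_smul_of_root_set (G : Matrix ι ι L) (T : Finset L)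
    (hT : ∀ x ∈ T, G.charpoly.IsRoot x) (hcard : Fintype.card ι ≤ T.card) (j : ℕ) (c : L)
    (hc : ∀ x ∈ T, x ^ j = c) : G ^ j = c • (1 : Matrix ι ι L) := by
  have h1 := prod_dvd_of_root_set T G.charpoly hT
  have hm : (∏ x ∈ T, (X - C x)).Monic :=
    Polynomial.monic_prod_of_monic _ _ fun i _ => Polynomial.monic_X_sub_C _
  have h2 : G.charpoly = ∏ x ∈ T, (X - C x) := by
    refine Polynomial.eq_of_monic_of_dvd_of_natDegree_le hm G.charpoly_monic h1 ?_
    rw [Matrix.charpoly_natDegree_eq_dim, natDegree_prod_root_set]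
    exact hcard
  obtain ⟨Q, hQ⟩ := prod_dvd_of_root_set T (X ^ j - C c) (fun x hx => by
    rw [IsRoot.def, eval_sub, eval_pow, eval_X, eval_C, hc x hx, sub_self])
  have h3 : aeval G (X ^ j - C c : L[X]) = 0 := by
    rw [hQ, ← h2, map_mul, Matrix.aeval_self_charpoly, zero_mul]
  rw [map_sub, map_pow, aeval_X, aeval_C, sub_eq_zero] at h3
  rw [h3, Algebra.algebraMap_eq_smul_one]

end finset

section orbit

variable {L : Type*} [Field L] [DecidableEq L]

/-- the forward orbit `x ^ (q ^ i)`, `i < e` -/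
def orbF (q : ℕ) (x : L) (e : ℕ) : Finset L := (Finset.range e).image fun i => x ^ (q ^ i)

/-- the inverse orbit `(x ^ (q ^ i))⁻¹`, `i < e` -/
def orbI (q : ℕ) (x : L) (e : ℕ) : Finset L := (Finset.range e).image fun i => (x ^ (q ^ i))⁻¹

lemma mem_orbF {q : ℕ} {x : L} {e : ℕ} {y : L} : y ∈ orbF q x e ↔ ∃ i < e, x ^ (q ^ i) = y := by
  simp [orbF]

lemma mem_orbI {q : ℕ} {x : L} {e : ℕ} {y : L} : y ∈ orbI q x e ↔ ∃ i < e, (x ^ (q ^ i))⁻¹ = y := by
  simp [orbI]

/-- `q ^ i ≡ q ^ j` modulo `o` forces `i = j` below the order of `q` -/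
lemma eq_of_pow_modEq (q o : ℕ) (i j : ℕ) (hi : i < orderOf (q : ZMod o))
    (hj : j < orderOf (q : ZMod o)) (h : q ^ i ≡ q ^ j [MOD o]) : i = j := by
  have h1 : ((q : ZMod o)) ^ i = (q : ZMod o) ^ j := by
    have := (ZMod.natCast_eq_natCast_iff _ _ _).mpr h
    push_cast at this
    exact this
  have hfin : IsOfFinOrder (q : ZMod o) := orderOf_pos_iff.mp (by omega)
  have h2 := hfin.pow_eq_pow_iff_modEq.mp h1
  have h3 := Nat.ModEq.eq_of_lt_of_lt h2 hi hj
  exact h3

variable (q : ℕ) (x : L) (t : ℕ) (o : ℕ) (ho : orderOf (x ^ t) = o) (ho0 : 0 < o)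

include ho ho0

lemma orbF_injOn (i j : ℕ) (hi : i < orderOf (q : ZMod o)) (hj : j < orderOf (q : ZMod o))
    (h : x ^ (q ^ i) = x ^ (q ^ j)) : i = j := by
  apply eq_of_pow_modEq q o i j hi hj
  have h1 : (x ^ t) ^ (q ^ i) = (x ^ t) ^ (q ^ j) := by
    rw [← pow_mul, ← pow_mul, mul_comm t, mul_comm t, pow_mul, pow_mul, h]
  have hfin : IsOfFinOrder (x ^ t) := orderOf_pos_iff.mp (by omega)
  rw [← ho]
  exact hfin.pow_eq_pow_iff_modEq.mp h1

lemma card_orbF : (orbF q x (orderOf (q : ZMod o))).card = orderOf (q : ZMod o) := by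
  rw [orbF, Finset.card_image_of_injOn, Finset.card_range]
  intro i hi j hj h
  exact orbF_injOn q x t o ho ho0 i j (Finset.mem_range.mp hi) (Finset.mem_range.mp hj) h

lemma card_orbI : (orbI q x (orderOf (q : ZMod o))).card = orderOf (q : ZMod o) := by
  rw [orbI, Finset.card_image_of_injOn, Finset.card_range]
  intro i hi j hj h
  exact orbF_injOn q x t o ho ho0 i j (Finset.mem_range.mp hi) (Finset.mem_range.mp hj)
    (inv_injective h)

/-- the forward and inverse orbits are disjoint when `-1` is not a power of `q` modulo `o` -/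
lemma disjoint_orbF_orbI (hx0 : x ≠ 0) (hcop : Nat.Coprime q o)
    (hneg : ∀ i, ¬ o ∣ q ^ i + 1) (e : ℕ) : Disjoint (orbF q x e) (orbI q x e) := by
  rw [Finset.disjoint_left]
  intro y hy1 hy2
  obtain ⟨i, -, rfl⟩ := mem_orbF.mp hy1
  obtain ⟨j, -, hj⟩ := mem_orbI.mp hy2
  have h1 : x ^ (q ^ i + q ^ j) = 1 := by
    rw [pow_add, ← hj, inv_mul_cancel₀ (pow_ne_zero _ hx0)]
  have h2 : (x ^ t) ^ (q ^ i + q ^ j) = 1 := by
    rw [← pow_mul, mul_comm, pow_mul, h1, one_pow]
  have h3 : o ∣ q ^ i + q ^ j := by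
    rw [← ho]
    exact orderOf_dvd_of_pow_eq_one h2
  rcases le_total i j with hij | hij
  · apply hneg (j - i)
    have h4 : q ^ i + q ^ j = q ^ i * (q ^ (j - i) + 1) := by
      rw [mul_add, ← pow_add, Nat.add_sub_cancel' hij, mul_one, add_comm]
    rw [h4] at h3
    exact (Nat.Coprime.pow_left i hcop).symm.dvd_of_dvd_mul_left h3
  · apply hneg (i - j)
    have h4 : q ^ i + q ^ j = q ^ j * (q ^ (i - j) + 1) := by
      rw [mul_add, ← pow_add, Nat.add_sub_cancel' hij, mul_one]
    rw [h4] at h3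
    exact (Nat.Coprime.pow_left j hcop).symm.dvd_of_dvd_mul_left h3

end orbit

end Cfsg.Agent.Helper42.SpEig
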