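import Mathlib
import Cfsg.Agent.Lib.Helper42.UEig1
import Cfsg.Agent.Lib.Helper42.UEig3
import Cfsg.Agent.Lib.Helper42.SpEig1

set_option autoImplicit false
set_option linter.unusedSectionVars false

/-!
# Eigenvalue analysis for special unitary `3 × 3` matrices
-/

namespace Cfsg.Agent.Helper42.SU3Spec

open Matrix Polynomial Cfsg.Agent.Helper42.UEig Cfsg.Agent.Helper42.SpEig

section roots

variable {L : Type*} [Field L] {ι : Type*} [Fintype ι] [DecidableEq ι]

/-- distinct roots with a common power -/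
lemma pow_eq_smul_of_nodup [IsAlgClosed L] (G : Matrix ι ι L) (hnd : G.charpoly.roots.Nodup)
    (j : ℕ) (y : L) (hy : ∀ x ∈ G.charpoly.roots, x ^ j = y) :
    G ^ j = y • (1 : Matrix ι ι L) := by
  classical
  apply pow_eq_smul_of_root_set G G.charpoly.roots.toFinset
  · intro x hx
    rw [Multiset.mem_toFinset] at hx
    exact (Polynomial.mem_roots G.charpoly_monic.ne_zero).mp hx
  · rw [Multiset.toFinset_card_of_nodup hnd, ← (IsAlgClosed.splits G.charpoly).natDegree_eq_card_roots,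
      Matrix.charpoly_natDegree_eq_dim]
  · intro x hx
    rw [Multiset.mem_toFinset] at hx
    exact hy x hx

/-- roots with a common power, `3 × 3`, in odd characteristic -/
lemma pow_eq_smul_of_three [IsAlgClosed L] (p : ℕ) [Fact p.Prime] [CharP L p] (hp : 3 ≤ p)
    (G : Matrix ι ι L) (a b c : L) (hR : G.charpoly.roots = a ::ₘ b ::ₘ {c})
    (N₀ : ℕ) (y : L) (ha : a ^ N₀ = y) (hb : b ^ N₀ = y) (hc : c ^ N₀ = y) :
    G ^ (p * N₀) = (y ^ p) • (1 : Matrix ι ι L) := by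
  have h1 : G.charpoly = (X - C a) * ((X - C b) * (X - C c)) := by
    conv_lhs => rw [(IsAlgClosed.splits G.charpoly).eq_prod_roots_of_monic G.charpoly_monic, hR]
    simp
  set Q : L[X] := X ^ N₀ - C y with hQ
  have hdvd : ∀ x : L, x ^ N₀ = y → (X - C x) ∣ Q := by
    intro x hx
    rw [Polynomial.dvd_iff_isRoot, IsRoot.def, hQ, eval_sub, eval_pow, eval_X, eval_C, hx, sub_self]
  have h2 : G.charpoly ∣ Q ^ 3 := by
    rw [h1]
    have : Q ^ 3 = Q * (Q * Q) := by ring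
    rw [this]
    exact mul_dvd_mul (hdvd a ha) (mul_dvd_mul (hdvd b hb) (hdvd c hc))
  have h3 : G.charpoly ∣ Q ^ p := h2.trans (pow_dvd_pow Q hp)
  have h4 : Q ^ p = X ^ (p * N₀) - C (y ^ p) := by
    rw [hQ, sub_pow_char, ← pow_mul, ← C_pow, mul_comm]
  obtain ⟨S, hS⟩ := h3
  have h5 : aeval G (Q ^ p) = 0 := by
    rw [hS, map_mul, Matrix.aeval_self_charpoly, zero_mul]
  rw [h4, map_sub, map_pow, aeval_X, aeval_C, sub_eq_zero, Algebra.algebraMap_eq_smul_one] at h5
  exact h5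

end roots

section alg

variable {L : Type*} [Field L] (ψ : L →+* L) (q : ℕ) (hψ : ∀ x, ψ x = x ^ q)

include hψ

/-- fixed points of `x ↦ (x ^ q)⁻¹` -/
lemma pow_succ_of_fixed (x : L) (hx0 : x ≠ 0) (hx : (ψ x)⁻¹ = x) : x ^ (q + 1) = 1 := by
  rw [hψ] at hx
  have h0 : x ^ q ≠ 0 := pow_ne_zero _ hx0
  calc x ^ (q + 1) = x ^ q * x := pow_succ _ _
    _ = x ^ q * (x ^ q)⁻¹ := by rw [hx]
    _ = 1 := mul_inv_cancel₀ h0

/-- if `y ^ (q + 1) = 1` then `y` is a fixed point -/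
lemma fixed_of_pow_succ (y : L) (hy : y ^ (q + 1) = 1) : (ψ y)⁻¹ = y := by
  rw [hψ]
  apply inv_eq_of_mul_eq_one_left
  rw [← pow_succ']
  exact hy

/-- the case of an orbit of length two -/
lemma case_two (s b c : L) (hb : (ψ s)⁻¹ = b) (hs : (ψ b)⁻¹ = s) (hsbc : s * (b * c) = 1)
    (d j : ℕ) (hdj : d * j = q ^ 2 - 1) (hq : 1 ≤ q) (hd1 : d ∣ q + 1) (hd3 : d ∣ 3) :
    b ^ j = s ^ j ∧ c ^ j = s ^ j := by
  have hs0 : s ≠ 0 := left_ne_zero_of_mul_eq_one hsbc
  have hsq : s ^ (q ^ 2) = s := by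
    conv_rhs => rw [← hs, ← hb, hψ, hψ, inv_pow, inv_inv, ← pow_mul, ← sq]
  have hs1 : s ^ (q ^ 2 - 1) = 1 := by
    have h1 : s ^ (q ^ 2 - 1) * s = 1 * s := by
      rw [← pow_succ, Nat.sub_add_cancel (Nat.one_le_pow _ _ hq), hsq, one_mul]
    exact mul_right_cancel₀ hs0 h1
  set y := s ^ j with hy
  have hyd : y ^ d = 1 := by rw [hy, ← pow_mul, mul_comm, hdj, hs1]
  have hy1 : y ^ (q + 1) = 1 := by
    obtain ⟨e, he⟩ := hd1
    rw [he, pow_mul, hyd, one_pow]
  have hy3 : y ^ 3 = 1 := by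
    obtain ⟨e, he⟩ := hd3
    rw [he, pow_mul, hyd, one_pow]
  have hbj : b ^ j = y := by
    rw [← hb, inv_pow, ← map_pow, ← hy]
    exact fixed_of_pow_succ ψ q hψ y hy1
  refine ⟨hbj, ?_⟩
  have hc : c = (s * b)⁻¹ := by
    apply eq_inv_of_mul_eq_one_right
    rw [← hsbc]
    ring
  rw [hc, inv_pow, mul_pow, hbj, ← hy]
  apply inv_eq_of_mul_eq_one_left
  rw [← hy3]
  ring

/-- the case of an orbit of length three -/
lemma case_three (s b c : L) (hb : (ψ s)⁻¹ = b) (hc : (ψ b)⁻¹ = c) (hsbc : s * (b * c) = 1)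
    (d j : ℕ) (hdj : d * j = q ^ 2 - q + 1) (hq : 1 ≤ q) (hd1 : d ∣ q + 1) :
    b ^ j = s ^ j ∧ c ^ j = s ^ j := by
  have hs0 : s ≠ 0 := left_ne_zero_of_mul_eq_one hsbc
  have hsq0 : s ^ q ≠ 0 := pow_ne_zero _ hs0
  have hcs : c = s ^ (q ^ 2) := by
    rw [← hc, ← hb, hψ, hψ, inv_pow, inv_inv, ← pow_mul, ← sq]
  have hs1 : s ^ (q ^ 2 - q + 1) = 1 := by
    have h1 : s ^ (q ^ 2 - q + 1) * s ^ q = 1 * s ^ q := by
      rw [← pow_add, one_mul]
      have h2 : q ^ 2 - q + 1 + q = q ^ 2 + 1 := by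
        have : q ≤ q ^ 2 := by nlinarith
        omega
      rw [h2, pow_succ, ← hcs]
      have h3 : b = (s ^ q)⁻¹ := by rw [← hb, hψ]
      rw [h3] at hsbc
      field_simp at hsbc
      rw [mul_comm]
      exact hsbc
    exact mul_right_cancel₀ hsq0 h1
  set y := s ^ j with hy
  have hyd : y ^ d = 1 := by rw [hy, ← pow_mul, mul_comm, hdj, hs1]
  have hy1 : y ^ (q + 1) = 1 := by
    obtain ⟨e, he⟩ := hd1
    rw [he, pow_mul, hyd, one_pow]
  have hfix := fixed_of_pow_succ ψ q hψ y hy1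
  have hbj : b ^ j = y := by
    rw [← hb, inv_pow, ← map_pow, ← hy]
    exact hfix
  refine ⟨hbj, ?_⟩
  rw [← hc, inv_pow, ← map_pow, hbj]
  exact hfix

/-- the case of a repeated root -/
lemma case_rep (a c : L) (hac : a ≠ c) (haac : a * (a * c) = 1)
    (hca : (ψ a)⁻¹ = a ∨ (ψ a)⁻¹ = c) (hcc : (ψ c)⁻¹ = a ∨ (ψ c)⁻¹ = c) :
    (ψ a)⁻¹ = a := by
  rcases hca with h | h
  · exact h
  exfalso
  have ha0 : a ≠ 0 := left_ne_zero_of_mul_eq_one haac
  have hinj : ∀ x y : L, (ψ x)⁻¹ = (ψ y)⁻¹ → x = y := fun x y hxy =>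
    ψ.injective (inv_injective hxy)
  have h2 : (ψ c)⁻¹ = a := by
    rcases hcc with h' | h'
    · exact h'
    · exact absurd (hinj _ _ (h.trans h'.symm)) hac
  -- `a ^ q = a ^ 2`
  have h3 : a ^ q = a ^ 2 := by
    have h4 : c = (a ^ q)⁻¹ := by rw [← h, hψ]
    rw [h4] at haac
    have h0 : a ^ q ≠ 0 := pow_ne_zero _ ha0
    field_simp at haac
    exact haac.symm
  have h5 : a = a ^ 4 := by
    conv_lhs => rw [← h2, ← h, hψ, hψ, inv_pow, inv_inv, h3, ← pow_mul, mul_comm, pow_mul, h3]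
    rw [← pow_mul]
  have h6 : a ^ 3 = 1 := by
    have : a * a ^ 3 = a * 1 := by
      rw [mul_one, ← pow_succ']
      exact h5.symm
    exact mul_left_cancel₀ ha0 this
  apply hac
  have h7 : a * (a * a) = 1 := by
    rw [← h6]
    ring
  have h8 : a * a ≠ 0 := mul_ne_zero ha0 ha0
  have h9 : a * a * c = a * a * a := by
    rw [mul_assoc, haac, mul_assoc, h7]
  exact (mul_left_cancel₀ h8 h9).symm

end alg


section main

variable {L : Type*} [Field L] [IsAlgClosed L]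

theorem forward_matrix (p : ℕ) [Fact p.Prime] [CharP L p] (hp : 3 ≤ p) (ψ : L →+* L) (q : ℕ)
    (hψ : ∀ x, ψ x = x ^ q) (hq : 2 ≤ q) (G : Matrix (Fin 3) (Fin 3) L)
    (hGU : (G.map ψ)ᵀ * G = 1) (hdet : G.det = 1) :
    ∃ (N : ℕ) (y : L), (N = q + 1 ∨ N = p * ((q + 1) / Nat.gcd 3 (q + 1)) ∨
      N = (q ^ 2 - 1) / Nat.gcd 3 (q + 1) ∨ N = (q ^ 2 - q + 1) / Nat.gcd 3 (q + 1)) ∧
      G ^ N = y • (1 : Matrix (Fin 3) (Fin 3) L) := by
  classical
  set d := Nat.gcd 3 (q + 1) with hd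
  have hd0 : 0 < d := Nat.gcd_pos_of_pos_left _ (by norm_num)
  have hd1 : d ∣ q + 1 := Nat.gcd_dvd_right _ _
  have hd3 : d ∣ 3 := Nat.gcd_dvd_left _ _
  set R := G.charpoly.roots with hR
  have hR3 : R.card = 3 := by
    rw [hR, ← (IsAlgClosed.splits G.charpoly).natDegree_eq_card_roots,
      Matrix.charpoly_natDegree_eq_dim, Fintype.card_fin]
  have hprod : R.prod = 1 := by rw [hR, ← Matrix.det_eq_prod_roots_charpoly, hdet]
  have hmem : ∀ x, x ∈ R ↔ G.charpoly.IsRoot x := fun x =>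
    Polynomial.mem_roots G.charpoly_monic.ne_zero
  have hclosed : ∀ x ∈ R, (ψ x)⁻¹ ∈ R := by
    intro x hx
    rw [hmem] at hx ⊢
    exact isRoot_of_unitary ψ G hGU x hx
  have hne0 : ∀ x ∈ R, x ≠ 0 := by
    intro x hx h0
    rw [h0] at hx
    have := Multiset.prod_eq_zero hx
    rw [hprod] at this
    exact one_ne_zero this
  have hinj : ∀ x y : L, (ψ x)⁻¹ = (ψ y)⁻¹ → x = y := fun x y hxy =>
    ψ.injective (inv_injective hxy)
  by_cases hnd : R.Nodup
  · by_cases hfix : ∀ x ∈ R, (ψ x)⁻¹ = x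
    · refine ⟨q + 1, 1, Or.inl rfl, ?_⟩
      apply pow_eq_smul_of_nodup G hnd
      intro x hx
      exact pow_succ_of_fixed ψ q hψ x (hne0 x hx) (hfix x hx)
    · push Not at hfix
      obtain ⟨s, hsR, hsb⟩ := hfix
      set b := (ψ s)⁻¹ with hb
      have hbR : b ∈ R := hclosed s hsR
      obtain ⟨t, ht⟩ := Multiset.exists_cons_of_mem hsR
      have hbt : b ∈ t := by
        rw [ht, Multiset.mem_cons] at hbR
        exact hbR.resolve_left hsb
      obtain ⟨t', ht'⟩ := Multiset.exists_cons_of_mem hbt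
      have hc1 : t'.card = 1 := by
        rw [ht, ht', Multiset.card_cons, Multiset.card_cons] at hR3
        omega
      obtain ⟨c, hc⟩ := Multiset.card_eq_one.mp hc1
      have hRe : R = s ::ₘ b ::ₘ {c} := by rw [ht, ht', hc]
      have hsbc : s * (b * c) = 1 := by
        rw [← hprod, hRe]
        simp
      have hbb : (ψ b)⁻¹ ∈ R := hclosed b hbR
      rw [hRe, Multiset.mem_cons, Multiset.mem_cons, Multiset.mem_singleton] at hbb
      have hallR : ∀ (j : ℕ), b ^ j = s ^ j → c ^ j = s ^ j → ∀ x ∈ R, x ^ j = s ^ j := by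
        intro j h1 h2 x hx
        rw [hRe, Multiset.mem_cons, Multiset.mem_cons, Multiset.mem_singleton] at hx
        rcases hx with rfl | rfl | rfl
        · rfl
        · exact h1
        · exact h2
      rcases hbb with h | h | h
      · -- orbit of length two
        obtain ⟨j, hj⟩ : d ∣ q ^ 2 - 1 := by
          have : q ^ 2 - 1 = (q - 1) * (q + 1) := sq_sub_one_eq q (by omega)
          rw [this]
          exact hd1.mul_left _
        have hdiv : (q ^ 2 - 1) / d = j := by rw [hj, Nat.mul_div_cancel_left _ hd0]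
        obtain ⟨h1, h2⟩ := case_two ψ q hψ s b c hb.symm h hsbc d j hj.symm (by omega) hd1 hd3
        refine ⟨j, s ^ j, Or.inr (Or.inr (Or.inl hdiv.symm)), ?_⟩
        exact pow_eq_smul_of_nodup G hnd j _ (hallR j h1 h2)
      · exact absurd (hinj _ _ (h.trans hb)) hsb
      · -- orbit of length three
        obtain ⟨j, hj⟩ : d ∣ q ^ 2 - q + 1 := by
          obtain ⟨r, rfl⟩ : ∃ r, q = r + 2 := ⟨q - 2, by omega⟩
          have h2 : (r + 2) ^ 2 - (r + 2) + 1 = (r + 2 + 1) * r + 3 := by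
            have : (r + 2) ^ 2 = (r + 2 + 1) * r + 2 + (r + 2) := by ring
            omega
          rw [h2]
          exact Nat.dvd_add (hd1.mul_right _) hd3
        have hdiv : (q ^ 2 - q + 1) / d = j := by rw [hj, Nat.mul_div_cancel_left _ hd0]
        obtain ⟨h1, h2⟩ := case_three ψ q hψ s b c hb.symm h hsbc d j hj.symm (by omega) hd1
        refine ⟨j, s ^ j, Or.inr (Or.inr (Or.inr hdiv.symm)), ?_⟩
        exact pow_eq_smul_of_nodup G hnd j _ (hallR j h1 h2)
  · -- a repeated root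
    rw [Multiset.nodup_iff_ne_cons_cons] at hnd
    push Not at hnd
    obtain ⟨a, t, ht⟩ := hnd
    have hc1 : t.card = 1 := by
      rw [ht, Multiset.card_cons, Multiset.card_cons] at hR3
      omega
    obtain ⟨c, hc⟩ := Multiset.card_eq_one.mp hc1
    have hRe : R = a ::ₘ a ::ₘ {c} := by rw [ht, hc]
    have haac : a * (a * c) = 1 := by
      rw [← hprod, hRe]
      simp
    have haR : a ∈ R := by rw [hRe]; exact Multiset.mem_cons_self _ _
    have hcR : c ∈ R := by rw [hRe]; simp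
    have ha0 : a ≠ 0 := hne0 a haR
    have hmemR : ∀ x ∈ R, x = a ∨ x = c := by
      intro x hx
      rw [hRe, Multiset.mem_cons, Multiset.mem_cons, Multiset.mem_singleton] at hx
      rcases hx with h | h | h
      · exact Or.inl h
      · exact Or.inl h
      · exact Or.inr h
    obtain ⟨N₀, hN₀⟩ := hd1
    have hdiv : (q + 1) / d = N₀ := by rw [hN₀, Nat.mul_div_cancel_left _ hd0]
    have hfa : (ψ a)⁻¹ = a := by
      by_cases hac : a = c
      · rcases hmemR _ (hclosed a haR) with h | h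
        · exact h
        · rw [h, hac]
      · exact case_rep ψ q hψ a c hac haac (hmemR _ (hclosed a haR)) (hmemR _ (hclosed c hcR))
    have ha1 : a ^ (q + 1) = 1 := pow_succ_of_fixed ψ q hψ a ha0 hfa
    have ha3 : a ^ (3 * N₀) = 1 := by
      obtain ⟨e, he⟩ := hd3
      have : 3 * N₀ = (q + 1) * e := by rw [he, hN₀]; ring
      rw [this, pow_mul, ha1, one_pow]
    have hcN : c ^ N₀ = a ^ N₀ := by
      have hc' : c = (a * a)⁻¹ := by
        apply eq_inv_of_mul_eq_one_right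
        rw [← haac]
        ring
      rw [hc', inv_pow]
      apply inv_eq_of_mul_eq_one_left
      rw [← ha3, mul_pow]
      ring
    refine ⟨p * N₀, (a ^ N₀) ^ p, Or.inr (Or.inl (by rw [hdiv])), ?_⟩
    exact pow_eq_smul_of_three p hp G a a c hRe N₀ _ rfl rfl hcN

end main

end Cfsg.Agent.Helper42.SU3Spec
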