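import Mathlib
import Cfsg.Agent.Lib.Helper42.SU3Spec5

set_option autoImplicit false
set_option linter.unusedSectionVars false

/-!
# Eigenvalue analysis for `3 × 3` matrices of determinant one over a finite field
-/

namespace Cfsg.Agent.Helper42.PSL3Spec

open Matrix Polynomial Cfsg.Agent.Helper42.UEig Cfsg.Agent.Helper42.SpEig
  Cfsg.Agent.Helper42.SU3Spec

section roots

variable {L : Type*} [Field L] {ι : Type*} [Fintype ι] [DecidableEq ι]

/-- a double root and a simple root with a common power -/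
lemma pow_eq_smul_of_rep [IsAlgClosed L] (p : ℕ) [Fact p.Prime] [CharP L p]
    (G : Matrix ι ι L) (a c : L) (hac : a ≠ c) (hR : G.charpoly.roots = a ::ₘ a ::ₘ {c})
    (N₀ : ℕ) (y : L) (ha : a ^ N₀ = y) (hc : c ^ N₀ = y) :
    G ^ (p * N₀) = (y ^ p) • (1 : Matrix ι ι L) := by
  have hp2 : 2 ≤ p := (Fact.out : p.Prime).two_le
  have h1 : G.charpoly = (X - C a) ^ 2 * (X - C c) := by
    conv_lhs => rw [(IsAlgClosed.splits G.charpoly).eq_prod_roots_of_monic G.charpoly_monic, hR]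
    simp
    ring
  set Q : L[X] := X ^ N₀ - C y with hQ
  have hdvd : ∀ x : L, x ^ N₀ = y → (X - C x) ∣ Q := by
    intro x hx
    rw [Polynomial.dvd_iff_isRoot, IsRoot.def, hQ, eval_sub, eval_pow, eval_X, eval_C, hx, sub_self]
  have hcop : IsCoprime ((X - C a) ^ 2) (X - C c) := by
    apply IsCoprime.pow_left
    apply Polynomial.isCoprime_X_sub_C_of_isUnit_sub
    exact IsUnit.mk0 _ (sub_ne_zero.mpr hac)
  have h3 : G.charpoly ∣ Q ^ p := by
    rw [h1]
    apply hcop.mul_dvd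
    · exact (pow_dvd_pow_of_dvd (hdvd a ha) 2).trans (pow_dvd_pow Q hp2)
    · exact (hdvd c hc).trans (dvd_pow_self Q (by omega))
  have h4 : Q ^ p = X ^ (p * N₀) - C (y ^ p) := by
    rw [hQ, sub_pow_char, ← pow_mul, ← C_pow, mul_comm]
  obtain ⟨S, hS⟩ := h3
  have h5 : aeval G (Q ^ p) = 0 := by
    rw [hS, map_mul, Matrix.aeval_self_charpoly, zero_mul]
  rw [h4, map_sub, map_pow, aeval_X, aeval_C, sub_eq_zero, Algebra.algebraMap_eq_smul_one] at h5
  exact h5

/-- a triple root in characteristic two -/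
lemma pow_four_of_triple [IsAlgClosed L] [CharP L 2]
    (G : Matrix ι ι L) (a : L) (hR : G.charpoly.roots = a ::ₘ a ::ₘ {a}) :
    G ^ 4 = (a ^ 4) • (1 : Matrix ι ι L) := by
  have : Fact (Nat.Prime 2) := ⟨Nat.prime_two⟩
  have h1 : G.charpoly = (X - C a) ^ 3 := by
    conv_lhs => rw [(IsAlgClosed.splits G.charpoly).eq_prod_roots_of_monic G.charpoly_monic, hR]
    simp
    ring
  have h3 : G.charpoly ∣ (X - C a) ^ 4 := by
    rw [h1]
    exact pow_dvd_pow _ (by norm_num)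
  have h4 : (X - C a : L[X]) ^ 4 = X ^ 4 - C (a ^ 4) := by
    have : (4 : ℕ) = 2 ^ 2 := by norm_num
    rw [this, sub_pow_char_pow, ← C_pow]
  obtain ⟨S, hS⟩ := h3
  have h5 : aeval G ((X - C a : L[X]) ^ 4) = 0 := by
    rw [hS, map_mul, Matrix.aeval_self_charpoly, zero_mul]
  rw [h4, map_sub, map_pow, aeval_X, aeval_C, sub_eq_zero, Algebra.algebraMap_eq_smul_one] at h5
  exact h5

end roots

section alg

variable {L : Type*} [Field L] (ψ : L →+* L) (q : ℕ) (hψ : ∀ x, ψ x = x ^ q)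

include hψ

lemma pow_pred_of_fixed (x : L) (hx0 : x ≠ 0) (hq : 1 ≤ q) (hx : ψ x = x) : x ^ (q - 1) = 1 := by
  rw [hψ] at hx
  have h1 : x ^ (q - 1) * x = 1 * x := by
    rw [← pow_succ, Nat.sub_add_cancel hq, hx, one_mul]
  exact mul_right_cancel₀ hx0 h1

lemma fixed_of_pow_pred (y : L) (hq : 1 ≤ q) (hy : y ^ (q - 1) = 1) : ψ y = y := by
  rw [hψ]
  conv_lhs => rw [← Nat.sub_add_cancel hq, pow_succ, hy, one_mul]

/-- the case of an orbit of length two -/
lemma case_two' (s b c : L) (hb : ψ s = b) (hs : ψ b = s) (hsbc : s * (b * c) = 1)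
    (d j : ℕ) (hdj : d * j = q ^ 2 - 1) (hq : 1 ≤ q) (hd1 : d ∣ q - 1) (hd3 : d ∣ 3) :
    b ^ j = s ^ j ∧ c ^ j = s ^ j := by
  have hs0 : s ≠ 0 := left_ne_zero_of_mul_eq_one hsbc
  have hsq : s ^ (q ^ 2) = s := by
    conv_rhs => rw [← hs, ← hb, hψ, hψ, ← pow_mul, ← sq]
  have hs1 : s ^ (q ^ 2 - 1) = 1 := by
    have h1 : s ^ (q ^ 2 - 1) * s = 1 * s := by
      rw [← pow_succ, Nat.sub_add_cancel (Nat.one_le_pow _ _ hq), hsq, one_mul]
    exact mul_right_cancel₀ hs0 h1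
  set y := s ^ j with hy
  have hyd : y ^ d = 1 := by rw [hy, ← pow_mul, mul_comm, hdj, hs1]
  have hy1 : y ^ (q - 1) = 1 := by
    obtain ⟨e, he⟩ := hd1
    rw [he, pow_mul, hyd, one_pow]
  have hy3 : y ^ 3 = 1 := by
    obtain ⟨e, he⟩ := hd3
    rw [he, pow_mul, hyd, one_pow]
  have hbj : b ^ j = y := by
    rw [← hb, ← map_pow, ← hy]
    exact fixed_of_pow_pred ψ q hψ y hq hy1
  refine ⟨hbj, ?_⟩
  have hc : c = (s * b)⁻¹ := by
    apply eq_inv_of_mul_eq_one_right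
    rw [← hsbc]
    ring
  rw [hc, inv_pow, mul_pow, hbj, ← hy]
  apply inv_eq_of_mul_eq_one_left
  rw [← hy3]
  ring

/-- the case of an orbit of length three -/
lemma case_three' (s b c : L) (hb : ψ s = b) (hc : ψ b = c) (hsbc : s * (b * c) = 1)
    (d j : ℕ) (hdj : d * j = q ^ 2 + q + 1) (hq : 1 ≤ q) (hd1 : d ∣ q - 1) :
    b ^ j = s ^ j ∧ c ^ j = s ^ j := by
  have hs1 : s ^ (q ^ 2 + q + 1) = 1 := by
    rw [← hsbc, ← hc, ← hb, hψ, hψ, ← pow_mul, ← sq]
    ring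
  set y := s ^ j with hy
  have hyd : y ^ d = 1 := by rw [hy, ← pow_mul, mul_comm, hdj, hs1]
  have hy1 : y ^ (q - 1) = 1 := by
    obtain ⟨e, he⟩ := hd1
    rw [he, pow_mul, hyd, one_pow]
  have hfix := fixed_of_pow_pred ψ q hψ y hq hy1
  have hbj : b ^ j = y := by
    rw [← hb, ← map_pow, ← hy]
    exact hfix
  refine ⟨hbj, ?_⟩
  rw [← hc, ← map_pow, hbj]
  exact hfix

/-- the case of a repeated root -/
lemma case_rep' (a c : L) (hac : a ≠ c) (haac : a * (a * c) = 1)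
    (hca : ψ a = a ∨ ψ a = c) (hcc : ψ c = a ∨ ψ c = c) : ψ a = a := by
  rcases hca with h | h
  · exact h
  exfalso
  have ha0 : a ≠ 0 := left_ne_zero_of_mul_eq_one haac
  have h2 : ψ c = a := by
    rcases hcc with h' | h'
    · exact h'
    · exact absurd (ψ.injective (h.trans h'.symm)) hac
  have hc' : c = (a * a)⁻¹ := by
    apply eq_inv_of_mul_eq_one_right
    rw [← haac]
    ring
  -- `a = a ^ 4`
  have h5 : a = ((a * a) * (a * a)) := by
    conv_lhs => rw [← h2, hc', map_inv₀, map_mul, h, hc', ← mul_inv, inv_inv]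
  have h6 : a * (a * a) = 1 := by
    have : a * (a * (a * a)) = a * 1 := by
      rw [mul_one]
      conv_rhs => rw [h5]
      ring
    exact mul_left_cancel₀ ha0 this
  apply hac
  have h8 : a * a ≠ 0 := mul_ne_zero ha0 ha0
  have h9 : a * a * c = a * a * a := by
    rw [mul_assoc, haac, mul_assoc, h6]
  exact (mul_left_cancel₀ h8 h9).symm

end alg

end Cfsg.Agent.Helper42.PSL3Spec
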