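import Mathlib
import Cfsg.Agent.Lib.Helper42.UEig2
import Cfsg.Agent.Lib.Helper42.UEig3
import Cfsg.Agent.Lib.Helper42.SUReg9
import Cfsg.Agent.Lib.Helper63.PSUCent

set_option autoImplicit false
set_option linter.unusedSectionVars false

/-!
# Elements of order `q^m ± 1` in `PSU_{2m}(q)`: the necessary condition
-/

namespace Cfsg.Agent.Helper42.UEig

open Matrix Polynomial Cfsg.Agent.Helper42.SUReg Cfsg.Agent.Helper63.PSUCent
  Cfsg.Agent.Helper42.SingerOrd

variable {F : Type*} [Field F] [Fintype F] {q : ℕ}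

/-- a matrix over `F` which becomes scalar over an extension is scalar -/
lemma scalar_of_map_scalar {L : Type*} [Field L] (f : F →+* L) {n : ℕ} (hn : 0 < n)
    (X : Matrix (Fin n) (Fin n) F) (c : L) (h : f.mapMatrix X = c • (1 : Matrix (Fin n) (Fin n) L)) :
    ∃ c₀ : F, f c₀ = c ∧ X = c₀ • (1 : Matrix (Fin n) (Fin n) F) := by
  have hent : ∀ a b, f (X a b) = if a = b then c else 0 := by
    intro a b
    have := congrFun (congrFun h a) b
    rw [RingHom.mapMatrix_apply, Matrix.map_apply, Matrix.smul_apply, Matrix.one_apply] at this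
    rw [this]
    split_ifs <;> simp
  refine ⟨X ⟨0, hn⟩ ⟨0, hn⟩, ?_, ?_⟩
  · rw [hent, if_pos rfl]
  · ext a b
    rw [Matrix.smul_apply, Matrix.one_apply]
    apply f.injective
    rw [hent]
    by_cases hab : a = b
    · rw [if_pos hab, if_pos hab, smul_eq_mul, mul_one, hent, if_pos rfl]
    · rw [if_neg hab, if_neg hab, smul_zero, map_zero]

theorem forward (hF : Fintype.card F = q ^ 2) (hodd : Odd q) {n m : ℕ} (hnm : n = 2 * m)
    (hm : 2 ≤ m) (x : Cfsg.PSU n F q)
    (hx : orderOf x = if Even m then q ^ m + 1 else q ^ m - 1) :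
    2 ^ padicValNat 2 (q + 1) ∣ m := by
  classical
  subst hnm
  obtain ⟨p, hp, hc, k, hqk⟩ := Cfsg.Agent.Helper19.herm_q_eq_pow hF
  have hq2 := Cfsg.Agent.Helper19.herm_two_le hF
  have hq3 : 3 ≤ q := by
    obtain ⟨t, ht⟩ := hodd
    omega
  have hq1 : 1 ≤ q := by omega
  have hQm : 3 ≤ q ^ m := by
    calc 3 ≤ q := hq3
      _ = q ^ 1 := (pow_one q).symm
      _ ≤ q ^ m := Nat.pow_le_pow_right hq1 (by omega)
  set N := if Even m then q ^ m + 1 else q ^ m - 1 with hN
  have hNpos : 0 < N := by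
    rw [hN]
    split_ifs <;> omega
  have hNeven : Even N := by
    have h1 : Odd (q ^ m) := hodd.pow
    rw [hN]
    split_ifs
    · exact h1.add_one
    · obtain ⟨t, ht⟩ := h1
      exact ⟨t, by omega⟩
  obtain ⟨r, hr, hrN, hrq1, hrq, heven, hoddd⟩ := exists_prime q m hodd hq3 hm
  rw [← hN] at hrN
  -- the algebraic closure and the Frobenius map
  let L := AlgebraicClosure F
  let f : F →+* L := algebraMap F L
  have hcL : CharP L p := charP_of_injective_algebraMap f.injective p
  have heL : ExpChar L p := ExpChar.prime hp.out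
  let ψ : L →+* L := iterateFrobenius L p k
  have hψ : ∀ y, ψ y = y ^ q := fun y => by
    rw [hqk]
    rfl
  have hrL : (r : L) ≠ 0 := by
    intro h
    have h1 := (CharP.cast_eq_zero_iff L p r).mp h
    have h2 : p = r := (Nat.prime_dvd_prime_iff_eq hp.out hr).mp h1
    apply hrq
    rw [hqk, ← h2]
    apply dvd_pow_self
    rintro rfl
    rw [pow_zero] at hqk
    omega
  obtain ⟨g, rfl⟩ := QuotientGroup.mk_surjective x
  set gm := mat g with hgm
  set G : Matrix (Fin (2 * m)) (Fin (2 * m)) L := f.mapMatrix gm with hG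
  have hGU : (G.map ψ)ᵀ * G = 1 := by
    have h1 : ad hF gm * gm = 1 := matS_isU hF g
    have h2 := congrArg f.mapMatrix h1
    rw [map_mul, map_one] at h2
    rw [← h2]
    congr 1
    ext i j
    simp only [Matrix.transpose_apply, Matrix.map_apply, hG, RingHom.mapMatrix_apply, hψ, ad_apply,
      map_pow]
  have hGpow : ∀ j, G ^ j = f.mapMatrix (gm ^ j) := fun j => (map_pow _ _ _).symm
  have hsmul : ∀ c : F, f.mapMatrix (c • (1 : Matrix (Fin (2 * m)) (Fin (2 * m)) F)) =
      f c • (1 : Matrix (Fin (2 * m)) (Fin (2 * m)) L) := by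
    intro c
    ext i j
    simp only [RingHom.mapMatrix_apply, Matrix.map_apply, Matrix.smul_apply, Matrix.one_apply,
      smul_eq_mul]
    split_ifs <;> simp
  have hmk : ∀ j, ((QuotientGroup.mk g : Cfsg.PSU (2 * m) F q) ^ j = 1 ↔
      g ^ j ∈ Subgroup.center (Cfsg.SU (2 * m) F q)) := by
    intro j
    rw [← QuotientGroup.mk_pow, QuotientGroup.eq_one_iff]
  -- the scalar `g ^ N`
  have hx1 : g ^ N ∈ Subgroup.center (Cfsg.SU (2 * m) F q) := by
    rw [← hmk, ← hx, pow_orderOf_eq_one]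
  obtain ⟨c, hc1, hc2⟩ := exists_scalar_of_mem_center hF (by omega) _ hx1
  rw [mat_pow] at hc2
  have hGN : G ^ N = f c • (1 : Matrix (Fin (2 * m)) (Fin (2 * m)) L) := by
    rw [hGpow, hc2, hsmul]
  obtain ⟨N₁, hN₁⟩ := hrN
  have hN₁0 : 0 < N₁ := by
    rcases Nat.eq_zero_or_pos N₁ with h0 | h0
    · rw [h0, mul_zero] at hN₁
      omega
    · exact h0
  set t := N₁ * (q + 1) with ht
  have hGtr : G ^ (t * r) = 1 := by
    have : t * r = N * (q + 1) := by
      rw [ht, hN₁]
      ring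
    rw [this, pow_mul, hGN, _root_.smul_pow, one_pow, ← map_pow, hc1, map_one, one_smul]
  have hGt : G ^ t ≠ 1 := by
    intro h
    rw [hGpow] at h
    have h1 : gm ^ t = 1 := by
      apply Matrix.map_injective f.injective
      have h2 : f.mapMatrix (1 : Matrix (Fin (2 * m)) (Fin (2 * m)) F) = 1 := map_one _
      exact h.trans h2.symm
    have h2 : g ^ t = 1 := by
      apply mat_injective
      rw [mat_pow, mat_one]
      exact h1
    have h3 : (QuotientGroup.mk g : Cfsg.PSU (2 * m) F q) ^ t = 1 := by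
      rw [← QuotientGroup.mk_pow, h2]
      rfl
    have h4 := orderOf_dvd_of_pow_eq_one h3
    rw [hx, hN₁, ht, mul_comm r N₁] at h4
    exact hrq1 (Nat.dvd_of_mul_dvd_mul_left hN₁0 h4)
  obtain ⟨s, hsroot, hsum⟩ := exists_root_of_pow G t r hGtr hGt
  have hμ : orderOf (s ^ t) = r := orderOf_of_geom_sum _ r hr hrL hsum
  have hμ0 : s ^ t ≠ 0 := by
    intro h0
    have h1 := pow_orderOf_eq_one (s ^ t)
    rw [hμ, h0, zero_pow hr.ne_zero] at h1
    exact zero_ne_one h1
  have hs0 : s ≠ 0 := by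
    rintro rfl
    apply hμ0
    exact zero_pow (by positivity)
  have hcard : Fintype.card (Fin (2 * m)) = 2 * m := Fintype.card_fin _
  have hroots : ∀ i < Fintype.card (Fin (2 * m)), G.charpoly.IsRoot (orb ψ s i) :=
    fun i _ => isRoot_orb ψ G hGU s hsroot i
  have hinj : ∀ i < Fintype.card (Fin (2 * m)), ∀ j < Fintype.card (Fin (2 * m)),
      orb ψ s i = orb ψ s j → i = j := by
    intro i hi j hj hij
    rw [hcard] at hi hj
    apply orb_distinct ψ q hq1 hψ (s ^ t) hμ0 r (2 * m) hμ heven hoddd i j hi hj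
    rw [orb_pow, orb_pow, hij]
  -- the determinant
  have hdet : G.det = 1 := by
    rw [hG, ← RingHom.map_det]
    have : gm.det = 1 := matS_det g
    rw [this, map_one]
  have hM : s ^ ((q - 1) * ∑ k ∈ Finset.range m, (q ^ 2) ^ k) = 1 := by
    have h1 := det_eq_prod G (orb ψ s) hroots hinj
    rw [hdet, hcard] at h1
    have h2 := prod_orb ψ q hq1 hψ s hs0 m
    rw [← h1, one_mul] at h2
    exact h2
  -- the key equivalence
  have key : ∀ j : ℕ, N ∣ j ↔ orderOf s ∣ j * (q + 1) := by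
    intro j
    rw [← hx, orderOf_dvd_iff_pow_eq_one, orderOf_dvd_iff_pow_eq_one, hmk]
    constructor
    · intro hj
      obtain ⟨c', hc'1, hc'2⟩ := exists_scalar_of_mem_center hF (by omega) _ hj
      rw [mat_pow] at hc'2
      have h1 : G ^ j = f c' • (1 : Matrix (Fin (2 * m)) (Fin (2 * m)) L) := by
        rw [hGpow, hc'2, hsmul]
      have h2 := pow_eq_of_isRoot G s hsroot j _ h1
      rw [pow_mul, h2, ← map_pow, hc'1, map_one]
    · intro hj
      rw [pow_mul] at hj
      have h1 : G ^ j = (s ^ j) • (1 : Matrix (Fin (2 * m)) (Fin (2 * m)) L) :=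
        pow_eq_smul_of_roots G (orb ψ s) hroots hinj j _ fun i _ =>
          orb_pow_eq ψ q hψ s j hj i
      rw [hGpow] at h1
      obtain ⟨c₀, -, hc₀⟩ := scalar_of_map_scalar f (by omega) _ _ h1
      apply mem_center_of_scalar _ c₀
      rw [mat_pow]
      exact hc₀
  -- arithmetic
  set a := padicValNat 2 (q + 1) with ha
  have h2a : 2 ^ a ∣ q + 1 := pow_padicValNat_dvd
  have ha1 : 1 ≤ a := by
    apply one_le_padicValNat_of_dvd (by omega)
    obtain ⟨t, ht⟩ := hodd
    exact ⟨t + 1, by omega⟩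
  have hq21 : q + 2 - 1 = q + 1 := rfl
  have hoN : orderOf s ∣ N * (q + 2 - 1) := by
    rw [hq21]
    exact (key N).mp dvd_rfl
  have hmin : ∀ j, orderOf s ∣ j * (q + 2 - 1) → N ∣ j := fun j hj => (key j).mpr hj
  by_cases hme : Even m
  · obtain ⟨m', hm'⟩ := hme
    have hm2 : m = 2 * m' := by omega
    have hNe : N = q ^ (2 * m') + 1 := by
      rw [hN, if_pos ⟨m', hm'⟩, hm2]
    have hfac := M_even q m' hq1
    rw [← hm2] at hfac
    have hoNS : orderOf s ∣ N * ((q - 1) * ∑ k ∈ Finset.range m', (q ^ 2) ^ k) := by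
      rw [hNe, ← hm2, ← hfac]
      exact orderOf_dvd_of_pow_eq_one hM
    have h1 := two_pow_dvd_of_order N _ (q + 2) (orderOf s) a hNeven hNpos hoNS hoN hmin h2a
    rw [hm2]
    exact (two_pow_dvd_iff q m' a hodd h2a ha1).mp h1
  · exfalso
    obtain ⟨R, hRodd, hR⟩ := M_odd q m hodd (Nat.not_even_iff_odd.mp hme)
    have hNe : N = q ^ m - 1 := by rw [hN, if_neg hme]
    have hoNS : orderOf s ∣ N * R := by
      rw [hNe, ← hR]
      exact orderOf_dvd_of_pow_eq_one hM
    have h1 := two_pow_dvd_of_order N R (q + 2) (orderOf s) a hNeven hNpos hoNS hoN hmin h2a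
    have h2 : 2 ∣ R := (dvd_pow_self 2 (by omega)).trans h1
    obtain ⟨w, hw⟩ := hRodd
    omega

end Cfsg.Agent.Helper42.UEig
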