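import Mathlib
import Cfsg.Agent.Lib.Helper42.PSL3Spec2
import Cfsg.Agent.Lib.Helper42.PSL3Spec3
import Cfsg.Agent.Lib.Helper42.UEig4

set_option autoImplicit false
set_option linter.unusedSectionVars false

/-!
# The spectrum of `PSL_3(q)`
-/

namespace Cfsg.Agent.Helper42.PSL3Spec

open Matrix Polynomial Cfsg.Agent.Helper42.UEig Cfsg.Agent.Helper42.SpEig
  Cfsg.Agent.Helper42.SU3Spec Cfsg.Agent.Helper42.PrimeCent

section arith

lemma d_dvd_singer (q : ℕ) (hq : 1 ≤ q) : Nat.gcd 3 (q - 1) ∣ q ^ 2 + q + 1 := by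
  obtain ⟨r, rfl⟩ : ∃ r, q = r + 1 := ⟨q - 1, by omega⟩
  have h1 : r + 1 - 1 = r := by omega
  have h2 : (r + 1) ^ 2 + (r + 1) + 1 = r * (r + 3) + 3 := by ring
  rw [h1, h2]
  exact Nat.dvd_add ((Nat.gcd_dvd_right _ _).mul_right _) (Nat.gcd_dvd_left _ _)

lemma d_dvd_sq (q : ℕ) (hq : 1 ≤ q) : Nat.gcd 3 (q - 1) ∣ q ^ 2 - 1 := by
  have : q ^ 2 - 1 = (q - 1) * (q + 1) := sq_sub_one_eq q hq
  rw [this]
  exact (Nat.gcd_dvd_right _ _).mul_right _

end arith

section main

variable {L : Type*} [Field L] [IsAlgClosed L]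

theorem forward_matrix' (p : ℕ) [Fact p.Prime] [CharP L p] (ψ : L →+* L) (q : ℕ)
    (hψ : ∀ x, ψ x = x ^ q) (hq : 2 ≤ q) (G : Matrix (Fin 3) (Fin 3) L)
    (hcl : ∀ x, G.charpoly.IsRoot x → G.charpoly.IsRoot (ψ x)) (hdet : G.det = 1) :
    ∃ (N : ℕ) (y : L), (N = q - 1 ∨ N = p * ((q - 1) / Nat.gcd 3 (q - 1)) ∨
      N = (q ^ 2 - 1) / Nat.gcd 3 (q - 1) ∨ N = (q ^ 2 + q + 1) / Nat.gcd 3 (q - 1) ∨
      (p = 2 ∧ N = 4)) ∧
      G ^ N = y • (1 : Matrix (Fin 3) (Fin 3) L) := by
  classical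
  set d := Nat.gcd 3 (q - 1) with hd
  have hd0 : 0 < d := Nat.gcd_pos_of_pos_left _ (by norm_num)
  have hd1 : d ∣ q - 1 := Nat.gcd_dvd_right _ _
  have hd3 : d ∣ 3 := Nat.gcd_dvd_left _ _
  set R := G.charpoly.roots with hR
  have hR3 : R.card = 3 := by
    rw [hR, ← (IsAlgClosed.splits G.charpoly).natDegree_eq_card_roots,
      Matrix.charpoly_natDegree_eq_dim, Fintype.card_fin]
  have hprod : R.prod = 1 := by rw [hR, ← Matrix.det_eq_prod_roots_charpoly, hdet]
  have hmem : ∀ x, x ∈ R ↔ G.charpoly.IsRoot x := fun x =>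
    Polynomial.mem_roots G.charpoly_monic.ne_zero
  have hclosed : ∀ x ∈ R, ψ x ∈ R := by
    intro x hx
    rw [hmem] at hx ⊢
    exact hcl x hx
  have hne0 : ∀ x ∈ R, x ≠ 0 := by
    intro x hx h0
    rw [h0] at hx
    have := Multiset.prod_eq_zero hx
    rw [hprod] at this
    exact one_ne_zero this
  by_cases hnd : R.Nodup
  · by_cases hfix : ∀ x ∈ R, ψ x = x
    · refine ⟨q - 1, 1, Or.inl rfl, ?_⟩
      apply pow_eq_smul_of_nodup G hnd
      intro x hx
      exact pow_pred_of_fixed ψ q hψ x (hne0 x hx) (by omega) (hfix x hx)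
    · push Not at hfix
      obtain ⟨s, hsR, hsb⟩ := hfix
      set b := ψ s with hb
      have hbR : b ∈ R := hclosed s hsR
      obtain ⟨t, ht⟩ := Multiset.exists_cons_of_mem hsR
      have hbt : b ∈ t := by
        rw [ht, Multiset.mem_cons] at hbR
        exact hbR.resolve_left hsb
      obtain ⟨t', ht'⟩ := Multiset.exists_cons_of_mem hbt
      have hc1 : t'.card = 1 := by
        rw [ht, ht', Multiset.card_cons, Multiset.card_cons] at hR3
        omega
      obtain ⟨c, hc⟩ := Multiset.card_eq_one.mp hc1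
      have hRe : R = s ::ₘ b ::ₘ {c} := by rw [ht, ht', hc]
      have hsbc : s * (b * c) = 1 := by
        rw [← hprod, hRe]
        simp
      have hbb : ψ b ∈ R := hclosed b hbR
      rw [hRe, Multiset.mem_cons, Multiset.mem_cons, Multiset.mem_singleton] at hbb
      have hallR : ∀ (j : ℕ), b ^ j = s ^ j → c ^ j = s ^ j → ∀ x ∈ R, x ^ j = s ^ j := by
        intro j h1 h2 x hx
        rw [hRe, Multiset.mem_cons, Multiset.mem_cons, Multiset.mem_singleton] at hx
        rcases hx with rfl | rfl | rfl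
        · rfl
        · exact h1
        · exact h2
      rcases hbb with h | h | h
      · -- orbit of length two
        obtain ⟨j, hj⟩ : d ∣ q ^ 2 - 1 := d_dvd_sq q (by omega)
        have hdiv : (q ^ 2 - 1) / d = j := by rw [hj, Nat.mul_div_cancel_left _ hd0]
        obtain ⟨h1, h2⟩ := case_two' ψ q hψ s b c hb.symm h hsbc d j hj.symm (by omega) hd1 hd3
        refine ⟨j, s ^ j, Or.inr (Or.inr (Or.inl hdiv.symm)), ?_⟩
        exact pow_eq_smul_of_nodup G hnd j _ (hallR j h1 h2)
      · exact absurd (ψ.injective (h.trans hb)) hsb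
      · -- orbit of length three
        obtain ⟨j, hj⟩ : d ∣ q ^ 2 + q + 1 := d_dvd_singer q (by omega)
        have hdiv : (q ^ 2 + q + 1) / d = j := by rw [hj, Nat.mul_div_cancel_left _ hd0]
        obtain ⟨h1, h2⟩ := case_three' ψ q hψ s b c hb.symm h hsbc d j hj.symm (by omega) hd1
        refine ⟨j, s ^ j, Or.inr (Or.inr (Or.inr (Or.inl hdiv.symm))), ?_⟩
        exact pow_eq_smul_of_nodup G hnd j _ (hallR j h1 h2)
  · -- a repeated root
    rw [Multiset.nodup_iff_ne_cons_cons] at hnd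
    push Not at hnd
    obtain ⟨a, t, ht⟩ := hnd
    have hc1 : t.card = 1 := by
      rw [ht, Multiset.card_cons, Multiset.card_cons] at hR3
      omega
    obtain ⟨c, hc⟩ := Multiset.card_eq_one.mp hc1
    have hRe : R = a ::ₘ a ::ₘ {c} := by rw [ht, hc]
    have haac : a * (a * c) = 1 := by
      rw [← hprod, hRe]
      simp
    have haR : a ∈ R := by rw [hRe]; exact Multiset.mem_cons_self _ _
    have hcR : c ∈ R := by rw [hRe]; simp
    have ha0 : a ≠ 0 := hne0 a haR
    have hmemR : ∀ x ∈ R, x = a ∨ x = c := by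
      intro x hx
      rw [hRe, Multiset.mem_cons, Multiset.mem_cons, Multiset.mem_singleton] at hx
      rcases hx with h | h | h
      · exact Or.inl h
      · exact Or.inl h
      · exact Or.inr h
    obtain ⟨N₀, hN₀⟩ := hd1
    have hdiv : (q - 1) / d = N₀ := by rw [hN₀, Nat.mul_div_cancel_left _ hd0]
    have hfa : ψ a = a := by
      by_cases hac : a = c
      · rcases hmemR _ (hclosed a haR) with h | h
        · exact h
        · rw [h, hac]
      · exact case_rep' ψ q hψ a c hac haac (hmemR _ (hclosed a haR)) (hmemR _ (hclosed c hcR))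
    have ha1 : a ^ (q - 1) = 1 := pow_pred_of_fixed ψ q hψ a ha0 (by omega) hfa
    have ha3 : a ^ (3 * N₀) = 1 := by
      obtain ⟨e, he⟩ := hd3
      have : 3 * N₀ = (q - 1) * e := by rw [he, hN₀]; ring
      rw [this, pow_mul, ha1, one_pow]
    have hcN : c ^ N₀ = a ^ N₀ := by
      have hc' : c = (a * a)⁻¹ := by
        apply eq_inv_of_mul_eq_one_right
        rw [← haac]
        ring
      rw [hc', inv_pow]
      apply inv_eq_of_mul_eq_one_left
      rw [← ha3, mul_pow]
      ring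
    by_cases hac : a = c
    · by_cases hp2 : p = 2
      · subst hp2
        refine ⟨4, a ^ 4, Or.inr (Or.inr (Or.inr (Or.inr ⟨rfl, rfl⟩))), ?_⟩
        apply pow_four_of_triple G a
        rw [← hR, hRe, ← hac]
      · have hp3 : 3 ≤ p := by
          have := (Fact.out : p.Prime).two_le
          omega
        refine ⟨p * N₀, (a ^ N₀) ^ p, Or.inr (Or.inl (by rw [hdiv])), ?_⟩
        exact pow_eq_smul_of_three p hp3 G a a c hRe N₀ _ rfl rfl hcN
    · refine ⟨p * N₀, (a ^ N₀) ^ p, Or.inr (Or.inl (by rw [hdiv])), ?_⟩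
      exact pow_eq_smul_of_rep p G a c hac hRe N₀ _ rfl hcN

end main

section group

variable {F : Type*} [Field F] [Fintype F]

theorem forward' (p : ℕ) [Fact p.Prime] [CharP F p]
    (x : Matrix.ProjectiveSpecialLinearGroup (Fin 3) F) :
    orderOf x ∣ (Fintype.card F ^ 2 + Fintype.card F + 1) / Nat.gcd 3 (Fintype.card F - 1) ∨
      orderOf x ∣ (Fintype.card F ^ 2 - 1) / Nat.gcd 3 (Fintype.card F - 1) ∨
      orderOf x ∣ Fintype.card F - 1 ∨
      orderOf x ∣ p * (Fintype.card F - 1) / Nat.gcd 3 (Fintype.card F - 1) ∨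
      (p = 2 ∧ orderOf x ∣ 4) := by
  classical
  set q := Fintype.card F with hq
  have hq2 : 2 ≤ q := Fintype.one_lt_card
  obtain ⟨k, -, hk⟩ := FiniteField.card F p
  let L := AlgebraicClosure F
  let f : F →+* L := algebraMap F L
  have hcL : CharP L p := charP_of_injective_algebraMap f.injective p
  have heL : ExpChar L p := ExpChar.prime Fact.out
  let ψ : L →+* L := iterateFrobenius L p (k : ℕ)
  have hψ : ∀ y, ψ y = y ^ q := fun y => by
    rw [hq, hk]
    rfl
  obtain ⟨g, rfl⟩ := QuotientGroup.mk_surjective x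
  set gm : Matrix (Fin 3) (Fin 3) F := g.val with hgm
  set G : Matrix (Fin 3) (Fin 3) L := f.mapMatrix gm with hG
  have hGpow : ∀ j, G ^ j = f.mapMatrix (gm ^ j) := fun j => (map_pow _ _ _).symm
  have hdet : G.det = 1 := by
    rw [hG, ← RingHom.map_det]
    have : gm.det = 1 := g.2
    rw [this, map_one]
  have hcl : ∀ y, G.charpoly.IsRoot y → G.charpoly.IsRoot (ψ y) := by
    intro y hy
    rw [hψ]
    exact isRoot_pow_card gm y hy
  obtain ⟨N, y, hN, hGN⟩ := forward_matrix' p ψ q hψ hq2 G hcl hdet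
  have hval : ∀ j : ℕ, (g ^ j).val = gm ^ j := by
    intro j
    induction j with
    | zero => rfl
    | succ j ih =>
      rw [pow_succ, pow_succ, ← ih]
      rfl
  have hord : orderOf (QuotientGroup.mk g : Matrix.ProjectiveSpecialLinearGroup (Fin 3) F) ∣ N := by
    apply orderOf_dvd_of_pow_eq_one
    rw [← QuotientGroup.mk_pow, QuotientGroup.eq_one_iff]
    rw [hGpow] at hGN
    obtain ⟨c₀, -, hc₀⟩ := scalar_of_map_scalar f (by norm_num) _ _ hGN
    apply mem_center_of_scalar _ c₀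
    rw [hval]
    exact hc₀
  rcases hN with h | h | h | h | ⟨h1, h⟩
  · right; right; left
    rw [← h]
    exact hord
  · right; right; right; left
    rw [Nat.mul_div_assoc _ (Nat.gcd_dvd_right _ _), ← h]
    exact hord
  · right; left
    rw [← h]
    exact hord
  · left
    rw [← h]
    exact hord
  · right; right; right; right
    refine ⟨h1, ?_⟩
    rw [← h]
    exact hord

theorem spectrum' (p : ℕ) [Fact p.Prime] [CharP F p] :
    Set.range (orderOf : Matrix.ProjectiveSpecialLinearGroup (Fin 3) F → ℕ) =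
      {m : ℕ | m ∣ (Fintype.card F ^ 2 + Fintype.card F + 1) / Nat.gcd 3 (Fintype.card F - 1) ∨
        m ∣ (Fintype.card F ^ 2 - 1) / Nat.gcd 3 (Fintype.card F - 1) ∨ m ∣ Fintype.card F - 1 ∨
        m ∣ p * (Fintype.card F - 1) / Nat.gcd 3 (Fintype.card F - 1) ∨ (p = 2 ∧ m ∣ 4)} := by
  have hq2 : 2 ≤ Fintype.card F := Fintype.one_lt_card
  have hd0 : 0 < Nat.gcd 3 (Fintype.card F - 1) := Nat.gcd_pos_of_pos_left _ (by norm_num)
  have hd1 : Nat.gcd 3 (Fintype.card F - 1) ∣ Fintype.card F - 1 := Nat.gcd_dvd_right _ _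
  have hpos : ∀ n : ℕ, 0 < n → Nat.gcd 3 (Fintype.card F - 1) ∣ n →
      0 < n / Nat.gcd 3 (Fintype.card F - 1) := by
    intro n hn hdn
    exact Nat.div_pos (Nat.le_of_dvd hn hdn) hd0
  ext s
  simp only [Set.mem_range, Set.mem_ofPred_eq]
  constructor
  · rintro ⟨x, rfl⟩
    exact forward' p x
  · rintro (h | h | h | h | ⟨h2, h⟩)
    · obtain ⟨x, hx⟩ := exists_order_singer (F := F) p
      exact exists_orderOf_of_dvd x _ s hx (hpos _ (by positivity)
        (d_dvd_singer _ (by omega))) h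
    · obtain ⟨x, hx⟩ := exists_order_quad (F := F) p
      refine exists_orderOf_of_dvd x _ s hx (hpos _ ?_ (d_dvd_sq _ (by omega))) h
      have : 1 < Fintype.card F ^ 2 := Nat.one_lt_pow (by norm_num) (by omega)
      omega
    · obtain ⟨x, hx⟩ := exists_order_torus (F := F)
      exact exists_orderOf_of_dvd x _ s hx (by omega) h
    · obtain ⟨x, hx⟩ := exists_order_upper (F := F) p
      refine exists_orderOf_of_dvd x _ s hx ?_ h
      rw [Nat.mul_div_assoc _ hd1]
      exact Nat.mul_pos (Fact.out : p.Prime).pos (hpos _ (by omega) hd1)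
    · subst h2
      obtain ⟨x, hx⟩ := exists_order_four_char_two (F := F)
      exact exists_orderOf_of_dvd x _ s hx (by norm_num) h

end group

end Cfsg.Agent.Helper42.PSL3Spec
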