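import Mathlib
import Cfsg.Agent.Lib.Helper42.PrimeCent4

set_option autoImplicit false

namespace Cfsg.Agent.Helper42.PrimeCent

open Module Matrix

variable {F : Type*} [Field F] [Fintype F]

/-- an element of `GL_n(q)` of order coprime to `q - 1` gives an element of the same order in
`PSL_n(q)` -/
theorem exists_PSL_orderOf {n : ℕ} (g : GL (Fin n) F) (m : ℕ) (hg : orderOf g = m)
    (hcop : m.Coprime (Fintype.card F - 1)) :
    ∃ x : Matrix.ProjectiveSpecialLinearGroup (Fin n) F, orderOf x = m := by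
  have hq : Nat.card Fˣ = Fintype.card F - 1 := by
    rw [Nat.card_units, Nat.card_eq_fintype_card]
  -- determinant one
  have hdet : Matrix.GeneralLinearGroup.det g = 1 := by
    have h1 : (Matrix.GeneralLinearGroup.det g) ^ m = 1 := by
      rw [← map_pow, ← hg, pow_orderOf_eq_one, map_one]
    have h2 : (Matrix.GeneralLinearGroup.det g) ^ (Fintype.card F - 1) = 1 := by
      rw [← hq]; exact pow_card_eq_one'
    have h3 := orderOf_dvd_of_pow_eq_one h1
    have h4 := orderOf_dvd_of_pow_eq_one h2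
    have h5 : orderOf (Matrix.GeneralLinearGroup.det g) ∣ 1 := by
      rw [← Nat.Coprime.gcd_eq_one hcop]
      exact Nat.dvd_gcd h3 h4
    exact orderOf_eq_one_iff.mp (Nat.dvd_one.mp h5)
  have hdet' : g.val.det = 1 := by
    have := congrArg Units.val hdet
    simpa using this
  set g' : Matrix.SpecialLinearGroup (Fin n) F := ⟨g.val, hdet'⟩ with hg'
  have hg'ord : orderOf g' = m := by
    rw [← hg, ← orderOf_injective (Matrix.SpecialLinearGroup.toGL)
      Matrix.SpecialLinearGroup.toGL_injective g']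
    congr 1
    exact Units.ext rfl
  refine ⟨QuotientGroup.mk g', ?_⟩
  rw [← hg'ord, orderOf_eq_orderOf_iff]
  intro i
  rw [← QuotientGroup.mk_pow, QuotientGroup.eq_one_iff]
  constructor
  · intro h
    rcases Nat.eq_zero_or_pos n with hn | hn
    · subst hn; exact Subsingleton.elim _ _
    obtain ⟨c, hcn, hc⟩ := exists_scalar_of_mem_center _ h
    -- (g'^i)^(q-1) = 1
    have hc0 : c ≠ 0 := by
      rintro rfl
      rw [zero_pow hn.ne'] at hcn
      exact zero_ne_one hcn
    have h1 : (g' ^ i) ^ (Fintype.card F - 1) = 1 := by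
      apply Subtype.ext
      rw [Matrix.SpecialLinearGroup.coe_pow, hc, smul_pow, one_pow, Matrix.SpecialLinearGroup.coe_one]
      have : c ^ (Fintype.card F - 1) = 1 := FiniteField.pow_card_sub_one_eq_one c hc0
      rw [this, one_smul]
    have h2 : (g' ^ i) ^ m = 1 := by
      rw [← pow_mul, mul_comm, pow_mul, ← hg'ord, pow_orderOf_eq_one, one_pow]
    have h3 := orderOf_dvd_of_pow_eq_one h1
    have h4 := orderOf_dvd_of_pow_eq_one h2
    have h5 : orderOf (g' ^ i) ∣ 1 := by
      rw [← Nat.Coprime.gcd_eq_one hcop]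
      exact Nat.dvd_gcd h4 h3
    exact orderOf_eq_one_iff.mp (Nat.dvd_one.mp h5)
  · intro h
    rw [h]; exact Subgroup.one_mem _

/-- a prime `s ≠ p` dividing `|PSL_n(q)|` divides `q^i - 1` for some `1 ≤ i ≤ n` -/
theorem exists_dvd_pow_sub_one_of_dvd_card_PSL (p : ℕ) [Fact p.Prime] [CharP F p] (n : ℕ) (hn : 0 < n)
    (s : ℕ) (hs : s.Prime) (hsp : s ≠ p)
    (h : s ∣ Nat.card (Matrix.ProjectiveSpecialLinearGroup (Fin n) F)) :
    ∃ i, 1 ≤ i ∧ i ≤ n ∧ s ∣ Fintype.card F ^ i - 1 := by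
  have hp : p.Prime := Fact.out
  set q := Fintype.card F with hq
  have h1 := Cfsg.Agent.Helper5.card_PSL_mul (F := F) rfl n hn
  have h2 : s ∣ ∏ i : Fin n, (q ^ n - q ^ (i : ℕ)) := by
    rw [← h1]
    exact (h.mul_right _).mul_right _
  obtain ⟨i, _, hi⟩ := (Prime.dvd_finsetProd_iff hs.prime _).mp h2
  have h3 : q ^ n - q ^ (i : ℕ) = q ^ (i : ℕ) * (q ^ (n - i) - 1) := by
    rw [Nat.mul_sub, mul_one, ← pow_add]
    congr 2
    have := i.2
    omega
  rw [h3] at hi
  rcases (Nat.Prime.dvd_mul hs).mp hi with h4 | h4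
  · exfalso
    have h5 := hs.dvd_of_dvd_pow h4
    obtain ⟨f, hf⟩ := FiniteField.card F p
    rw [← hq] at hf
    rw [hf.2] at h5
    have h6 := hs.dvd_of_dvd_pow h5
    exact hsp ((Nat.prime_dvd_prime_iff_eq hs hp).mp h6)
  · refine ⟨n - i, ?_, Nat.sub_le _ _, h4⟩
    have := i.2
    omega

end Cfsg.Agent.Helper42.PrimeCent
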