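import Mathlib
import Cfsg.Agent.Lib.Helper42.PrimeCent3
import Cfsg.Agent.Lib.Helper42.PrimeCent2

set_option autoImplicit false

/-!
# Commuting unipotent and semisimple elements in dimensions 2 and 3

Linear-algebra lemmas for the adjacency of the characteristic in the prime graph of `PSL_n(q)`.
-/

namespace Cfsg.Agent.Helper42.PrimeCent

open Module

section lin

variable {F : Type*} [Field F] [Finite F] {V : Type*} [AddCommGroup V] [Module F V]
  [Module.Finite F V]

/-- an invariant line gives an eigenvector -/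
lemma exists_eigen_of_finrank_one (Y : V →ₗ[F] V) (L : Submodule F V) (hL : finrank F L = 1)
    (hinv : ∀ u ∈ L, Y u ∈ L) :
    ∃ u ∈ L, u ≠ 0 ∧ (∀ w ∈ L, ∃ c : F, w = c • u) ∧ ∃ c : F, Y u = c • u := by
  obtain ⟨⟨u, hu⟩, hu0, hspan⟩ := finrank_eq_one_iff'.mp hL
  have hu0' : u ≠ 0 := fun h => hu0 (Subtype.ext h)
  have hall : ∀ w ∈ L, ∃ c : F, w = c • u := by
    intro w hw
    obtain ⟨c, hc⟩ := hspan ⟨w, hw⟩
    exact ⟨c, (congrArg Subtype.val hc).symm⟩
  exact ⟨u, hu, hu0', hall, hall _ (hinv u hu)⟩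

/-- if the nilpotent `N` has one-dimensional kernel, any `B` of order prime to the
characteristic commuting with `N` is a scalar -/
theorem scalar_of_ker_finrank_one (r : ℕ) [Fact r.Prime] (hr : (r : F) ≠ 0)
    (N B : V →ₗ[F] V) (hN : IsNilpotent N) (hK : finrank F (LinearMap.ker N) = 1)
    (hB : B ^ r = 1) (hNB : N * B = B * N) : ∃ β : F, B = β • (1 : V →ₗ[F] V) := by
  have hNBa : ∀ x, N (B x) = B (N x) := fun x => by
    rw [← Module.End.mul_apply, hNB, Module.End.mul_apply]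
  obtain ⟨u, hu, hu0, hall, β, hβ⟩ := exists_eigen_of_finrank_one B (LinearMap.ker N) hK (by
    intro u hu
    rw [LinearMap.mem_ker] at hu ⊢
    rw [hNBa, hu, map_zero])
  have hpow : ∀ k : ℕ, (B ^ k) u = β ^ k • u := by
    intro k
    induction k with
    | zero => simp
    | succ k ih => rw [pow_succ', Module.End.mul_apply, ih, map_smul, hβ, smul_smul, ← pow_succ]
  have hβr : β ^ r = 1 := by
    have h1 := hpow r
    rw [hB, Module.End.one_apply] at h1
    have h2 : (β ^ r - 1) • u = 0 := by rw [sub_smul, one_smul, ← h1, sub_self]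
    exact sub_eq_zero.mp ((smul_eq_zero.mp h2).resolve_right hu0)
  have hβ0 : β ≠ 0 := by
    rintro rfl
    rw [zero_pow (Fact.out : r.Prime).ne_zero] at hβr
    exact zero_ne_one hβr
  set B' : V →ₗ[F] V := β⁻¹ • B with hB'
  have hB'r : B' ^ r = 1 := by
    rw [hB', smul_pow, hB, inv_pow, hβr, inv_one, one_smul]
  have hB'u : B' u = u := by
    rw [hB', LinearMap.smul_apply, hβ, smul_smul, inv_mul_cancel₀ hβ0, one_smul]
  obtain ⟨hWB, hWf⟩ := range_sub_one_facts r hr B' hB'r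
  have hWN : ∀ w ∈ LinearMap.range (B' - 1), N w ∈ LinearMap.range (B' - 1) := by
    rintro _ ⟨x, rfl⟩
    refine ⟨N x, ?_⟩
    simp only [hB', LinearMap.sub_apply, LinearMap.smul_apply, Module.End.one_apply, map_sub,
      map_smul, hNBa]
  have hW : LinearMap.range (B' - 1) = ⊥ := by
    by_contra hW0
    obtain ⟨w, hw, hw0, hNw⟩ := exists_ker_of_nilpotent N hN _ hWN hW0
    obtain ⟨c, rfl⟩ := hall w (LinearMap.mem_ker.mpr hNw)
    apply hw0
    apply hWf _ hw
    rw [map_smul, hB'u]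
  rw [LinearMap.range_eq_bot, sub_eq_zero] at hW
  refine ⟨β, ?_⟩
  rw [← hW, hB', smul_smul, mul_inv_cancel₀ hβ0, one_smul]

lemma finrank_ker_pos_of_nilpotent (N : V →ₗ[F] V) (hN : IsNilpotent N) (hV : 0 < finrank F V) :
    0 < finrank F (LinearMap.ker N) := by
  have htop : (⊤ : Submodule F V) ≠ ⊥ := by
    intro h
    have := finrank_top F V
    rw [h, finrank_bot] at this
    omega
  obtain ⟨u, _, hu0, hNu⟩ := exists_ker_of_nilpotent N hN ⊤ (fun _ _ => trivial) htop
  by_contra h0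
  have : LinearMap.ker N = ⊥ := Submodule.finrank_eq_zero.mp (by omega)
  have hu : u ∈ LinearMap.ker N := LinearMap.mem_ker.mpr hNu
  rw [this, Submodule.mem_bot] at hu
  exact hu0 hu

lemma finrank_ker_lt_of_ne_zero (N : V →ₗ[F] V) (hN0 : N ≠ 0) :
    finrank F (LinearMap.ker N) < finrank F V := by
  by_contra h
  push Not at h
  have h1 : finrank F (LinearMap.ker N) = finrank F V :=
    le_antisymm (Submodule.finrank_le _) h
  have := Submodule.eq_top_of_finrank_eq h1
  rw [LinearMap.ker_eq_top] at this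
  exact hN0 this

/-- an invariant line exists for anything commuting with a nonzero nilpotent in dimension 3 -/
lemma exists_eigen_of_comm_nilpotent (N Y : V →ₗ[F] V) (hN : IsNilpotent N) (hN0 : N ≠ 0)
    (hNY : N * Y = Y * N) (hV : finrank F V = 3) :
    ∃ u : V, u ≠ 0 ∧ ∃ c : F, Y u = c • u := by
  have hNYa : ∀ x, N (Y x) = Y (N x) := fun x => by
    rw [← Module.End.mul_apply, hNY, Module.End.mul_apply]
  have h1 := finrank_ker_pos_of_nilpotent N hN (by omega)
  have h2 := finrank_ker_lt_of_ne_zero N hN0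
  have h3 := LinearMap.finrank_range_add_finrank_ker N
  have hcase : finrank F (LinearMap.ker N) = 1 ∨ finrank F (LinearMap.range N) = 1 := by omega
  rcases hcase with h | h
  · obtain ⟨u, -, hu0, -, hc⟩ := exists_eigen_of_finrank_one Y (LinearMap.ker N) h (by
      intro u hu
      rw [LinearMap.mem_ker] at hu ⊢
      rw [hNYa, hu, map_zero])
    exact ⟨u, hu0, hc⟩
  · obtain ⟨u, -, hu0, -, hc⟩ := exists_eigen_of_finrank_one Y (LinearMap.range N) h (by
      rintro _ ⟨x, rfl⟩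
      exact ⟨Y x, hNYa x⟩)
    exact ⟨u, hu0, hc⟩

/-- an element of order dividing 3 with determinant one fixing a plane pointwise is trivial -/
theorem eq_one_of_fix_plane (h3 : ((3 : ℕ) : F) ≠ 0) (Y : V →ₗ[F] V) (hY : Y ^ 3 = 1)
    (hdet : LinearMap.det Y = 1) (hV : finrank F V = 3)
    (hfix : 2 ≤ finrank F (LinearMap.ker (Y - 1))) : Y = 1 := by
  by_contra hne
  have : Fact (Nat.Prime 3) := ⟨Nat.prime_three⟩
  obtain ⟨hWB, hWf⟩ := range_sub_one_facts 3 h3 Y hY
  set W : Submodule F V := LinearMap.range (Y - 1) with hW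
  have hdim := LinearMap.finrank_range_add_finrank_ker (Y - 1)
  rw [← hW] at hdim
  have hW0 : W ≠ ⊥ := by
    intro h
    apply hne
    rw [hW, LinearMap.range_eq_bot, sub_eq_zero] at h
    exact h
  have hW1 : finrank F W = 1 := by
    have : finrank F W ≠ 0 := fun h => hW0 (Submodule.finrank_eq_zero.mp h)
    omega
  have he : W ≤ W.comap Y := fun w hw => hWB w hw
  have hd := LinearMap.det_eq_det_mul_det W Y he
  have hQ : W.mapQ W Y he = LinearMap.id := by
    apply LinearMap.ext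
    intro x
    obtain ⟨v, rfl⟩ := Submodule.Quotient.mk_surjective W x
    rw [Submodule.mapQ_apply, LinearMap.id_apply, Submodule.Quotient.eq]
    exact ⟨v, by simp⟩
  rw [hQ, LinearMap.det_id, mul_one, hdet] at hd
  obtain ⟨⟨w, hw⟩, hw0, hspan⟩ := finrank_eq_one_iff'.mp hW1
  have hw0' : w ≠ 0 := fun h => hw0 (Subtype.ext h)
  obtain ⟨γ, hγ⟩ := hspan ⟨Y w, hWB w hw⟩
  have hγ' : Y w = γ • w := (congrArg Subtype.val hγ).symm
  have hres : LinearMap.restrict (p := W) (q := W) Y he = γ • LinearMap.id := by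
    apply LinearMap.ext
    rintro ⟨w', hw'⟩
    obtain ⟨c, hc⟩ := hspan ⟨w', hw'⟩
    have hc' : w' = c • w := (congrArg Subtype.val hc).symm
    apply Subtype.ext
    simp only [LinearMap.coe_restrict_apply, LinearMap.smul_apply, LinearMap.id_apply,
      Submodule.coe_smul]
    rw [hc', map_smul, hγ', smul_comm]
  rw [hres, LinearMap.det_smul, hW1, LinearMap.det_id, pow_one, mul_one] at hd
  apply hw0'
  apply hWf w hw
  rw [hγ', ← hd, one_smul]

/-- an element of order dividing 3 and determinant one in dimension 3, commuting with a nonzero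
nilpotent, is a scalar (when the field contains the cube roots of unity) -/
theorem scalar_of_cube_det_one (ω : F) (hω : ω ^ 2 + ω + 1 = 0) (h3 : ((3 : ℕ) : F) ≠ 0)
    (Y N : V →ₗ[F] V) (hY : Y ^ 3 = 1) (hdet : LinearMap.det Y = 1) (hV : finrank F V = 3)
    (hN : IsNilpotent N) (hN0 : N ≠ 0) (hNY : N * Y = Y * N) :
    ∃ c : F, Y = c • (1 : V →ₗ[F] V) := by
  have hNYa : ∀ x, N (Y x) = Y (N x) := fun x => by
    rw [← Module.End.mul_apply, hNY, Module.End.mul_apply]
  have hω3 : ω ^ 3 = 1 := by linear_combination (ω - 1) * hω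
  set P : F → (V →ₗ[F] V) := fun c => 1 + c ^ 2 • Y + c • Y ^ 2 with hP
  have hYP : ∀ c : F, c ^ 3 = 1 → Y * P c = c • P c := by
    intro c hc
    have h1 : Y * Y ^ 2 = 1 := by rw [← pow_succ', hY]
    simp only [hP, mul_add, mul_one, mul_smul_comm, h1, smul_add, smul_smul]
    have : c * c ^ 2 = 1 := by rw [← hc]; ring
    rw [this, one_smul, ← sq Y]
    module
  have hsum : P 1 + P ω + P (ω ^ 2) = (3 : F) • (1 : V →ₗ[F] V) := by
    simp only [hP]
    have e1 : (1 : F) ^ 2 + ω ^ 2 + (ω ^ 2) ^ 2 = 0 := by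
      linear_combination ω * hω3 + hω
    have e2 : (1 : F) + ω + ω ^ 2 = 0 := by linear_combination hω
    have : (1 + (1 : F) ^ 2 • Y + (1 : F) • Y ^ 2) + (1 + ω ^ 2 • Y + ω • Y ^ 2) +
        (1 + (ω ^ 2) ^ 2 • Y + ω ^ 2 • Y ^ 2) =
        (3 : F) • (1 : V →ₗ[F] V) + ((1 : F) ^ 2 + ω ^ 2 + (ω ^ 2) ^ 2) • Y +
          ((1 : F) + ω + ω ^ 2) • Y ^ 2 := by
      module
    rw [this, e1, e2, zero_smul, zero_smul, add_zero, add_zero]
  have h3' : (3 : F) ≠ 0 := by exact_mod_cast h3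
  obtain ⟨c, hc3, hNP⟩ : ∃ c : F, c ^ 3 = 1 ∧ N * P c ≠ 0 := by
    by_contra hcon
    push Not at hcon
    have h1 := hcon 1 (one_pow 3)
    have h2 := hcon ω hω3
    have h3 := hcon (ω ^ 2) (by rw [← pow_mul, mul_comm, pow_mul, hω3, one_pow])
    have : N * (P 1 + P ω + P (ω ^ 2)) = 0 := by rw [mul_add, mul_add, h1, h2, h3]; simp
    rw [hsum, mul_smul_comm, mul_one] at this
    exact hN0 ((smul_eq_zero.mp this).resolve_left h3')
  obtain ⟨v, hv⟩ : ∃ v, N (P c v) ≠ 0 := by
    by_contra hcon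
    push Not at hcon
    apply hNP
    ext v
    exact hcon v
  set f := P c v with hf
  have hYf : Y f = c • f := by
    rw [hf, ← Module.End.mul_apply, hYP c hc3, LinearMap.smul_apply]
  have hcc : c ^ 2 * c = 1 := by rw [← hc3]; ring
  set B' : V →ₗ[F] V := c ^ 2 • Y with hB'
  have hB'3 : B' ^ 3 = 1 := by
    rw [hB', smul_pow, hY, ← pow_mul, show 2 * 3 = 3 * 2 by norm_num, pow_mul, hc3, one_pow,
      one_smul]
  have hB'det : LinearMap.det B' = 1 := by
    rw [hB', LinearMap.det_smul, hV, hdet, mul_one, ← pow_mul, show 2 * 3 = 3 * 2 by norm_num,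
      pow_mul, hc3, one_pow]
  have hB'f : B' f = f := by
    rw [hB', LinearMap.smul_apply, hYf, smul_smul, hcc, one_smul]
  have hB'Nf : B' (N f) = N f := by
    rw [hB', LinearMap.smul_apply, ← hNYa, hYf, map_smul, smul_smul, hcc, one_smul]
  have hmem : ∀ w, w ∈ LinearMap.ker (B' - 1) ↔ B' w = w := by
    intro w
    rw [LinearMap.mem_ker, LinearMap.sub_apply, Module.End.one_apply, sub_eq_zero]
  have hf0 : f ≠ 0 := by
    intro h
    rw [h, map_zero] at hv
    exact hv rfl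
  have hfix : 2 ≤ finrank F (LinearMap.ker (B' - 1)) := by
    by_contra hlt
    push Not at hlt
    have hfm : f ∈ LinearMap.ker (B' - 1) := (hmem f).mpr hB'f
    have hpos : finrank F (LinearMap.ker (B' - 1)) ≠ 0 := by
      intro h
      have := Submodule.finrank_eq_zero.mp h
      rw [this, Submodule.mem_bot] at hfm
      exact hf0 hfm
    have h1 : finrank F (LinearMap.ker (B' - 1)) = 1 := by omega
    have h2 := (finrank_eq_one_iff_of_nonzero' (⟨f, hfm⟩ : LinearMap.ker (B' - 1)) (by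
      intro h; exact hf0 (congrArg Subtype.val h))).mp h1 ⟨N f, (hmem _).mpr hB'Nf⟩
    obtain ⟨a, ha⟩ := h2
    have ha' : N f = a • f := (congrArg Subtype.val ha).symm
    have hpow : ∀ k : ℕ, (N ^ k) f = a ^ k • f := by
      intro k
      induction k with
      | zero => simp
      | succ k ih =>
        rw [pow_succ', Module.End.mul_apply, ih, map_smul, ha', smul_smul, ← pow_succ]
    obtain ⟨m, hm⟩ := hN
    have h4 := hpow m
    rw [hm, LinearMap.zero_apply] at h4
    have h5 : a = 0 := by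
      have := (smul_eq_zero.mp h4.symm).resolve_right hf0
      exact pow_eq_zero_iff (M₀ := F) (n := m) (by
        rintro rfl
        simp at this) |>.mp this
    rw [h5, zero_smul] at ha'
    exact hv ha'
  have := eq_one_of_fix_plane h3 B' hB'3 hB'det hV hfix
  refine ⟨c, ?_⟩
  rw [← this, hB', smul_smul, mul_comm, hcc, one_smul]

end lin

section mat

variable {F : Type*} [Field F] [Fintype F]

lemma exists_unit_orderOf_of_dvd (t : ℕ) (ht : t ∣ Fintype.card F - 1) :
    ∃ β : Fˣ, orderOf β = t := by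
  obtain ⟨g, hg⟩ := IsCyclic.exists_ofOrder_eq_natCard (α := Fˣ)
  have hcard : Nat.card Fˣ = Fintype.card F - 1 := by
    rw [Nat.card_units, Nat.card_eq_fintype_card]
  have hN : orderOf g ≠ 0 := by rw [hg]; exact Nat.card_pos.ne'
  refine ⟨g ^ (orderOf g / t), orderOf_pow_orderOf_div hN ?_⟩
  rw [hg, hcard]; exact ht

/-- transfer of the unipotent part -/
lemma toLin_sub_one_facts {n : ℕ} (p : ℕ) [Fact p.Prime] [CharP F p]
    (A Y : Matrix (Fin n) (Fin n) F) (hA : A ^ p = 1) (hA1 : A ≠ 1) (hAY : A * Y = Y * A) :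
    IsNilpotent (Matrix.toLin' (A - 1)) ∧ Matrix.toLin' (A - 1) ≠ 0 ∧
      Matrix.toLin' (A - 1) * Matrix.toLin' Y = Matrix.toLin' Y * Matrix.toLin' (A - 1) := by
  refine ⟨⟨p, ?_⟩, ?_, ?_⟩
  · have h1 := Cfsg.Agent.Helper42.Jordan.sub_one_pow_char p A 1
    rw [pow_one, hA, sub_self] at h1
    rw [← Matrix.toLin'_pow, h1, map_zero]
  · intro h
    apply hA1
    have := Matrix.toLin'.injective (h.trans (map_zero _).symm)
    exact sub_eq_zero.mp this
  · rw [Module.End.mul_eq_comp, Module.End.mul_eq_comp, ← Matrix.toLin'_mul, ← Matrix.toLin'_mul,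
      Matrix.sub_mul, Matrix.mul_sub, hAY, Matrix.one_mul, Matrix.mul_one]

lemma eq_smul_one_of_toLin {n : ℕ} (Y : Matrix (Fin n) (Fin n) F) (c : F)
    (h : Matrix.toLin' Y = c • (1 : (Fin n → F) →ₗ[F] (Fin n → F))) :
    Y = c • (1 : Matrix (Fin n) (Fin n) F) := by
  apply Matrix.toLin'.injective
  rw [h, map_smul, Matrix.toLin'_one]
  rfl

lemma cast_ne_zero_of_prime_ne (p : ℕ) [Fact p.Prime] [CharP F p] (r : ℕ) (hr : r.Prime)
    (hrp : r ≠ p) : (r : F) ≠ 0 := by
  intro h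
  have := (CharP.cast_eq_zero_iff F p r).mp h
  exact hrp ((Nat.prime_dvd_prime_iff_eq Fact.out hr).mp this).symm

/-- two-dimensional case -/
theorem scalar_of_comm_two (p : ℕ) [Fact p.Prime] [CharP F p] (r : ℕ) [Fact r.Prime] (hrp : r ≠ p)
    (A Y : Matrix (Fin 2) (Fin 2) F) (hA : A ^ p = 1) (hA1 : A ≠ 1) (hY : Y ^ r = 1)
    (hAY : A * Y = Y * A) : ∃ c : F, Y = c • (1 : Matrix (Fin 2) (Fin 2) F) := by
  obtain ⟨hN, hN0, hNY⟩ := toLin_sub_one_facts p A Y hA hA1 hAY
  have hV : finrank F (Fin 2 → F) = 2 := by simp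
  have h1 := finrank_ker_pos_of_nilpotent _ hN (by rw [hV]; norm_num)
  have h2 := finrank_ker_lt_of_ne_zero _ hN0
  obtain ⟨c, hc⟩ := scalar_of_ker_finrank_one r (cast_ne_zero_of_prime_ne p r Fact.out hrp)
    (Matrix.toLin' (A - 1)) (Matrix.toLin' Y) hN (by omega)
    (by rw [← Matrix.toLin'_pow, hY, Matrix.toLin'_one]; rfl) hNY
  exact ⟨c, eq_smul_one_of_toLin Y c hc⟩

/-- an eigenvector for anything commuting with a nontrivial unipotent in dimension 3 -/
theorem exists_eigen_three (p : ℕ) [Fact p.Prime] [CharP F p]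
    (A Y : Matrix (Fin 3) (Fin 3) F) (hA : A ^ p = 1) (hA1 : A ≠ 1)
    (hAY : A * Y = Y * A) : ∃ u : Fin 3 → F, u ≠ 0 ∧ ∃ c : F, Y.mulVec u = c • u := by
  obtain ⟨hN, hN0, hNY⟩ := toLin_sub_one_facts p A Y hA hA1 hAY
  obtain ⟨u, hu0, c, hc⟩ := exists_eigen_of_comm_nilpotent _ _ hN hN0 hNY (by simp)
  exact ⟨u, hu0, c, by rw [← Matrix.toLin'_apply]; exact hc⟩

/-- the exceptional case in dimension 3 -/
theorem scalar_of_comm_three (p : ℕ) [Fact p.Prime] [CharP F p] (hp3 : p ≠ 3)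
    (h3q : 3 ∣ Fintype.card F - 1)
    (A Y : Matrix (Fin 3) (Fin 3) F) (hA : A ^ p = 1) (hA1 : A ≠ 1) (hY : Y ^ 3 = 1)
    (hdet : Y.det = 1) (hAY : A * Y = Y * A) :
    ∃ c : F, Y = c • (1 : Matrix (Fin 3) (Fin 3) F) := by
  obtain ⟨hN, hN0, hNY⟩ := toLin_sub_one_facts p A Y hA hA1 hAY
  obtain ⟨ω, hω⟩ := exists_unit_orderOf_of_dvd (F := F) 3 h3q
  have hω3 : (ω : F) ^ 3 = 1 := by
    have := pow_orderOf_eq_one ω
    rw [hω] at this
    have := congrArg Units.val this
    simpa using this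
  have hω1 : (ω : F) ≠ 1 := by
    intro h
    have : ω = 1 := Units.ext h
    rw [this, orderOf_one] at hω
    omega
  have hω' : (ω : F) ^ 2 + (ω : F) + 1 = 0 := by
    have h : ((ω : F) - 1) * ((ω : F) ^ 2 + (ω : F) + 1) = 0 := by
      linear_combination hω3
    exact (mul_eq_zero.mp h).resolve_left (sub_ne_zero.mpr hω1)
  obtain ⟨c, hc⟩ := scalar_of_cube_det_one (ω : F) hω'
    (cast_ne_zero_of_prime_ne p 3 Nat.prime_three (Ne.symm hp3))
    (Matrix.toLin' Y) (Matrix.toLin' (A - 1))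
    (by rw [← Matrix.toLin'_pow, hY, Matrix.toLin'_one]; rfl)
    (by rw [LinearMap.det_toLin', hdet]) (by simp) hN hN0 hNY
  exact ⟨c, eq_smul_one_of_toLin Y c hc⟩

end mat

end Cfsg.Agent.Helper42.PrimeCent
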