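import Mathlib
import Cfsg.Agent.Lib.Helper42.PrimeCent4
import Cfsg.Agent.Lib.Helper42.PrimeCent6

set_option autoImplicit false

/-!
# Elements of order `r p` in `GL_n(q)` and `PSL_n(q)`
-/

namespace Cfsg.Agent.Helper42.PrimeCent

open Module Matrix

section dual

variable {F : Type*} [Field F]

theorem dualNumber_finite : Module.Finite F (DualNumber F) :=
  inferInstanceAs (Module.Finite F (F × F))

lemma finrank_dualNumber : finrank F (DualNumber F) = 2 := by
  show finrank F (F × F) = 2
  rw [Module.finrank_prod, Module.finrank_self]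

/-- a unit of order `p` in the dual numbers -/
lemma exists_dualNumber_unit (p : ℕ) [Fact p.Prime] [CharP F p] :
    ∃ u : (DualNumber F)ˣ, orderOf u = p := by
  have hp : p.Prime := Fact.out
  have : CharP (DualNumber F) p :=
    charP_of_injective_algebraMap (algebraMap F (DualNumber F)).injective p
  have heps : (DualNumber.eps : DualNumber F) ^ p = 0 := by
    obtain ⟨k, hk⟩ : ∃ k, p = k + 2 := ⟨p - 2, by have := hp.two_le; omega⟩
    rw [hk, pow_add, sq, DualNumber.eps_mul_eps, mul_zero]
  have h1 : (1 + DualNumber.eps : DualNumber F) ^ p = 1 := by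
    rw [add_pow_char, one_pow, heps, add_zero]
  have h2 : (1 + DualNumber.eps : DualNumber F) * (1 - DualNumber.eps) = 1 := by
    have : (1 + DualNumber.eps : DualNumber F) * (1 - DualNumber.eps) =
        1 - DualNumber.eps * DualNumber.eps := by ring
    rw [this, DualNumber.eps_mul_eps, sub_zero]
  have h3 : (1 - DualNumber.eps : DualNumber F) * (1 + DualNumber.eps) = 1 := by
    rw [mul_comm, h2]
  refine ⟨⟨1 + DualNumber.eps, 1 - DualNumber.eps, h2, h3⟩, ?_⟩
  apply orderOf_eq_prime
  · apply Units.ext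
    rw [Units.val_pow_eq_pow_val]
    exact h1
  · intro h
    have := congrArg Units.val h
    simp only [Units.val_one] at this
    have h4 : (DualNumber.eps : DualNumber F) = 0 := by
      have : (1 + DualNumber.eps : DualNumber F) = 1 + 0 := by rw [add_zero]; exact this
      exact add_left_cancel this
    have := congrArg TrivSqZeroExt.snd h4
    simp at this

variable [Fintype F]

theorem exists_GL_orderOf_mul_char (p : ℕ) [Fact p.Prime] [CharP F p]
    (S1 : Type*) [CommRing S1] [Algebra F S1] [Module.Finite F S1] (n : ℕ)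
    (h : finrank F S1 + 2 ≤ n) (u1 : S1ˣ) :
    ∃ g : GL (Fin n) F, orderOf g = Nat.lcm (orderOf u1) p := by
  have := dualNumber_finite (F := F)
  obtain ⟨u2, hu2⟩ := exists_dualNumber_unit (F := F) p
  obtain ⟨g, hg⟩ := exists_GL_orderOf (F := F) S1 (DualNumber F) n
    (by rw [finrank_dualNumber]; exact h) u1 u2
  exact ⟨g, by rw [hg, hu2]⟩

end dual

section constr

variable {F : Type*} [Field F] [Fintype F]

lemma transvection_pow {n : ℕ} (a b : Fin n) (hab : a ≠ b) (j : ℕ) :
    (Matrix.transvection a b (1 : F)) ^ j = Matrix.transvection a b (j : F) := by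
  induction j with
  | zero => simp
  | succ j ih =>
    rw [pow_succ, ih, Matrix.transvection_mul_transvection_same a b hab, Nat.cast_succ]

theorem exists_SL_pow_mem_center_iff (p : ℕ) [Fact p.Prime] [CharP F p] (m : ℕ)
    (d : Fin (m + 3) → F) (h01 : d 0 = d 1) (hprod : ∏ i, d i = 1) :
    ∃ g : SpecialLinearGroup (Fin (m + 3)) F, ∀ j : ℕ,
      (g ^ j ∈ Subgroup.center (SpecialLinearGroup (Fin (m + 3)) F) ↔
        (p ∣ j ∧ ∃ c : F, ∀ i, d i ^ j = c)) := by
  have h01ne : (0 : Fin (m + 3)) ≠ 1 := by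
    intro h
    have := congrArg Fin.val h
    simp at this
  set D : Matrix (Fin (m + 3)) (Fin (m + 3)) F := Matrix.diagonal d with hD
  set T : Matrix (Fin (m + 3)) (Fin (m + 3)) F := Matrix.transvection 0 1 (1 : F) with hT
  have hdet : (D * T).det = 1 := by
    rw [Matrix.det_mul, hD, Matrix.det_diagonal, hprod, hT, Matrix.det_transvection_of_ne _ _ h01ne,
      mul_one]
  have hcomm : Commute D T := by
    show D * T = T * D
    ext a b
    rw [hD, Matrix.diagonal_mul, Matrix.mul_diagonal, hT, Matrix.transvection, Matrix.add_apply,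
      Matrix.one_apply, Matrix.single_apply]
    by_cases hab : a = b
    · subst hab
      ring
    · by_cases h2 : (0 : Fin (m + 3)) = a ∧ (1 : Fin (m + 3)) = b
      · obtain ⟨rfl, rfl⟩ := h2
        rw [h01]; ring
      · rw [if_neg hab, if_neg h2]; ring
  have hd0 : d 0 ≠ 0 := by
    intro h
    have : ∏ i, d i = 0 := Finset.prod_eq_zero (Finset.mem_univ 0) h
    rw [hprod] at this
    exact one_ne_zero this
  set g : SpecialLinearGroup (Fin (m + 3)) F := ⟨D * T, hdet⟩ with hg
  refine ⟨g, ?_⟩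
  intro j
  have hpow : (g ^ j).val =
      Matrix.diagonal (fun i => d i ^ j) * Matrix.transvection 0 1 (j : F) := by
    rw [Matrix.SpecialLinearGroup.coe_pow]
    show (D * T) ^ j = _
    rw [hcomm.mul_pow, hD, Matrix.diagonal_pow, hT, transvection_pow _ _ h01ne]
    rfl
  have hentry : ∀ a b, (g ^ j).val a b =
      d a ^ j * ((if a = b then 1 else 0) + if (0 : Fin (m + 3)) = a ∧ (1 : Fin (m + 3)) = b
        then (j : F) else 0) := by
    intro a b
    rw [hpow, Matrix.diagonal_mul, Matrix.transvection, Matrix.add_apply, Matrix.one_apply,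
      Matrix.single_apply]
  constructor
  · intro hmem
    obtain ⟨c, -, hc⟩ := exists_scalar_of_mem_center _ hmem
    constructor
    · have h1 := hentry 0 1
      rw [hc, Matrix.smul_apply, Matrix.one_apply, if_neg h01ne, smul_zero,
        if_pos ⟨rfl, rfl⟩, zero_add] at h1
      have h2 : (j : F) = 0 := by
        rcases mul_eq_zero.mp h1.symm with h | h
        · exact absurd (pow_eq_zero_iff (M₀ := F) (by
            rintro rfl
            simp at h) |>.mp h) hd0
        · exact h
      exact (CharP.cast_eq_zero_iff F p j).mp h2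
    · refine ⟨c, fun i => ?_⟩
      have h1 := hentry i i
      rw [hc, Matrix.smul_apply, Matrix.one_apply, if_pos rfl, smul_eq_mul, mul_one,
        if_neg (by
          rintro ⟨h1, h2⟩
          exact h01ne (h1.trans h2.symm)), add_zero, mul_one] at h1
      exact h1.symm
  · rintro ⟨hpj, c, hc⟩
    apply mem_center_of_scalar _ c
    rw [hpow, (CharP.cast_eq_zero_iff F p j).mpr hpj, Matrix.transvection_zero, mul_one]
    ext a b
    rw [Matrix.diagonal_apply, Matrix.smul_apply, Matrix.one_apply, smul_eq_mul]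
    by_cases hab : a = b
    · rw [if_pos hab, if_pos hab, hc, mul_one]
    · rw [if_neg hab, if_neg hab, mul_zero]

theorem exists_PSL_orderOf_mul_char (p : ℕ) [Fact p.Prime] [CharP F p] (r : ℕ) (hr : r.Prime)
    (hrp : r ≠ p) (m : ℕ) (d : Fin (m + 3) → F) (h01 : d 0 = d 1) (hprod : ∏ i, d i = 1)
    (hd : ∀ j : ℕ, (∃ c : F, ∀ i, d i ^ j = c) ↔ r ∣ j) :
    ∃ x : Matrix.ProjectiveSpecialLinearGroup (Fin (m + 3)) F, orderOf x = r * p := by
  obtain ⟨g, hg⟩ := exists_SL_pow_mem_center_iff p m d h01 hprod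
  have hp : p.Prime := Fact.out
  have hcop : r.Coprime p := (Nat.coprime_primes hr hp).mpr hrp
  refine ⟨QuotientGroup.mk g, ?_⟩
  have key : ∀ j : ℕ, (QuotientGroup.mk g :
      Matrix.ProjectiveSpecialLinearGroup (Fin (m + 3)) F) ^ j = 1 ↔ (p ∣ j ∧ r ∣ j) := by
    intro j
    rw [← QuotientGroup.mk_pow, QuotientGroup.eq_one_iff, hg j, hd j]
  apply Nat.dvd_antisymm
  · apply orderOf_dvd_of_pow_eq_one
    rw [key]
    exact ⟨dvd_mul_left _ _, dvd_mul_right _ _⟩
  · have := (key (orderOf _)).mp (pow_orderOf_eq_one _)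
    exact hcop.mul_dvd_of_dvd_of_dvd this.2 this.1

theorem exists_PSL_orderOf_of_dvd_sub_one (p : ℕ) [Fact p.Prime] [CharP F p] (r : ℕ)
    (hr : r.Prime) (hrp : r ≠ p) (n : ℕ) (hn : 3 ≤ n) (hrq : r ∣ Fintype.card F - 1)
    (hex : n = 3 → r = 3 → 9 ∣ Fintype.card F - 1) :
    ∃ x : Matrix.ProjectiveSpecialLinearGroup (Fin n) F, orderOf x = r * p := by
  obtain ⟨m, rfl⟩ : ∃ m, n = m + 3 := ⟨n - 3, by omega⟩
  -- choice of β
  obtain ⟨β, hβ⟩ : ∃ β : Fˣ, ∀ j : ℕ,
      ((m = 0 → β ^ (3 * j) = 1) ∧ (m ≠ 0 → β ^ j = 1)) ↔ r ∣ j := by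
    by_cases hc : m = 0 ∧ r = 3
    · obtain ⟨hm0, hr3⟩ := hc
      obtain ⟨β, hβ⟩ := exists_unit_orderOf_of_dvd (F := F) 9 (hex (by omega) hr3)
      refine ⟨β, fun j => ?_⟩
      rw [hr3]
      constructor
      · rintro ⟨h1, -⟩
        have := orderOf_dvd_of_pow_eq_one (h1 hm0)
        rw [hβ] at this
        omega
      · intro h
        refine ⟨fun _ => ?_, fun h0 => absurd hm0 h0⟩
        apply orderOf_dvd_iff_pow_eq_one.mp
        rw [hβ]
        omega
    · obtain ⟨β, hβ⟩ := exists_unit_orderOf_of_dvd (F := F) r hrq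
      refine ⟨β, fun j => ?_⟩
      constructor
      · rintro ⟨h1, h2⟩
        by_cases hm0 : m = 0
        · have := orderOf_dvd_of_pow_eq_one (h1 hm0)
          rw [hβ] at this
          have hr3 : r ≠ 3 := fun h => hc ⟨hm0, h⟩
          have hcop : r.Coprime 3 := (Nat.coprime_primes hr Nat.prime_three).mpr hr3
          exact hcop.dvd_of_dvd_mul_left this
        · have := orderOf_dvd_of_pow_eq_one (h2 hm0)
          rwa [hβ] at this
      · intro h
        have h1 : β ^ j = 1 := by
          apply orderOf_dvd_iff_pow_eq_one.mp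
          rwa [hβ]
        refine ⟨fun _ => ?_, fun _ => h1⟩
        rw [mul_comm, pow_mul, h1, one_pow]
  set d : Fin (m + 3) → F :=
    Fin.cons (β : F) (Fin.cons (β : F) (Fin.cons (((β : F) ^ 2)⁻¹) (fun _ => (1 : F)))) with hd
  have hβ0 : (β : F) ≠ 0 := β.ne_zero
  apply exists_PSL_orderOf_mul_char p r hr hrp m d
  · simp [hd]
  · rw [Fin.prod_univ_succ, Fin.prod_univ_succ, Fin.prod_univ_succ]
    simp only [hd, Fin.cons_zero, Fin.cons_succ, Finset.prod_const_one, mul_one]
    field_simp
  · intro j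
    rw [← hβ j]
    simp only [Fin.forall_fin_succ, hd, Fin.cons_zero, Fin.cons_succ, one_pow]
    have hval : ∀ e : ℕ, β ^ e = 1 ↔ (β : F) ^ e = 1 := by
      intro e
      rw [← Units.val_pow_eq_pow_val, Units.ext_iff, Units.val_one]
    have hsplit : (β : F) ^ (3 * j) = (β : F) ^ j * ((β : F) ^ 2) ^ j := by
      rw [← pow_mul, ← pow_add]
      congr 1
      ring
    have hkey : (((β : F) ^ 2)⁻¹) ^ j = (β : F) ^ j ↔ β ^ (3 * j) = 1 := by
      rw [hval, hsplit, inv_pow]
      constructor
      · intro h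
        rw [← h, inv_mul_cancel₀ (pow_ne_zero _ (pow_ne_zero _ hβ0))]
      · intro h
        exact (eq_inv_of_mul_eq_one_left h).symm
    constructor
    · rintro ⟨c, h1, -, h3, h4⟩
      refine ⟨fun _ => hkey.mp (h3.trans h1.symm), fun hm0 => ?_⟩
      have hc : 1 = c := h4 ⟨0, Nat.pos_of_ne_zero hm0⟩
      rw [hval, h1, hc]
    · rintro ⟨h1, h2⟩
      by_cases hm0 : m = 0
      · refine ⟨(β : F) ^ j, rfl, rfl, hkey.mpr (h1 hm0), ?_⟩
        subst hm0
        exact fun i => i.elim0
      · have hb := (hval j).mp (h2 hm0)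
        refine ⟨1, hb, hb, ?_, fun _ => rfl⟩
        rw [inv_pow, ← pow_mul, mul_comm, pow_mul, hb, one_pow, inv_one]

end constr

end Cfsg.Agent.Helper42.PrimeCent
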