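import Mathlib
import Cfsg.Prelude.Def_Characters
import Cfsg.Prelude.Def_Blocks
import Cfsg.Agent.Lib.Helper80.RMKDefs
import Cfsg.Agent.Lib.Helper42.RMKKERQ

/-!
RMK lemma server (helper80, S4581), piece (STEPA) `step_odd`: the core, with the statements of
(L2), (INVTRIV), (QN), (QNS) as hypotheses (helper42).
-/

set_option autoImplicit false
set_option linter.style.haveILetI false

namespace Cfsg.Agent.Helper42.RMK

open Cfsg Cfsg.Agent.Helper80 Cfsg.Agent.Helper80.RMK
open scoped ComplexConjugate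

universe u

/-- (STEPA) with (L2), (INVTRIV), (QN), (QNS) as hypotheses. -/
theorem step_odd_of (r : Bool) {G : Type u} [Group G] [Finite G] [Group.IsSolvable G]
    (hL2 : ∀ {A : Type u} [Group A] [Finite A] (M : Subgroup A) [M.Normal],
      Odd (Nat.card ↥M) → ∀ χ : IrrCharacter A, Good true χ →
      ∀ m ∈ M, (χ : A → ℂ) m = (χ : A → ℂ) 1)
    (hINV : ∀ {A : Type u} [Group A] [Finite A] (M : Subgroup A) [M.Normal],
      Odd (Nat.card ↥M) → (∀ a ∈ M, ∀ b ∈ M, a * b = b * a) → ∀ P : Sylow 2 A,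
      Subgroup.normalizer ((P : Subgroup A) : Set A) = (P : Subgroup A) →
      ∀ χ : IrrCharacter A, Odd (charDegree (χ : A → ℂ)) →
      ∀ m ∈ M, (χ : A → ℂ) m = (χ : A → ℂ) 1)
    (M : Subgroup G) [M.Normal] (hM : M ≠ ⊥) (hodd : Odd (Nat.card ↥M))
    (hcomm : ∀ a ∈ M, ∀ b ∈ M, a * b = b * a)
    (hIH : IH.{u} r (Nat.card G)) (P : Sylow 2 G)
    (hself : r = false → Subgroup.normalizer ((P : Subgroup G) : Set G) = (P : Subgroup G))
    (hQN : cnt r ↥(Subgroup.normalizer (((P.mapSurjective (QuotientGroup.mk'_surjective M) :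
        Sylow 2 (G ⧸ M)) : Subgroup (G ⧸ M)) : Set (G ⧸ M))) =
      Nat.card {ψ : IrrCharacter ↥(Subgroup.normalizer ((P : Subgroup G) : Set G)) //
        Good r ψ ∧ ∀ k : ↥(Subgroup.normalizer ((P : Subgroup G) : Set G)), (k : G) ∈ M →
          (ψ : ↥(Subgroup.normalizer ((P : Subgroup G) : Set G)) → ℂ) k =
            (ψ : ↥(Subgroup.normalizer ((P : Subgroup G) : Set G)) → ℂ) 1})
    (hQNS : Subgroup.normalizer ((P : Subgroup G) : Set G) = (P : Subgroup G) →
      Subgroup.normalizer (((P.mapSurjective (QuotientGroup.mk'_surjective M) :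
        Sylow 2 (G ⧸ M)) : Subgroup (G ⧸ M)) : Set (G ⧸ M)) =
      ((P.mapSurjective (QuotientGroup.mk'_surjective M) : Sylow 2 (G ⧸ M)) :
        Subgroup (G ⧸ M))) :
    cnt r G = cnt r ↥(Subgroup.normalizer ((P : Subgroup G) : Set G)) := by
  classical
  -- Step 1: good characters of `G` are trivial on `M`
  have htrivG : ∀ χ : IrrCharacter G, Good r χ → ∀ m ∈ M, (χ : G → ℂ) m = (χ : G → ℂ) 1 := by
    intro χ hχ
    by_cases hr : r = true
    · subst hr
      exact hL2 M hodd χ hχ
    · have hr' : r = false := by simpa using hr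
      exact hINV M hodd hcomm P (hself hr') χ hχ.2
  have h1 : cnt r G = cnt r (G ⧸ M) := by
    rw [← cnt_quotient r M]
    unfold cnt
    exact Nat.card_congr (Equiv.subtypeEquivRight fun χ =>
      ⟨fun h => ⟨h, htrivG χ h⟩, fun h => h.1⟩)
  -- Step 2: the induction hypothesis for `G ⧸ M`
  have hcardlt : Nat.card (G ⧸ M) < Nat.card G := by
    have h := Subgroup.card_eq_card_quotient_mul_card_subgroup M
    have hM1 : 1 < Nat.card M := (Subgroup.one_lt_card_iff_ne_bot (H := M)).mpr hM
    have hpos : 0 < Nat.card (G ⧸ M) := Nat.card_pos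
    rw [h]
    nlinarith
  have h2 := hIH (G ⧸ M) hcardlt (P.mapSurjective (QuotientGroup.mk'_surjective M))
    (fun hr => hQNS (hself hr))
  -- Step 4: good characters of `N_G(P)` are trivial on `M ⊓ N_G(P)`
  have htrivN : ∀ ψ : IrrCharacter ↥(Subgroup.normalizer ((P : Subgroup G) : Set G)), Good r ψ →
      ∀ k : ↥(Subgroup.normalizer ((P : Subgroup G) : Set G)), (k : G) ∈ M →
        (ψ : ↥(Subgroup.normalizer ((P : Subgroup G) : Set G)) → ℂ) k =
          (ψ : ↥(Subgroup.normalizer ((P : Subgroup G) : Set G)) → ℂ) 1 := by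
    intro ψ hψ k hk
    by_cases hr : r = true
    · subst hr
      have hodd' : Odd (Nat.card ↥(M.subgroupOf
          (Subgroup.normalizer ((P : Subgroup G) : Set G)))) := by
        have h3 : Nat.card ↥(M.subgroupOf (Subgroup.normalizer ((P : Subgroup G) : Set G))) ∣
            Nat.card ↥M := by
          have h4 : Nat.card ↥(M.subgroupOf (Subgroup.normalizer ((P : Subgroup G) : Set G))) =
              Nat.card ↥(M ⊓ Subgroup.normalizer ((P : Subgroup G) : Set G)) := by
            rw [← Subgroup.subgroupOf_map_subtype]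
            exact (Subgroup.card_map_of_injective (Subgroup.subtype_injective _)).symm
          rw [h4]
          exact Subgroup.card_dvd_of_le inf_le_left
        exact Odd.of_dvd_nat hodd h3
      exact hL2 (M.subgroupOf (Subgroup.normalizer ((P : Subgroup G) : Set G))) hodd' ψ hψ k
        (Subgroup.mem_subgroupOf.mpr hk)
    · have hr' : r = false := by simpa using hr
      have hNP := hself hr'
      have hkP : (k : G) ∈ (P : Subgroup G) := (SetLike.ext_iff.mp hNP (k : G)).mp k.2
      obtain ⟨j, hj⟩ := P.isPGroup' ⟨(k : G), hkP⟩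
      have hj' : (k : G) ^ 2 ^ j = 1 := by
        have := congrArg (Subtype.val : ↥(P : Subgroup G) → G) hj
        simpa using this
      have hd1 : orderOf (k : G) ∣ 2 ^ j := orderOf_dvd_of_pow_eq_one hj'
      have hd2 : orderOf (k : G) ∣ Nat.card ↥M := Subgroup.orderOf_dvd_natCard M hk
      have hcop : Nat.Coprime (2 ^ j) (Nat.card ↥M) :=
        Nat.Coprime.pow_left j (Nat.coprime_two_left.mpr hodd)
      have h1' : orderOf (k : G) = 1 :=
        Nat.Coprime.eq_one_of_dvd (Nat.Coprime.coprime_dvd_left hd1 hcop) hd2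
      have hk1 : k = 1 := by
        apply Subtype.ext
        rw [Subgroup.coe_one]
        exact orderOf_eq_one_iff.mp h1'
      rw [hk1]
  rw [h1, h2, hQN]
  unfold cnt
  exact Nat.card_congr (Equiv.subtypeEquivRight fun ψ =>
    ⟨fun h => h.1, fun h => ⟨h, htrivN ψ h⟩⟩)

end Cfsg.Agent.Helper42.RMK
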