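import Mathlib
import Cfsg.Prelude.Def_Characters
import Cfsg.Prelude.Def_Blocks
import Cfsg.Agent.Lib.Helper80.RMKDefs
import Cfsg.Agent.Lib.Helper69.RMKL2
import Cfsg.Agent.Lib.Helper69.RMKINVTRIV
import Cfsg.Agent.Lib.Helper73.RMKQN
import Cfsg.Agent.Lib.Helper73.RMKQNS
import Cfsg.Agent.Lib.Helper42.RMKSTEPACore

/-!
RMK lemma server (helper80, S4581), piece (STEPA) `step_odd`, verbatim (helper42):
`RMKSTEPACore.step_odd_of` + helper69's (L2), (INVTRIV) + helper73's (QN), (QNS).
-/

set_option autoImplicit false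
set_option linter.style.haveILetI false

namespace Cfsg.Agent.Helper42.RMK

open Cfsg Cfsg.Agent.Helper80 Cfsg.Agent.Helper80.RMK
open scoped ComplexConjugate

universe u

/-- (STEPA) the induction step over a normal subgroup of odd order -/
theorem step_odd (r : Bool) {G : Type u} [Group G] [Finite G] [Group.IsSolvable G]
    (M : Subgroup G) [M.Normal] (hM : M ≠ ⊥) (hodd : Odd (Nat.card ↥M))
    (hcomm : ∀ a ∈ M, ∀ b ∈ M, a * b = b * a)
    (hIH : IH.{u} r (Nat.card G)) (P : Sylow 2 G)
    (hself : r = false → Subgroup.normalizer ((P : Subgroup G) : Set G) = (P : Subgroup G)) :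
    cnt r G = cnt r ↥(Subgroup.normalizer ((P : Subgroup G) : Set G)) :=
  step_odd_of r
    (by
      intro A _ _ M _ hodd χ hχ
      exact Cfsg.Agent.Helper69.RMK.odd_normal_le_ker M hodd χ hχ)
    (by
      intro A _ _ M _ hodd hcomm P hself χ hχ
      exact Cfsg.Agent.Helper69.RMK.odd_normal_le_ker_of_self_normalizing M hodd hcomm P hself χ hχ)
    M hM hodd hcomm hIH P hself
    (Cfsg.Agent.Helper73.RMK.cnt_normalizer_quotient r M P)
    (fun h => Cfsg.Agent.Helper73.RMK.self_normalizing_quotient M P h)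

end Cfsg.Agent.Helper42.RMK
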