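import Mathlib
import Cfsg.Agent.Lib.Helper98.RT0

/-!
# RT server (helper98, S2278): pieces (J1) `conj_lower`, (J2) `conj_diag`, with own copies of the values
(V1) (V2) (V4)  (helper42)
-/

set_option autoImplicit false

namespace Cfsg.Agent.Helper42.RT

open Matrix Cfsg.Agent.Helper93.RU Cfsg.Agent.Helper98.RT

variable {F : Type*} [Field F]

theorem j1_det_Ymat (n w : F) : (Ymat n w).det = 1 := by
  unfold Ymat
  rw [Matrix.det_fin_three]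
  simp
  try ring

theorem j1_yEl_eq (n w : F) : yEl n w = ⟨Ymat n w, j1_det_Ymat n w⟩ := dif_pos (j1_det_Ymat n w)

theorem j1_yEl_val (n w : F) : (yEl n w).1 = Ymat n w := by rw [j1_yEl_eq]

/-- the lower unitriangular conjugator -/
def j1_Bmat (n w : F) : Matrix (Fin (0 + 3)) (Fin (0 + 3)) F :=
  !![1, 0, 0; 1, 1, 0; w - n - 2, w - 1, 1]

def j1_Jmat : Matrix (Fin (0 + 3)) (Fin (0 + 3)) F :=
  !![1, 1, 0; 0, 1, 1; 0, 0, 1]

theorem j1_det_Bmat (n w : F) : (j1_Bmat n w).det = 1 := by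
  unfold j1_Bmat
  rw [Matrix.det_fin_three]
  simp

theorem j1_det_Jmat : (j1_Jmat (F := F)).det = 1 := by
  unfold j1_Jmat
  rw [Matrix.det_fin_three]
  simp

theorem j1_mat_eq (n w : F) : Ymat n w * j1_Bmat n w = j1_Bmat n w * j1_Jmat := by
  ext i j
  fin_cases i <;> fin_cases j <;>
    simp [Ymat, j1_Bmat, j1_Jmat, Matrix.mul_apply, Fin.sum_univ_three] <;> ring

/-- (J1) -/
theorem conj_lower (n w n' w' : F) : ∃ b : G3 F, b * yEl n w * b⁻¹ = yEl n' w' := by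
  let B : G3 F := ⟨j1_Bmat n w, j1_det_Bmat n w⟩
  let B' : G3 F := ⟨j1_Bmat n' w', j1_det_Bmat n' w'⟩
  let J : G3 F := ⟨j1_Jmat, j1_det_Jmat⟩
  have h1 : yEl n w * B = B * J := by
    apply Subtype.ext
    show (yEl n w).1 * j1_Bmat n w = j1_Bmat n w * j1_Jmat
    rw [j1_yEl_val]; exact j1_mat_eq n w
  have h2 : yEl n' w' * B' = B' * J := by
    apply Subtype.ext
    show (yEl n' w').1 * j1_Bmat n' w' = j1_Bmat n' w' * j1_Jmat
    rw [j1_yEl_val]; exact j1_mat_eq n' w'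
  have hY : yEl n w = B * J * B⁻¹ := by rw [← h1]; group
  have hY' : yEl n' w' = B' * J * B'⁻¹ := by rw [← h2]; group
  refine ⟨B' * B⁻¹, ?_⟩
  rw [hY, hY']; group

theorem j2_det_Dmat (ζ : F) (hζ : ζ ≠ 0) : (Dmat ζ).det = 1 := by
  unfold Dmat
  rw [Matrix.det_fin_three]
  simp [hζ]

theorem j2_det_Smat (ζ ρ : F) (hζ : ζ ≠ 0) : (Smat ζ ρ).det = 1 := by
  unfold Smat
  rw [Matrix.det_fin_three]
  simp
  field_simp

theorem j2_dEl_eq (ζ : F) (hζ : ζ ≠ 0) : dEl ζ = ⟨Dmat ζ, j2_det_Dmat ζ hζ⟩ :=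
  dif_pos (j2_det_Dmat ζ hζ)

theorem j2_sEl_eq (ζ ρ : F) (hζ : ζ ≠ 0) : sEl ζ ρ = ⟨Smat ζ ρ, j2_det_Smat ζ ρ hζ⟩ :=
  dif_pos (j2_det_Smat ζ ρ hζ)

theorem j2_dEl_val (ζ : F) (hζ : ζ ≠ 0) : (dEl ζ).1 = Dmat ζ := by rw [j2_dEl_eq ζ hζ]

theorem j2_sEl_val (ζ ρ : F) (hζ : ζ ≠ 0) : (sEl ζ ρ).1 = Smat ζ ρ := by rw [j2_sEl_eq ζ ρ hζ]

theorem j2_mat_eq (ζ ρ n w n' w' : F) (hζ : ζ ≠ 0) (hw : w' * ζ ^ 2 = w) (hn : n' = ζ ^ 2 * n)
    (hT : 3 - w' = ρ + ζ * (3 - w))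
    (hE : ((3 - w') * w' - n' - 3) * ζ = (3 - w) * w - n - 3) :
    Dmat ζ * Ymat n' w' = Smat ζ ρ * Ymat n w * Dmat ζ := by
  have hρ : ρ = 3 - w' - ζ * (3 - w) := by linear_combination -hT
  subst hn
  subst hw
  subst hρ
  ext i j
  fin_cases i <;> fin_cases j
  · simp [Dmat, Smat, Ymat, Matrix.mul_apply, Fin.sum_univ_three]
  · simp [Dmat, Smat, Ymat, Matrix.mul_apply, Fin.sum_univ_three]
  · simp [Dmat, Smat, Ymat, Matrix.mul_apply, Fin.sum_univ_three]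
  · simp [Dmat, Smat, Ymat, Matrix.mul_apply, Fin.sum_univ_three]; ring
  · simp [Dmat, Smat, Ymat, Matrix.mul_apply, Fin.sum_univ_three]
  · simp [Dmat, Smat, Ymat, Matrix.mul_apply, Fin.sum_univ_three]
    field_simp
  · simp [Dmat, Smat, Ymat, Matrix.mul_apply, Fin.sum_univ_three]
    field_simp
  · simp [Dmat, Smat, Ymat, Matrix.mul_apply, Fin.sum_univ_three]
    field_simp
    linear_combination hE
  · simp [Dmat, Smat, Ymat, Matrix.mul_apply, Fin.sum_univ_three]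
    field_simp

/-- (J2) -/
theorem conj_diag (ζ ρ n w n' w' : F) (hζ : ζ ≠ 0) (hw : w' * ζ ^ 2 = w) (hn : n' = ζ ^ 2 * n)
    (hT : 3 - w' = ρ + ζ * (3 - w))
    (hE : ((3 - w') * w' - n' - 3) * ζ = (3 - w) * w - n - 3) :
    dEl ζ * yEl n' w' * (dEl ζ)⁻¹ = sEl ζ ρ * yEl n w := by
  have h : dEl ζ * yEl n' w' = sEl ζ ρ * yEl n w * dEl ζ := by
    apply Subtype.ext
    show (dEl ζ).1 * (yEl n' w').1 = (sEl ζ ρ).1 * (yEl n w).1 * (dEl ζ).1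
    rw [j2_dEl_val ζ hζ, j2_sEl_val ζ ρ hζ, j1_yEl_val, j1_yEl_val]
    exact j2_mat_eq ζ ρ n w n' w' hζ hw hn hT hE
  rw [h]; group

end Cfsg.Agent.Helper42.RT
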