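import Mathlib
import Cfsg.Agent.Lib.Helper93.RU0

set_option autoImplicit false

/-!
RU (B5) for helper93's server (S2280): the upper Jordan block `u = 1 + N` is conjugate in `SL` to
the lower Jordan block `1 + L_ε`, `ε = ±1`.  Self-contained (own copies of B1, B2).
-/

namespace Cfsg.Agent.Helper42.RU

open Matrix Cfsg.Agent.Helper93.RU

variable {F : Type*} [Field F] {m : ℕ}

theorem b5_det_u : (1 + Nmat m F).det = 1 := by
  have hT : (1 + Nmat m F).IsUpperTriangular := by
    intro i j hji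
    have hji' : j.val < i.val := hji
    rw [Matrix.add_apply, Matrix.one_apply, Nmat, Matrix.of_apply, if_neg, if_neg, add_zero]
    · omega
    · intro h; rw [h] at hji'; exact lt_irrefl _ hji'
  rw [Matrix.det_of_isUpperTriangular hT]
  apply Finset.prod_eq_one
  intro i _
  rw [Matrix.add_apply, Matrix.one_apply_eq, Nmat, Matrix.of_apply, if_neg (by omega), add_zero]

theorem b5_uEl_eq : uEl m F = ⟨1 + Nmat m F, b5_det_u⟩ := dif_pos b5_det_u

theorem b5_uEl_val : (uEl m F).1 = 1 + Nmat m F := by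
  rw [b5_uEl_eq]

theorem b5_det_l (ε : F) : (1 + Lmat (m := m) ε).det = 1 := by
  have hT : (1 + Lmat (m := m) ε).IsLowerTriangular := by
    intro i j hij
    have hij' : i.val < j.val := hij
    rw [Matrix.add_apply, Matrix.one_apply, Lmat, Matrix.of_apply, if_neg, if_neg, add_zero]
    · omega
    · intro h; rw [h] at hij'; exact lt_irrefl _ hij'
  rw [Matrix.det_of_isLowerTriangular _ hT]
  apply Finset.prod_eq_one
  intro i _
  rw [Matrix.add_apply, Matrix.one_apply_eq, Lmat, Matrix.of_apply, if_neg (by omega), add_zero]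

theorem b5_lEl_eq (ε : F) : lEl (m := m) ε = ⟨1 + Lmat ε, b5_det_l ε⟩ := dif_pos (b5_det_l ε)

theorem b5_lEl_val (ε : F) : (lEl (m := m) ε).1 = 1 + Lmat ε := by
  rw [b5_lEl_eq]

/-- the conjugating matrix: antidiagonal, with `σ` in the first row -/
def b5H (m : ℕ) (σ : F) : Matrix (Fin (m + 3)) (Fin (m + 3)) F :=
  Matrix.of fun i j => if Fin.rev i = j then (if i.val = 0 then σ else 1) else 0

theorem b5H_mul (σ : F) (A : Matrix (Fin (m + 3)) (Fin (m + 3)) F) (i j : Fin (m + 3)) :
    (b5H m σ * A) i j = (if i.val = 0 then σ else 1) * A (Fin.rev i) j := by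
  rw [Matrix.mul_apply, Finset.sum_eq_single (Fin.rev i)]
  · rw [b5H, Matrix.of_apply, if_pos rfl]
  · intro k _ hk
    rw [b5H, Matrix.of_apply, if_neg (Ne.symm hk), zero_mul]
  · intro h
    exact absurd (Finset.mem_univ _) h

theorem mul_b5H (σ : F) (B : Matrix (Fin (m + 3)) (Fin (m + 3)) F) (i j : Fin (m + 3)) :
    (B * b5H m σ) i j = B i (Fin.rev j) * (if (Fin.rev j).val = 0 then σ else 1) := by
  rw [Matrix.mul_apply, Finset.sum_eq_single (Fin.rev j)]
  · rw [b5H, Matrix.of_apply, if_pos (Fin.rev_rev j)]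
  · intro k _ hk
    have : Fin.rev k ≠ j := by
      intro h
      apply hk
      rw [← h, Fin.rev_rev]
    rw [b5H, Matrix.of_apply, if_neg this, mul_zero]
  · intro h
    exact absurd (Finset.mem_univ _) h

theorem b5_key (σ : F) (hσ : σ * σ = 1) :
    b5H m σ * (1 + Nmat m F) = (1 + Lmat σ) * b5H m σ := by
  ext i j
  rw [b5H_mul, mul_b5H]
  have ha := i.isLt
  have hc := j.isLt
  simp only [Matrix.add_apply, Matrix.one_apply, Nmat, Lmat, Matrix.of_apply, Fin.ext_iff,
    Fin.val_rev]
  split_ifs <;> first | (exfalso; omega) | (simp [hσ])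

/-- (B5) `h := D * P`, `P` the antidiagonal permutation matrix, `σ := det P = ±1`. -/
theorem exists_conj_lower :
    ∃ ε : F, (ε = 1 ∨ ε = -1) ∧ ∃ h : SLm m F, h * uEl m F * h⁻¹ = lEl ε := by
  classical
  set u : ℤˣ := Equiv.Perm.sign (Fin.revPerm : Equiv.Perm (Fin (m + 3))) with hu
  let σ : F := ((u : ℤ) : F)
  have hσσ : σ * σ = 1 := by
    have h1 : (u : ℤ) * (u : ℤ) = 1 := by
      rw [← Units.val_mul, Int.units_mul_self, Units.val_one]
    show ((u : ℤ) : F) * ((u : ℤ) : F) = 1
    rw [← Int.cast_mul, h1, Int.cast_one]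
  have hσ1 : σ = 1 ∨ σ = -1 := by
    rcases Int.units_eq_one_or u with h | h
    · left
      show ((u : ℤ) : F) = 1
      rw [h]; simp
    · right
      show ((u : ℤ) : F) = -1
      rw [h]; simp
  have hdet : (b5H m σ).det = 1 := by
    have h1 : b5H m σ = (Matrix.diagonal
        (fun k : Fin (m + 3) => if (Fin.rev k).val = 0 then σ else 1)).submatrix
          (Fin.revPerm : Equiv.Perm (Fin (m + 3))) id := by
      ext i j
      rw [Matrix.submatrix_apply, b5H, Matrix.of_apply, Matrix.diagonal_apply, id,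
        Fin.revPerm_apply, Fin.rev_rev]
    rw [h1, Matrix.det_permute, Matrix.det_diagonal,
      Finset.prod_eq_single (Fin.rev (0 : Fin (m + 3)))]
    · rw [Fin.rev_rev, if_pos (by rfl)]
      exact hσσ
    · intro k _ hk
      rw [if_neg]
      intro h0
      apply hk
      have h2 : Fin.rev k = 0 := Fin.ext h0
      rw [← h2, Fin.rev_rev]
    · intro h
      exact absurd (Finset.mem_univ _) h
  let h' : SLm m F := ⟨b5H m σ, hdet⟩
  refine ⟨σ, hσ1, h', ?_⟩
  rw [mul_inv_eq_iff_eq_mul]
  apply Subtype.ext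
  show b5H m σ * (uEl m F).1 = (lEl σ).1 * b5H m σ
  rw [b5_uEl_val, b5_lEl_val]
  exact b5_key σ hσσ

end Cfsg.Agent.Helper42.RU
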