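import Mathlib
import Cfsg.Agent.Lib.Helper93.RU0

/-!
# S79 project (S2279, 10u): `SL_n(F)`, `n ≥ 4`, is generated by two conjugate regular unipotents,
for EVERY finite field `F`.  Shared definitions (server: helper42).  `n = m + 3`, `1 ≤ m`.

`u = 1 + N` (`RU.uEl`), `g = x_{n-1,0}(c) = 1 + c e_{n-1} e_0ᵀ`, `v = g u g⁻¹`, `H = ⟨u, v⟩`.
`p_t = u^t e_{n-1}` has entries `C(t, n-1-i)`; `q_{-t} = e_0ᵀ u^t` has entries `C(t, i)`;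
Gram: `q_{-a} · p_b = C(a+b, n-1)`.  `T(a,b;μ) = 1 + μ p_a q_{-b}ᵀ` is a transvection for `a + b ≤ n-2 = m+1`,
and `u T(a,b+1;μ) u⁻¹ = T(a+1,b;μ)`.   `A_d = {μ : T(d,0;μ) ∈ H}`.
-/

set_option autoImplicit false

namespace Cfsg.Agent.Helper42.S79

open Matrix Cfsg.Agent.Helper93.RU

variable {F : Type*} [Field F] {m : ℕ}

/-- `p_t = u^t e_{n-1}`: entries `C(t, n-1-i)` (`n - 1 = m + 2`) -/
def pV (t : ℕ) : Fin (m + 3) → F := fun i => ((t.choose (m + 2 - i.val) : ℕ) : F)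

/-- `q_{-t} = e_0ᵀ u^t`: entries `C(t, i)` -/
def qV (t : ℕ) : Fin (m + 3) → F := fun i => ((t.choose i.val : ℕ) : F)

/-- the alternating row `e_0ᵀ u⁻¹`: entries `(-1)^i` -/
def aV : Fin (m + 3) → F := fun i => (-1) ^ i.val

/-- `g = x_{n-1,0}(c) = 1 + c e_{n-1} e_0ᵀ` -/
noncomputable def gEl (c : F) : SLm m F := tvS (pV 0) (c • qV 0)

/-- the transvection `T(a,b;μ) = 1 + μ p_a q_{-b}ᵀ` -/
noncomputable def TT (a b : ℕ) (μ : F) : SLm m F := tvS (pV a) (μ • qV b)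

/-- `σ₀ = v u⁻¹` with `v = g u g⁻¹` -/
noncomputable def sig (c : F) : SLm m F := gEl c * uEl m F * (gEl c)⁻¹ * (uEl m F)⁻¹

/-- the coefficient sets `A_d = {μ : T(d,0;μ) ∈ H}` -/
def AA (H : Subgroup (SLm m F)) (d : ℕ) : Set F := {μ | TT d 0 μ ∈ H}

/-- the abstract hypotheses on the family `A_d` (`d ≤ m+1`) used by the closing argument -/
structure Cl (m : ℕ) (c e : F) (A : ℕ → Set F) : Prop where
  he : e = 1 ∨ e = -1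
  zero : ∀ d ≤ m + 1, (0 : F) ∈ A d
  add : ∀ d ≤ m + 1, ∀ x ∈ A d, ∀ y ∈ A d, x + y ∈ A d
  neg : ∀ d ≤ m + 1, ∀ x ∈ A d, -x ∈ A d
  h3 : c ^ 3 ∈ A 2
  r1 : ∀ d ≤ m, ∀ x ∈ A d, -(c * e) * x ∈ A (d + 1)
  rel : ∀ d1 ≤ m + 1, ∀ d2 ≤ m + 1, ∀ t ≤ d1 + d2, d1 + d2 - t ≤ m + 1 → ∀ x ∈ A d1, ∀ y ∈ A d2,
    -(x * y * ((t.choose (m + 2) : ℕ) : F)) ∈ A (d1 + d2 - t)

/-- `B = c · A_{m+1}` -/
def BB (m : ℕ) (c : F) (A : ℕ → Set F) : Set F := {y | ∃ x ∈ A (m + 1), y = c * x}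

end Cfsg.Agent.Helper42.S79
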