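import Mathlib
import Cfsg.Agent.Lib.Helper62.SLN0

/-!
# SLNC (GENS), (GENU) for helper93's sub-server (TOP-C of helper62's SLN server, S2332)

`U₀` and `Q` are generated by the root elements; a vector fixed by all `uEl (s • single i 1)` lies in `wt 0`.
-/

set_option autoImplicit false

namespace Cfsg.Agent.Helper42.SLNC

open Matrix Module Cfsg.Agent.Helper93.U2 Cfsg.Agent.Helper62.SLN

section SLN

variable {F : Type*} [Field F] [Fintype F] [DecidableEq F] {κ : Type} [Fintype κ] [DecidableEq κ]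
  {V : Type*} [AddCommGroup V] [Module ℂ V] [FiniteDimensional ℂ V]
  (ψ : AddChar F ℂ) (pr : Pairing (κ → F)) (hpr : ∀ w u, pr.β w u = ψ (w ⬝ᵥ u))
  (ρ : Representation ℂ (SpecialLinearGroup (Unit ⊕ κ) F) V)

omit [Fintype F] [DecidableEq F] in
theorem h42_sum_single (b : κ → F) : b = ∑ i, b i • (Pi.single i 1 : κ → F) := by
  funext k
  simp [Finset.sum_apply, Pi.single_apply]

omit [Fintype F] [DecidableEq F] [FiniteDimensional ℂ V] in
/-- a family `el` with `el (a + b) = el a * el b`: a vector fixed by `el` of every term of a sum is fixed by `el` of the sum -/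
theorem h42_fix_sum {A : Type*} [AddCommMonoid A]
    (el : A → SpecialLinearGroup (Unit ⊕ κ) F) (hel : ∀ a b, el (a + b) = el a * el b)
    (v : V) {ι : Type*} (s : Finset ι) (f : ι → A) (h : ∀ i ∈ s, ρ (el (f i)) v = v) :
    ρ (el (∑ i ∈ s, f i)) v = v := by
  have h0 : el 0 = 1 := by
    have h1 := hel 0 0
    rw [add_zero] at h1
    have h2 : el 0 * el 0 = el 0 * 1 := by rw [mul_one]; exact h1.symm
    exact mul_left_cancel h2
  apply Finset.sum_induction f (fun a => ρ (el a) v = v)
  · intro a b ha hb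
    rw [hel, map_mul, Module.End.mul_apply, hb, ha]
  · rw [h0, map_one, Module.End.one_apply]
  · exact h

omit [Fintype F] [DecidableEq F] [FiniteDimensional ℂ V] in
/-- piece GENS [M]: `U₀` and `Q` are generated by the root elements (`uEl_add` G1 / `qEl_add` G8 are passed as hypotheses;
`u = ∑ i, u i • single i 1`, `qEl j (s • single j 1) = 1`). -/
theorem mem_fixSp_of_gens
    (hadd : ∀ u u' : κ → F, (uEl (u + u') : SpecialLinearGroup (Unit ⊕ κ) F) = uEl u * uEl u')
    (hqadd : ∀ (j : κ) (t t' : κ → F),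
      (qEl j (t + t') : SpecialLinearGroup (Unit ⊕ κ) F) = qEl j t * qEl j t')
    (j : κ) (v : V)
    (h1 : ∀ i : κ, i ≠ j → ∀ s : F, ρ (uEl (s • (Pi.single i 1 : κ → F))) v = v)
    (h2 : ∀ i : κ, i ≠ j → ∀ s : F, ρ (qEl j (s • (Pi.single i 1 : κ → F))) v = v) :
    v ∈ fixSp ρ (U0set (F := F) j ∪ Qset (F := F) j) := by
  rw [mem_fixSp]
  have hu0 : (uEl (0 : κ → F) : SpecialLinearGroup (Unit ⊕ κ) F) = 1 := by
    have h := hadd 0 0
    rw [add_zero] at h
    have h2 : (uEl (0 : κ → F) : SpecialLinearGroup (Unit ⊕ κ) F) * uEl 0 = uEl 0 * 1 := by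
      rw [mul_one]; exact h.symm
    exact mul_left_cancel h2
  have hq0 : (qEl j (0 : κ → F) : SpecialLinearGroup (Unit ⊕ κ) F) = 1 := by
    have h := hqadd j 0 0
    rw [add_zero] at h
    have h2 : (qEl j (0 : κ → F) : SpecialLinearGroup (Unit ⊕ κ) F) * qEl j 0 = qEl j 0 * 1 := by
      rw [mul_one]; exact h.symm
    exact mul_left_cancel h2
  rintro g (⟨u, huj, rfl⟩ | ⟨t, rfl⟩)
  · rw [h42_sum_single u]
    apply h42_fix_sum ρ uEl hadd
    intro i _
    by_cases hi : i = j
    · subst hi
      rw [huj, zero_smul, hu0, map_one, Module.End.one_apply]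
    · exact h1 i hi _
  · rw [h42_sum_single t]
    apply h42_fix_sum ρ (qEl j) (hqadd j)
    intro i _
    by_cases hi : i = j
    · subst hi
      have hq : (qEl i (t i • (Pi.single i 1 : κ → F)) : SpecialLinearGroup (Unit ⊕ κ) F) =
          qEl i 0 := by
        unfold qEl
        congr 1
        apply Subtype.ext
        rw [tvEl_val, tvEl_val]
        congr 2
        funext k
        by_cases hk : k = i
        · subst hk; simp
        · simp [hk]
      rw [hq, hq0, map_one, Module.End.one_apply]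
    · exact h2 i hi _

omit [Fintype F] [DecidableEq F] [FiniteDimensional ℂ V] in
/-- piece GENU [S-M]: a vector fixed by all `uEl (s • single i 1)` lies in `wt 0` (`hadd`, `Pairing_zero_left`). -/
theorem mem_wt_zero_of_gens
    (hadd : ∀ u u' : κ → F, (uEl (u + u') : SpecialLinearGroup (Unit ⊕ κ) F) = uEl u * uEl u')
    (v : V) (h1 : ∀ i : κ, ∀ s : F, ρ (uEl (s • (Pi.single i 1 : κ → F))) v = v) :
    v ∈ wt pr ρ 0 := by
  change v ∈ wsp pr uEl ρ 0
  rw [mem_wsp]
  intro b
  rw [pr.symm, pr.zero_right, one_smul, h42_sum_single b]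
  apply h42_fix_sum ρ uEl hadd
  intro i _
  exact h1 i _

end SLN

end Cfsg.Agent.Helper42.SLNC
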