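import Mathlib
import Cfsg.Agent.Lib.Helper62.SLN0
import Cfsg.Agent.Lib.Helper26.SLN_R
import Cfsg.Agent.Lib.Helper60.SLN_S1
import Cfsg.Agent.Lib.Helper78.SLN_G14

/-!
# SLN (K1a3) for helper62's lemma server (S2332): `n = 3`, `q ∉ {2, 4}`: `Q` acts trivially on the weight lines `F e_j`
(R4 + S1d + S1 + G14)
-/

set_option autoImplicit false

namespace Cfsg.Agent.Helper42.SLN

open Matrix Module Cfsg.Agent.Helper93.U2 Cfsg.Agent.Helper62.SLN

section SLN

variable {F : Type*} [Field F] [Fintype F] [DecidableEq F] {κ : Type} [Fintype κ] [DecidableEq κ]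
  {V : Type*} [AddCommGroup V] [Module ℂ V] [FiniteDimensional ℂ V]
  (ψ : AddChar F ℂ) (pr : Pairing (κ → F)) (hpr : ∀ w u, pr.β w u = ψ (w ⬝ᵥ u))
  (ρ : Representation ℂ (SpecialLinearGroup (Unit ⊕ κ) F) V)

omit [Fintype F] [DecidableEq F] in
/-- the transvection `1 + e_j t̃ᵀ` fixes `e_j` -/
theorem h42_tvEl_mulVec_single (j : κ) (t : κ → F) :
    (tvEl j t).1 *ᵥ (Pi.single j 1 : κ → F) = Pi.single j 1 := by
  rw [tvEl_val, Matrix.add_mulVec, Matrix.one_mulVec]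
  have h : vecMulVec (Pi.single j (1 : F)) (Function.update t j 0) *ᵥ (Pi.single j 1 : κ → F) = 0 := by
    funext k
    simp [Matrix.mulVec, dotProduct, vecMulVec_apply, Pi.single_apply, Function.update_apply]
  rw [h, add_zero]

include hpr

omit [DecidableEq F] in
/-- piece K1a3 (R4 + S1d + G14), `n = 3`, `q ∉ {2, 4}` -/
theorem k1a_three (hκ : Fintype.card κ = 2) (hq2 : Fintype.card F ≠ 2) (hq4 : Fintype.card F ≠ 4)
    (hd1 : ∀ w : κ → F, w ≠ 0 → finrank ℂ (wt pr ρ w) = 1)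
    (j : κ) (a : F) (ha : a ≠ 0) (t : κ → F) (v : V) (hv : v ∈ wt pr ρ (a • Pi.single j 1)) :
    ρ (qEl j t) v = v := by
  classical
  obtain ⟨a0, A, t', hdet, hfix, hcomm⟩ :=
    Cfsg.Agent.Helper78.SLN.qEl_comm_torus_two (F := F) hκ hq2 hq4 j t
  have hw : a • (Pi.single j 1 : κ → F) ≠ 0 := by
    intro h
    have h1 := congrFun h j
    simp at h1
    exact ha h1
  rw [hcomm]
  refine Cfsg.Agent.Helper26.SLN.comm_fix_line ρ (wt pr ρ (a • Pi.single j 1))
    (le_of_eq (hd1 _ hw)) (dEl a0 A) (qEl j t') ?_ ?_ v hv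
  · intro v' hv'
    have h := Cfsg.Agent.Helper60.SLN.map_wt_dEl ψ pr hpr ρ a0 A hdet _ v' hv'
    rwa [Matrix.mulVec_smul, smul_comm, hfix] at h
  · intro v' hv'
    have h := Cfsg.Agent.Helper60.SLN.map_wt_lEl ψ pr hpr ρ (tvEl j t') _ v' hv'
    rwa [Matrix.mulVec_smul, h42_tvEl_mulVec_single] at h

end SLN

end Cfsg.Agent.Helper42.SLN
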