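import Mathlib
import Cfsg.Agent.Lib.Helper2.SR0

/-!
# SR (C0), (C11) for helper2's server (S2281): forms of basis vectors and of the concrete vectors
-/

set_option autoImplicit false

namespace Cfsg.Agent.Helper42.SR

open Matrix Cfsg Cfsg.Agent.Helper13 Cfsg.Agent.Helper84.SpRoot Cfsg.Agent.Helper5.SpAut
open Cfsg.Agent.Helper2.SR

section C
variable {F : Type*} [Field F] {m : ℕ}

/-- (C0) forms of basis vectors -/
theorem form_basis (x : Fin (m + 2) ⊕ Fin (m + 2) → F) (i : Fin (m + 2)) :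
    Cfsg.sympForm (m + 2) F x (be i) = x (Sum.inr i) ∧
    Cfsg.sympForm (m + 2) F x (bf i) = - x (Sum.inl i) ∧
    Cfsg.sympForm (m + 2) F (be i) x = - x (Sum.inr i) ∧
    Cfsg.sympForm (m + 2) F (bf i) x = x (Sum.inl i) := by
  refine ⟨sympForm_single_inl' x i, sympForm_single_inr' x i, ?_, ?_⟩
  · rw [sympForm_swap]
    exact congrArg Neg.neg (sympForm_single_inl' x i)
  · rw [sympForm_swap]
    have := sympForm_single_inr' x i
    unfold bf
    rw [this, neg_neg]

/-- (C11) uses C0 -/
theorem forms (s : F) :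
    Cfsg.sympForm (m + 2) F (be 1) (be 0) = 0 ∧
    Cfsg.sympForm (m + 2) F (pV s) (be 0) = 0 ∧
    Cfsg.sympForm (m + 2) F (be 1) (pV s) = s ∧
    Cfsg.sympForm (m + 2) F (- be 0 + (2 : F) • be 1 + s • bf 0) (be 0) = s := by
  have h01 : (0 : Fin (m + 2)) ≠ 1 := by
    intro h
    have := congrArg Fin.val h
    simp at this
  have h10 : (1 : Fin (m + 2)) ≠ 0 := fun h => h01 h.symm
  refine ⟨?_, ?_, ?_, ?_⟩
  · rw [(form_basis (F := F) (m := m) (be 1) 0).1]
    simp [be]
  · rw [(form_basis (F := F) (m := m) (pV s) 0).1]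
    simp [pV, be, bf, h01]
  · unfold pV
    rw [sympForm_sub_right, sympForm_sub_right, sympForm_smul_right, sympForm_smul_right,
      sympForm_self, (form_basis (F := F) (m := m) (be 1) 0).1,
      (form_basis (F := F) (m := m) (be 1) 1).2.1]
    simp [be]
  · rw [(form_basis (F := F) (m := m) _ 0).1]
    simp [be, bf]

end C

end Cfsg.Agent.Helper42.SR
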