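import Mathlib
import Cfsg.Agent.Lib.Helper2.SR0
import Cfsg.Agent.Lib.Helper42.SRK6
import Cfsg.Agent.Lib.Helper85.SRK3

/-!
# SR (K6) for helper2's server (S2281): verbatim statement, from helper85's (K3) `pingpong`
-/

set_option autoImplicit false

namespace Cfsg.Agent.Helper42.SR

open Matrix Cfsg Cfsg.Agent.Helper13 Cfsg.Agent.Helper84.SpRoot Cfsg.Agent.Helper5.SpAut
open Cfsg.Agent.Helper2.SR

section K
variable {F : Type*} [Field F] {n : ℕ}
  {H : Subgroup (Matrix.symplecticGroup (Fin n) F)} {u l : Matrix.symplecticGroup (Fin n) F}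
  {e0 e1 p : Fin n ⊕ Fin n → F} {κ γ : F}

/-- (K6) `eich e0 w c ∈ H` with `w = (a/γ) • p` maps `e1` to `e1 + a • e0` -/
theorem orb_e1_add (hyp : Hyp H u l e0 e1 p κ γ) : ∀ a : F, e1 + a • e0 ∈ Orb H e0 :=
  orb_e1_add_of hyp (Cfsg.Agent.Helper85.SR.pingpong hyp)

end K

end Cfsg.Agent.Helper42.SR
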