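import Mathlib
import Cfsg.Agent.Lib.Helper2.SR0
import Cfsg.Agent.Lib.Helper42.SRK6
import Cfsg.Agent.Lib.Helper12.SRK7
import Cfsg.Agent.Lib.Helper94.SRK9a

/-!
# SR (K8), (K9) for helper2's server (S2281): verbatim statements, from helper12's (K7) and helper94's (K9a)
-/

set_option autoImplicit false

namespace Cfsg.Agent.Helper42.SR

open Matrix Cfsg Cfsg.Agent.Helper13 Cfsg.Agent.Helper84.SpRoot Cfsg.Agent.Helper5.SpAut
open Cfsg.Agent.Helper2.SR

section K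
variable {F : Type*} [Field F] {n : ℕ}
  {H : Subgroup (Matrix.symplecticGroup (Fin n) F)} {u l : Matrix.symplecticGroup (Fin n) F}
  {e0 e1 p : Fin n ⊕ Fin n → F} {κ γ : F}

/-- (K8) `sympT (a • p) κ = sympT p (κ a²)`, conjugate by `l` -/
theorem MM_sq (hyp : Hyp H u l e0 e1 p κ γ) : ∀ a : F, κ * a ^ 2 ∈ MM H e0 :=
  MM_sq_of hyp (Cfsg.Agent.Helper12.SR.orb_smul_p hyp)

/-- (K9) -/
theorem MM_top [Finite F] (hyp : Hyp H u l e0 e1 p κ γ) : ∀ c : F, c ∈ MM H e0 :=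
  MM_top_of hyp (MM_sq hyp) (fun S hS => Cfsg.Agent.Helper94.SR.sq_span S hS)

end K

end Cfsg.Agent.Helper42.SR
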