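import Mathlib
import Cfsg.Agent.Lib.Helper42.SU3Spec3
import Cfsg.Agent.Lib.Helper42.SingerOrd
import Cfsg.Agent.Lib.Helper42.PrimeCent4
import Cfsg.Agent.Lib.Helper44.UnitaryTv

set_option autoImplicit false
set_option linter.unusedSectionVars false

/-!
# The Hermitian trace form on the cubic extension and elements of order `(q^2-q+1)/d`
-/

namespace Cfsg.Agent.Helper42.SU3Spec

open Matrix Module Cfsg.Agent.Helper42.SUReg Cfsg.Agent.Helper63.PSUCent Cfsg.Agent.Helper42.UEig
  Cfsg.Agent.Lead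

section cubic

variable {K : Type*} [Field K] [Fintype K] {q : ℕ} (hK : Fintype.card K = q ^ 2)
variable {E : Type*} [Field E] [Algebra K E] [Finite E] (hfin : finrank K E = 3)

include hK hfin

lemma pow_q6 (x : E) : x ^ (q ^ 6) = x := by
  have := Fintype.ofFinite E
  have h1 : Fintype.card E = q ^ 6 := by
    rw [Module.card_eq_pow_finrank (K := K) (V := E), hfin, hK, ← pow_mul]
  rw [← h1, FiniteField.pow_card]

omit hfin in
lemma algebraMap_pow_q2 (c : K) : (algebraMap K E c) ^ (q ^ 2) = algebraMap K E c := by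
  rw [← map_pow, ← hK, FiniteField.pow_card]

lemma algebraMap_trace (x : E) :
    algebraMap K E (Algebra.trace K E x) = x + x ^ (q ^ 2) + x ^ ((q ^ 2) ^ 2) := by
  rw [FiniteField.algebraMap_trace_eq_sum_pow, hfin, Nat.card_eq_fintype_card, hK,
    Finset.sum_range_succ, Finset.sum_range_succ, Finset.sum_range_one, pow_zero, pow_one, pow_one]

variable (p : ℕ) [Fact p.Prime] [CharP K p] {k : ℕ} (hqk : q = p ^ k)

omit [Fintype K] [Finite E] hK hfin in
/-- the involutive semilinear automorphism `x ↦ x ^ (q ^ 3)` -/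
noncomputable def sig3 (K : Type*) [Field K] {E : Type*} [Field E] [Algebra K E] (p : ℕ)
    [Fact p.Prime] [CharP K p] (k : ℕ) : E →+* E :=
  haveI : CharP E p := charP_of_injective_algebraMap (algebraMap K E).injective p
  haveI : ExpChar E p := ExpChar.prime Fact.out
  iterateFrobenius E p (k * 3)

include hqk

omit hK hfin in
lemma sig3_apply (x : E) : sig3 K p k x = x ^ (q ^ 3) := by
  have : CharP E p := charP_of_injective_algebraMap (algebraMap K E).injective p
  have : ExpChar E p := ExpChar.prime Fact.out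
  unfold sig3
  rw [iterateFrobenius_def, hqk, ← pow_mul]

lemma sig3_sig3 (x : E) : sig3 K p k (sig3 K p k x) = x := by
  rw [sig3_apply p hqk, sig3_apply p hqk, ← pow_mul, ← pow_add]
  exact pow_q6 hK hfin x

lemma sig3_algebraMap (c : K) :
    sig3 K p k (algebraMap K E c) = algebraMap K E (c ^ q) := by
  rw [sig3_apply p hqk, map_pow]
  have h1 : q ^ 3 = q ^ 2 * q := by ring
  rw [h1, pow_mul, algebraMap_pow_q2 hK]

lemma trace_sig3 (x : E) :
    Algebra.trace K E (sig3 K p k x) = (Algebra.trace K E x) ^ q := by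
  apply (algebraMap K E).injective
  rw [algebraMap_trace hK hfin, ← sig3_algebraMap hK hfin p hqk, algebraMap_trace hK hfin, map_add,
    map_add, map_pow, map_pow]

/-- the Hermitian trace form -/
noncomputable def trHerm (hK : Fintype.card K = q ^ 2) (hfin : finrank K E = 3) (p : ℕ)
    [Fact p.Prime] [CharP K p] {k : ℕ} (hqk : q = p ^ k) : HermForm K q E where
  toFun a b := Algebra.trace K E (a * sig3 K p k b)
  add_left u v w := by rw [add_mul, map_add]
  smul_left a u w := by rw [smul_mul_assoc, map_smul, smul_eq_mul]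
  conj u v := by
    rw [← trace_sig3 hK hfin p hqk, map_mul (sig3 K p k), sig3_sig3 hK hfin p hqk, mul_comm]

lemma trHerm_apply (a b : E) :
    trHerm hK hfin p hqk a b = Algebra.trace K E (a * sig3 K p k b) := rfl

lemma trHerm_nondeg : (trHerm (E := E) hK hfin p hqk).Nondeg := by
  intro u hu
  have h1 := (traceForm_nondegenerate K E).2 (sig3 K p k u) (fun v => by
    rw [Algebra.traceForm_apply]
    exact hu v)
  rw [sig3_apply p hqk] at h1
  exact pow_eq_zero_iff (pow_ne_zero _ (q_ne_zero hK)) |>.mp h1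

lemma trHerm_mul (z : E) (hz : z ^ (q ^ 3 + 1) = 1) (a b : E) :
    trHerm hK hfin p hqk (z * a) (z * b) = trHerm hK hfin p hqk a b := by
  rw [trHerm_apply, trHerm_apply, map_mul (sig3 K p k)]
  have h1 : z * sig3 K p k z = 1 := by
    rw [sig3_apply p hqk, ← pow_succ']
    exact hz
  have h2 : z * a * (sig3 K p k z * sig3 K p k b) =
      (z * sig3 K p k z) * (a * sig3 K p k b) := by ring
  rw [h2, h1, one_mul]

end cubic


section ortho

variable {K : Type*} [Field K] [Fintype K] {q : ℕ} (hK : Fintype.card K = q ^ 2)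
variable {V : Type*} [AddCommGroup V] [Module K V]

include hK in
lemma ortho_expand' (B : HermForm K q V) {n : ℕ} (b : Fin n → V)
    (hb : IsOrthoFam B n b) (a c : Fin n → K) :
    B (∑ i, a i • b i) (∑ j, c j • b j) = ∑ i, a i * (c i) ^ q := by
  classical
  rw [HermForm.sum_left]
  apply Finset.sum_congr rfl
  intro i _
  rw [HermForm.sum_right _ hK]
  congr 1
  rw [Finset.sum_eq_single i]
  · rw [hb i i, if_pos rfl, mul_one]
  · intro j _ hj
    rw [hb i j, if_neg (Ne.symm hj), mul_zero]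
  · intro h
    exact absurd (Finset.mem_univ i) h

lemma ortho_linearIndependent' (B : HermForm K q V) {n : ℕ} (b : Fin n → V)
    (hb : IsOrthoFam B n b) : LinearIndependent K b := by
  classical
  rw [Fintype.linearIndependent_iff]
  intro a ha j
  have h1 : B (∑ i, a i • b i) (b j) = a j := by
    rw [HermForm.sum_left, Finset.sum_eq_single j]
    · rw [hb j j, if_pos rfl, mul_one]
    · intro i _ hi
      rw [hb i j, if_neg hi, mul_zero]
    · intro h
      exact absurd (Finset.mem_univ j) h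
  rw [ha, HermForm.zero_left] at h1
  exact h1.symm

include hK in
/-- the matrix of an isometry in an orthonormal basis is unitary -/
lemma isU_of_isometry [FiniteDimensional K V] (B : HermForm K q V) {n : ℕ}
    (b : Basis (Fin n) K V) (hb : IsOrthoFam B n b) (f : V →ₗ[K] V)
    (hf : ∀ u v, B (f u) (f v) = B u v) : IsU hK (LinearMap.toMatrix b b f) := by
  classical
  unfold IsU
  set M := LinearMap.toMatrix b b f with hM
  have hfb : ∀ j, f (b j) = ∑ i, M i j • b i := by
    intro j
    rw [← b.sum_repr (f (b j))]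
    apply Finset.sum_congr rfl
    intro i _
    rw [hM, LinearMap.toMatrix_apply]
  ext i j
  rw [Matrix.mul_apply]
  have h1 := hf (b j) (b i)
  rw [hfb j, hfb i, ortho_expand' hK B b hb, hb j i] at h1
  rw [Matrix.one_apply]
  have h2 : (if j = i then (1 : K) else 0) = if i = j then 1 else 0 := by
    by_cases h : i = j
    · rw [if_pos h, if_pos h.symm]
    · rw [if_neg h, if_neg (Ne.symm h)]
  rw [← h2, ← h1]
  apply Finset.sum_congr rfl
  intro l _
  rw [ad_apply, mul_comm]

end ortho


section final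

open Cfsg.Agent.Helper42.PrimeCent Cfsg.Agent.Helper42.SingerOrd

variable {K : Type*} [Field K] [Fintype K] {q : ℕ} (hK : Fintype.card K = q ^ 2)

lemma arith_q6 (q : ℕ) (hq : 1 ≤ q) :
    (q ^ 2 - q + 1) * (q + 1) = q ^ 3 + 1 ∧ (q ^ 2 - q + 1) * (q ^ 2 + q + 1) = 1 + q ^ 2 + q ^ 4 ∧
      (q ^ 2 - q + 1) ∣ (q ^ 2) ^ 3 - 1 := by
  obtain ⟨r, rfl⟩ : ∃ r, q = r + 1 := ⟨q - 1, by omega⟩
  have h1 : (r + 1) ^ 2 - (r + 1) + 1 = r ^ 2 + r + 1 := by
    have : (r + 1) ^ 2 = r ^ 2 + r + (r + 1) := by ring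
    omega
  rw [h1]
  refine ⟨by ring, by ring, ?_⟩
  have h2 : ((r + 1) ^ 2) ^ 3 - 1 = ((r + 1) ^ 3 - 1) * ((r + 1) ^ 3 + 1) := by
    rw [← sq_sub_one_eq _ (Nat.one_le_pow _ _ (by omega)), ← pow_mul, ← pow_mul]
  rw [h2]
  refine Dvd.dvd.mul_left ⟨r + 2, by ring⟩ _

include hK in
/-- elements of order `(q ^ 2 - q + 1) / d` -/
theorem exists_order_four (p : ℕ) [Fact p.Prime] [CharP K p] (hq : 2 ≤ q) :
    ∃ x : Cfsg.PSU 3 K q, orderOf x = (q ^ 2 - q + 1) / Nat.gcd 3 (q + 1) := by
  classical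
  obtain ⟨p', hp', hc', k, hqk⟩ := Cfsg.Agent.Helper19.herm_q_eq_pow hK
  have hpp : p' = p := CharP.eq K hc' ‹CharP K p›
  subst hpp
  obtain ⟨ha1, ha2, ha3⟩ := arith_q6 q (by omega)
  set E := FiniteField.Extension K p' 3 with hE
  have hfin : finrank K E = 3 := FiniteField.finrank_extension K p' 3
  have hdiv : (q ^ 2 - q + 1) ∣ Nat.card K ^ 3 - 1 := by
    rw [Nat.card_eq_fintype_card, hK]
    exact ha3
  obtain ⟨z', hz'⟩ := exists_unit_orderOf (F := K) p' 3 _ hdiv
  set z : E := (z' : E) with hz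
  have hz0 : z ≠ 0 := z'.ne_zero
  have hord : orderOf z = q ^ 2 - q + 1 := by rw [hz, orderOf_units, hz']
  have hz1 : z ^ (q ^ 2 - q + 1) = 1 := by rw [← hord, pow_orderOf_eq_one]
  have hz2 : z ^ (q ^ 3 + 1) = 1 := by rw [← ha1, pow_mul, hz1, one_pow]
  set B := trHerm (E := E) hK hfin p' hqk with hB
  have hBn : B.Nondeg := trHerm_nondeg hK hfin p' hqk
  obtain ⟨x, hx⟩ := Cfsg.Agent.Helper44.exists_frame hK 3 E B hBn hfin
  set b : Basis (Fin 3) K E := basisOfLinearIndependentOfCardEqFinrank' x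
    (ortho_linearIndependent' B x hx) (by rw [Fintype.card_fin, hfin]) with hb
  have hbx : ∀ i, b i = x i := fun i => by
    rw [hb, coe_basisOfLinearIndependentOfCardEqFinrank']
  have hbo : IsOrthoFam B 3 b := by
    intro i j
    rw [hbx, hbx]
    exact hx i j
  let φ : E →ₐ[K] Matrix (Fin 3) (Fin 3) K := Algebra.leftMulMatrix b
  have hφ : Function.Injective φ := Algebra.leftMulMatrix_injective b
  have hφc : ∀ c : K, φ (algebraMap K E c) = c • (1 : Matrix (Fin 3) (Fin 3) K) := fun c => by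
    rw [AlgHom.commutes, Algebra.algebraMap_eq_smul_one]
  set M := φ z with hM
  have hU : IsU hK M := by
    have h1 : M = LinearMap.toMatrix b b (LinearMap.mulLeft K z) := by
      rw [hM, Algebra.toMatrix_lmul_eq]
    rw [h1]
    apply isU_of_isometry hK B b hbo
    intro u v
    exact trHerm_mul hK hfin p' hqk z hz2 u v
  have hdet : M.det = 1 := by
    have h1 : M.det = Algebra.norm K z := (Algebra.norm_eq_matrix_det b z).symm
    rw [h1]
    apply (algebraMap K E).injective
    rw [FiniteField.algebraMap_norm_eq_pow_sum, hfin, Nat.card_eq_fintype_card, hK,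
      Finset.sum_range_succ, Finset.sum_range_succ, Finset.sum_range_one, pow_zero, pow_one,
      map_one]
    have h2 : 1 + q ^ 2 + (q ^ 2) ^ 2 = (q ^ 2 - q + 1) * (q ^ 2 + q + 1) := by
      rw [ha2]
      ring
    rw [h2, pow_mul, hz1, one_pow]
  apply exists_psu_of_matrix hK (le_refl 3) 1 M (ad_one hK) 1 one_ne_zero
    (by rw [mul_one, one_smul]) (by rw [mul_one]; exact hU) hdet
  intro j
  rw [← arith4 q j hq, ← hord, orderOf_dvd_iff_pow_eq_one, pow_mul]
  have hzj0 : z ^ j ≠ 0 := pow_ne_zero _ hz0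
  have h1 := exists_algebraMap_iff (F := K) (z ^ j) hzj0
  rw [hK] at h1
  rw [← h1]
  constructor
  · rintro ⟨c, hc⟩
    refine ⟨c, ?_⟩
    apply hφ
    rw [hφc, map_pow]
    exact hc
  · rintro ⟨c, hc⟩
    refine ⟨c, ?_⟩
    rw [hM, ← map_pow, hc, hφc]

end final

end Cfsg.Agent.Helper42.SU3Spec
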