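import Mathlib
import Cfsg.Agent.Lib.Helper42.SU3Spec4
import Cfsg.Agent.Lib.Helper42.SU3Spec5
import Cfsg.Agent.Lib.Helper42.UEig4

set_option autoImplicit false
set_option linter.unusedSectionVars false

/-!
# The spectrum of `PSU_3(q)`, `q` odd
-/

namespace Cfsg.Agent.Helper42.SU3Spec

open Matrix Polynomial Cfsg.Agent.Helper42.SUReg Cfsg.Agent.Helper63.PSUCent
  Cfsg.Agent.Helper42.UEig

variable {F : Type*} [Field F] [Fintype F] {q : ℕ}

theorem forward (hF : Fintype.card F = q ^ 2) (p : ℕ) [Fact p.Prime] [CharP F p] (hp : p ≠ 2)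
    (x : Cfsg.PSU 3 F q) :
    orderOf x ∣ q + 1 ∨ orderOf x ∣ p * (q + 1) / Nat.gcd 3 (q + 1) ∨
      orderOf x ∣ (q ^ 2 - 1) / Nat.gcd 3 (q + 1) ∨
      orderOf x ∣ (q ^ 2 - q + 1) / Nat.gcd 3 (q + 1) := by
  classical
  obtain ⟨p', hp', hc', k, hqk⟩ := Cfsg.Agent.Helper19.herm_q_eq_pow hF
  have hpp : p' = p := CharP.eq F hc' ‹CharP F p›
  subst hpp
  have hq2 := Cfsg.Agent.Helper19.herm_two_le hF
  have hp3 : 3 ≤ p' := by
    have := (Fact.out : p'.Prime).two_le
    omega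
  let L := AlgebraicClosure F
  let f : F →+* L := algebraMap F L
  have hcL : CharP L p' := charP_of_injective_algebraMap f.injective p'
  have heL : ExpChar L p' := ExpChar.prime hp'.out
  let ψ : L →+* L := iterateFrobenius L p' k
  have hψ : ∀ y, ψ y = y ^ q := fun y => by
    rw [hqk]
    rfl
  obtain ⟨g, rfl⟩ := QuotientGroup.mk_surjective x
  set gm := mat g with hgm
  set G : Matrix (Fin 3) (Fin 3) L := f.mapMatrix gm with hG
  have hGU : (G.map ψ)ᵀ * G = 1 := by
    have h1 : ad hF gm * gm = 1 := matS_isU hF g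
    have h2 := congrArg f.mapMatrix h1
    rw [map_mul, map_one] at h2
    rw [← h2]
    congr 1
    ext i j
    simp only [Matrix.transpose_apply, Matrix.map_apply, hG, RingHom.mapMatrix_apply, hψ, ad_apply,
      map_pow]
  have hGpow : ∀ j, G ^ j = f.mapMatrix (gm ^ j) := fun j => (map_pow _ _ _).symm
  have hdet : G.det = 1 := by
    rw [hG, ← RingHom.map_det]
    have : gm.det = 1 := matS_det g
    rw [this, map_one]
  obtain ⟨N, y, hN, hGN⟩ := forward_matrix p' hp3 ψ q hψ hq2 G hGU hdet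
  have hord : orderOf (QuotientGroup.mk g : Cfsg.PSU 3 F q) ∣ N := by
    apply orderOf_dvd_of_pow_eq_one
    rw [← QuotientGroup.mk_pow, QuotientGroup.eq_one_iff]
    rw [hGpow] at hGN
    obtain ⟨c₀, -, hc₀⟩ := scalar_of_map_scalar f (by norm_num) _ _ hGN
    apply mem_center_of_scalar _ c₀
    rw [mat_pow]
    exact hc₀
  rcases hN with h | h | h | h
  · left
    rw [← h]
    exact hord
  · right; left
    rw [Nat.mul_div_assoc _ (Nat.gcd_dvd_right _ _), ← h]
    exact hord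
  · right; right; left
    rw [← h]
    exact hord
  · right; right; right
    rw [← h]
    exact hord

theorem spectrum (hF : Fintype.card F = q ^ 2) (p : ℕ) [Fact p.Prime] [CharP F p] (hp : p ≠ 2) :
    Set.range (orderOf : Cfsg.PSU 3 F q → ℕ) =
      {s : ℕ | s ∣ q + 1} ∪ {s : ℕ | s ∣ p * (q + 1) / Nat.gcd 3 (q + 1)} ∪
        {s : ℕ | s ∣ (q ^ 2 - 1) / Nat.gcd 3 (q + 1)} ∪
        {s : ℕ | s ∣ (q ^ 2 - q + 1) / Nat.gcd 3 (q + 1)} := by
  have hq2 := Cfsg.Agent.Helper19.herm_two_le hF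
  have hpq : p ∣ q := by
    have h1 : p ∣ Fintype.card F :=
      (CharP.cast_eq_zero_iff F p (Fintype.card F)).mp (Nat.cast_card_eq_zero F)
    rw [hF] at h1
    exact (Fact.out : p.Prime).dvd_of_dvd_pow h1
  have hq3 : 3 ≤ q := by
    have h1 := (Fact.out : p.Prime).two_le
    have h2 := Nat.le_of_dvd (by omega) hpq
    omega
  have hd0 : 0 < Nat.gcd 3 (q + 1) := Nat.gcd_pos_of_pos_left _ (by norm_num)
  have hd1 : Nat.gcd 3 (q + 1) ∣ q + 1 := Nat.gcd_dvd_right _ _
  have hd3 : Nat.gcd 3 (q + 1) ∣ 3 := Nat.gcd_dvd_left _ _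
  have hpos : ∀ n : ℕ, 0 < n → Nat.gcd 3 (q + 1) ∣ n → 0 < n / Nat.gcd 3 (q + 1) := by
    intro n hn hdn
    exact Nat.div_pos (Nat.le_of_dvd hn hdn) hd0
  ext s
  simp only [Set.mem_range, Set.mem_union, Set.mem_ofPred_eq]
  constructor
  · rintro ⟨x, rfl⟩
    rcases forward hF p hp x with h | h | h | h
    · exact Or.inl (Or.inl (Or.inl h))
    · exact Or.inl (Or.inl (Or.inr h))
    · exact Or.inl (Or.inr h)
    · exact Or.inr h
  · rintro (((h | h) | h) | h)
    · obtain ⟨x, hx⟩ := exists_order_one hF hq2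
      exact exists_orderOf_of_dvd x _ s hx (by omega) h
    · obtain ⟨x, hx⟩ := exists_order_three hF p hq2
      refine exists_orderOf_of_dvd x _ s hx ?_ h
      rw [Nat.mul_div_assoc _ hd1]
      exact Nat.mul_pos (Fact.out : p.Prime).pos (hpos _ (by omega) hd1)
    · obtain ⟨x, hx⟩ := exists_order_two hF hq3
      refine exists_orderOf_of_dvd x _ s hx (hpos _ ?_ ?_) h
      · have : 1 < q ^ 2 := Nat.one_lt_pow (by norm_num) (by omega)
        omega
      · have : q ^ 2 - 1 = (q - 1) * (q + 1) := sq_sub_one_eq q (by omega)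
        rw [this]
        exact hd1.mul_left _
    · obtain ⟨x, hx⟩ := exists_order_four hF p hq2
      refine exists_orderOf_of_dvd x _ s hx (hpos _ (by omega) ?_) h
      obtain ⟨r, rfl⟩ : ∃ r, q = r + 2 := ⟨q - 2, by omega⟩
      have h2 : (r + 2) ^ 2 - (r + 2) + 1 = (r + 2 + 1) * r + 3 := by
        have : (r + 2) ^ 2 = (r + 2 + 1) * r + 2 + (r + 2) := by ring
        omega
      rw [h2]
      exact Nat.dvd_add (hd1.mul_right _) hd3

end Cfsg.Agent.Helper42.SU3Spec
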