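import Mathlib
import Cfsg.Agent.Lib.Helper87.PsuB0

/-! SUO (S2282, helper62): the set `AA e Hs` of vectors `w ⊥ e` such that some Eichler element
`E(e, w, a)` lies in `Hs`: additive subgroup, stable under the elements of `Hs` that stabilise the
point `⟨e⟩`, contains the commutator vectors. General `n`, any isotropic `e`. (helper42) -/

set_option autoImplicit false
set_option linter.unusedSectionVars false
set_option linter.unusedVariables false

namespace Cfsg.Agent.Helper42.SUO

open Matrix Cfsg Cfsg.Agent.Helper13 Cfsg.Agent.Helper87.PsuA Cfsg.Agent.Helper87.PsuB0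

variable {F : Type*} [Field F] [Fintype F] {q n : ℕ}

local notation "H" => Cfsg.hermForm n F q

variable (hF : Fintype.card F = q ^ 2)

/-- vectors `w ⊥ e` such that some `E(e, w, a)` lies in `Hs` -/
def AA (e : Fin n → F) (Hs : Subgroup ↥(Cfsg.SU n F q)) : Set (Fin n → F) :=
  {w | H e w = 0 ∧ ∃ a : F, a + a ^ q + H w w = 0 ∧ eich hF e w a ∈ Hs}

variable {e : Fin n → F} {Hs : Subgroup ↥(Cfsg.SU n F q)}

theorem AA_zero (hee : H e e = 0) : (0 : Fin n → F) ∈ AA hF e Hs := by
  refine ⟨H_zero_right hF e, 0, ?_, ?_⟩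
  · rw [H_zero_right hF, frob_zero hF]; ring
  · rw [eich_one hF hee]; exact Hs.one_mem

theorem AA_add (hee : H e e = 0) {w w' : Fin n → F} (hw : w ∈ AA hF e Hs)
    (hw' : w' ∈ AA hF e Hs) : w + w' ∈ AA hF e Hs := by
  obtain ⟨h0, a, ha, hm⟩ := hw
  obtain ⟨h0', a', ha', hm'⟩ := hw'
  refine ⟨by rw [hermForm_add_right hF, h0, h0', add_zero], a + a' - H w' w, ?_, ?_⟩
  · rw [frob_sub hF, frob_add hF, hermForm_conj hF, hermForm_add_left, hermForm_add_right hF,
      hermForm_add_right hF]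
    linear_combination ha + ha'
  · rw [← eich_mul hF hee h0 ha h0' ha']
    exact Hs.mul_mem hm hm'

theorem AA_neg (hee : H e e = 0) {w : Fin n → F} (hw : w ∈ AA hF e Hs) : -w ∈ AA hF e Hs := by
  obtain ⟨h0, a, ha, hm⟩ := hw
  refine ⟨by rw [H_neg_right hF, h0, neg_zero], a ^ q, ?_, ?_⟩
  · rw [frob_frob hF, H_neg_left hF, H_neg_right hF]
    linear_combination ha
  · rw [← eich_inv hF hee h0 ha]
    exact Hs.inv_mem hm

theorem AA_sub (hee : H e e = 0) {w w' : Fin n → F} (hw : w ∈ AA hF e Hs)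
    (hw' : w' ∈ AA hF e Hs) : w - w' ∈ AA hF e Hs := by
  rw [sub_eq_add_neg]
  exact AA_add hF hee hw (AA_neg hF hee hw')

/-- `AA` as an additive subgroup -/
theorem AA_addSubgroup (hee : H e e = 0) :
    ∃ S : AddSubgroup (Fin n → F), ∀ w : Fin n → F, w ∈ S ↔ w ∈ AA hF e Hs :=
  ⟨{ carrier := AA hF e Hs
     add_mem' := fun hw hw' => AA_add hF hee hw hw'
     zero_mem' := AA_zero hF hee
     neg_mem' := fun hw => AA_neg hF hee hw }, fun _ => Iff.rfl⟩

/-- `AA` is a union of cosets of `F e` -/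
theorem AA_add_smul (hee : H e e = 0) {w : Fin n → F} (hw : w ∈ AA hF e Hs) (c : F) :
    w + c • e ∈ AA hF e Hs := by
  obtain ⟨h0, a, ha, hm⟩ := hw
  have hwe : H w e = 0 := H_symm_zero hF h0
  have hpar : (a - c + c ^ q) + (a - c + c ^ q) ^ q + H w w = 0 := by
    rw [frob_add hF, frob_sub hF, frob_frob hF]
    linear_combination ha
  refine ⟨by rw [hermForm_add_right hF, hermForm_smul_right, hee, h0, mul_zero, add_zero],
    a - c + c ^ q, ?_, ?_⟩
  · rw [hermForm_add_left, hermForm_add_right hF, hermForm_add_right hF, hermForm_smul_left,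
      hermForm_smul_left, hermForm_smul_right, hermForm_smul_right, hee, h0, hwe]
    linear_combination hpar
  · rw [eich_add_smul hF hee h0 hpar]
    have e1 : a - c + c ^ q + c - c ^ q = a := by ring
    rw [e1]
    exact hm

/-- elements of `Hs` stabilising the point `⟨e⟩` act on `AA` (twisted by the scalar) -/
theorem AA_conj (hee : H e e = 0) {g : ↥(Cfsg.SU n F q)} (hg : g ∈ Hs) {c : F} (hc : c ≠ 0)
    (hge : actv g e = c • e) {w : Fin n → F} (hw : w ∈ AA hF e Hs) :
    (c ^ q) • actv g w ∈ AA hF e Hs := by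
  obtain ⟨h0, a, ha, hm⟩ := hw
  have h1 : H e (actv g w) = 0 := by
    have h2 : H (actv g e) (actv g w) = 0 := by rw [H_actv, h0]
    rw [hge, hermForm_smul_left] at h2
    rcases mul_eq_zero.1 h2 with h3 | h3
    · exact absurd h3 hc
    · exact h3
  have ha' : a + a ^ q + H (actv g w) (actv g w) = 0 := by rw [H_actv]; exact ha
  have hconj := eich_conj hF hee h0 ha g
  rw [hge, eich_smul hF hee h1 ha'] at hconj
  refine ⟨by rw [hermForm_smul_right, h1, mul_zero], c * c ^ q * a, ?_, ?_⟩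
  · rw [hermForm_smul_left, hermForm_smul_right, mul_pow, mul_pow, frob_frob hF]
    linear_combination (c * c ^ q) * ha'
  · rw [← hconj]
    exact Hs.mul_mem (Hs.mul_mem hg hm) (Hs.inv_mem hg)

/-- the special case of an element fixing `e` -/
theorem AA_fix (hee : H e e = 0) {g : ↥(Cfsg.SU n F q)} (hg : g ∈ Hs)
    (hge : actv g e = e) {w : Fin n → F} (hw : w ∈ AA hF e Hs) :
    actv g w ∈ AA hF e Hs := by
  have h := AA_conj hF hee hg (c := 1) one_ne_zero (by rw [one_smul]; exact hge) hw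
  rwa [one_pow, one_smul] at h

/-- the commutator of an element `u ∈ Hs` fixing `e` with an arbitrary element `E(e, w0, a0)` of `Q_e`
whose conjugate of `u` lies in `Hs` -/
theorem AA_comm (hee : H e e = 0) {u : ↥(Cfsg.SU n F q)} (hu : u ∈ Hs) (hue : actv u e = e)
    {w0 : Fin n → F} {a0 : F} (h0 : H e w0 = 0) (ha0 : a0 + a0 ^ q + H w0 w0 = 0)
    (hk : eich hF e w0 a0 * u * (eich hF e w0 a0)⁻¹ ∈ Hs) :
    w0 - actv u w0 ∈ AA hF e Hs := by
  have h1 : H e (actv u w0) = 0 := by
    have h2 : H (actv u e) (actv u w0) = 0 := by rw [H_actv, h0]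
    rwa [hue] at h2
  have ha1 : a0 + a0 ^ q + H (actv u w0) (actv u w0) = 0 := by rw [H_actv]; exact ha0
  have hconj := eich_conj hF hee h0 ha0 u
  rw [hue] at hconj
  have hn1 : H e (-(actv u w0)) = 0 := by rw [H_neg_right hF, h1, neg_zero]
  have hp : a0 ^ q + (a0 ^ q) ^ q + H (-(actv u w0)) (-(actv u w0)) = 0 := by
    rw [frob_frob hF, H_neg_left hF, H_neg_right hF]
    linear_combination ha1
  have key : eich hF e w0 a0 * u * (eich hF e w0 a0)⁻¹ * u⁻¹ =
      eich hF e (w0 + -(actv u w0)) (a0 + a0 ^ q - H (-(actv u w0)) w0) := by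
    rw [← eich_mul hF hee h0 ha0 hn1 hp, ← eich_inv hF hee h1 ha1, ← hconj]
    group
  have hmem : eich hF e (w0 + -(actv u w0)) (a0 + a0 ^ q - H (-(actv u w0)) w0) ∈ Hs := by
    rw [← key]
    exact Hs.mul_mem hk (Hs.inv_mem hu)
  rw [sub_eq_add_neg]
  refine ⟨by rw [hermForm_add_right hF, h0, hn1, add_zero], _, ?_, hmem⟩
  have hp' := hp
  rw [frob_frob hF] at hp'
  rw [frob_sub hF, frob_add hF, frob_frob hF, hermForm_conj hF, hermForm_add_left,
    hermForm_add_right hF, hermForm_add_right hF]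
  linear_combination ha0 + hp'

end Cfsg.Agent.Helper42.SUO
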