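import Mathlib
import Cfsg.Agent.Lib.Helper62.SUO0
import Cfsg.Agent.Lib.Helper13.SUPrim

/-! SUO server (helper62, S2282), piece (C3) `exists_SU_frame3`: Witt's theorem inside `SU` for
frames of three vectors. (helper42) -/

set_option autoImplicit false
set_option linter.unusedSectionVars false
set_option linter.unusedVariables false
set_option quotPrecheck false

namespace Cfsg.Agent.Helper42.SUO

open Matrix Cfsg Cfsg.Agent.Helper13 Cfsg.Agent.Helper87.PsuA Cfsg.Agent.Helper62.SUO

section C
variable {F : Type*} [Field F] [Fintype F] {q m : ℕ} (hF : Fintype.card F = q ^ 2)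
  {b : Fin (2 * m + 5) → Fin (2 * m + 5) → F}

local notation "V" => Fin (2 * m + 5) → F
local notation "G" => ↥(Cfsg.SU (2 * m + 5) F q)
local notation "H" => Cfsg.hermForm (2 * m + 5) F q

include hF

/-- (C3) Witt (`Helper13.exists_GU_frame`) and a determinant correction by the dilation
`x ↦ x + (μ - 1) H(x,d) d` (`μ^(q+1) = 1`, `Lead.GU_det_pow`) along a unit vector `d ⊥ y` -/
theorem exists_SU_frame3 {n : ℕ} (x y : Fin 3 → (Fin n → F))
    (hx : LinearIndependent F x) (hy : LinearIndependent F y)
    (hG : ∀ i j, Cfsg.hermForm n F q (x i) (x j) = Cfsg.hermForm n F q (y i) (y j))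
    (d : Fin n → F) (hd : Cfsg.hermForm n F q d d = 1)
    (hdy : ∀ i, Cfsg.hermForm n F q (y i) d = 0) :
    ∃ h : ↥(Cfsg.SU n F q), ∀ i, actv h (x i) = y i :=
  exists_SU_frame hF x y hx hy (fun a c => hG c a) d hd (fun a => hdy a)

end C

end Cfsg.Agent.Helper42.SUO
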