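import Mathlib
import Cfsg.Agent.Lib.Helper13.SUOA

/-! SUO (S2282): the abstract generation criterion for `SU_n(q)` (design note of helper20 #8366,
calculus of helper13 `SUOA`): hypotheses `Hyp`, conclusion `Hs = ⊤`. Any `n ≥ 3`. (helper42) -/

set_option autoImplicit false
set_option quotPrecheck false
set_option linter.unusedSectionVars false
set_option linter.unusedVariables false

namespace Cfsg.Agent.Helper42.SUO

open Matrix Cfsg Cfsg.Agent.Helper13 Cfsg.Agent.Helper87.PsuA Cfsg.Agent.Helper87.PsuB0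
  Cfsg.Agent.Helper13.SUOA

variable {F : Type*} [Field F] [Fintype F] {q n : ℕ}

local notation "V" => Fin n → F
local notation "G" => ↥(Cfsg.SU n F q)
local notation "H" => Cfsg.hermForm n F q

variable (hF : Fintype.card F = q ^ 2)

/-- the hypotheses of the abstract criterion -/
structure Hyp (Hs : Subgroup G) (u l : G) (e x p : V) (κ s : F) : Prop where
  hu : u ∈ Hs
  hl : l ∈ Hs
  hκ : eich hF e 0 κ ∈ Hs
  κ0 : κ ≠ 0
  κK : κ + κ ^ q = 0
  ee : H e e = 0
  ue : actv u e = e
  le : actv l e = x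
  ex : H e x = 0
  ux : actv u x = x + s • e
  s0 : s ≠ 0
  lp : actv l p = e
  ep : H e p = 0
  xp : H x p ≠ 0
  gen : ∀ S : AddSubgroup F, (∃ a ∈ S, a ≠ 0) →
    (∀ a ∈ S, κ * H (actv u p) p * a ∈ S) → S = ⊤
  cyc : ∀ S : Submodule F V, p ∈ S → (∀ y ∈ S, actv u y ∈ S) → ∀ y, H e y = 0 → y ∈ S

section core

variable {Hs : Subgroup ↥(Cfsg.SU n F q)} {u l : ↥(Cfsg.SU n F q)} {e x p : Fin n → F} {κ s : F}

/-- the transvection `y ↦ y + κ H(y,v) v` -/
theorem tv_act {v : V} {κ : F} (hvv : H v v = 0) (hκ : κ + κ ^ q = 0) (y : V) :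
    actv (eich hF v 0 κ) y = y + (κ * H y v) • v := by
  rw [eich_act hF hvv (H_zero_right hF v) (by rw [H_zero_right hF, add_zero]; exact hκ),
    H_zero_right hF]
  module

/-- (a) all conjugate transvections -/
theorem tv_orb (hyp : Hyp hF Hs u l e x p κ s) {t : G} (ht : t ∈ Hs) :
    eich hF (actv t e) 0 κ ∈ Hs := by
  have h := eich_conj hF hyp.ee (H_zero_right hF e)
    (by rw [H_zero_right hF, add_zero]; exact hyp.κK) t
  rw [actv_zero] at h
  rw [← h]
  exact Hs.mul_mem (Hs.mul_mem ht hyp.hκ) (Hs.inv_mem ht)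

/-- (c) the step: a transvection of `Hs` with centre `y ⊥ e` -/
theorem step (hyp : Hyp hF Hs u l e x p κ s) {y : V} (hyy : H y y = 0) (hey : H e y = 0)
    (hy : eich hF y 0 κ ∈ Hs) {w : V} (hw : w ∈ A hF Hs e) :
    (κ * H w y) • y ∈ A hF Hs e := by
  have hfix : actv (eich hF y 0 κ) e = e := by
    rw [tv_act hF hyy hyp.κK, hey, mul_zero, zero_smul, add_zero]
  have h := A_comm hF Hs hyp.ee hw hy hfix
  rw [tv_act hF hyy hyp.κK, add_sub_cancel_left] at h
  exact h

theorem x_iso (hyp : Hyp hF Hs u l e x p κ s) : H x x = 0 := by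
  rw [← hyp.le, H_actv]; exact hyp.ee

theorem p_eq (hyp : Hyp hF Hs u l e x p κ s) : actv l⁻¹ e = p := by
  rw [← hyp.lp, actv_inv_actv]

theorem p_iso (hyp : Hyp hF Hs u l e x p κ s) : H p p = 0 := by
  rw [← p_eq hF hyp, H_actv]; exact hyp.ee

/-- (b) the seed -/
theorem seed (hyp : Hyp hF Hs u l e x p κ s) : (κ * s ^ q) • x ∈ A hF Hs e := by
  have hxx := x_iso hF hyp
  have hxe : H x e = 0 := H_symm_zero hF hyp.ex
  have h1 : eich hF x 0 κ ∈ Hs := by
    have := tv_orb hF hyp hyp.hl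
    rwa [hyp.le] at this
  have h2 : eich hF (x + s • e) 0 κ ∈ Hs := by
    have := tv_orb hF hyp (Hs.mul_mem hyp.hu hyp.hl)
    rwa [actv_mul, hyp.le, hyp.ux] at this
  have hzz : H (x + s • e) (x + s • e) = 0 := by
    rw [hermForm_add_left, hermForm_add_right hF, hermForm_add_right hF, hermForm_smul_left,
      hermForm_smul_left, hermForm_smul_right, hermForm_smul_right, hxx, hxe, hyp.ex, hyp.ee]
    ring
  have hκq : κ ^ q = -κ := by linear_combination hyp.κK
  have hw0 : H e ((κ * s ^ q) • x) = 0 := by rw [hermForm_smul_right, hyp.ex, mul_zero]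
  have hpar : κ * s * s ^ q + (κ * s * s ^ q) ^ q + H ((κ * s ^ q) • x) ((κ * s ^ q) • x) = 0 := by
    rw [hermForm_smul_left, hermForm_smul_right, hxx, mul_pow, mul_pow, frob_frob hF, hκq]
    ring
  have key : eich hF (x + s • e) 0 κ * (eich hF x 0 κ)⁻¹ =
      eich hF e ((κ * s ^ q) • x) (κ * s * s ^ q) := by
    rw [eich_inv hF hxx (H_zero_right hF x)
      (by rw [H_zero_right hF, add_zero]; exact hyp.κK), neg_zero]
    have hκ' : κ ^ q + (κ ^ q) ^ q = 0 := by rw [frob_frob hF]; linear_combination hyp.κK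
    apply G_ext
    intro y
    rw [actv_mul, tv_act hF hxx hκ', tv_act hF hzz hyp.κK, eich_act hF hyp.ee hw0 hpar]
    simp only [hermForm_add_left, hermForm_add_right hF, hermForm_smul_left, hermForm_smul_right,
      hxx, hxe, mul_pow, frob_frob hF, hκq]
    module
  exact ⟨hw0, _, hpar, by rw [← key]; exact Hs.mul_mem h2 (Hs.inv_mem h1)⟩

/-- (d)-(e) all multiples of `p` -/
theorem all_p (hyp : Hyp hF Hs u l e x p κ s) : ∀ a : F, a • p ∈ A hF Hs e := by
  have hpp := p_iso hF hyp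
  have hpH : eich hF p 0 κ ∈ Hs := by
    have := tv_orb hF hyp (Hs.inv_mem hyp.hl)
    rwa [p_eq hF hyp] at this
  let S : AddSubgroup F :=
    { carrier := {a | a • p ∈ A hF Hs e}
      add_mem' := by
        intro a b ha hb
        show (a + b) • p ∈ A hF Hs e
        rw [add_smul]
        exact A_add hF Hs hyp.ee ha hb
      zero_mem' := by
        show (0 : F) • p ∈ A hF Hs e
        rw [zero_smul]
        exact A_zero hF Hs hyp.ee
      neg_mem' := by
        intro a ha
        show (-a) • p ∈ A hF Hs e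
        rw [neg_smul]
        exact A_neg hF Hs hyp.ee ha }
  have hS1 : ∃ a ∈ S, a ≠ 0 := by
    refine ⟨κ * (κ * s ^ q * H x p), ?_, ?_⟩
    · have h := step hF hyp hpp hyp.ep hpH (seed hF hyp)
      rw [hermForm_smul_left] at h
      exact h
    · exact mul_ne_zero hyp.κ0 (mul_ne_zero (mul_ne_zero hyp.κ0 (pow_ne_zero q hyp.s0)) hyp.xp)
  have hS2 : ∀ a ∈ S, κ * H (actv u p) p * a ∈ S := by
    intro a ha
    have h1 : actv u (a • p) ∈ A hF Hs e := A_act hF Hs hyp.ee ha hyp.hu hyp.ue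
    have h2 := step hF hyp hpp hyp.ep hpH h1
    rw [actv_smul, hermForm_smul_left] at h2
    show (κ * H (actv u p) p * a) • p ∈ A hF Hs e
    have e1 : κ * H (actv u p) p * a = κ * (a * H (actv u p) p) := by ring
    rw [e1]
    exact h2
  have hT := hyp.gen S hS1 hS2
  intro a
  have : a ∈ S := by rw [hT]; exact AddSubgroup.mem_top a
  exact this

/-- (f) `A = e^⊥` -/
theorem A_full (hyp : Hyp hF Hs u l e x p κ s) : ∀ w : V, H e w = 0 → w ∈ A hF Hs e := by
  let S' : Submodule F V :=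
    { carrier := {w | ∀ a : F, a • w ∈ A hF Hs e}
      add_mem' := by
        intro v w hv hw a
        rw [smul_add]
        exact A_add hF Hs hyp.ee (hv a) (hw a)
      zero_mem' := by
        intro a
        rw [smul_zero]
        exact A_zero hF Hs hyp.ee
      smul_mem' := by
        intro c v hv a
        rw [smul_smul]
        exact hv (a * c) }
  have hp : p ∈ S' := all_p hF hyp
  have hst : ∀ y ∈ S', actv u y ∈ S' := by
    intro y hy a
    rw [← actv_smul]
    exact A_act hF Hs hyp.ee (hy a) hyp.hu hyp.ue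
  intro w hw
  have h1 : w ∈ S' := hyp.cyc S' hp hst w hw
  have h2 := h1 1
  rwa [one_smul] at h2

/-- the abstract criterion -/
theorem core_top (hn : 3 ≤ n) (h32 : ¬(n = 3 ∧ q = 2)) (hyp : Hyp hF Hs u l e x p κ s)
    {d : V} (hed : H e d = 0) (hdd : H d d ≠ 0) : Hs = ⊤ := by
  refine top_of_A hF hn h32 Hs hyp.ee hed hdd (A_full hF hyp) (l * l)
    (Hs.mul_mem hyp.hl hyp.hl) ?_
  rw [actv_mul, hyp.le]
  have h : H (actv l x) (actv l p) = H x p := H_actv l x p
  rw [hyp.lp] at h
  rw [h]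
  exact hyp.xp

end core

end Cfsg.Agent.Helper42.SUO

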