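import Mathlib
import Cfsg.Agent.Lib.Helper87.PsuB0

/-! SUO (S2282, helper62): if every `w ⊥ e` occurs in some Eichler element `E(e, w, a) ∈ Hs`, then the
whole group `Q_e` lies in `Hs` (general `n ≥ 3`, `e = b 0` in a hyperbolic basis). (helper42) -/

set_option autoImplicit false
set_option linter.unusedSectionVars false
set_option linter.unusedVariables false

namespace Cfsg.Agent.Helper42.SUO

open Matrix Cfsg Cfsg.Agent.Helper13 Cfsg.Agent.Helper87.PsuA Cfsg.Agent.Helper87.PsuB0

variable {F : Type*} [Field F] [Fintype F] {q n : ℕ}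

local notation "H" => Cfsg.hermForm n F q

variable (hF : Fintype.card F = q ^ 2)

/-- the commutator of two Eichler elements with the same centre is a central transvection -/
theorem eich_comm {e w w' : Fin n → F} {a a' : F} (hee : H e e = 0) (hw : H e w = 0)
    (ha : a + a ^ q + H w w = 0) (hw' : H e w' = 0) (ha' : a' + a' ^ q + H w' w' = 0) :
    eich hF e w a * eich hF e w' a' * (eich hF e w' a' * eich hF e w a)⁻¹ =
      eich hF e 0 (H w w' - H w' w) := by
  have hww : H e (w + w') = 0 := by rw [hermForm_add_right hF, hw, hw', add_zero]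
  have hww' : H e (w' + w) = 0 := by rw [hermForm_add_right hF, hw, hw', add_zero]
  have hp1 : (a + a' - H w' w) + (a + a' - H w' w) ^ q + H (w + w') (w + w') = 0 := by
    rw [frob_sub hF, frob_add hF, hermForm_conj hF, hermForm_add_left, hermForm_add_right hF,
      hermForm_add_right hF]
    linear_combination ha + ha'
  have hp2 : (a' + a - H w w') + (a' + a - H w w') ^ q + H (w' + w) (w' + w) = 0 := by
    rw [frob_sub hF, frob_add hF, hermForm_conj hF, hermForm_add_left, hermForm_add_right hF,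
      hermForm_add_right hF]
    linear_combination ha + ha'
  rw [eich_mul hF hee hw ha hw' ha', eich_mul hF hee hw' ha' hw ha, eich_inv hF hee hww' hp2]
  have hn1 : H e (-(w' + w)) = 0 := by rw [H_neg_right hF, hww', neg_zero]
  have hp3 : (a' + a - H w w') ^ q + ((a' + a - H w w') ^ q) ^ q + H (-(w' + w)) (-(w' + w)) = 0 := by
    rw [frob_frob hF, H_neg_left hF, H_neg_right hF]
    linear_combination hp2
  rw [eich_mul hF hee hww hp1 hn1 hp3]
  have e1 : w + w' + -(w' + w) = 0 := by abel
  have e2 : a + a' - H w' w + (a' + a - H w w') ^ q - H (-(w' + w)) (w + w') = H w w' - H w' w := by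
    rw [H_neg_left hF]
    have h3 : H (w' + w) (w + w') = H (w' + w) (w' + w) := by rw [add_comm w w']
    rw [h3]
    linear_combination hp2
  rw [e1, e2]

include hF in
/-- every trace-zero element is of the form `x - x^q` -/
theorem exists_skew (c : F) (hc : c + c ^ q = 0) : ∃ x : F, x - x ^ q = c := by
  obtain ⟨κ, hκ0, hκ⟩ := exists_kappa hF
  have hκq : κ ^ q = -κ := by linear_combination hκ
  have hcq : c ^ q = -c := by linear_combination hc
  obtain ⟨a, ha⟩ := exists_trace hF (c / κ) (by rw [div_pow, hκq, hcq, neg_div_neg_eq])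
  refine ⟨κ * a, ?_⟩
  rw [mul_pow, hκq]
  have : κ * (a + a ^ q) = c := by rw [ha]; field_simp
  linear_combination this

/-- `A = e^⊥` implies `Q_e ≤ Hs` -/
theorem Qe_of_all {b : Fin n → Fin n → F} (hb : HB q b) (hn : 3 ≤ n)
    (Hs : Subgroup ↥(Cfsg.SU n F q))
    (hA : ∀ w : Fin n → F, H (b ⟨0, by omega⟩) w = 0 →
      ∃ a : F, a + a ^ q + H w w = 0 ∧ eich hF (b ⟨0, by omega⟩) w a ∈ Hs) :
    ∀ (w : Fin n → F) (a : F), H (b ⟨0, by omega⟩) w = 0 → a + a ^ q + H w w = 0 →
      eich hF (b ⟨0, by omega⟩) w a ∈ Hs := by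
  set i0 : Fin n := ⟨0, by omega⟩ with hi0
  set i1 : Fin n := ⟨1, by omega⟩ with hi1
  have hr0 : (Fin.rev i0 : Fin n).val = n - 1 := by rw [Fin.val_rev]
  have hr1 : (Fin.rev i1 : Fin n).val = n - 2 := by rw [Fin.val_rev]
  have hee : H (b i0) (b i0) = 0 := by
    rw [hb i0 i0, if_neg]
    intro h
    have := congrArg Fin.val h
    rw [hr0] at this
    simp only [hi0] at this
    omega
  have h01 : H (b i0) (b i1) = 0 := by
    rw [hb i0 i1, if_neg]
    intro h
    have := congrArg Fin.val h
    rw [hr0] at this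
    simp only [hi1] at this
    omega
  have h0r : H (b i0) (b (Fin.rev i1)) = 0 := by
    rw [hb i0 (Fin.rev i1), if_neg]
    intro h
    have := congrArg Fin.val h
    rw [hr0, hr1] at this
    omega
  have h1r : H (b i1) (b (Fin.rev i1)) = 1 := by rw [hb i1 (Fin.rev i1), if_pos rfl]
  -- the centre
  have hZ : ∀ c : F, c + c ^ q = 0 → eich hF (b i0) 0 c ∈ Hs := by
    intro c hc
    obtain ⟨x, hx⟩ := exists_skew hF c hc
    have hw : H (b i0) (x • b i1) = 0 := by rw [hermForm_smul_right, h01, mul_zero]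
    obtain ⟨a, ha, hmem⟩ := hA (x • b i1) hw
    obtain ⟨a', ha', hmem'⟩ := hA (b (Fin.rev i1)) h0r
    have hcm := eich_comm hF hee hw ha h0r ha'
    have e1 : H (x • b i1) (b (Fin.rev i1)) = x := by rw [hermForm_smul_left, h1r, mul_one]
    have e2 : H (b (Fin.rev i1)) (x • b i1) = x ^ q := by rw [← hermForm_conj hF, e1]
    rw [e1, e2, hx] at hcm
    rw [← hcm]
    exact Hs.mul_mem (Hs.mul_mem hmem hmem') (Hs.inv_mem (Hs.mul_mem hmem' hmem))
  intro w a hw ha
  obtain ⟨a', ha', hmem'⟩ := hA w hw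
  have hc : (a - a') + (a - a') ^ q = 0 := by
    rw [frob_sub hF]
    linear_combination ha - ha'
  have h0 : H (b i0) (0 : Fin n → F) = 0 := H_zero_right hF _
  have hc' : (a - a') + (a - a') ^ q + H (0 : Fin n → F) 0 = 0 := by
    rw [H_zero_right hF, add_zero]; exact hc
  have hm := eich_mul hF hee hw ha' h0 hc'
  rw [add_zero, H_zero_left hF, sub_zero] at hm
  have e3 : a' + (a - a') = a := by ring
  rw [e3] at hm
  rw [← hm]
  exact Hs.mul_mem hmem' (hZ _ hc)

end Cfsg.Agent.Helper42.SUO
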