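import Mathlib
import Cfsg.Agent.Lib.Helper62.SUO0

/-! SUO server (helper62, S2282), piece (U5) `exists_g`: the third conjugating element. (helper42) -/

set_option autoImplicit false
set_option linter.unusedSectionVars false
set_option linter.unusedVariables false
set_option quotPrecheck false

namespace Cfsg.Agent.Helper42.SUO

open Matrix Cfsg Cfsg.Agent.Helper13 Cfsg.Agent.Helper87.PsuA Cfsg.Agent.Helper62.SUO

section U
variable {F : Type*} [Field F] [Fintype F] {q n : ℕ} (hF : Fintype.card F = q ^ 2)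
  {b : Fin n → Fin n → F}

local notation "V" => Fin n → F
local notation "G" => ↥(Cfsg.SU n F q)
local notation "H" => Cfsg.hermForm n F q

include hF

/-- commutator of an Eichler element with an element fixing its centre -/
theorem h42_eich_comm_fix {e w0 : Fin n → F} {a0 : F} (hee : H e e = 0) (h0 : H e w0 = 0)
    (ha0 : a0 + a0 ^ q + H w0 w0 = 0) {u : ↥(Cfsg.SU n F q)} (hue : actv u e = e) :
    (a0 + a0 ^ q - H (-(actv u w0)) w0) + (a0 + a0 ^ q - H (-(actv u w0)) w0) ^ q +
        H (w0 + -(actv u w0)) (w0 + -(actv u w0)) = 0 ∧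
    eich hF e w0 a0 * u * (eich hF e w0 a0)⁻¹ * u⁻¹ =
      eich hF e (w0 + -(actv u w0)) (a0 + a0 ^ q - H (-(actv u w0)) w0) := by
  have h1 : H e (actv u w0) = 0 := by
    have h2 : H (actv u e) (actv u w0) = 0 := by rw [H_actv, h0]
    rwa [hue] at h2
  have ha1 : a0 + a0 ^ q + H (actv u w0) (actv u w0) = 0 := by rw [H_actv]; exact ha0
  have hconj := eich_conj hF hee h0 ha0 u
  rw [hue] at hconj
  have hn1 : H e (-(actv u w0)) = 0 := by rw [H_neg_right hF, h1, neg_zero]
  have hp : a0 ^ q + (a0 ^ q) ^ q + H (-(actv u w0)) (-(actv u w0)) = 0 := by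
    rw [frob_frob hF, H_neg_left hF, H_neg_right hF]
    linear_combination ha1
  constructor
  · have hp' := hp
    rw [frob_frob hF] at hp'
    rw [frob_sub hF, frob_add hF, frob_frob hF, hermForm_conj hF, hermForm_add_left,
      hermForm_add_right hF, hermForm_add_right hF]
    linear_combination ha0 + hp'
  · rw [← eich_mul hF hee h0 ha0 hn1 hp, ← eich_inv hF hee h1 ha1, ← hconj]
    group

/-- (U5) `g = eich (b i0) (c2 • b i2) α2` with `c2 = - c / (s1 * s2)`:
`g u g⁻¹ u⁻¹ = eich e0 w α2 * eich e0 (-(u w)) (α2^q) = eich e0 (w - u w) _` (`eich_conj`, `eich_inv`,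
`eich_mul`), `w - u w = - c2 • (s2 • b1 + t2 • b0)` (U4); needs `4 ≤ n` (`b i2 ⊥ b i0`) -/
theorem exists_g (hb : HB q b) (hn : 4 ≤ n) {u : G} (hu : u ∈ Usub hb) (hs : SupNZ q b u)
    (i0 i1 : Fin n) (h0 : i0.val = 0) (h1 : i1.val = 1) (c : F) :
    ∃ (g : G) (μ α : F),
      α + α ^ q + H (c • ((co q b (actv u (b i1)) i0)⁻¹ • b i1) + μ • b i0)
        (c • ((co q b (actv u (b i1)) i0)⁻¹ • b i1) + μ • b i0) = 0 ∧
      g * u * g⁻¹ * u⁻¹ =
        eich hF (b i0) (c • ((co q b (actv u (b i1)) i0)⁻¹ • b i1) + μ • b i0) α := by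
  have hU := (mem_Usub_iff hb).1 hu
  set i2 : Fin n := ⟨2, by omega⟩ with hi2
  have h01 : i0 ≠ i1 := fun h => by rw [h] at h0; omega
  have h02 : i0 ≠ i2 := fun h => by rw [h] at h0; simp only [hi2] at h0; omega
  have h12 : i1 ≠ i2 := fun h => by rw [h] at h1; simp only [hi2] at h1; omega
  -- `u b0 = b0`
  have hub0 : actv u (b i0) = b i0 := by
    apply ext_co hb
    intro i
    rw [hU i i0 (by rw [Fin.le_def]; omega), co_b hb]
  set s1 : F := co q b (actv u (b i1)) i0 with hs1
  set s2 : F := co q b (actv u (b i2)) i1 with hs2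
  set t2 : F := co q b (actv u (b i2)) i0 with ht2
  have hs1ne : s1 ≠ 0 := hs i0 i1 (by omega)
  have hs2ne : s2 ≠ 0 := hs i1 i2 (by simp only [hi2]; omega)
  -- `u b2 = b2 + s2 b1 + t2 b0`
  have hub2 : actv u (b i2) = b i2 + s2 • b i1 + t2 • b i0 := by
    apply ext_co hb
    intro i
    rw [co_add, co_add, co_smul, co_smul, co_b hb, co_b hb, co_b hb]
    by_cases hi0 : i = i0
    · rw [hi0, if_neg h02, if_neg h01, if_pos rfl]; ring
    · by_cases hi1 : i = i1
      · rw [hi1, if_neg h12, if_pos rfl, if_neg (Ne.symm h01)]; ring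
      · have hge : i2 ≤ i := by
          rw [Fin.le_def]
          simp only [hi2]
          have e0 : i.val ≠ 0 := fun h => hi0 (Fin.ext (by omega))
          have e1 : i.val ≠ 1 := fun h => hi1 (Fin.ext (by omega))
          omega
        rw [hU i i2 hge, if_neg hi1, if_neg hi0]; ring
  -- the form values
  have hr0 : (Fin.rev i0 : Fin n).val = n - 1 := by rw [Fin.val_rev]; omega
  have hee : H (b i0) (b i0) = 0 := by
    rw [hb i0 i0, if_neg]
    intro h
    have := congrArg Fin.val h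
    rw [hr0] at this
    omega
  have he2 : H (b i0) (b i2) = 0 := by
    rw [hb i0 i2, if_neg]
    intro h
    have := congrArg Fin.val h
    rw [hr0] at this
    simp only [hi2] at this
    omega
  set c2 : F := -c / (s1 * s2) with hc2
  have hw0 : H (b i0) (c2 • b i2) = 0 := by rw [hermForm_smul_right, he2, mul_zero]
  obtain ⟨α2, hα2⟩ := Cfsg.Agent.Helper87.PsuB0.exists_eich_param hF (c2 • b i2)
  obtain ⟨hval, hkey⟩ := h42_eich_comm_fix hF hee hw0 hα2 hub0
  have hvec : c2 • b i2 + -(actv u (c2 • b i2)) =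
      c • (s1⁻¹ • b i1) + (-(c2 * t2)) • b i0 := by
    rw [actv_smul, hub2]
    have e1 : c2 * s2 = -(c * s1⁻¹) := by
      rw [hc2]
      field_simp
    have : c2 • b i2 + -(c2 • (b i2 + s2 • b i1 + t2 • b i0)) =
        (-(c2 * s2)) • b i1 + (-(c2 * t2)) • b i0 := by module
    rw [this, e1, neg_neg, smul_smul]
  rw [hvec] at hval hkey
  exact ⟨eich hF (b i0) (c2 • b i2) α2, -(c2 * t2), _, hval, hkey⟩

end U

end Cfsg.Agent.Helper42.SUO
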