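import Mathlib
import Cfsg.Agent.Lib.Helper42.Elusive5
import Cfsg.Agent.Lib.Helper42.Elusive3

set_option autoImplicit false
set_option linter.style.haveILetI false

/-! Conjugacy of endomorphisms killed by the same irreducible polynomial, and of elements of
prime order with the same fixed space dimension. -/

namespace Cfsg.Agent.Helper42.Singer

open Module Polynomial Cfsg.Agent.Helper42.Elusive

section conj
variable {F E₁ E₂ : Type*} [Field F] [AddCommGroup E₁] [Module F E₁] [AddCommGroup E₂]
  [Module F E₂] [FiniteDimensional F E₁] [FiniteDimensional F E₂]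

/-- two endomorphisms killed by the same irreducible polynomial, on spaces of the same dimension,
are intertwined by a linear equivalence. -/
theorem exists_intertwiner (P : F[X]) (hP : Irreducible P) (f₁ : Module.End F E₁)
    (f₂ : Module.End F E₂) (h₁ : aeval f₁ P = 0) (h₂ : aeval f₂ P = 0)
    (hfin : finrank F E₁ = finrank F E₂) :
    ∃ φ : E₁ ≃ₗ[F] E₂, ∀ v, φ (f₁ v) = f₂ (φ v) := by
  haveI : Fact (Irreducible P) := ⟨hP⟩
  letI m₁ := kmod P f₁ h₁
  letI m₂ := kmod P f₂ h₂
  haveI t₁ := kmod_tower P f₁ h₁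
  haveI t₂ := kmod_tower P f₂ h₂
  haveI : FiniteDimensional F (AdjoinRoot P) := (AdjoinRoot.powerBasis hP.ne_zero).finite
  haveI : Module.Finite (AdjoinRoot P) E₁ := Module.Finite.of_restrictScalars_finite F _ _
  haveI : Module.Finite (AdjoinRoot P) E₂ := Module.Finite.of_restrictScalars_finite F _ _
  have e₁ := Module.finrank_mul_finrank F (AdjoinRoot P) E₁
  have e₂ := Module.finrank_mul_finrank F (AdjoinRoot P) E₂
  have hpos : 0 < finrank F (AdjoinRoot P) := Module.finrank_pos
  have hL : finrank (AdjoinRoot P) E₁ = finrank (AdjoinRoot P) E₂ := by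
    rw [← e₁, ← e₂] at hfin
    exact Nat.eq_of_mul_eq_mul_left hpos hfin
  let ψ : E₁ ≃ₗ[AdjoinRoot P] E₂ := LinearEquiv.ofFinrankEq E₁ E₂ hL
  refine ⟨ψ.restrictScalars F, fun v => ?_⟩
  have h1 : f₁ v = (AdjoinRoot.root P) • v := (kmod_root_smul P f₁ h₁ v).symm
  have h2 : f₂ (ψ v) = (AdjoinRoot.root P) • (ψ v) := (kmod_root_smul P f₂ h₂ (ψ v)).symm
  show ψ (f₁ v) = f₂ (ψ v)
  rw [h1, h2, map_smul]

end conj

section order
variable {F V : Type*} [Field F] [AddCommGroup V] [Module F V]

theorem aeval_restrict_apply (f : Module.End F V) (W : Submodule F V) (hW : ∀ w ∈ W, f w ∈ W)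
    (Q : F[X]) (w : W) : ((aeval (f.restrict hW) Q w : W) : V) = aeval f Q w.1 := by
  induction Q using Polynomial.induction_on' generalizing w with
  | add p q hp hq =>
    rw [map_add, map_add, LinearMap.add_apply, LinearMap.add_apply, Submodule.coe_add, hp, hq]
  | monomial n a =>
    rw [aeval_monomial, aeval_monomial, Module.End.mul_apply, Module.End.mul_apply,
      Module.algebraMap_end_apply, Module.algebraMap_end_apply, Submodule.coe_smul]
    congr 1
    rw [Module.End.pow_restrict n]
    rfl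

variable [FiniteDimensional F V]

/-- two elements of prime order `r` (prime to the characteristic, cyclotomic polynomial
irreducible) with fixed spaces of the same dimension are conjugate. -/
theorem exists_conj_of_pow_eq_one (r : ℕ) [Fact r.Prime] (hrF : (r : F) ≠ 0)
    (hirr : Irreducible (cyclotomic r F)) (f g : Module.End F V) (hf : f ^ r = 1)
    (hg : g ^ r = 1) (hfix : finrank F (fixS f) = finrank F (fixS g)) :
    ∃ φ : V ≃ₗ[F] V, ∀ v, φ (f v) = g (φ v) := by
  have cf : IsCompl (fixS f) (movS f r) :=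
    ⟨fixS_disjoint_movS f r hrF, codisjoint_iff.mpr (fixS_sup_movS f r hrF hf)⟩
  have cg : IsCompl (fixS g) (movS g r) :=
    ⟨fixS_disjoint_movS g r hrF, codisjoint_iff.mpr (fixS_sup_movS g r hrF hg)⟩
  have hmov : finrank F (movS f r) = finrank F (movS g r) := by
    have h1 := finrank_fixS_add_movS f r hrF hf
    have h2 := finrank_fixS_add_movS g r hrF hg
    omega
  have hWf : ∀ w ∈ movS f r, f w ∈ movS f r :=
    fun w hw => movS_invariant f r (Submodule.mem_map_of_mem hw)
  have hWg : ∀ w ∈ movS g r, g w ∈ movS g r :=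
    fun w hw => movS_invariant g r (Submodule.mem_map_of_mem hw)
  have h₁ : aeval (f.restrict hWf) (cyclotomic r F) = 0 := by
    apply LinearMap.ext
    intro w
    apply Subtype.ext
    rw [aeval_restrict_apply]
    exact w.2
  have h₂ : aeval (g.restrict hWg) (cyclotomic r F) = 0 := by
    apply LinearMap.ext
    intro w
    apply Subtype.ext
    rw [aeval_restrict_apply]
    exact w.2
  obtain ⟨ψ, hψ⟩ := exists_intertwiner (cyclotomic r F) hirr (f.restrict hWf) (g.restrict hWg)
    h₁ h₂ hmov
  let φ₁ : fixS f ≃ₗ[F] fixS g := LinearEquiv.ofFinrankEq _ _ hfix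
  refine ⟨(Submodule.prodEquivOfIsCompl _ _ cf).symm ≪≫ₗ (φ₁.prodCongr ψ) ≪≫ₗ
    (Submodule.prodEquivOfIsCompl _ _ cg), fun v => ?_⟩
  obtain ⟨⟨a, b⟩, rfl⟩ := (Submodule.prodEquivOfIsCompl _ _ cf).surjective v
  have ha : f a.1 = a.1 := (mem_fixS f a.1).mp a.2
  have hfab : f (Submodule.prodEquivOfIsCompl _ _ cf (a, b))
      = Submodule.prodEquivOfIsCompl _ _ cf (a, f.restrict hWf b) := by
    rw [Submodule.coe_prodEquivOfIsCompl', Submodule.coe_prodEquivOfIsCompl', map_add, ha]
    rfl
  rw [hfab]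
  simp only [LinearEquiv.trans_apply, LinearEquiv.symm_apply_apply, LinearEquiv.prodCongr_apply]
  rw [Submodule.coe_prodEquivOfIsCompl', Submodule.coe_prodEquivOfIsCompl', hψ, map_add]
  have hga : g (φ₁ a).1 = (φ₁ a).1 := (mem_fixS g _).mp (φ₁ a).2
  rw [hga]
  rfl

end order

end Cfsg.Agent.Helper42.Singer
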