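import Mathlib
import Cfsg.Agent.S5887

set_option autoImplicit false
set_option linter.style.haveILetI false
set_option linter.unusedSectionVars false
set_option linter.unusedVariables false

/-! Structure of the normaliser of a field subalgebra of full degree: evaluation is onto, and
an element of the normaliser with two independent fixed vectors is trivial. -/

namespace Cfsg.Agent.Helper42.Singer

open Module Cfsg Cfsg.Geo Matrix Cfsg.Agent.S5887

variable {F : Type*} [Field F] [Fintype F] {n : ℕ}

/-- evaluation at a nonzero vector maps a field subalgebra of degree `n` onto `F^n`. -/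
theorem exists_mulVec_eq (K : Subalgebra F (Matrix (Fin n) (Fin n) F))
    (hK : IsFieldSubalgebra n K) (v : Fin n → F) (hv : v ≠ 0) (u : Fin n → F) :
    ∃ k ∈ K, k *ᵥ v = u := by
  let evL : K →ₗ[F] (Fin n → F) :=
    { toFun := fun k => (k : Matrix (Fin n) (Fin n) F) *ᵥ v
      map_add' := fun a b => by
        show ((a + b : K) : Matrix (Fin n) (Fin n) F) *ᵥ v = _
        rw [Subalgebra.coe_add, Matrix.add_mulVec]
      map_smul' := fun c a => by
        show ((c • a : K) : Matrix (Fin n) (Fin n) F) *ᵥ v = _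
        rw [Subalgebra.coe_smul, Matrix.smul_mulVec]
        rfl }
  have hinj : Function.Injective evL := by
    rw [← LinearMap.ker_eq_bot, LinearMap.ker_eq_bot']
    intro k hk
    by_contra hk0
    have hk0' : (k : Matrix (Fin n) (Fin n) F) ≠ 0 := fun h => hk0 (Subtype.ext h)
    exact hv (inj_of K hK k k.2 hk0' v hk)
  have hfin : finrank F K = finrank F (Fin n → F) := by
    rw [hK.finrank_eq, finrank_fin_fun]
  have hsurj := (LinearMap.injective_iff_surjective_of_finrank_eq_finrank hfin).mp hinj
  obtain ⟨k, hk⟩ := hsurj u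
  exact ⟨k, k.2, hk⟩

theorem isDomain_of (K : Subalgebra F (Matrix (Fin n) (Fin n) F)) {r : ℕ}
    (hK : IsFieldSubalgebra r K) (hn : 0 < n) : IsDomain K :=
  (isField_of K hK hn).isDomain

/-- an element of the normaliser of `K` that commutes with a non-scalar element of `K`
commutes with all of `K` (prime degree). -/
theorem commute_all_of_commute (hn : n.Prime) (K : Subalgebra F (Matrix (Fin n) (Fin n) F))
    (hK : IsFieldSubalgebra n K) (g : Matrix (Fin n) (Fin n) F)
    (κ : Matrix (Fin n) (Fin n) F) (hκ : κ ∈ K) (hκg : κ * g = g * κ)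
    (hκF : ∀ c : F, κ ≠ algebraMap F _ c) : ∀ k ∈ K, k * g = g * k := by
  haveI := isDomain_of K hK hn.pos
  let S : Subalgebra F K :=
    { carrier := {k | (k : Matrix (Fin n) (Fin n) F) * g = g * (k : Matrix (Fin n) (Fin n) F)}
      mul_mem' := by
        intro a b ha hb
        simp only [Set.mem_ofPred_eq] at ha hb ⊢
        rw [Subalgebra.coe_mul, mul_assoc, hb, ← mul_assoc, ha, mul_assoc]
      add_mem' := by
        intro a b ha hb
        simp only [Set.mem_ofPred_eq] at ha hb ⊢
        rw [Subalgebra.coe_add, add_mul, mul_add, ha, hb]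
      algebraMap_mem' := by
        intro c
        simp only [Set.mem_ofPred_eq]
        show (algebraMap F (Matrix (Fin n) (Fin n) F) c) * g = g * algebraMap F _ c
        exact (Algebra.commutes c g) }
  haveI : IsSimpleOrder (Subalgebra F K) :=
    Subalgebra.isSimpleOrder_of_finrank_prime F K (by rw [hK.finrank_eq]; exact hn)
  rcases eq_bot_or_eq_top S with h | h
  · exfalso
    have hmem : (⟨κ, hκ⟩ : K) ∈ S := hκg
    rw [h, Algebra.mem_bot] at hmem
    obtain ⟨c, hc⟩ := hmem
    apply hκF c
    have := congrArg Subtype.val hc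
    exact this.symm
  · intro k hk
    have hmem : (⟨k, hk⟩ : K) ∈ S := by rw [h]; exact Algebra.mem_top
    exact hmem

/-- an element of the normaliser of a field subalgebra of prime degree `n` of `M_n(F)` with two
linearly independent fixed vectors is the identity. -/
theorem eq_one_of_two_fixed (hn : n.Prime) (K : Subalgebra F (Matrix (Fin n) (Fin n) F))
    (hK : IsFieldSubalgebra n K) (g : GL (Fin n) F) (hg : g ∈ subalgebraNormalizer K)
    (v w : Fin n → F) (hv : v ≠ 0) (hgv : (g : Matrix (Fin n) (Fin n) F) *ᵥ v = v)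
    (hgw : (g : Matrix (Fin n) (Fin n) F) *ᵥ w = w) (hw : ∀ c : F, w ≠ c • v) : g = 1 := by
  obtain ⟨κ, hκ, hκv⟩ := exists_mulVec_eq K hK v hv w
  have hginv : ((g⁻¹ : GL (Fin n) F) : Matrix (Fin n) (Fin n) F) *ᵥ v = v := by
    have h1 : ((g⁻¹ : GL (Fin n) F) : Matrix (Fin n) (Fin n) F) *ᵥ
        ((g : Matrix (Fin n) (Fin n) F) *ᵥ v) = v := by
      rw [Matrix.mulVec_mulVec, ← Units.val_mul, inv_mul_cancel, Units.val_one, Matrix.one_mulVec]
    rwa [hgv] at h1
  have hconj : (g : Matrix (Fin n) (Fin n) F) * κ *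
      ((g⁻¹ : GL (Fin n) F) : Matrix (Fin n) (Fin n) F) ∈ K := (hg κ).mp hκ
  -- the conjugate agrees with `κ` on `v`
  have hval : ((g : Matrix (Fin n) (Fin n) F) * κ *
      ((g⁻¹ : GL (Fin n) F) : Matrix (Fin n) (Fin n) F) - κ) *ᵥ v = 0 := by
    rw [Matrix.sub_mulVec, ← Matrix.mulVec_mulVec, ← Matrix.mulVec_mulVec, hginv, hκv, hgw,
      sub_self]
  have hzero : (g : Matrix (Fin n) (Fin n) F) * κ *
      ((g⁻¹ : GL (Fin n) F) : Matrix (Fin n) (Fin n) F) - κ = 0 := by
    by_contra hne
    exact hv (inj_of K hK _ (K.sub_mem hconj hκ) hne v hval)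
  have hκg : κ * (g : Matrix (Fin n) (Fin n) F) = (g : Matrix (Fin n) (Fin n) F) * κ := by
    have h1 := sub_eq_zero.mp hzero
    have h2 : (g : Matrix (Fin n) (Fin n) F) * κ *
      ((g⁻¹ : GL (Fin n) F) : Matrix (Fin n) (Fin n) F) * (g : Matrix (Fin n) (Fin n) F)
        = κ * (g : Matrix (Fin n) (Fin n) F) := by rw [h1]
    rw [mul_assoc, ← Units.val_mul, inv_mul_cancel, Units.val_one, mul_one] at h2
    exact h2.symm
  have hκF : ∀ c : F, κ ≠ algebraMap F _ c := by
    intro c hc
    apply hw c
    rw [← hκv, hc, Matrix.algebraMap_eq_diagonal]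
    ext i
    simp [Matrix.mulVec_diagonal]
  have hall := commute_all_of_commute hn K hK _ κ hκ hκg hκF
  apply Units.ext
  apply mat_ext_mulVec
  intro u
  obtain ⟨k, hk, hku⟩ := exists_mulVec_eq K hK v hv u
  rw [Units.val_one, Matrix.one_mulVec, ← hku, Matrix.mulVec_mulVec, ← hall k hk,
    ← Matrix.mulVec_mulVec, hgv]

end Cfsg.Agent.Helper42.Singer
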