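import Mathlib
import Cfsg.Agent.Lib.Helper42.Singer2

set_option autoImplicit false
set_option linter.style.haveILetI false
set_option linter.unusedSectionVars false
set_option linter.unusedVariables false

/-! Elements of the normaliser of a field subalgebra of full degree inducing a given algebra
automorphism; the Frobenius element. -/

namespace Cfsg.Agent.Helper42.Singer

open Module Cfsg Cfsg.Geo Matrix Cfsg.Agent.S5887

variable {F : Type*} [Field F] [Fintype F] {n : ℕ}

/-- the evaluation equivalence `K ≃ F^n` at a nonzero vector -/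
theorem exists_evEquiv (K : Subalgebra F (Matrix (Fin n) (Fin n) F))
    (hK : IsFieldSubalgebra n K) (v : Fin n → F) (hv : v ≠ 0) :
    ∃ E : K ≃ₗ[F] (Fin n → F), ∀ k : K, E k = (k : Matrix (Fin n) (Fin n) F) *ᵥ v := by
  let evL : K →ₗ[F] (Fin n → F) :=
    { toFun := fun k => (k : Matrix (Fin n) (Fin n) F) *ᵥ v
      map_add' := fun a b => by
        show ((a + b : K) : Matrix (Fin n) (Fin n) F) *ᵥ v = _
        rw [Subalgebra.coe_add, Matrix.add_mulVec]
      map_smul' := fun c a => by
        show ((c • a : K) : Matrix (Fin n) (Fin n) F) *ᵥ v = _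
        rw [Subalgebra.coe_smul, Matrix.smul_mulVec]
        rfl }
  have hinj : Function.Injective evL := by
    rw [← LinearMap.ker_eq_bot, LinearMap.ker_eq_bot']
    intro k hk
    by_contra hk0
    have hk0' : (k : Matrix (Fin n) (Fin n) F) ≠ 0 := fun h => hk0 (Subtype.ext h)
    exact hv (inj_of K hK k k.2 hk0' v hk)
  have hfin : finrank F K = finrank F (Fin n → F) := by
    rw [hK.finrank_eq, finrank_fin_fun]
  have hsurj := (LinearMap.injective_iff_surjective_of_finrank_eq_finrank hfin).mp hinj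
  exact ⟨LinearEquiv.ofBijective evL ⟨hinj, hsurj⟩, fun k => rfl⟩

/-- an algebra endomorphism of `K` of finite order is induced by an element of the normaliser. -/
theorem exists_normalizer_of_algHom (hn : 0 < n) (K : Subalgebra F (Matrix (Fin n) (Fin n) F))
    (hK : IsFieldSubalgebra n K) (φ : K →ₐ[F] K) (m : ℕ) (hm : 0 < m) (hφ : φ ^ m = 1) :
    ∃ g : GL (Fin n) F, g ∈ subalgebraNormalizer K ∧ g ^ m = 1 ∧
      ∀ k : K, (g : Matrix (Fin n) (Fin n) F) * (k : Matrix (Fin n) (Fin n) F)
        = ((φ k : K) : Matrix (Fin n) (Fin n) F) * (g : Matrix (Fin n) (Fin n) F) := by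
  have hv : (Pi.single (⟨0, hn⟩ : Fin n) (1 : F) : Fin n → F) ≠ 0 := by
    intro h
    have := congrFun h ⟨0, hn⟩
    simp at this
  obtain ⟨E, hE⟩ := exists_evEquiv K hK _ hv
  set v₀ : Fin n → F := Pi.single (⟨0, hn⟩ : Fin n) (1 : F) with hv₀
  -- the conjugated maps
  let y : ℕ → ((Fin n → F) →ₗ[F] (Fin n → F)) := fun j =>
    E.toLinearMap ∘ₗ (φ ^ j).toLinearMap ∘ₗ E.symm.toLinearMap
  have hy_apply : ∀ j u, y j u = E ((φ ^ j) (E.symm u)) := fun j u => rfl
  have hP : ∀ (j : ℕ) (k : K) (u : Fin n → F),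
      y j ((k : Matrix (Fin n) (Fin n) F) *ᵥ u)
        = (((φ ^ j) k : K) : Matrix (Fin n) (Fin n) F) *ᵥ y j u := by
    intro j k u
    have hu : u = E (E.symm u) := (E.apply_symm_apply u).symm
    set κ := E.symm u with hκ
    have h1 : (k : Matrix (Fin n) (Fin n) F) *ᵥ u = E (k * κ) := by
      rw [hu, hE, hE, Subalgebra.coe_mul, Matrix.mulVec_mulVec]
    rw [h1, hy_apply, hy_apply, E.symm_apply_apply, map_mul, hE, hE, Subalgebra.coe_mul,
      Matrix.mulVec_mulVec]
  have hy_mul : ∀ i j, y i ∘ₗ y j = y (i + j) := by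
    intro i j
    apply LinearMap.ext
    intro u
    show E ((φ ^ i) (E.symm (E ((φ ^ j) (E.symm u))))) = E ((φ ^ (i + j)) (E.symm u))
    rw [E.symm_apply_apply, pow_add]
    rfl
  have hy0 : y 0 = LinearMap.id := by
    apply LinearMap.ext
    intro u
    show E ((φ ^ 0) (E.symm u)) = u
    rw [pow_zero]
    exact E.apply_symm_apply u
  have hym : y m = LinearMap.id := by
    apply LinearMap.ext
    intro u
    show E ((φ ^ m) (E.symm u)) = u
    rw [hφ]
    exact E.apply_symm_apply u
  set M : ℕ → Matrix (Fin n) (Fin n) F := fun j => LinearMap.toMatrix' (y j) with hM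
  have hM_mul : ∀ i j, M i * M j = M (i + j) := by
    intro i j
    show LinearMap.toMatrix' (y i) * LinearMap.toMatrix' (y j) = LinearMap.toMatrix' (y (i + j))
    rw [← LinearMap.toMatrix'_comp, hy_mul]
  have hM0 : M 0 = 1 := by
    show LinearMap.toMatrix' (y 0) = 1
    rw [hy0, LinearMap.toMatrix'_id]
  have hMm : M m = 1 := by
    show LinearMap.toMatrix' (y m) = 1
    rw [hym, LinearMap.toMatrix'_id]
  have hMk : ∀ (j : ℕ) (k : K), M j * (k : Matrix (Fin n) (Fin n) F)
      = (((φ ^ j) k : K) : Matrix (Fin n) (Fin n) F) * M j := by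
    intro j k
    apply mat_ext_mulVec
    intro u
    rw [← Matrix.mulVec_mulVec, ← Matrix.mulVec_mulVec]
    show LinearMap.toMatrix' (y j) *ᵥ _ = _ *ᵥ (LinearMap.toMatrix' (y j) *ᵥ u)
    rw [LinearMap.toMatrix'_mulVec, LinearMap.toMatrix'_mulVec, hP]
  have h1m : M 1 * M (m - 1) = 1 := by
    rw [hM_mul, show 1 + (m - 1) = m by omega, hMm]
  have hm1 : M (m - 1) * M 1 = 1 := by
    rw [hM_mul, show (m - 1) + 1 = m by omega, hMm]
  let g : GL (Fin n) F := ⟨M 1, M (m - 1), h1m, hm1⟩
  have hgval : (g : Matrix (Fin n) (Fin n) F) = M 1 := rfl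
  have hginv : ((g⁻¹ : GL (Fin n) F) : Matrix (Fin n) (Fin n) F) = M (m - 1) := rfl
  have hpow : ∀ j, ((g ^ j : GL (Fin n) F) : Matrix (Fin n) (Fin n) F) = M j := by
    intro j
    induction j with
    | zero => rw [pow_zero, Units.val_one, hM0]
    | succ j ih => rw [pow_succ, Units.val_mul, ih, hgval, hM_mul]
  have hφ1 : ∀ k : K, (φ ^ 1) k = φ k := fun k => by rw [pow_one]
  refine ⟨g, ?_, ?_, ?_⟩
  · intro k
    rw [hgval, hginv]
    constructor
    · intro hk
      have h := hMk 1 ⟨k, hk⟩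
      simp only at h
      rw [h, mul_assoc, h1m, mul_one]
      exact ((φ ^ 1) ⟨k, hk⟩).2
    · intro hk'
      set k' : K := ⟨M 1 * k * M (m - 1), hk'⟩ with hk'def
      set k'' : K := (φ ^ (m - 1)) k' with hk''def
      have h2 : (φ ^ 1) k'' = k' := by
        rw [hk''def, ← AlgHom.mul_apply, ← pow_add, show 1 + (m - 1) = m by omega, hφ]
        rfl
      have h3 := hMk 1 k''
      rw [h2] at h3
      -- `M 1 * k'' = M 1 * k * M (m-1) * M 1 = M 1 * k`
      have h4 : M 1 * (k'' : Matrix (Fin n) (Fin n) F) = M 1 * k := by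
        rw [h3]
        show M 1 * k * M (m - 1) * M 1 = M 1 * k
        rw [mul_assoc, hm1, mul_one]
      have h5 : (k'' : Matrix (Fin n) (Fin n) F) = k := by
        have := congrArg (fun X => M (m - 1) * X) h4
        beta_reduce at this
        rwa [← mul_assoc, ← mul_assoc, hm1, one_mul, one_mul] at this
      rw [← h5]
      exact k''.2
  · apply Units.ext
    rw [hpow, hMm, Units.val_one]
  · intro k
    rw [hgval]
    have h := hMk 1 k
    rw [hφ1] at h
    exact h

/-- the Frobenius element of the normaliser of a field subalgebra of degree `n`. -/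
theorem exists_frob (hn : 2 ≤ n) (K : Subalgebra F (Matrix (Fin n) (Fin n) F))
    (hK : IsFieldSubalgebra n K) :
    ∃ g : GL (Fin n) F, g ∈ subalgebraNormalizer K ∧ g ^ n = 1 ∧ g ≠ 1 := by
  have hn0 : 0 < n := by omega
  haveI : FieldSub K := ⟨isField_of K hK hn0⟩
  set φ : K →ₐ[F] K := FiniteField.frobeniusAlgHom F K with hφdef
  have hord : orderOf φ = n := by
    rw [hφdef, FiniteField.orderOf_frobeniusAlgHom, hK.finrank_eq]
  have hφn : φ ^ n = 1 := by
    have h := pow_orderOf_eq_one φ
    rwa [hord] at h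
  obtain ⟨g, hg, hgn, hgk⟩ := exists_normalizer_of_algHom hn0 K hK φ n hn0 hφn
  refine ⟨g, hg, hgn, ?_⟩
  intro h1
  have hφ1 : φ = 1 := by
    apply AlgHom.ext
    intro k
    apply Subtype.ext
    have := hgk k
    rw [h1, Units.val_one, one_mul, mul_one] at this
    exact this.symm
  rw [hφ1, orderOf_one] at hord
  omega

end Cfsg.Agent.Helper42.Singer
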