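import Mathlib
import Cfsg.Agent.Lib.Helper42.Singer1
import Cfsg.Agent.Lib.Helper42.Elusive4
import Cfsg.Agent.Lib.Helper42.Elusive7
import Cfsg.Agent.Lib.Helper42.Elusive10

set_option autoImplicit false
set_option linter.style.haveILetI false
set_option linter.unusedSectionVars false
set_option linter.unusedVariables false

/-! Elements of prime order `r` of `GL_r(q)` when `q` has order `r - 1` modulo `r`. -/

namespace Cfsg.Agent.Helper42.Singer

open Module Polynomial Cfsg.Agent.Helper42.Elusive

section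
variable {F V : Type*} [Field F] [Fintype F] [AddCommGroup V] [Module F V]
  [FiniteDimensional F V]

/-- the cyclotomic polynomial is irreducible when `q` has order `r - 1` modulo `r`. -/
theorem irreducible_cyclotomic_of_orderOf (p : ℕ) [Fact p.Prime] [CharP F p] (r : ℕ)
    [Fact r.Prime] (hrp : r ≠ p) (hord : orderOf ((Fintype.card F : ℕ) : ZMod r) = r - 1) :
    Irreducible (cyclotomic r F) := by
  have hr : r.Prime := Fact.out
  obtain ⟨g, hg, hgd⟩ := exists_irreducible_factor_cyclotomic (F := F) r
  have hdeg := natDegree_irr_factor p r hrp g hg hgd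
  rw [hord] at hdeg
  obtain ⟨h, hh⟩ := hgd
  have hne : cyclotomic r F ≠ 0 := cyclotomic_ne_zero r F
  have hg0 : g ≠ 0 := hg.ne_zero
  have hh0 : h ≠ 0 := by
    intro h0; rw [h0, mul_zero] at hh; exact hne hh
  have hd : (cyclotomic r F).natDegree = g.natDegree + h.natDegree := by
    rw [hh, natDegree_mul hg0 hh0]
  rw [natDegree_cyclotomic, Nat.totient_prime hr, hdeg] at hd
  have hh1 : h.natDegree = 0 := by omega
  have hunit : IsUnit h := by
    rw [Polynomial.isUnit_iff]
    obtain ⟨a, ha⟩ := natDegree_eq_zero.mp hh1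
    refine ⟨a, ?_, ha⟩
    rw [isUnit_iff_ne_zero]
    intro ha0
    rw [ha0, map_zero] at ha
    exact hh0 ha.symm
  rw [hh]
  exact (irreducible_mul_isUnit hunit).mpr hg

/-- a nontrivial element of order `r` on an `r`-dimensional space has a line of fixed points. -/
theorem finrank_fixS_eq_one (p : ℕ) [Fact p.Prime] [CharP F p] (r : ℕ) [Fact r.Prime]
    (hrp : r ≠ p) (hr3 : 3 ≤ r) (hord : orderOf ((Fintype.card F : ℕ) : ZMod r) = r - 1)
    (hV : finrank F V = r) (f : Module.End F V) (hf : f ^ r = 1) (hf1 : f ≠ 1) :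
    finrank F (fixS f) = 1 := by
  have hrF := natCast_ne_zero_of_ne (F := F) p r hrp
  have hsum := finrank_fixS_add_movS f r hrF hf
  have hdvd := dvd_finrank_of_le_movS p r hrp f hf (movS f r) le_rfl (movS_invariant f r)
  rw [hord] at hdvd
  have hne : finrank F (movS f r) ≠ 0 := by
    intro h0
    have hbot : movS f r = ⊥ := Submodule.finrank_eq_zero.mp h0
    have htop := fixS_sup_movS f r hrF hf
    rw [hbot, sup_bot_eq] at htop
    apply hf1
    apply LinearMap.ext
    intro v
    have : v ∈ fixS f := by rw [htop]; exact Submodule.mem_top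
    rw [Module.End.one_apply]
    exact (mem_fixS f v).mp this
  obtain ⟨k, hk⟩ := hdvd
  rw [hV] at hsum
  have hk1 : k = 1 := by
    rcases k with _ | _ | k
    · exfalso; apply hne; rw [hk]; simp
    · rfl
    · exfalso
      have : (r - 1) * (k + 2) ≥ (r - 1) * 2 := Nat.mul_le_mul_left _ (by omega)
      rw [← hk] at this
      omega
  rw [hk1, mul_one] at hk
  omega

/-- two nontrivial elements of order `r` on an `r`-dimensional space are conjugate. -/
theorem exists_conj_of_order (p : ℕ) [Fact p.Prime] [CharP F p] (r : ℕ) [Fact r.Prime]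
    (hrp : r ≠ p) (hr3 : 3 ≤ r) (hord : orderOf ((Fintype.card F : ℕ) : ZMod r) = r - 1)
    (hV : finrank F V = r) (f g : Module.End F V) (hf : f ^ r = 1) (hf1 : f ≠ 1)
    (hg : g ^ r = 1) (hg1 : g ≠ 1) :
    ∃ φ : V ≃ₗ[F] V, ∀ v, φ (f v) = g (φ v) := by
  have hrF := natCast_ne_zero_of_ne (F := F) p r hrp
  apply exists_conj_of_pow_eq_one r hrF (irreducible_cyclotomic_of_orderOf p r hrp hord) f g hf hg
  rw [finrank_fixS_eq_one p r hrp hr3 hord hV f hf hf1,
    finrank_fixS_eq_one p r hrp hr3 hord hV g hg hg1]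

end

end Cfsg.Agent.Helper42.Singer
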