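import Mathlib
import Cfsg.Agent.Lib.Helper42.Singer3
import Cfsg.Agent.Lib.Helper42.Singer4

set_option autoImplicit false
set_option linter.style.haveILetI false
set_option linter.unusedSectionVars false
set_option linter.unusedVariables false

/-! Conjugating elements of order `n` of `SL_n(q)` into the normaliser of a Singer cycle. -/

namespace Cfsg.Agent.Helper42.Singer

open Module Cfsg Cfsg.Geo Matrix Cfsg.Agent.S5887 Cfsg.Agent.Helper42.Elusive

variable {F : Type*} [Field F] [Fintype F] {n : ℕ}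

theorem toLin'_pow' (M : Matrix (Fin n) (Fin n) F) (r : ℕ) :
    (Matrix.toLin' M) ^ r = Matrix.toLin' (M ^ r) :=
  (map_pow (Matrix.toLinAlgEquiv' (R := F) (n := Fin n)) M r).symm

/-- membership in the comap of the normaliser via an intertwining relation -/
theorem conj_mem_of_mul_eq (K : Subalgebra F (Matrix (Fin n) (Fin n) F))
    (x P : Matrix.SpecialLinearGroup (Fin n) F) (g₀ : GL (Fin n) F)
    (hg₀ : g₀ ∈ subalgebraNormalizer K)
    (h : (x : Matrix (Fin n) (Fin n) F) * (P : Matrix (Fin n) (Fin n) F)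
      = (P : Matrix (Fin n) (Fin n) F) * (g₀ : Matrix (Fin n) (Fin n) F)) :
    P⁻¹ * x * P ∈ (subalgebraNormalizer K).comap
      (Matrix.SpecialLinearGroup.toGL : Matrix.SpecialLinearGroup (Fin n) F →* GL (Fin n) F) := by
  rw [Subgroup.mem_comap]
  have key : Matrix.SpecialLinearGroup.toGL x * Matrix.SpecialLinearGroup.toGL P
      = Matrix.SpecialLinearGroup.toGL P * g₀ := by
    apply Units.ext
    rw [Units.val_mul, Units.val_mul]
    exact h
  rw [map_mul, map_mul, map_inv, mul_assoc, key, ← mul_assoc, inv_mul_cancel, one_mul]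
  exact hg₀

/-- every non-scalar `x ∈ SL_n(q)` with `x ^ n` scalar is conjugate into the normaliser of `K`
when `q` has order `n - 1` modulo the prime `n`. -/
theorem exists_conj_into_normalizer (p : ℕ) [Fact p.Prime] [CharP F p] (hn : n.Prime)
    (hn3 : 3 ≤ n) (hnp : n ≠ p) (hord : orderOf ((Fintype.card F : ℕ) : ZMod n) = n - 1)
    (K : Subalgebra F (Matrix (Fin n) (Fin n) F)) (hK : IsFieldSubalgebra n K)
    (x : Matrix.SpecialLinearGroup (Fin n) F) (z : F)
    (hx : ((x ^ n : Matrix.SpecialLinearGroup (Fin n) F) : Matrix (Fin n) (Fin n) F)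
      = z • (1 : Matrix (Fin n) (Fin n) F))
    (hns : ∀ z : F, (x : Matrix (Fin n) (Fin n) F) ≠ z • (1 : Matrix (Fin n) (Fin n) F)) :
    ∃ P : Matrix.SpecialLinearGroup (Fin n) F, P⁻¹ * x * P ∈ (subalgebraNormalizer K).comap
      (Matrix.SpecialLinearGroup.toGL : Matrix.SpecialLinearGroup (Fin n) F →* GL (Fin n) F) := by
  haveI : Fact n.Prime := ⟨hn⟩
  have hq0 : 0 < Fintype.card F := Fintype.card_pos
  -- `n ∤ q - 1`
  have hnd : ¬ n ∣ Fintype.card F - 1 := by
    rw [← orderOf_eq_one_iff_dvd n _ hq0, hord]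
    omega
  -- `z = 1`
  have hz : z = 1 := by
    apply eq_one_of_pow_eq_one_of_not_dvd n hnd
    have h1 := congrArg Matrix.det hx
    rw [Matrix.SpecialLinearGroup.det_coe, Matrix.det_smul, Matrix.det_one, mul_one,
      Fintype.card_fin] at h1
    exact h1.symm
  subst hz
  rw [one_smul, Matrix.SpecialLinearGroup.coe_pow] at hx
  set f : Module.End F (Fin n → F) := Matrix.toLin' (x : Matrix (Fin n) (Fin n) F) with hfdef
  have hf : f ^ n = 1 := by
    rw [hfdef, toLin'_pow', hx, Matrix.toLin'_one]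
    rfl
  have hf1 : f ≠ 1 := by
    intro h
    apply hns 1
    rw [one_smul]
    have h2 : Matrix.toLin' (x : Matrix (Fin n) (Fin n) F) = Matrix.toLin' 1 := by
      rw [Matrix.toLin'_one]; exact h
    exact Matrix.toLin'.injective h2
  obtain ⟨g₀, hg₀, hg₀n, hg₀1⟩ := exists_frob (by omega) K hK
  set f₀ : Module.End F (Fin n → F) := Matrix.toLin' (g₀ : Matrix (Fin n) (Fin n) F) with hf₀def
  have hf₀ : f₀ ^ n = 1 := by
    rw [hf₀def, toLin'_pow', ← Units.val_pow_eq_pow_val, hg₀n, Units.val_one, Matrix.toLin'_one]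
    rfl
  have hf₀1 : f₀ ≠ 1 := by
    intro h
    apply hg₀1
    apply Units.ext
    have h2 : Matrix.toLin' (g₀ : Matrix (Fin n) (Fin n) F) = Matrix.toLin' 1 := by
      rw [Matrix.toLin'_one]; exact h
    rw [Units.val_one]
    exact Matrix.toLin'.injective h2
  have hV : finrank F (Fin n → F) = n := finrank_fin_fun F
  obtain ⟨φ, hφ⟩ := exists_conj_of_order p n hnp hn3 hord hV f f₀ hf hf1 hf₀ hf₀1
  -- the matrix of `φ⁻¹`
  set Pm : Matrix (Fin n) (Fin n) F := LinearMap.toMatrix' φ.symm.toLinearMap with hPm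
  set Qm : Matrix (Fin n) (Fin n) F := LinearMap.toMatrix' φ.toLinearMap with hQm
  have hPQ : Pm * Qm = 1 := by
    rw [hPm, hQm, ← LinearMap.toMatrix'_comp]
    have : φ.symm.toLinearMap ∘ₗ φ.toLinearMap = LinearMap.id := by
      apply LinearMap.ext; intro v; simp
    rw [this, LinearMap.toMatrix'_id]
  have hdet : Pm.det ≠ 0 := by
    intro h0
    have := congrArg Matrix.det hPQ
    rw [Matrix.det_mul, h0, zero_mul, Matrix.det_one] at this
    exact zero_ne_one this
  have hrel : (x : Matrix (Fin n) (Fin n) F) * Pm = Pm * (g₀ : Matrix (Fin n) (Fin n) F) := by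
    apply mat_ext_mulVec
    intro u
    rw [← Matrix.mulVec_mulVec, ← Matrix.mulVec_mulVec]
    show (x : Matrix (Fin n) (Fin n) F) *ᵥ (LinearMap.toMatrix' φ.symm.toLinearMap *ᵥ u)
      = LinearMap.toMatrix' φ.symm.toLinearMap *ᵥ ((g₀ : Matrix (Fin n) (Fin n) F) *ᵥ u)
    rw [LinearMap.toMatrix'_mulVec, LinearMap.toMatrix'_mulVec]
    show f (φ.symm u) = φ.symm (f₀ u)
    apply φ.injective
    rw [hφ, φ.apply_symm_apply, φ.apply_symm_apply]
  obtain ⟨a, ha⟩ := exists_pow_eq_of_not_dvd n hnd (Pm.det)⁻¹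
  have hdetP : (a • Pm).det = 1 := by
    rw [Matrix.det_smul, Fintype.card_fin, ha, inv_mul_cancel₀ hdet]
  refine ⟨⟨a • Pm, hdetP⟩, ?_⟩
  apply conj_mem_of_mul_eq K x _ g₀ hg₀
  show (x : Matrix (Fin n) (Fin n) F) * (a • Pm) = (a • Pm) * (g₀ : Matrix (Fin n) (Fin n) F)
  rw [Matrix.mul_smul, Matrix.smul_mul, hrel]

end Cfsg.Agent.Helper42.Singer
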