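import Mathlib
import Cfsg.Agent.Lib.Helper42.Singer3

set_option autoImplicit false
set_option linter.style.haveILetI false
set_option linter.unusedSectionVars false
set_option linter.unusedVariables false

/-! Eigenvalue version of the two-fixed-vectors lemma; a non-scalar Frobenius element. -/

namespace Cfsg.Agent.Helper42.Singer

open Module Cfsg Cfsg.Geo Matrix Cfsg.Agent.S5887

variable {F : Type*} [Field F] [Fintype F] {n : ℕ}

/-- nonzero scalar matrices normalise every subalgebra. -/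
theorem scalar_mem_normalizer (K : Subalgebra F (Matrix (Fin n) (Fin n) F)) (u : GL (Fin n) F)
    (c : F) (hu : (u : Matrix (Fin n) (Fin n) F) = c • (1 : Matrix (Fin n) (Fin n) F)) :
    u ∈ subalgebraNormalizer K := by
  intro k
  have h1 : (u : Matrix (Fin n) (Fin n) F) * k * ((u⁻¹ : GL (Fin n) F) : Matrix (Fin n) (Fin n) F)
      = k := by
    have hcomm : (u : Matrix (Fin n) (Fin n) F) * k = k * (u : Matrix (Fin n) (Fin n) F) := by
      rw [hu, Matrix.smul_mul, Matrix.mul_smul, one_mul, mul_one]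
    rw [hcomm, mul_assoc, ← Units.val_mul, mul_inv_cancel, Units.val_one, mul_one]
  rw [h1]

/-- an element of the normaliser of a field subalgebra of prime degree `n` of `M_n(F)` with two
linearly independent eigenvectors for the same eigenvalue `c` is the scalar `c`. -/
theorem eq_smul_of_two_eigen (hn : n.Prime) (K : Subalgebra F (Matrix (Fin n) (Fin n) F))
    (hK : IsFieldSubalgebra n K) (g : GL (Fin n) F) (hg : g ∈ subalgebraNormalizer K) (c : F)
    (hc : c ≠ 0)
    (v w : Fin n → F) (hv : v ≠ 0) (hgv : (g : Matrix (Fin n) (Fin n) F) *ᵥ v = c • v)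
    (hgw : (g : Matrix (Fin n) (Fin n) F) *ᵥ w = c • w) (hw : ∀ a : F, w ≠ a • v) :
    (g : Matrix (Fin n) (Fin n) F) = c • (1 : Matrix (Fin n) (Fin n) F) := by
  -- the scalar `c⁻¹`
  let u : GL (Fin n) F := ⟨c⁻¹ • 1, c • 1, by
    rw [Matrix.smul_mul, Matrix.mul_smul, one_mul, smul_smul, inv_mul_cancel₀ hc, one_smul], by
    rw [Matrix.smul_mul, Matrix.mul_smul, one_mul, smul_smul, mul_inv_cancel₀ hc, one_smul]⟩
  have huval : (u : Matrix (Fin n) (Fin n) F) = c⁻¹ • (1 : Matrix (Fin n) (Fin n) F) := rfl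
  have hu : u ∈ subalgebraNormalizer K := scalar_mem_normalizer K u c⁻¹ huval
  have hug : u * g ∈ subalgebraNormalizer K := (subalgebraNormalizer K).mul_mem hu hg
  have hval : ((u * g : GL (Fin n) F) : Matrix (Fin n) (Fin n) F)
      = c⁻¹ • (g : Matrix (Fin n) (Fin n) F) := by
    rw [Units.val_mul, huval, Matrix.smul_mul, one_mul]
  have h1 := eq_one_of_two_fixed hn K hK (u * g) hug v w hv
    (by rw [hval, Matrix.smul_mulVec, hgv, smul_smul, inv_mul_cancel₀ hc, one_smul])
    (by rw [hval, Matrix.smul_mulVec, hgw, smul_smul, inv_mul_cancel₀ hc, one_smul]) hw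
  have h2 := congrArg (fun z : GL (Fin n) F => (z : Matrix (Fin n) (Fin n) F)) h1
  simp only [Units.val_one] at h2
  rw [hval] at h2
  have h3 : c • (c⁻¹ • (g : Matrix (Fin n) (Fin n) F)) = c • (1 : Matrix (Fin n) (Fin n) F) := by
    rw [h2]
  rwa [smul_smul, mul_inv_cancel₀ hc, one_smul] at h3

/-- a non-scalar Frobenius element of the normaliser of a field subalgebra of degree `n`. -/
theorem exists_frob' (hn : 2 ≤ n) (K : Subalgebra F (Matrix (Fin n) (Fin n) F))
    (hK : IsFieldSubalgebra n K) :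
    ∃ g : GL (Fin n) F, g ∈ subalgebraNormalizer K ∧ g ^ n = 1 ∧
      ∀ c : F, (g : Matrix (Fin n) (Fin n) F) ≠ c • (1 : Matrix (Fin n) (Fin n) F) := by
  have hn0 : 0 < n := by omega
  haveI : FieldSub K := ⟨isField_of K hK hn0⟩
  haveI : Nonempty (Fin n) := ⟨⟨0, hn0⟩⟩
  set φ : K →ₐ[F] K := FiniteField.frobeniusAlgHom F K with hφdef
  have hord : orderOf φ = n := by
    rw [hφdef, FiniteField.orderOf_frobeniusAlgHom, hK.finrank_eq]
  have hφn : φ ^ n = 1 := by
    have h := pow_orderOf_eq_one φ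
    rwa [hord] at h
  obtain ⟨g, hg, hgn, hgk⟩ := exists_normalizer_of_algHom hn0 K hK φ n hn0 hφn
  refine ⟨g, hg, hgn, ?_⟩
  intro c hc
  have hc0 : c ≠ 0 := by
    intro h0
    rw [h0, zero_smul] at hc
    have h1 : (g : Matrix (Fin n) (Fin n) F) * ((g⁻¹ : GL (Fin n) F) : Matrix (Fin n) (Fin n) F)
        = 1 := by rw [← Units.val_mul, mul_inv_cancel, Units.val_one]
    rw [hc, zero_mul] at h1
    exact zero_ne_one h1
  have hφ1 : φ = 1 := by
    apply AlgHom.ext
    intro k
    apply Subtype.ext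
    have h := hgk k
    rw [hc, Matrix.smul_mul, Matrix.mul_smul, one_mul, mul_one] at h
    have h2 : c⁻¹ • (c • (k : Matrix (Fin n) (Fin n) F))
        = c⁻¹ • (c • ((φ k : K) : Matrix (Fin n) (Fin n) F)) := by rw [h]
    rw [smul_smul, smul_smul, inv_mul_cancel₀ hc0, one_smul, one_smul] at h2
    exact h2.symm
  rw [hφ1, orderOf_one] at hord
  omega

end Cfsg.Agent.Helper42.Singer
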