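import Mathlib
import Cfsg.Agent.Lib.Helper42.Singer5

set_option autoImplicit false
set_option linter.style.haveILetI false
set_option linter.unusedSectionVars false
set_option linter.unusedVariables false

/-! Elements of `SL_n(q)` with two independent fixed vectors are not conjugate into the
normaliser of a Singer cycle; existence of such elements of order `n`. -/

namespace Cfsg.Agent.Helper42.Singer

open Module Cfsg Cfsg.Geo Matrix Cfsg.Agent.S5887 Cfsg.Agent.Helper42.Elusive

variable {F : Type*} [Field F] [Fintype F] {n : ℕ}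

/-- an element with two independent fixed vectors that is conjugate into the normaliser of `K`
is trivial. -/
theorem eq_one_of_conj_mem (hn : n.Prime) (K : Subalgebra F (Matrix (Fin n) (Fin n) F))
    (hK : IsFieldSubalgebra n K) (x P : Matrix.SpecialLinearGroup (Fin n) F)
    (hP : P⁻¹ * x * P ∈ (subalgebraNormalizer K).comap
      (Matrix.SpecialLinearGroup.toGL : Matrix.SpecialLinearGroup (Fin n) F →* GL (Fin n) F))
    (v w : Fin n → F) (hv : v ≠ 0) (hxv : (x : Matrix (Fin n) (Fin n) F) *ᵥ v = v)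
    (hxw : (x : Matrix (Fin n) (Fin n) F) *ᵥ w = w) (hw : ∀ c : F, w ≠ c • v) : x = 1 := by
  rw [Subgroup.mem_comap] at hP
  set g : GL (Fin n) F := Matrix.SpecialLinearGroup.toGL (P⁻¹ * x * P) with hg
  have hgval : (g : Matrix (Fin n) (Fin n) F) = (P⁻¹ : Matrix.SpecialLinearGroup (Fin n) F).1 *
      (x : Matrix (Fin n) (Fin n) F) * (P : Matrix (Fin n) (Fin n) F) := by
    rw [hg, Matrix.SpecialLinearGroup.coe_GL_coe_matrix, Matrix.SpecialLinearGroup.coe_mul,
      Matrix.SpecialLinearGroup.coe_mul]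
  have hPP : (P : Matrix (Fin n) (Fin n) F) * (P⁻¹ : Matrix.SpecialLinearGroup (Fin n) F).1 = 1 := by
    rw [← Matrix.SpecialLinearGroup.coe_mul, mul_inv_cancel, Matrix.SpecialLinearGroup.coe_one]
  have hfix : ∀ u : Fin n → F, (x : Matrix (Fin n) (Fin n) F) *ᵥ u = u →
      (g : Matrix (Fin n) (Fin n) F) *ᵥ ((P⁻¹ : Matrix.SpecialLinearGroup (Fin n) F).1 *ᵥ u)
        = (P⁻¹ : Matrix.SpecialLinearGroup (Fin n) F).1 *ᵥ u := by
    intro u hu
    rw [hgval, Matrix.mulVec_mulVec, mul_assoc, mul_assoc, hPP, mul_one, ← Matrix.mulVec_mulVec, hu]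
  have hback : ∀ u : Fin n → F, (P : Matrix (Fin n) (Fin n) F) *ᵥ
      ((P⁻¹ : Matrix.SpecialLinearGroup (Fin n) F).1 *ᵥ u) = u := by
    intro u
    rw [Matrix.mulVec_mulVec, hPP, Matrix.one_mulVec]
  have hv' : (P⁻¹ : Matrix.SpecialLinearGroup (Fin n) F).1 *ᵥ v ≠ 0 := by
    intro h0
    apply hv
    rw [← hback v, h0, Matrix.mulVec_zero]
  have hw' : ∀ c : F, (P⁻¹ : Matrix.SpecialLinearGroup (Fin n) F).1 *ᵥ w
      ≠ c • ((P⁻¹ : Matrix.SpecialLinearGroup (Fin n) F).1 *ᵥ v) := by
    intro c hc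
    apply hw c
    rw [← hback w, hc, Matrix.mulVec_smul, hback]
  have hg1 := eq_one_of_two_fixed hn K hK g hP _ _ hv' (hfix v hxv) (hfix w hxw) hw'
  have h1 : P⁻¹ * x * P = 1 := by
    apply Matrix.SpecialLinearGroup.toGL_injective
    rw [map_one]
    exact hg1
  have h2 : x = P * (P⁻¹ * x * P) * P⁻¹ := by group
  rw [h2, h1]
  group

/-- a diagonal element of order `n` with many fixed vectors, when `n ∣ q - 1`. -/
theorem exists_bad_diag (hn : n.Prime) (hn4 : 4 ≤ n) (hnq : n ∣ Fintype.card F - 1) :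
    ∃ x : Matrix.SpecialLinearGroup (Fin n) F,
      ((x ^ n : Matrix.SpecialLinearGroup (Fin n) F) : Matrix (Fin n) (Fin n) F)
        = (1 : F) • (1 : Matrix (Fin n) (Fin n) F) ∧
      (∀ z : F, (x : Matrix (Fin n) (Fin n) F) ≠ z • (1 : Matrix (Fin n) (Fin n) F)) ∧
      ∃ v w : Fin n → F, v ≠ 0 ∧ (x : Matrix (Fin n) (Fin n) F) *ᵥ v = v ∧
        (x : Matrix (Fin n) (Fin n) F) *ᵥ w = w ∧ ∀ c : F, w ≠ c • v := by
  classical
  haveI : Fact n.Prime := ⟨hn⟩
  have hcard : n ∣ Fintype.card Fˣ := by rw [Fintype.card_units]; exact hnq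
  obtain ⟨u, hu⟩ := exists_prime_orderOf_dvd_card n hcard
  set ζ : F := (u : F) with hζ
  have hζn : ζ ^ n = 1 := by
    rw [hζ, ← Units.val_pow_eq_pow_val, ← hu, pow_orderOf_eq_one, Units.val_one]
  have hζ1 : ζ ≠ 1 := by
    intro h
    have : u = 1 := Units.ext h
    rw [this, orderOf_one] at hu
    exact hn.one_lt.ne hu
  have hζ0 : ζ ≠ 0 := u.ne_zero
  let i0 : Fin n := ⟨0, by omega⟩
  let i1 : Fin n := ⟨1, by omega⟩
  let i2 : Fin n := ⟨2, by omega⟩
  let i3 : Fin n := ⟨3, by omega⟩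
  have h01 : i0 ≠ i1 := by intro h; have := congrArg Fin.val h; simp [i0, i1] at this
  have h02 : i2 ≠ i0 := by intro h; have := congrArg Fin.val h; simp [i0, i2] at this
  have h12 : i2 ≠ i1 := by intro h; have := congrArg Fin.val h; simp [i1, i2] at this
  have h03 : i3 ≠ i0 := by intro h; have := congrArg Fin.val h; simp [i0, i3] at this
  have h13 : i3 ≠ i1 := by intro h; have := congrArg Fin.val h; simp [i1, i3] at this
  have h23 : i3 ≠ i2 := by intro h; have := congrArg Fin.val h; simp [i2, i3] at this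
  set d : Fin n → F := fun i => (if i = i0 then ζ else 1) * (if i = i1 then ζ⁻¹ else 1) with hd
  have hd2 : d i2 = 1 := by simp [hd, h02, h12]
  have hd3 : d i3 = 1 := by simp [hd, h03, h13]
  have hd0 : d i0 = ζ := by simp [hd, h01]
  have hdn : ∀ i, d i ^ n = 1 := by
    intro i
    simp only [hd]
    rw [mul_pow]
    by_cases ha : i = i0
    · by_cases hb : i = i1
      · exact absurd (ha.symm.trans hb) h01
      · rw [if_pos ha, if_neg hb, hζn, one_pow, mul_one]
    · by_cases hb : i = i1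
      · rw [if_neg ha, if_pos hb, inv_pow, hζn, inv_one, one_pow, mul_one]
      · rw [if_neg ha, if_neg hb, one_pow, mul_one]
  have hdet : (Matrix.diagonal d).det = 1 := by
    rw [Matrix.det_diagonal]
    simp only [hd]
    rw [Finset.prod_mul_distrib, Finset.prod_ite_eq' Finset.univ i0, Finset.prod_ite_eq' Finset.univ i1]
    simp [hζ0]
  let x : Matrix.SpecialLinearGroup (Fin n) F := ⟨Matrix.diagonal d, hdet⟩
  have hxval : (x : Matrix (Fin n) (Fin n) F) = Matrix.diagonal d := rfl
  refine ⟨x, ?_, ?_, Pi.single i2 1, Pi.single i3 1, ?_, ?_, ?_, ?_⟩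
  · rw [Matrix.SpecialLinearGroup.coe_pow, one_smul, hxval]
    rw [Matrix.diagonal_pow]
    have : d ^ n = 1 := by
      ext i
      exact hdn i
    rw [this]
    exact Matrix.diagonal_one
  · intro z hz
    have hz' : Matrix.diagonal d = z • (1 : Matrix (Fin n) (Fin n) F) := by rw [← hxval]; exact hz
    have e0 := congrFun (congrFun hz' i0) i0
    have e2 := congrFun (congrFun hz' i2) i2
    simp only [Matrix.diagonal_apply_eq, Matrix.smul_apply, Matrix.one_apply_eq, smul_eq_mul,
      mul_one] at e0 e2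
    rw [hd0] at e0
    rw [hd2] at e2
    exact hζ1 (e0.trans e2.symm)
  · intro h
    have := congrFun h i2
    simp at this
  · rw [hxval, Matrix.diagonal_mulVec_single, hd2, one_mul]
  · rw [hxval, Matrix.diagonal_mulVec_single, hd3, one_mul]
  · intro c hc
    have := congrFun hc i3
    simp [h23] at this

/-- two independent vectors in a subspace of dimension at least two -/
theorem exists_pair_of_two_le_finrank {V : Type*} [AddCommGroup V] [Module F V]
    [FiniteDimensional F V] (W : Submodule F V) (hW : 2 ≤ finrank F W) :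
    ∃ v ∈ W, ∃ w ∈ W, v ≠ 0 ∧ ∀ c : F, w ≠ c • v := by
  have hpos : 0 < finrank F W := by omega
  obtain ⟨v, hv⟩ := Module.finrank_pos_iff_exists_ne_zero.mp hpos
  by_contra hcon
  push Not at hcon
  have hle : finrank F W ≤ 1 := by
    apply finrank_le_one v
    intro w
    obtain ⟨c, hc⟩ := hcon v.1 v.2 w.1 w.2 (fun h => hv (Subtype.ext h))
    exact ⟨c, Subtype.ext hc.symm⟩
  omega

/-- a semisimple element of order `n` with a fixed space of dimension at least two, when the
order of `q` modulo `n` is not `n - 1` and `n ∤ q - 1`. -/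
theorem exists_bad_semisimple (p : ℕ) [Fact p.Prime] [CharP F p] (hn : n.Prime) (hn3 : 3 ≤ n)
    (hnp : n ≠ p) (hnq : ¬ n ∣ Fintype.card F - 1)
    (hord : orderOf ((Fintype.card F : ℕ) : ZMod n) ≠ n - 1) :
    ∃ x : Matrix.SpecialLinearGroup (Fin n) F,
      ((x ^ n : Matrix.SpecialLinearGroup (Fin n) F) : Matrix (Fin n) (Fin n) F)
        = (1 : F) • (1 : Matrix (Fin n) (Fin n) F) ∧
      (∀ z : F, (x : Matrix (Fin n) (Fin n) F) ≠ z • (1 : Matrix (Fin n) (Fin n) F)) ∧
      ∃ v w : Fin n → F, v ≠ 0 ∧ (x : Matrix (Fin n) (Fin n) F) *ᵥ v = v ∧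
        (x : Matrix (Fin n) (Fin n) F) *ᵥ w = w ∧ ∀ c : F, w ≠ c • v := by
  haveI : Fact n.Prime := ⟨hn⟩
  have hnF := natCast_ne_zero_of_ne (F := F) p n hnp
  set d := orderOf ((Fintype.card F : ℕ) : ZMod n) with hd
  have hdpos : 0 < d := orderOf_card_pos (F := F) p n hnp
  have hq0 : ((Fintype.card F : ℕ) : ZMod n) ≠ 0 := by
    intro h0
    rw [hd, h0, orderOf_zero] at hdpos
    exact lt_irrefl 0 hdpos
  have hdvd : d ∣ n - 1 := ZMod.orderOf_dvd_card_sub_one hq0
  have hdle : d ≤ n - 2 := by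
    obtain ⟨k, hk⟩ := hdvd
    have hk2 : 2 ≤ k := by
      by_contra hlt
      have hk' : k = 0 ∨ k = 1 := by omega
      rcases hk' with h | h
      · rw [h, mul_zero] at hk; omega
      · rw [h, mul_one] at hk; exact hord hk.symm
    have h2 : d * 2 ≤ d * k := Nat.mul_le_mul_left _ hk2
    omega
  obtain ⟨g, hg, hgd⟩ := exists_irreducible_factor_cyclotomic (F := F) n
  have hdeg : g.natDegree = d := natDegree_irr_factor p n hnp g hg hgd
  obtain ⟨f, hf, hfix⟩ := exists_semisimple' n hnF g hg hgd 1 (n - d) n (by rw [hdeg]; omega)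
  have hdetn : (LinearMap.det f) ^ n = 1 := by
    rw [← map_pow, hf, map_one]
  have hdet : LinearMap.det f = 1 := eq_one_of_pow_eq_one_of_not_dvd n hnq _ hdetn
  have hdetM : (LinearMap.toMatrix' f).det = 1 := by
    rw [LinearMap.det_toMatrix']; exact hdet
  let x : Matrix.SpecialLinearGroup (Fin n) F := ⟨LinearMap.toMatrix' f, hdetM⟩
  have hxval : (x : Matrix (Fin n) (Fin n) F) = LinearMap.toMatrix' f := rfl
  have hfx : ∀ u, (x : Matrix (Fin n) (Fin n) F) *ᵥ u = f u := by
    intro u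
    rw [hxval, LinearMap.toMatrix'_mulVec]
  obtain ⟨v, hvW, w, hwW, hv0, hwv⟩ := exists_pair_of_two_le_finrank (fixS f) (by omega)
  refine ⟨x, ?_, ?_, v, w, hv0, ?_, ?_, hwv⟩
  · rw [Matrix.SpecialLinearGroup.coe_pow, one_smul, hxval]
    have h1 : (LinearMap.toMatrix' f) ^ n = LinearMap.toMatrix' (f ^ n) :=
      (map_pow (LinearMap.toMatrixAlgEquiv' (R := F) (n := Fin n)) f n).symm
    rw [h1, hf]
    exact LinearMap.toMatrix'_one
  · intro z hz
    have hfz : ∀ u, f u = z • u := by
      intro u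
      rw [← hfx, hz, Matrix.smul_mulVec, Matrix.one_mulVec]
    by_cases hz1 : z = 1
    · -- then `fixS f = ⊤`
      have htop : fixS f = ⊤ := by
        rw [eq_top_iff]
        intro u _
        rw [mem_fixS, hfz, hz1, one_smul]
      rw [htop, finrank_top, finrank_fin_fun] at hfix
      omega
    · have hbot : fixS f = ⊥ := by
        rw [eq_bot_iff]
        intro u hu
        rw [mem_fixS, hfz] at hu
        have : (z - 1) • u = 0 := by rw [sub_smul, one_smul, hu, sub_self]
        rcases smul_eq_zero.mp this with h | h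
        · exact absurd (sub_eq_zero.mp h) hz1
        · rw [h]; exact Submodule.zero_mem _
      rw [hbot, finrank_bot] at hfix
      omega
  · rw [hfx]; exact (mem_fixS f v).mp hvW
  · rw [hfx]; exact (mem_fixS f w).mp hwW

end Cfsg.Agent.Helper42.Singer
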