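import Mathlib
import Cfsg.Agent.Lib.Helper42.Singer6

set_option autoImplicit false
set_option linter.style.haveILetI false
set_option linter.unusedSectionVars false
set_option linter.unusedVariables false

/-! Endomorphisms with `f ^ 3 = 1` over a field containing a primitive cube root of unity. -/

namespace Cfsg.Agent.Helper42.Singer

open Module

section cube
variable {F V : Type*} [Field F] [AddCommGroup V] [Module F V]

theorem cube_root_sum (ω : F) (h3 : ω ^ 3 = 1) (h1 : ω ≠ 1) : 1 + ω + ω ^ 2 = 0 := by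
  have h : (ω - 1) * (1 + ω + ω ^ 2) = 0 := by ring_nf; rw [h3]; ring
  rcases mul_eq_zero.mp h with h | h
  · exact absurd (sub_eq_zero.mp h) h1
  · exact h

theorem three_ne_zero_of_cube_root (ω : F) (h3 : ω ^ 3 = 1) (h1 : ω ≠ 1) : (3 : F) ≠ 0 := by
  intro h0
  apply h1
  have hs := cube_root_sum ω h3 h1
  -- `(ω - 1)^2 = ω^2 - 2ω + 1 = (1 + ω + ω^2) - 3 ω = 0`
  have h : (ω - 1) ^ 2 = 0 := by
    have : (ω - 1) ^ 2 = (1 + ω + ω ^ 2) - 3 * ω := by ring
    rw [this, hs, h0]; ring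
  exact sub_eq_zero.mp (pow_eq_zero_iff (by norm_num) |>.mp h)

/-- the eigen-decomposition of a vector -/
theorem exists_eigen_decomp (ω : F) (h3 : ω ^ 3 = 1) (h1 : ω ≠ 1) (f : Module.End F V)
    (hf : f ^ 3 = 1) (t : V) :
    ∃ t₀ t₁ t₂ : V, t = t₀ + t₁ + t₂ ∧ f t₀ = t₀ ∧ f t₁ = ω • t₁ ∧ f t₂ = ω ^ 2 • t₂ := by
  have hs := cube_root_sum ω h3 h1
  have h30 := three_ne_zero_of_cube_root ω h3 h1
  have hfff : f (f (f t)) = t := by
    have := congrArg (fun g : Module.End F V => g t) hf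
    simpa [pow_succ, Module.End.mul_apply] using this
  set a := t with ha
  set b := f t with hb
  set c := f (f t) with hc
  have hfb : f b = c := rfl
  have hfc : f c = a := hfff
  have hfa : f a = b := rfl
  have hω4 : ω ^ 4 = ω := by rw [pow_succ, h3, one_mul]
  have h3i : (3 : F)⁻¹ * 3 = 1 := inv_mul_cancel₀ h30
  refine ⟨(3 : F)⁻¹ • (a + b + c), (3 : F)⁻¹ • (a + ω ^ 2 • b + ω • c),
    (3 : F)⁻¹ • (a + ω • b + ω ^ 2 • c), ?_, ?_, ?_, ?_⟩
  · match_scalars
    all_goals first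
      | ring1
      | linear_combination (-(3 : F)⁻¹) * hs
      | linear_combination (-1 : F) * h3i
  · rw [map_smul, map_add, map_add, hfa, hfb, hfc]
    match_scalars <;> ring
  · rw [map_smul, map_add, map_add, map_smul, map_smul, hfa, hfb, hfc]
    match_scalars
    all_goals first
      | ring1
      | linear_combination (-(3 : F)⁻¹) * h3
  · rw [map_smul, map_add, map_add, map_smul, map_smul, hfa, hfb, hfc]
    match_scalars
    all_goals first
      | ring1
      | linear_combination (-(3 : F)⁻¹) * h3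
      | linear_combination (-(3 : F)⁻¹ * ω) * h3

/-- a non-scalar `f` with `f ^ 3 = 1` has an eigenvector for another cube root of unity. -/
theorem exists_other_eigen (ω : F) (h3 : ω ^ 3 = 1) (h1 : ω ≠ 1) (f : Module.End F V)
    (hf : f ^ 3 = 1) (i : Fin 3) (t : V) (ht : f t ≠ ω ^ (i : ℕ) • t) :
    ∃ j : Fin 3, j ≠ i ∧ ∃ u : V, u ≠ 0 ∧ f u = ω ^ (j : ℕ) • u := by
  obtain ⟨t₀, t₁, t₂, hsum, h0, h1', h2⟩ := exists_eigen_decomp ω h3 h1 f hf t
  by_contra hcon
  push Not at hcon
  -- all components other than the `i`-th vanish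
  have hz : ∀ j : Fin 3, j ≠ i → ∀ u : V, f u = ω ^ (j : ℕ) • u → u = 0 := by
    intro j hj u hu
    by_contra hu0
    exact hcon j hj u hu0 hu
  apply ht
  fin_cases i
  · have e1 : t₁ = 0 := hz 1 (by decide) t₁ (by simpa using h1')
    have e2 : t₂ = 0 := hz 2 (by decide) t₂ (by simpa using h2)
    rw [hsum, e1, e2, add_zero, add_zero]
    simpa using h0
  · have e0 : t₀ = 0 := hz 0 (by decide) t₀ (by simpa using h0)
    have e2 : t₂ = 0 := hz 2 (by decide) t₂ (by simpa using h2)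
    rw [hsum, e0, e2, add_zero, zero_add]
    simpa using h1'
  · have e0 : t₀ = 0 := hz 0 (by decide) t₀ (by simpa using h0)
    have e1 : t₁ = 0 := hz 1 (by decide) t₁ (by simpa using h1')
    rw [hsum, e0, e1, add_zero, zero_add]
    simpa using h2

/-- two independent vectors in a subspace of dimension at least two -/
theorem exists_pair_of_two_le_finrank' [FiniteDimensional F V] (W : Submodule F V)
    (hW : 2 ≤ finrank F W) : ∃ v ∈ W, ∃ w ∈ W, v ≠ 0 ∧ ∀ c : F, w ≠ c • v := by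
  have hpos : 0 < finrank F W := by omega
  obtain ⟨v, hv⟩ := Module.finrank_pos_iff_exists_ne_zero.mp hpos
  by_contra hcon
  push Not at hcon
  have hle : finrank F W ≤ 1 := by
    apply finrank_le_one v
    intro w
    obtain ⟨c, hc⟩ := hcon v.1 v.2 w.1 w.2 (fun h => hv (Subtype.ext h))
    exact ⟨c, Subtype.ext hc.symm⟩
  omega

/-- the eigenspace for `ω ^ i` -/
def eigS (ω : F) (f : Module.End F V) (i : ℕ) : Submodule F V :=
  LinearMap.ker (f - (ω ^ i) • (1 : Module.End F V))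

theorem mem_eigS (ω : F) (f : Module.End F V) (i : ℕ) (v : V) :
    v ∈ eigS ω f i ↔ f v = ω ^ i • v := by
  unfold eigS
  rw [LinearMap.mem_ker, LinearMap.sub_apply, LinearMap.smul_apply, Module.End.one_apply,
    sub_eq_zero]

theorem eigS_sup_eq_top (ω : F) (h3 : ω ^ 3 = 1) (h1 : ω ≠ 1) (f : Module.End F V)
    (hf : f ^ 3 = 1) : eigS ω f 0 ⊔ eigS ω f 1 ⊔ eigS ω f 2 = ⊤ := by
  rw [eq_top_iff]
  intro t _
  obtain ⟨t₀, t₁, t₂, hsum, h0, h1', h2⟩ := exists_eigen_decomp ω h3 h1 f hf t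
  rw [hsum]
  apply Submodule.add_mem_sup
  · apply Submodule.add_mem_sup
    · rw [mem_eigS, pow_zero, one_smul]; exact h0
    · rw [mem_eigS, pow_one]; exact h1'
  · rw [mem_eigS]; exact h2

/-- if no eigenvalue has two independent eigenvectors (dimension 3), every cube root of unity
is an eigenvalue. -/
theorem exists_eigen_of_simple [FiniteDimensional F V] (ω : F) (h3 : ω ^ 3 = 1) (h1 : ω ≠ 1)
    (hV : finrank F V = 3) (f : Module.End F V) (hf : f ^ 3 = 1)
    (hsimple : ∀ i : ℕ, ∀ v w : V, v ≠ 0 → f v = ω ^ i • v → f w = ω ^ i • w →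
      ∃ a : F, w = a • v) (i : ℕ) (hi : i < 3) :
    ∃ u : V, u ≠ 0 ∧ f u = ω ^ i • u := by
  have hle : ∀ j : ℕ, finrank F (eigS ω f j) ≤ 1 := by
    intro j
    by_contra hgt
    obtain ⟨v, hv, w, hw, hv0, hwv⟩ :=
      exists_pair_of_two_le_finrank' (eigS ω f j) (by omega)
    obtain ⟨a, ha⟩ := hsimple j v w hv0 ((mem_eigS ω f j v).mp hv) ((mem_eigS ω f j w).mp hw)
    exact hwv a ha
  have htop := eigS_sup_eq_top ω h3 h1 f hf
  have hsum : finrank F V ≤
      finrank F (eigS ω f 0) + finrank F (eigS ω f 1) + finrank F (eigS ω f 2) := by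
    have e1 := Submodule.finrank_add_le_finrank_add_finrank (eigS ω f 0 ⊔ eigS ω f 1) (eigS ω f 2)
    have e2 := Submodule.finrank_add_le_finrank_add_finrank (eigS ω f 0) (eigS ω f 1)
    rw [htop, finrank_top] at e1
    omega
  have h0 := hle 0
  have h1'' := hle 1
  have h2 := hle 2
  have hpos : 0 < finrank F (eigS ω f i) := by
    have hi' : i = 0 ∨ i = 1 ∨ i = 2 := by omega
    rcases hi' with rfl | rfl | rfl <;> omega
  obtain ⟨u, hu⟩ := Module.finrank_pos_iff_exists_ne_zero.mp hpos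
  exact ⟨u.1, fun h => hu (Subtype.ext h), (mem_eigS ω f i u.1).mp u.2⟩

theorem det_of_eigenbasis {ι : Type*} [Fintype ι] [DecidableEq ι] (b : Basis ι F V)
    (f : Module.End F V) (μ : ι → F) (h : ∀ i, f (b i) = μ i • b i) :
    LinearMap.det f = ∏ i, μ i := by
  rw [← LinearMap.det_toMatrix b]
  have hM : LinearMap.toMatrix b b f = Matrix.diagonal μ := by
    ext i j
    rw [LinearMap.toMatrix_apply, h, map_smul, Basis.repr_self, Matrix.diagonal_apply,
      Finsupp.smul_apply, Finsupp.single_apply, smul_eq_mul]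
    by_cases hij : i = j
    · subst hij; simp
    · rw [if_neg hij, if_neg (fun h => hij h.symm), mul_zero]
  rw [hM, Matrix.det_diagonal]

theorem pow_ne_pow_of_cube_root (ω : F) (h3 : ω ^ 3 = 1) (h1 : ω ≠ 1) (i j : Fin 3)
    (hij : i ≠ j) : ω ^ (i : ℕ) ≠ ω ^ (j : ℕ) := by
  have h2 : ω ^ 2 ≠ 1 := by
    intro h
    apply h1
    have : ω = ω ^ 3 * (ω ^ 2)⁻¹ := by
      have hω0 : ω ≠ 0 := by
        intro h0; rw [h0] at h3; norm_num at h3
      field_simp
    rw [this, h3, h, inv_one, one_mul]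
  have h21 : ω ^ 2 ≠ ω := by
    intro h
    apply h1
    have hω0 : ω ≠ 0 := by
      intro h0; rw [h0] at h3; norm_num at h3
    have : ω * ω = ω * 1 := by rw [mul_one, ← sq]; exact h
    exact mul_left_cancel₀ hω0 this
  fin_cases i <;> fin_cases j <;> simp_all [Ne.symm]

theorem pow_mod_three (ω : F) (h3 : ω ^ 3 = 1) (i : ℕ) : ω ^ i = ω ^ (i % 3) := by
  conv_lhs => rw [← Nat.div_add_mod i 3, pow_add, pow_mul, h3, one_pow, one_mul]

/-- in dimension three, a non-scalar `f` with `f ^ 3 = 1` and determinant one has no two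
independent eigenvectors for the same eigenvalue. -/
theorem simple_of_det_one [FiniteDimensional F V] (ω : F) (h3 : ω ^ 3 = 1) (h1 : ω ≠ 1)
    (hV : finrank F V = 3) (f : Module.End F V) (hf : f ^ 3 = 1) (hdet : LinearMap.det f = 1)
    (hns : ∀ c : F, f ≠ c • 1) :
    ∀ i : ℕ, ∀ v w : V, v ≠ 0 → f v = ω ^ i • v → f w = ω ^ i • w → ∃ a : F, w = a • v := by
  intro i v w hv hfv hfw
  by_contra hcon
  push Not at hcon
  have hω0 : ω ≠ 0 := by
    intro h0; rw [h0] at h3; norm_num at h3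
  set i' : Fin 3 := ⟨i % 3, Nat.mod_lt _ (by norm_num)⟩ with hi'
  have hpow : ω ^ i = ω ^ (i' : ℕ) := pow_mod_three ω h3 i
  rw [hpow] at hfv hfw
  set lam := ω ^ (i' : ℕ) with hlam
  have hlam0 : lam ≠ 0 := pow_ne_zero _ hω0
  have hlam3 : lam ^ 3 = 1 := by rw [hlam, ← pow_mul, mul_comm, pow_mul, h3, one_pow]
  -- a vector that is not an eigenvector for `lam`
  have hex : ∃ t, f t ≠ lam • t := by
    by_contra hall
    push Not at hall
    apply hns lam
    apply LinearMap.ext
    intro t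
    rw [hall t, LinearMap.smul_apply, Module.End.one_apply]
  obtain ⟨t, ht⟩ := hex
  obtain ⟨j, hji, u, hu0, hfu⟩ := exists_other_eigen ω h3 h1 f hf i' t ht
  set mu := ω ^ (j : ℕ) with hmu
  have hne : mu ≠ lam := pow_ne_pow_of_cube_root ω h3 h1 j i' hji
  -- independence
  have hli : LinearIndependent F ![v, w, u] := by
    rw [Fintype.linearIndependent_iff]
    intro c hc
    rw [Fin.sum_univ_three] at hc
    simp only [Matrix.cons_val_zero, Matrix.cons_val_one, Matrix.cons_val_two,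
      Matrix.head_cons, Matrix.tail_cons] at hc
    have hfc := congrArg f hc
    rw [map_add, map_add, map_smul, map_smul, map_smul, hfv, hfw, hfu, map_zero] at hfc
    have h4 : (c 2 * (mu - lam)) • u = 0 := by
      have h5 : c 0 • lam • v + c 1 • lam • w + c 2 • mu • u
          - lam • (c 0 • v + c 1 • w + c 2 • u) = 0 := by rw [hfc, hc, smul_zero, sub_zero]
      rw [← h5]
      module
    have hc2 : c 2 = 0 := by
      rcases smul_eq_zero.mp h4 with h | h
      · rcases mul_eq_zero.mp h with h | h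
        · exact h
        · exact absurd (sub_eq_zero.mp h) hne
      · exact absurd h hu0
    rw [hc2, zero_smul, add_zero] at hc
    have hc1 : c 1 = 0 := by
      by_contra h1'
      apply hcon (-(c 0) / c 1)
      have : c 1 • w = -(c 0) • v := by
        rw [neg_smul]; exact eq_neg_of_add_eq_zero_right hc
      have h6 : w = (c 1)⁻¹ • (c 1 • w) := by rw [smul_smul, inv_mul_cancel₀ h1', one_smul]
      rw [h6, this, smul_smul]
      congr 1
      field_simp
    rw [hc1, zero_smul, add_zero] at hc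
    have hc0 : c 0 = 0 := by
      rcases smul_eq_zero.mp hc with h | h
      · exact h
      · exact absurd h hv
    intro k
    fin_cases k
    · exact hc0
    · exact hc1
    · exact hc2
  let b : Basis (Fin 3) F V := basisOfLinearIndependentOfCardEqFinrank hli (by simp [hV])
  have hb : ∀ k, b k = ![v, w, u] k := fun k => by
    simp [b, coe_basisOfLinearIndependentOfCardEqFinrank]
  have hdet' := det_of_eigenbasis b f ![lam, lam, mu] (by
    intro k
    rw [hb]
    fin_cases k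
    · simpa using hfv
    · simpa using hfw
    · simpa using hfu)
  rw [hdet, Fin.prod_univ_three] at hdet'
  simp only [Matrix.cons_val_zero, Matrix.cons_val_one, Matrix.cons_val_two,
    Matrix.head_cons, Matrix.tail_cons] at hdet'
  apply hne
  have h7 : lam * lam * (mu - lam) = 0 := by
    have : lam * lam * (mu - lam) = lam * lam * mu - lam ^ 3 := by ring
    rw [this, ← hdet', hlam3, sub_self]
  rcases mul_eq_zero.mp h7 with h | h
  · exact absurd (mul_self_eq_zero.mp h) hlam0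
  · exact sub_eq_zero.mp h

/-- eigenvectors for the three cube roots of unity form a basis (dimension three). -/
theorem exists_eigenbasis [FiniteDimensional F V] (ω : F) (h3 : ω ^ 3 = 1) (h1 : ω ≠ 1)
    (hV : finrank F V = 3) (f : Module.End F V) (v : Fin 3 → V) (hv0 : ∀ i, v i ≠ 0)
    (hv : ∀ i, f (v i) = ω ^ (i : ℕ) • v i) :
    ∃ b : Basis (Fin 3) F V, ∀ i, b i = v i := by
  have hli : LinearIndependent F v := by
    apply Module.End.eigenvectors_linearIndependent' f (fun i : Fin 3 => ω ^ (i : ℕ))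
    · intro i j hij
      by_contra hne
      exact pow_ne_pow_of_cube_root ω h3 h1 i j hne hij
    · intro i
      exact ⟨Module.End.mem_eigenspace_iff.mpr (hv i), hv0 i⟩
  refine ⟨basisOfLinearIndependentOfCardEqFinrank hli (by simp [hV]), fun i => ?_⟩
  simp [coe_basisOfLinearIndependentOfCardEqFinrank]

/-- the intertwiner attached to two families of eigenvectors -/
theorem exists_intertwiner_of_eigen [FiniteDimensional F V] (ω : F) (h3 : ω ^ 3 = 1) (h1 : ω ≠ 1)
    (hV : finrank F V = 3) (f g : Module.End F V) (v w : Fin 3 → V) (hv0 : ∀ i, v i ≠ 0)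
    (hv : ∀ i, f (v i) = ω ^ (i : ℕ) • v i) (hw0 : ∀ i, w i ≠ 0)
    (hw : ∀ i, g (w i) = ω ^ (i : ℕ) • w i) :
    ∃ φ : V ≃ₗ[F] V, (∀ i, φ (v i) = w i) ∧ ∀ t, φ (f t) = g (φ t) := by
  obtain ⟨bf, hbf⟩ := exists_eigenbasis ω h3 h1 hV f v hv0 hv
  obtain ⟨bg, hbg⟩ := exists_eigenbasis ω h3 h1 hV g w hw0 hw
  refine ⟨bf.equiv bg (Equiv.refl _), fun i => ?_, fun t => ?_⟩
  · rw [← hbf, Basis.equiv_apply, Equiv.refl_apply, hbg]
  · have hlin : (bf.equiv bg (Equiv.refl _)).toLinearMap ∘ₗ f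
        = g ∘ₗ (bf.equiv bg (Equiv.refl _)).toLinearMap := by
      apply bf.ext
      intro i
      simp only [LinearMap.comp_apply, LinearEquiv.coe_coe]
      rw [hbf, hv, map_smul, ← hbf, Basis.equiv_apply, Equiv.refl_apply, hbg, hw]
    exact congrArg (fun L : V →ₗ[F] V => L t) hlin

/-- conjugacy by a map of determinant one -/
theorem exists_conj_det_one [FiniteDimensional F V] (ω : F) (h3 : ω ^ 3 = 1) (h1 : ω ≠ 1)
    (hV : finrank F V = 3) (f g : Module.End F V)
    (hfe : ∀ i : ℕ, i < 3 → ∃ u : V, u ≠ 0 ∧ f u = ω ^ i • u)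
    (hge : ∀ i : ℕ, i < 3 → ∃ u : V, u ≠ 0 ∧ g u = ω ^ i • u) :
    ∃ φ : V ≃ₗ[F] V, (∀ t, φ (f t) = g (φ t)) ∧ LinearMap.det φ.toLinearMap = 1 := by
  choose v hv0 hv using fun i : Fin 3 => hfe i i.2
  choose w hw0 hw using fun i : Fin 3 => hge i i.2
  obtain ⟨φ₁, hφ₁v, hφ₁⟩ := exists_intertwiner_of_eigen ω h3 h1 hV f g v w hv0 hv hw0 hw
  set t₀ : F := LinearMap.det φ₁.toLinearMap with ht₀
  have ht₀0 : t₀ ≠ 0 := (LinearEquiv.isUnit_det' φ₁).ne_zero
  set s : Fin 3 → F := fun i => if i = 0 then t₀ else 1 with hs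
  have hs0 : ∀ i, s i ≠ 0 := by
    intro i
    simp only [hs]
    split_ifs
    · exact ht₀0
    · exact one_ne_zero
  set v' : Fin 3 → V := fun i => s i • v i with hv'
  have hv'0 : ∀ i, v' i ≠ 0 := fun i => smul_ne_zero (hs0 i) (hv0 i)
  have hv'e : ∀ i, f (v' i) = ω ^ (i : ℕ) • v' i := by
    intro i
    simp only [hv']
    rw [map_smul, hv, smul_comm]
  obtain ⟨φ₂, hφ₂v, hφ₂⟩ := exists_intertwiner_of_eigen ω h3 h1 hV f g v' w hv'0 hv'e hw0 hw
  refine ⟨φ₂, hφ₂, ?_⟩
  -- `c = φ₂⁻¹ φ₁` scales the eigenbasis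
  obtain ⟨bf, hbf⟩ := exists_eigenbasis ω h3 h1 hV f v hv0 hv
  set c : V →ₗ[F] V := φ₂.symm.toLinearMap ∘ₗ φ₁.toLinearMap with hc
  have hcb : ∀ i, c (bf i) = s i • bf i := by
    intro i
    rw [hbf, hc, LinearMap.comp_apply, LinearEquiv.coe_coe, LinearEquiv.coe_coe, hφ₁v, ← hφ₂v,
      LinearEquiv.symm_apply_apply]
  have hdetc : LinearMap.det c = t₀ := by
    rw [det_of_eigenbasis bf c s hcb, Fin.prod_univ_three]
    simp [hs]
  have hcomp : φ₁.toLinearMap = φ₂.toLinearMap ∘ₗ c := by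
    apply LinearMap.ext
    intro t
    simp [hc]
  have hdet := congrArg LinearMap.det hcomp
  rw [LinearMap.det_comp, hdetc, ← ht₀] at hdet
  have : t₀ * 1 = t₀ * LinearMap.det φ₂.toLinearMap := by rw [mul_one, mul_comm]; exact hdet
  exact (mul_left_cancel₀ ht₀0 this).symm

end cube

end Cfsg.Agent.Helper42.Singer
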