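import Mathlib
import Cfsg.Agent.Lib.Helper42.Singer7
import Cfsg.Agent.Lib.Helper42.Singer8

set_option autoImplicit false
set_option linter.style.haveILetI false
set_option linter.unusedSectionVars false
set_option linter.unusedVariables false

/-! Elements with a repeated eigenvalue are not conjugate into the normaliser of a Singer
cycle; bad elements for `n = 3`. -/

namespace Cfsg.Agent.Helper42.Singer

open Module Cfsg Cfsg.Geo Matrix Cfsg.Agent.S5887 Cfsg.Agent.Helper42.Elusive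

variable {F : Type*} [Field F] [Fintype F] {n : ℕ}

/-- an element with two independent eigenvectors for the eigenvalue `c` that is conjugate into
the normaliser of `K` is the scalar `c`. -/
theorem eq_smul_of_conj_mem (hn : n.Prime) (K : Subalgebra F (Matrix (Fin n) (Fin n) F))
    (hK : IsFieldSubalgebra n K) (x P : Matrix.SpecialLinearGroup (Fin n) F)
    (hP : P⁻¹ * x * P ∈ (subalgebraNormalizer K).comap
      (Matrix.SpecialLinearGroup.toGL : Matrix.SpecialLinearGroup (Fin n) F →* GL (Fin n) F))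
    (c : F) (hc : c ≠ 0)
    (v w : Fin n → F) (hv : v ≠ 0) (hxv : (x : Matrix (Fin n) (Fin n) F) *ᵥ v = c • v)
    (hxw : (x : Matrix (Fin n) (Fin n) F) *ᵥ w = c • w) (hw : ∀ a : F, w ≠ a • v) :
    (x : Matrix (Fin n) (Fin n) F) = c • (1 : Matrix (Fin n) (Fin n) F) := by
  rw [Subgroup.mem_comap] at hP
  set g : GL (Fin n) F := Matrix.SpecialLinearGroup.toGL (P⁻¹ * x * P) with hg
  have hgval : (g : Matrix (Fin n) (Fin n) F) = (P⁻¹ : Matrix.SpecialLinearGroup (Fin n) F).1 *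
      (x : Matrix (Fin n) (Fin n) F) * (P : Matrix (Fin n) (Fin n) F) := by
    rw [hg, Matrix.SpecialLinearGroup.coe_GL_coe_matrix, Matrix.SpecialLinearGroup.coe_mul,
      Matrix.SpecialLinearGroup.coe_mul]
  have hPP : (P : Matrix (Fin n) (Fin n) F) * (P⁻¹ : Matrix.SpecialLinearGroup (Fin n) F).1 = 1 := by
    rw [← Matrix.SpecialLinearGroup.coe_mul, mul_inv_cancel, Matrix.SpecialLinearGroup.coe_one]
  have hPP' : (P⁻¹ : Matrix.SpecialLinearGroup (Fin n) F).1 * (P : Matrix (Fin n) (Fin n) F) = 1 := by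
    rw [← Matrix.SpecialLinearGroup.coe_mul, inv_mul_cancel, Matrix.SpecialLinearGroup.coe_one]
  have hfix : ∀ u : Fin n → F, (x : Matrix (Fin n) (Fin n) F) *ᵥ u = c • u →
      (g : Matrix (Fin n) (Fin n) F) *ᵥ ((P⁻¹ : Matrix.SpecialLinearGroup (Fin n) F).1 *ᵥ u)
        = c • ((P⁻¹ : Matrix.SpecialLinearGroup (Fin n) F).1 *ᵥ u) := by
    intro u hu
    rw [hgval, Matrix.mulVec_mulVec, mul_assoc, mul_assoc, hPP, mul_one, ← Matrix.mulVec_mulVec, hu,
      Matrix.mulVec_smul]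
  have hback : ∀ u : Fin n → F, (P : Matrix (Fin n) (Fin n) F) *ᵥ
      ((P⁻¹ : Matrix.SpecialLinearGroup (Fin n) F).1 *ᵥ u) = u := by
    intro u
    rw [Matrix.mulVec_mulVec, hPP, Matrix.one_mulVec]
  have hv' : (P⁻¹ : Matrix.SpecialLinearGroup (Fin n) F).1 *ᵥ v ≠ 0 := by
    intro h0
    apply hv
    rw [← hback v, h0, Matrix.mulVec_zero]
  have hw' : ∀ a : F, (P⁻¹ : Matrix.SpecialLinearGroup (Fin n) F).1 *ᵥ w
      ≠ a • ((P⁻¹ : Matrix.SpecialLinearGroup (Fin n) F).1 *ᵥ v) := by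
    intro a ha
    apply hw a
    rw [← hback w, ha, Matrix.mulVec_smul, hback]
  have hg1 := eq_smul_of_two_eigen hn K hK g hP c hc _ _ hv' (hfix v hxv) (hfix w hxw) hw'
  rw [hgval] at hg1
  -- `x = P (P⁻¹ x P) P⁻¹`
  have h2 : (x : Matrix (Fin n) (Fin n) F)
      = (P : Matrix (Fin n) (Fin n) F) * ((P⁻¹ : Matrix.SpecialLinearGroup (Fin n) F).1 *
        (x : Matrix (Fin n) (Fin n) F) * (P : Matrix (Fin n) (Fin n) F)) *
        (P⁻¹ : Matrix.SpecialLinearGroup (Fin n) F).1 := by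
    rw [← mul_assoc, ← mul_assoc, hPP, one_mul, mul_assoc, hPP, mul_one]
  rw [h2, hg1, Matrix.mul_smul, Matrix.smul_mul, mul_one, hPP]

end Cfsg.Agent.Helper42.Singer
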