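import Mathlib
import Cfsg.Agent.Lib.Helper42.Singer5
import Cfsg.Agent.Lib.Helper42.Singer9

set_option autoImplicit false
set_option linter.style.haveILetI false
set_option linter.unusedSectionVars false
set_option linter.unusedVariables false

/-! Dimension three: elements of order three of `SL_3(q)`, `q ≡ 1 (mod 3)`, are conjugate into the
normaliser of a Singer cycle (the case `x ^ 3 = 1`). -/

namespace Cfsg.Agent.Helper42.Singer

open Module Cfsg Cfsg.Geo Matrix Cfsg.Agent.S5887 Cfsg.Agent.Helper42.Elusive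

variable {F : Type*} [Field F] [Fintype F] {n : ℕ}

/-- from a linear intertwiner to a matrix relation -/
theorem mul_toMatrix'_symm (x g : Matrix (Fin n) (Fin n) F)
    (φ : (Fin n → F) ≃ₗ[F] (Fin n → F))
    (hφ : ∀ t, φ (Matrix.toLin' x t) = Matrix.toLin' g (φ t)) :
    x * LinearMap.toMatrix' φ.symm.toLinearMap = LinearMap.toMatrix' φ.symm.toLinearMap * g := by
  apply mat_ext_mulVec
  intro u
  rw [← Matrix.mulVec_mulVec, ← Matrix.mulVec_mulVec]
  rw [LinearMap.toMatrix'_mulVec, LinearMap.toMatrix'_mulVec]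
  show Matrix.toLin' x (φ.symm u) = φ.symm (Matrix.toLin' g u)
  apply φ.injective
  rw [hφ, φ.apply_symm_apply, φ.apply_symm_apply]

theorem det_toMatrix'_symm (φ : (Fin n → F) ≃ₗ[F] (Fin n → F)) :
    (LinearMap.toMatrix' φ.symm.toLinearMap).det = (LinearMap.det φ.toLinearMap)⁻¹ := by
  rw [LinearMap.det_toMatrix']
  exact eq_inv_of_mul_eq_one_right (LinearEquiv.det_mul_det_symm φ)

theorem toLin'_ne_smul (x : Matrix (Fin n) (Fin n) F)
    (hns : ∀ z : F, x ≠ z • (1 : Matrix (Fin n) (Fin n) F)) (c : F) :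
    Matrix.toLin' x ≠ c • (1 : Module.End F (Fin n → F)) := by
  intro h
  apply hns c
  apply Matrix.toLin'.injective
  rw [h, map_smul, Matrix.toLin'_one]
  rfl

/-- the simplicity of the eigenvalues of a non-scalar element of the normaliser. -/
theorem simple_of_mem_normalizer (hn : n.Prime) (K : Subalgebra F (Matrix (Fin n) (Fin n) F))
    (hK : IsFieldSubalgebra n K) (g : GL (Fin n) F) (hg : g ∈ subalgebraNormalizer K)
    (hns : ∀ c : F, (g : Matrix (Fin n) (Fin n) F) ≠ c • (1 : Matrix (Fin n) (Fin n) F))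
    (c : F) (hc : c ≠ 0) (v w : Fin n → F) (hv : v ≠ 0)
    (hgv : Matrix.toLin' (g : Matrix (Fin n) (Fin n) F) v = c • v)
    (hgw : Matrix.toLin' (g : Matrix (Fin n) (Fin n) F) w = c • w) : ∃ a : F, w = a • v := by
  by_contra hcon
  push Not at hcon
  rw [Matrix.toLin'_apply] at hgv hgw
  exact hns c (eq_smul_of_two_eigen hn K hK g hg c hc v w hv hgv hgw hcon)

/-- `x ^ 3 = 1`, `x` non-scalar of determinant one, `F` containing a primitive cube root of
unity: `x` is conjugate in `SL_3` into the normaliser of `K`. -/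
theorem exists_conj_of_cube_one (ω : F) (h3 : ω ^ 3 = 1) (h1 : ω ≠ 1)
    (K : Subalgebra F (Matrix (Fin 3) (Fin 3) F)) (hK : IsFieldSubalgebra 3 K)
    (x : Matrix.SpecialLinearGroup (Fin 3) F)
    (hx : (x : Matrix (Fin 3) (Fin 3) F) ^ 3 = 1)
    (hns : ∀ z : F, (x : Matrix (Fin 3) (Fin 3) F) ≠ z • (1 : Matrix (Fin 3) (Fin 3) F)) :
    ∃ P : Matrix.SpecialLinearGroup (Fin 3) F, P⁻¹ * x * P ∈ (subalgebraNormalizer K).comap
      (Matrix.SpecialLinearGroup.toGL : Matrix.SpecialLinearGroup (Fin 3) F →* GL (Fin 3) F) := by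
  have hω0 : ω ≠ 0 := by
    intro h0; rw [h0] at h3; norm_num at h3
  have hV : finrank F (Fin 3 → F) = 3 := finrank_fin_fun F
  set f : Module.End F (Fin 3 → F) := Matrix.toLin' (x : Matrix (Fin 3) (Fin 3) F) with hfdef
  have hf : f ^ 3 = 1 := by
    rw [hfdef, toLin'_pow', hx, Matrix.toLin'_one]
    rfl
  have hfdet : LinearMap.det f = 1 := by
    rw [hfdef, LinearMap.det_toLin', Matrix.SpecialLinearGroup.det_coe]
  have hfns : ∀ c : F, f ≠ c • 1 := toLin'_ne_smul _ hns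
  have hfsimple := simple_of_det_one ω h3 h1 hV f hf hfdet hfns
  have hfe : ∀ i : ℕ, i < 3 → ∃ u : Fin 3 → F, u ≠ 0 ∧ f u = ω ^ i • u :=
    fun i hi => exists_eigen_of_simple ω h3 h1 hV f hf hfsimple i hi
  obtain ⟨g₀, hg₀, hg₀n, hg₀ns⟩ := exists_frob' (by norm_num) K hK
  set f₀ : Module.End F (Fin 3 → F) := Matrix.toLin' (g₀ : Matrix (Fin 3) (Fin 3) F) with hf₀def
  have hf₀ : f₀ ^ 3 = 1 := by
    rw [hf₀def, toLin'_pow', ← Units.val_pow_eq_pow_val, hg₀n, Units.val_one, Matrix.toLin'_one]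
    rfl
  have hgsimple : ∀ i : ℕ, ∀ v w : Fin 3 → F, v ≠ 0 → f₀ v = ω ^ i • v → f₀ w = ω ^ i • w →
      ∃ a : F, w = a • v := by
    intro i v w hv hfv hfw
    exact simple_of_mem_normalizer Nat.prime_three K hK g₀ hg₀ hg₀ns (ω ^ i) (pow_ne_zero _ hω0)
      v w hv hfv hfw
  have hge : ∀ i : ℕ, i < 3 → ∃ u : Fin 3 → F, u ≠ 0 ∧ f₀ u = ω ^ i • u :=
    fun i hi => exists_eigen_of_simple ω h3 h1 hV f₀ hf₀ hgsimple i hi
  obtain ⟨φ, hφ, hφdet⟩ := exists_conj_det_one ω h3 h1 hV f f₀ hfe hge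
  set Pm : Matrix (Fin 3) (Fin 3) F := LinearMap.toMatrix' φ.symm.toLinearMap with hPm
  have hrel : (x : Matrix (Fin 3) (Fin 3) F) * Pm = Pm * (g₀ : Matrix (Fin 3) (Fin 3) F) :=
    mul_toMatrix'_symm _ _ φ hφ
  have hdetP : Pm.det = 1 := by
    rw [hPm, det_toMatrix'_symm, hφdet, inv_one]
  refine ⟨⟨Pm, hdetP⟩, ?_⟩
  exact conj_mem_of_mul_eq K x _ g₀ hg₀ hrel

end Cfsg.Agent.Helper42.Singer
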