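import Mathlib
import Cfsg.Agent.Lib.Helper42.Singer10
import Cfsg.Agent.Lib.Helper42.Elusive7

set_option autoImplicit false
set_option linter.style.haveILetI false
set_option linter.unusedSectionVars false
set_option linter.unusedVariables false

/-! Dimension three: elements `x` of `SL_3(q)` with `x ^ 3 = z`, `z ≠ 1` a scalar, for
`q ≡ 4, 7 (mod 9)`, are conjugate into the normaliser of a Singer cycle. -/

namespace Cfsg.Agent.Helper42.Singer

open Module Cfsg Cfsg.Geo Matrix Polynomial Cfsg.Agent.S5887 Cfsg.Agent.Helper42.Elusive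

variable {F : Type*} [Field F] [Fintype F] {n : ℕ}

theorem cube_root_cases (w u : F) (hw3 : w ^ 3 = 1) (hw1 : w ≠ 1) (hu : u ^ 3 = 1) :
    u = 1 ∨ u = w ∨ u = w ^ 2 := by
  have hs := cube_root_sum w hw3 hw1
  have h : (u - 1) * ((u - w) * (u - w ^ 2)) = 0 := by
    have : (u - 1) * ((u - w) * (u - w ^ 2))
        = u ^ 3 - (1 + w + w ^ 2) * u ^ 2 + (1 + w + w ^ 2) * w * u - w ^ 3 := by ring
    rw [this, hs, hu, hw3]; ring
  rcases mul_eq_zero.mp h with h | h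
  · left; exact sub_eq_zero.mp h
  · rcases mul_eq_zero.mp h with h | h
    · right; left; exact sub_eq_zero.mp h
    · right; right; exact sub_eq_zero.mp h

theorem not_cube_of_not_nine_dvd (hq9 : ¬ 9 ∣ Fintype.card F - 1) (z : F) (hz3 : z ^ 3 = 1)
    (hz1 : z ≠ 1) (b : F) : b ^ 3 ≠ z := by
  intro hb
  have hb9 : b ^ 9 = 1 := by
    rw [show 9 = 3 * 3 by norm_num, pow_mul, hb, hz3]
  have hb0 : b ≠ 0 := by
    intro h0; rw [h0] at hb9; norm_num at hb9
  have hd : orderOf b ∣ 3 ^ 2 := by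
    apply orderOf_dvd_of_pow_eq_one
    norm_num
    exact hb9
  obtain ⟨i, hi, hoi⟩ := (Nat.dvd_prime_pow Nat.prime_three).mp hd
  have hi2 : i = 2 := by
    by_contra hne
    have hi1 : i ≤ 1 := by omega
    have h3 : orderOf b ∣ 3 := by
      rw [hoi]
      calc 3 ^ i ∣ 3 ^ 1 := pow_dvd_pow 3 hi1
        _ = 3 := by norm_num
    have h4 := orderOf_dvd_iff_pow_eq_one.mp h3
    rw [hb] at h4
    exact hz1 h4
  apply hq9
  have h1 : orderOf b ∣ Fintype.card F - 1 :=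
    orderOf_dvd_of_pow_eq_one (FiniteField.pow_card_sub_one_eq_one b hb0)
  rw [hoi, hi2] at h1
  exact h1

theorem exists_cube_mul_pow (hq3 : 3 ∣ Fintype.card F - 1) (hq9 : ¬ 9 ∣ Fintype.card F - 1)
    (z : F) (hz3 : z ^ 3 = 1) (hz1 : z ≠ 1) (c : F) (hc : c ≠ 0) :
    ∃ a : F, ∃ j : ℕ, c = a ^ 3 * z ^ j := by
  obtain ⟨m, hm⟩ := hq3
  have hq1 : 1 < Fintype.card F := Fintype.one_lt_card
  have hm0 : m ≠ 0 := by rintro rfl; omega
  have hm3 : ¬ 3 ∣ m := by
    rintro ⟨t, rfl⟩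
    apply hq9
    exact ⟨t, by rw [hm]; ring⟩
  haveI : Fact (Nat.Prime 3) := ⟨Nat.prime_three⟩
  have hz0 : z ≠ 0 := by
    intro h0; rw [h0] at hz3; norm_num at hz3
  set w := z ^ m with hw
  have hw0 : w ≠ 0 := pow_ne_zero _ hz0
  have hw3 : w ^ 3 = 1 := by rw [hw, ← pow_mul, mul_comm, pow_mul, hz3, one_pow]
  have hw1 : w ≠ 1 := by
    rw [hw, pow_mod_three z hz3 m]
    have : m % 3 = 1 ∨ m % 3 = 2 := by omega
    rcases this with h | h
    · rw [h, pow_one]; exact hz1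
    · rw [h]
      have := pow_ne_pow_of_cube_root z hz3 hz1 2 0 (by decide)
      simpa using this
  have hcm : (c ^ m) ^ 3 = 1 := by
    rw [← pow_mul, mul_comm, ← hm]
    exact FiniteField.pow_card_sub_one_eq_one c hc
  have hj : ∃ j : ℕ, c ^ m = w ^ j := by
    rcases cube_root_cases w (c ^ m) hw3 hw1 hcm with h | h | h
    · exact ⟨0, by rw [h, pow_zero]⟩
    · exact ⟨1, by rw [h, pow_one]⟩
    · exact ⟨2, h⟩
  obtain ⟨j, hj⟩ := hj
  have hcz : (c * (z ^ j)⁻¹) ^ m = 1 := by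
    rw [mul_pow, inv_pow, ← pow_mul, mul_comm j m, pow_mul, ← hw, hj]
    exact mul_inv_cancel₀ (pow_ne_zero _ hw0)
  have hv : padicValNat 3 m < padicValNat 3 (Fintype.card F - 1) := by
    rw [hm, padicValNat.mul (by norm_num) hm0, padicValNat_self,
      padicValNat.eq_zero_of_not_dvd hm3]
    omega
  obtain ⟨a, ha⟩ := exists_pow_eq_of_pow_eq_one 3 (c * (z ^ j)⁻¹) m hm0 hcz hv
  refine ⟨a, j, ?_⟩
  rw [ha, mul_assoc, inv_mul_cancel₀ (pow_ne_zero _ hz0), mul_one]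

/-- units of `M_n(F)` lying in a field subalgebra normalise it. -/
theorem mem_normalizer_of_mem (K : Subalgebra F (Matrix (Fin n) (Fin n) F)) {r : ℕ}
    (hK : IsFieldSubalgebra r K) (g : GL (Fin n) F)
    (hg : (g : Matrix (Fin n) (Fin n) F) ∈ K) : g ∈ subalgebraNormalizer K := by
  intro k
  have h1 : (g : Matrix (Fin n) (Fin n) F) * ((g⁻¹ : GL (Fin n) F) : Matrix (Fin n) (Fin n) F)
      = 1 := by rw [← Units.val_mul, mul_inv_cancel, Units.val_one]
  have h2 : ((g⁻¹ : GL (Fin n) F) : Matrix (Fin n) (Fin n) F) * (g : Matrix (Fin n) (Fin n) F)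
      = 1 := by rw [← Units.val_mul, inv_mul_cancel, Units.val_one]
  constructor
  · intro hk
    rw [hK.comm _ hg _ hk, mul_assoc, h1, mul_one]
    exact hk
  · intro hy
    have hc := hK.comm _ hg _ hy
    -- `g * y = y * g` with `y = g k g⁻¹`
    have h3 : ((g⁻¹ : GL (Fin n) F) : Matrix (Fin n) (Fin n) F) *
        ((g : Matrix (Fin n) (Fin n) F) * ((g : Matrix (Fin n) (Fin n) F) * k *
          ((g⁻¹ : GL (Fin n) F) : Matrix (Fin n) (Fin n) F)))
        = ((g⁻¹ : GL (Fin n) F) : Matrix (Fin n) (Fin n) F) *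
        (((g : Matrix (Fin n) (Fin n) F) * k *
          ((g⁻¹ : GL (Fin n) F) : Matrix (Fin n) (Fin n) F)) * (g : Matrix (Fin n) (Fin n) F)) := by
      rw [hc]
    have h4 : (g : Matrix (Fin n) (Fin n) F) * k *
          ((g⁻¹ : GL (Fin n) F) : Matrix (Fin n) (Fin n) F) = k := by
      have e1 : ((g⁻¹ : GL (Fin n) F) : Matrix (Fin n) (Fin n) F) *
        ((g : Matrix (Fin n) (Fin n) F) * ((g : Matrix (Fin n) (Fin n) F) * k *
          ((g⁻¹ : GL (Fin n) F) : Matrix (Fin n) (Fin n) F)))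
          = (g : Matrix (Fin n) (Fin n) F) * k *
          ((g⁻¹ : GL (Fin n) F) : Matrix (Fin n) (Fin n) F) := by
        rw [← mul_assoc, h2, one_mul]
      have e2 : ((g⁻¹ : GL (Fin n) F) : Matrix (Fin n) (Fin n) F) *
        (((g : Matrix (Fin n) (Fin n) F) * k *
          ((g⁻¹ : GL (Fin n) F) : Matrix (Fin n) (Fin n) F)) * (g : Matrix (Fin n) (Fin n) F))
          = k := by
        rw [mul_assoc, h2, mul_one, ← mul_assoc, h2, one_mul]
      rw [← e1, h3, e2]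
    rw [← h4]
    exact hy

/-- a cube root in `K` of a scalar cube root of unity, `q ≡ 1 (mod 3)`. -/
theorem exists_cube_root_in_K (hq3 : 3 ∣ Fintype.card F - 1)
    (K : Subalgebra F (Matrix (Fin 3) (Fin 3) F)) (hK : IsFieldSubalgebra 3 K) (z : F)
    (hz3 : z ^ 3 = 1) :
    ∃ θ ∈ K, θ ^ 3 = z • (1 : Matrix (Fin 3) (Fin 3) F) := by
  classical
  haveI : FieldSub K := ⟨isField_of K hK (by norm_num)⟩
  haveI : Fact (Nat.Prime 3) := ⟨Nat.prime_three⟩
  letI : Fintype K := Fintype.ofFinite K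
  have hcard : Fintype.card K = Fintype.card F ^ 3 := by
    rw [← Nat.card_eq_fintype_card, card_K K hK]
  obtain ⟨m, hm⟩ := hq3
  have hq1 : 1 < Fintype.card F := Fintype.one_lt_card
  have hqm : Fintype.card F = 3 * m + 1 := by omega
  have h9 : 3 ^ 2 ∣ Fintype.card K - 1 := by
    rw [hcard, hqm]
    refine ⟨3 * m ^ 3 + 3 * m ^ 2 + m, ?_⟩
    have : (3 * m + 1) ^ 3 = 3 ^ 2 * (3 * m ^ 3 + 3 * m ^ 2 + m) + 1 := by ring
    omega
  have hne : Fintype.card K - 1 ≠ 0 := by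
    have : 1 < Fintype.card K := Fintype.one_lt_card
    omega
  have hv : padicValNat 3 3 < padicValNat 3 (Fintype.card K - 1) := by
    rw [padicValNat_self]
    have := (padicValNat_dvd_iff_le hne).mp h9
    omega
  set u : K := ⟨z • 1, K.smul_mem K.one_mem z⟩ with hu
  have hu3 : u ^ 3 = 1 := by
    apply Subtype.ext
    rw [SubmonoidClass.coe_pow]
    show (z • (1 : Matrix (Fin 3) (Fin 3) F)) ^ 3 = 1
    rw [_root_.smul_pow, one_pow, hz3, one_smul]
  obtain ⟨b, hb⟩ := exists_pow_eq_of_pow_eq_one 3 u 3 (by norm_num) hu3 hv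
  refine ⟨(b : Matrix (Fin 3) (Fin 3) F), b.2, ?_⟩
  have := congrArg Subtype.val hb
  rw [SubmonoidClass.coe_pow] at this
  exact this

/-- `x ^ 3 = z ≠ 1` scalar, `q ≡ 4, 7 (mod 9)`: `x` is conjugate in `SL_3` into the normaliser
of `K`. -/
theorem exists_conj_of_cube_ne_one (hq3 : 3 ∣ Fintype.card F - 1)
    (hq9 : ¬ 9 ∣ Fintype.card F - 1)
    (K : Subalgebra F (Matrix (Fin 3) (Fin 3) F)) (hK : IsFieldSubalgebra 3 K)
    (x : Matrix.SpecialLinearGroup (Fin 3) F) (z : F) (hz1 : z ≠ 1)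
    (hx : (x : Matrix (Fin 3) (Fin 3) F) ^ 3 = z • (1 : Matrix (Fin 3) (Fin 3) F)) :
    ∃ P : Matrix.SpecialLinearGroup (Fin 3) F, P⁻¹ * x * P ∈ (subalgebraNormalizer K).comap
      (Matrix.SpecialLinearGroup.toGL : Matrix.SpecialLinearGroup (Fin 3) F →* GL (Fin 3) F) := by
  have hz3 : z ^ 3 = 1 := by
    have h1 := congrArg Matrix.det hx
    rw [Matrix.det_pow, Matrix.SpecialLinearGroup.det_coe, one_pow, Matrix.det_smul,
      Matrix.det_one, mul_one, Fintype.card_fin] at h1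
    exact h1.symm
  have hz0 : z ≠ 0 := by
    intro h0; rw [h0] at hz3; norm_num at hz3
  have hncube := not_cube_of_not_nine_dvd hq9 z hz3 hz1
  have hirr : Irreducible (X ^ 3 - C z : F[X]) :=
    X_pow_sub_C_irreducible_of_prime Nat.prime_three hncube
  obtain ⟨θ, hθK, hθ3⟩ := exists_cube_root_in_K hq3 K hK z hz3
  set f : Module.End F (Fin 3 → F) := Matrix.toLin' (x : Matrix (Fin 3) (Fin 3) F) with hfdef
  set f₀ : Module.End F (Fin 3 → F) := Matrix.toLin' θ with hf₀def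
  have hf : f ^ 3 = z • 1 := by
    rw [hfdef, toLin'_pow', hx, map_smul, Matrix.toLin'_one]
    rfl
  have hf₀ : f₀ ^ 3 = z • 1 := by
    rw [hf₀def, toLin'_pow', hθ3, map_smul, Matrix.toLin'_one]
    rfl
  obtain ⟨φ, hφ⟩ := exists_intertwiner (X ^ 3 - C z) hirr f f₀ (aeval_X_pow_sub_C f 3 z hf)
    (aeval_X_pow_sub_C f₀ 3 z hf₀) rfl
  set Pm : Matrix (Fin 3) (Fin 3) F := LinearMap.toMatrix' φ.symm.toLinearMap with hPm
  have hrel : (x : Matrix (Fin 3) (Fin 3) F) * Pm = Pm * θ := mul_toMatrix'_symm _ _ φ hφ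
  have hdetPm : Pm.det ≠ 0 := by
    rw [hPm, det_toMatrix'_symm]
    exact inv_ne_zero (LinearEquiv.isUnit_det' φ).ne_zero
  have hθdet : θ.det = z := by
    have h := det_of_pow_eq_smul f₀ 3 (by norm_num) z hf₀ hirr
    rw [finrank_fin_fun, Nat.div_self (by norm_num), pow_one, hf₀def, LinearMap.det_toLin'] at h
    rw [h]
    norm_num
  obtain ⟨a, j, haj⟩ := exists_cube_mul_pow hq3 hq9 z hz3 hz1 (Pm.det)⁻¹ (inv_ne_zero hdetPm)
  -- the unit `θ`
  let g₀ : GL (Fin 3) F := ⟨θ, z⁻¹ • θ ^ 2, by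
    rw [Matrix.mul_smul, ← pow_succ', hθ3, smul_smul, inv_mul_cancel₀ hz0, one_smul], by
    rw [Matrix.smul_mul, ← pow_succ, hθ3, smul_smul, inv_mul_cancel₀ hz0, one_smul]⟩
  have hg₀val : (g₀ : Matrix (Fin 3) (Fin 3) F) = θ := rfl
  have hg₀ : g₀ ∈ subalgebraNormalizer K := mem_normalizer_of_mem K hK g₀ hθK
  set Pm' : Matrix (Fin 3) (Fin 3) F := Pm * (a • θ ^ j) with hPm'
  have hdetP : Pm'.det = 1 := by
    rw [hPm', Matrix.det_mul, Matrix.det_smul, Matrix.det_pow, hθdet, Fintype.card_fin, ← haj,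
      mul_inv_cancel₀ hdetPm]
  refine ⟨⟨Pm', hdetP⟩, ?_⟩
  apply conj_mem_of_mul_eq K x _ g₀ hg₀
  show (x : Matrix (Fin 3) (Fin 3) F) * Pm' = Pm' * θ
  rw [hPm', ← mul_assoc, hrel, mul_assoc, mul_assoc, Matrix.mul_smul, Matrix.smul_mul,
    ← pow_succ', ← pow_succ]

end Cfsg.Agent.Helper42.Singer
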