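import Mathlib
import Cfsg.Agent.Lib.Helper42.Singer11
import Cfsg.Agent.S0242

set_option autoImplicit false
set_option linter.style.haveILetI false
set_option linter.unusedSectionVars false
set_option linter.unusedVariables false

/-! Dimension three: the elements of order three of `SL_3(q)` not conjugate into the normaliser of
a Singer cycle (`p = 3` or `q ≡ 1 (mod 9)`), and the order of `SL_3(q)` modulo nine. -/

namespace Cfsg.Agent.Helper42.Singer

open Module Cfsg Cfsg.Geo Matrix Cfsg.Agent.S5887 Cfsg.Agent.Helper42.Elusive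

variable {F : Type*} [Field F] [Fintype F] {n : ℕ}

/-- the bad element in characteristic three: a transvection. -/
theorem exists_bad_unipotent [CharP F 3] :
    ∃ x : Matrix.SpecialLinearGroup (Fin 3) F,
      (x : Matrix (Fin 3) (Fin 3) F) ^ 3 = (1 : F) • (1 : Matrix (Fin 3) (Fin 3) F) ∧
      (∀ z : F, (x : Matrix (Fin 3) (Fin 3) F) ≠ z • (1 : Matrix (Fin 3) (Fin 3) F)) ∧
      ∃ c : F, c ≠ 0 ∧ ∃ v w : Fin 3 → F, v ≠ 0 ∧
        (x : Matrix (Fin 3) (Fin 3) F) *ᵥ v = c • v ∧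
        (x : Matrix (Fin 3) (Fin 3) F) *ᵥ w = c • w ∧ ∀ a : F, w ≠ a • v := by
  have h3 : (3 : F) = 0 := by
    have := CharP.cast_eq_zero F 3
    exact_mod_cast this
  set M : Matrix (Fin 3) (Fin 3) F := !![1, 1, 0; 0, 1, 0; 0, 0, 1] with hM
  have hdet : M.det = 1 := by
    rw [hM, Matrix.det_fin_three]; simp
  refine ⟨⟨M, hdet⟩, ?_, ?_, 1, one_ne_zero, ![1, 0, 0], ![0, 0, 1], ?_, ?_, ?_, ?_⟩
  · show M ^ 3 = (1 : F) • (1 : Matrix (Fin 3) (Fin 3) F)
    rw [one_smul, hM]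
    have h111 : (1 : F) + (1 + 1) = 0 := by rw [← h3]; ring
    ext i j
    fin_cases i <;> fin_cases j <;>
      simp [pow_succ, Matrix.mul_apply, Fin.sum_univ_three, h111]
  · intro z hz
    have := congrFun (congrFun hz 0) 1
    simp [M] at this
  · intro h
    have := congrFun h 0
    simp at this
  · show M *ᵥ ![1, 0, 0] = (1 : F) • ![1, 0, 0]
    rw [one_smul, hM]
    ext i
    fin_cases i <;> simp [Matrix.mulVec, dotProduct, Fin.sum_univ_three]
  · show M *ᵥ ![0, 0, 1] = (1 : F) • ![0, 0, 1]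
    rw [one_smul, hM]
    ext i
    fin_cases i <;> simp [Matrix.mulVec, dotProduct, Fin.sum_univ_three]
  · intro a h
    have := congrFun h 2
    simp at this

/-- the bad element for `q ≡ 1 (mod 9)`: `diag (c, c, c⁻²)` with `c` of order nine. -/
theorem exists_bad_diag_nine (hq9 : 9 ∣ Fintype.card F - 1) :
    ∃ x : Matrix.SpecialLinearGroup (Fin 3) F,
      (∃ z : F, (x : Matrix (Fin 3) (Fin 3) F) ^ 3 = z • (1 : Matrix (Fin 3) (Fin 3) F)) ∧
      (∀ z : F, (x : Matrix (Fin 3) (Fin 3) F) ≠ z • (1 : Matrix (Fin 3) (Fin 3) F)) ∧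
      ∃ c : F, c ≠ 0 ∧ ∃ v w : Fin 3 → F, v ≠ 0 ∧
        (x : Matrix (Fin 3) (Fin 3) F) *ᵥ v = c • v ∧
        (x : Matrix (Fin 3) (Fin 3) F) *ᵥ w = c • w ∧ ∀ a : F, w ≠ a • v := by
  classical
  obtain ⟨m, hm⟩ := hq9
  have hq1 : 1 < Fintype.card F := Fintype.one_lt_card
  have hm0 : 0 < m := by
    rcases Nat.eq_zero_or_pos m with h | h
    · rw [h] at hm; omega
    · exact h
  obtain ⟨γ, hγ⟩ := IsCyclic.exists_generator (α := Fˣ)
  have hord : orderOf γ = Fintype.card F - 1 := by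
    rw [orderOf_eq_card_of_forall_mem_zpowers hγ, Nat.card_eq_fintype_card, Fintype.card_units]
  set c : F := ((γ ^ m : Fˣ) : F) with hc
  have hc0 : c ≠ 0 := Units.ne_zero _
  have hc9 : c ^ 9 = 1 := by
    rw [hc, ← Units.val_pow_eq_pow_val, ← pow_mul, mul_comm, ← hm, ← hord, pow_orderOf_eq_one,
      Units.val_one]
  have hc3 : c ^ 3 ≠ 1 := by
    intro h
    rw [hc, ← Units.val_pow_eq_pow_val, ← pow_mul] at h
    have h1 : γ ^ (m * 3) = 1 := Units.ext h
    have h2 := orderOf_dvd_of_pow_eq_one h1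
    rw [hord, hm] at h2
    have := Nat.le_of_dvd (by omega) h2
    omega
  set M : Matrix (Fin 3) (Fin 3) F := !![c, 0, 0; 0, c, 0; 0, 0, (c ^ 2)⁻¹] with hM
  have hdet : M.det = 1 := by
    rw [hM, Matrix.det_fin_three]
    simp
    field_simp
  have hc6 : ((c ^ 2)⁻¹) ^ 3 = c ^ 3 := by
    rw [inv_pow, ← pow_mul]
    apply inv_eq_of_mul_eq_one_left
    rw [← pow_add]
    exact hc9
  refine ⟨⟨M, hdet⟩, ⟨c ^ 3, ?_⟩, ?_, c, hc0, ![1, 0, 0], ![0, 1, 0], ?_, ?_, ?_, ?_⟩
  · show M ^ 3 = (c ^ 3) • (1 : Matrix (Fin 3) (Fin 3) F)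
    rw [hM]
    ext i j
    fin_cases i <;> fin_cases j <;>
      simp [pow_succ, Matrix.mul_apply, Fin.sum_univ_three]
    have := hc6
    simp only [pow_succ, pow_zero, one_mul] at this
    simpa [mul_assoc] using this
  · intro z hz
    have h00 := congrFun (congrFun hz 0) 0
    have h22 := congrFun (congrFun hz 2) 2
    simp [M] at h00 h22
    apply hc3
    rw [← h00] at h22
    have : c ^ 2 * c = 1 := by
      nth_rewrite 2 [← h22]
      exact mul_inv_cancel₀ (pow_ne_zero _ hc0)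
    rw [pow_succ]
    exact this
  · intro h
    have := congrFun h 0
    simp at this
  · show M *ᵥ ![1, 0, 0] = c • ![1, 0, 0]
    rw [hM]
    ext i
    fin_cases i <;> simp [Matrix.mulVec, dotProduct, Fin.sum_univ_three]
  · show M *ᵥ ![0, 1, 0] = c • ![0, 1, 0]
    rw [hM]
    ext i
    fin_cases i <;> simp [Matrix.mulVec, dotProduct, Fin.sum_univ_three]
  · intro a h
    have := congrFun h 1
    simp at this

/-- when `q ≢ 1 (mod 3)`, the subgroup `H` has an element of order three, so that `3 ∣ |G : H|`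
forces `9 ∣ |SL_3(q)|`. -/
theorem nine_dvd_card_SL (hq3 : ¬ 3 ∣ Fintype.card F - 1)
    (K : Subalgebra F (Matrix (Fin 3) (Fin 3) F)) (hK : IsFieldSubalgebra 3 K)
    (hΩ : 3 ∣ ((subalgebraNormalizer K).comap
      (Matrix.SpecialLinearGroup.toGL :
        Matrix.SpecialLinearGroup (Fin 3) F →* GL (Fin 3) F)).index) :
    9 ∣ Nat.card (Matrix.SpecialLinearGroup (Fin 3) F) := by
  haveI : Fact (Nat.Prime 3) := ⟨Nat.prime_three⟩
  obtain ⟨g₀, hg₀, hg₀n, hg₀1⟩ := exists_frob (by norm_num) K hK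
  have hdet : (g₀ : Matrix (Fin 3) (Fin 3) F).det = 1 := by
    apply eq_one_of_pow_eq_one_of_not_dvd 3 hq3
    rw [← Matrix.det_pow, ← Units.val_pow_eq_pow_val, hg₀n, Units.val_one, Matrix.det_one]
  set s : Matrix.SpecialLinearGroup (Fin 3) F := ⟨(g₀ : Matrix (Fin 3) (Fin 3) F), hdet⟩ with hs
  have hsg : Matrix.SpecialLinearGroup.toGL s = g₀ := by
    apply Units.ext
    rfl
  set H := (subalgebraNormalizer K).comap
    (Matrix.SpecialLinearGroup.toGL : Matrix.SpecialLinearGroup (Fin 3) F →* GL (Fin 3) F) with hH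
  have hsH : s ∈ H := by rw [hH, Subgroup.mem_comap, hsg]; exact hg₀
  have hs3 : s ^ 3 = 1 := by
    apply Matrix.SpecialLinearGroup.toGL_injective
    rw [map_pow, hsg, hg₀n, map_one]
  have hs1 : s ≠ 1 := by
    intro h; apply hg₀1; rw [← hsg, h, map_one]
  have hord : orderOf (⟨s, hsH⟩ : H) = 3 := by
    apply orderOf_eq_prime
    · apply Subtype.ext
      rw [SubmonoidClass.coe_pow]
      exact hs3
    · intro h; apply hs1; exact congrArg Subtype.val h
  have h3H : 3 ∣ Nat.card H := by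
    have h := orderOf_dvd_natCard (⟨s, hsH⟩ : H)
    rwa [hord] at h
  have := H.card_mul_index
  rw [← this]
  exact Nat.mul_dvd_mul h3H hΩ

/-- `9 ∤ |SL_3(q)|` for `q ≡ 2, 5 (mod 9)`. -/
theorem not_nine_dvd_card_SL (h : Fintype.card F % 9 = 2 ∨ Fintype.card F % 9 = 5) :
    ¬ 9 ∣ Nat.card (Matrix.SpecialLinearGroup (Fin 3) F) := by
  intro h9
  have hres := Cfsg.Agent.S0242.result (F := F) rfl 3 (by norm_num)
  have h9' : 9 ∣ ∏ i : Fin 3, (Fintype.card F ^ 3 - Fintype.card F ^ (i : ℕ)) := by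
    rw [← hres]
    exact Dvd.dvd.mul_left h9 _
  rw [Fin.prod_univ_three] at h9'
  set q := Fintype.card F with hq
  have hq1 : 1 ≤ q := by rw [hq]; exact Fintype.card_pos
  have e0 : q ^ ((0 : Fin 3) : ℕ) ≤ q ^ 3 := Nat.pow_le_pow_right hq1 (by norm_num)
  have e1 : q ^ ((1 : Fin 3) : ℕ) ≤ q ^ 3 := Nat.pow_le_pow_right hq1 (by norm_num)
  have e2 : q ^ ((2 : Fin 3) : ℕ) ≤ q ^ 3 := Nat.pow_le_pow_right hq1 (by norm_num)
  rw [← ZMod.natCast_eq_zero_iff] at h9'
  rw [Nat.cast_mul, Nat.cast_mul, Nat.cast_sub e0, Nat.cast_sub e1, Nat.cast_sub e2] at h9'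
  simp only [Nat.cast_pow] at h9'
  have hqz : (q : ZMod 9) = ((q % 9 : ℕ) : ZMod 9) := (ZMod.natCast_mod q 9).symm
  rcases h with h | h
  · rw [hqz, h] at h9'
    revert h9'
    decide
  · rw [hqz, h] at h9'
    revert h9'
    decide

end Cfsg.Agent.Helper42.Singer
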