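import Mathlib
import Cfsg.Agent.Lib.Helper44.SpTransfer
import Cfsg.Agent.Lib.Helper5.SpTv

set_option autoImplicit false
set_option linter.unusedSectionVars false

/-!
# Abstract nondegenerate alternating spaces with an isometry

A light framework to build elements of `Sp_2m(F)` from isometries of abstract alternating spaces:
products (orthogonal sums), the standard space of a symplectic matrix, and the transfer to matrices.
-/

namespace Cfsg.Agent.Helper42.SpAbs

open Matrix Module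

universe u v w

variable {F : Type u} [Field F]

/-- a nondegenerate alternating form with an isometry -/
structure IsoData (F : Type u) [Field F] (W : Type v) [AddCommGroup W] [Module F W] where
  B : LinearMap.BilinForm F W
  G : W →ₗ[F] W
  alt : ∀ x, B x x = 0
  nondeg : ∀ x, (∀ y, B x y = 0) → x = 0
  iso : ∀ x y, B (G x) (G y) = B x y

section prod

variable {W₁ : Type v} [AddCommGroup W₁] [Module F W₁] {W₂ : Type w} [AddCommGroup W₂] [Module F W₂]

/-- orthogonal sum -/
def IsoData.prod (D₁ : IsoData F W₁) (D₂ : IsoData F W₂) : IsoData F (W₁ × W₂) where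
  B := D₁.B.compl₁₂ (LinearMap.fst F W₁ W₂) (LinearMap.fst F W₁ W₂) +
      D₂.B.compl₁₂ (LinearMap.snd F W₁ W₂) (LinearMap.snd F W₁ W₂)
  G := D₁.G.prodMap D₂.G
  alt x := by
    simp only [LinearMap.add_apply, LinearMap.compl₁₂_apply, LinearMap.fst_apply,
      LinearMap.snd_apply, D₁.alt, D₂.alt, add_zero]
  nondeg x hx := by
    apply Prod.ext
    · apply D₁.nondeg
      intro y
      have := hx (y, 0)
      simpa using this
    · apply D₂.nondeg
      intro y
      have := hx (0, y)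
      simpa using this
  iso x y := by
    simp only [LinearMap.add_apply, LinearMap.compl₁₂_apply, LinearMap.fst_apply,
      LinearMap.snd_apply, LinearMap.prodMap_apply, D₁.iso, D₂.iso]

lemma IsoData.prod_G (D₁ : IsoData F W₁) (D₂ : IsoData F W₂) :
    (D₁.prod D₂).G = D₁.G.prodMap D₂.G := rfl

lemma prodMap_pow (G₁ : W₁ →ₗ[F] W₁) (G₂ : W₂ →ₗ[F] W₂) (j : ℕ) :
    (G₁.prodMap G₂) ^ j = (G₁ ^ j).prodMap (G₂ ^ j) := by
  induction j with
  | zero =>
    rw [pow_zero, pow_zero, pow_zero]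
    exact LinearMap.prodMap_one.symm
  | succ j ih =>
    rw [pow_succ, ih, pow_succ, pow_succ]
    exact (LinearMap.prodMap_mul _ _ _ _).symm

lemma prodMap_eq_smul_iff (G₁ : W₁ →ₗ[F] W₁) (G₂ : W₂ →ₗ[F] W₂) (c : F) :
    G₁.prodMap G₂ = c • (1 : (W₁ × W₂) →ₗ[F] (W₁ × W₂)) ↔
      G₁ = c • (1 : W₁ →ₗ[F] W₁) ∧ G₂ = c • (1 : W₂ →ₗ[F] W₂) := by
  constructor
  · intro h
    constructor
    · apply LinearMap.ext
      intro x
      have := congrArg Prod.fst (LinearMap.congr_fun h (x, 0))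
      simpa using this
    · apply LinearMap.ext
      intro x
      have := congrArg Prod.snd (LinearMap.congr_fun h (0, x))
      simpa using this
  · rintro ⟨h1, h2⟩
    apply LinearMap.ext
    rintro ⟨x, y⟩
    rw [h1, h2]
    simp

lemma IsoData.prod_pow_eq_smul_iff (D₁ : IsoData F W₁) (D₂ : IsoData F W₂) (j : ℕ) (c : F) :
    (D₁.prod D₂).G ^ j = c • (1 : (W₁ × W₂) →ₗ[F] (W₁ × W₂)) ↔
      D₁.G ^ j = c • (1 : W₁ →ₗ[F] W₁) ∧ D₂.G ^ j = c • (1 : W₂ →ₗ[F] W₂) := by
  rw [IsoData.prod_G, prodMap_pow, prodMap_eq_smul_iff]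

end prod

section std

variable {a : ℕ}

/-- the standard space of a symplectic matrix -/
noncomputable def IsoData.ofSp (x : symplecticGroup (Fin a) F) :
    IsoData F (Fin a ⊕ Fin a → F) where
  B := Matrix.toBilin' (J (Fin a) F)
  G := Matrix.toLin' (x : Matrix (Fin a ⊕ Fin a) (Fin a ⊕ Fin a) F)
  alt v := by
    rw [Matrix.toBilin'_apply']
    exact Cfsg.Agent.Helper5.dotProduct_J_mulVec_self v
  nondeg v hv := by
    have h1 : v ᵥ* J (Fin a) F = 0 := by
      apply dotProduct_eq_zero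
      intro w
      have := hv w
      rw [Matrix.toBilin'_apply', Matrix.dotProduct_mulVec] at this
      exact this
    have h2 : (v ᵥ* J (Fin a) F) ᵥ* J (Fin a) F = 0 := by rw [h1, Matrix.zero_vecMul]
    rw [Matrix.vecMul_vecMul, J_squared, Matrix.vecMul_neg, Matrix.vecMul_one, neg_eq_zero] at h2
    exact h2
  iso v w := by
    have hx := (SymplecticGroup.mem_iff').mp x.2
    rw [Matrix.toBilin'_apply', Matrix.toBilin'_apply', Matrix.toLin'_apply, Matrix.toLin'_apply,
      Matrix.mulVec_mulVec, Matrix.dotProduct_mulVec, Matrix.vecMul_mulVec,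
      ← Matrix.dotProduct_mulVec]
    conv_rhs => rw [← hx]
    rw [Matrix.mul_assoc]

lemma IsoData.ofSp_pow_eq_smul_iff (x : symplecticGroup (Fin a) F) (j : ℕ) (c : F) :
    (IsoData.ofSp x).G ^ j = c • (1 : (Fin a ⊕ Fin a → F) →ₗ[F] (Fin a ⊕ Fin a → F)) ↔
      (x : Matrix (Fin a ⊕ Fin a) (Fin a ⊕ Fin a) F) ^ j =
        c • (1 : Matrix (Fin a ⊕ Fin a) (Fin a ⊕ Fin a) F) := by
  show Matrix.toLin' (x : Matrix (Fin a ⊕ Fin a) (Fin a ⊕ Fin a) F) ^ j = _ ↔ _
  rw [← Matrix.toLin'_pow]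
  have h1 : c • (1 : (Fin a ⊕ Fin a → F) →ₗ[F] (Fin a ⊕ Fin a → F)) =
      Matrix.toLin' (c • (1 : Matrix (Fin a ⊕ Fin a) (Fin a ⊕ Fin a) F)) := by
    rw [map_smul, Matrix.toLin'_one]
    rfl
  rw [h1]
  exact Matrix.toLin'.injective.eq_iff

end std

section transfer

variable [Fintype F] {W : Type v} [AddCommGroup W] [Module F W] [Module.Finite F W]

/-- transfer of an abstract isometry to a symplectic matrix -/
theorem IsoData.exists_sp (D : IsoData F W) (m : ℕ) (hdim : finrank F W = 2 * m) :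
    ∃ X : symplecticGroup (Fin m) F, ∀ (j : ℕ) (c : F),
      (X : Matrix (Fin m ⊕ Fin m) (Fin m ⊕ Fin m) F) ^ j =
        c • (1 : Matrix (Fin m ⊕ Fin m) (Fin m ⊕ Fin m) F) ↔
      D.G ^ j = c • (1 : W →ₗ[F] W) := by
  obtain ⟨b, hb⟩ := Cfsg.Agent.Helper44.SpBlocks.exists_symp_basis D.B D.alt D.nondeg m hdim
  have hJ : LinearMap.BilinForm.toMatrix b D.B = Matrix.J (Fin m) F := by
    ext x x'
    rw [LinearMap.BilinForm.toMatrix_apply]
    exact hb x x'
  have hcomp : D.B.comp D.G D.G = D.B := by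
    apply LinearMap.ext; intro x
    apply LinearMap.ext; intro y
    rw [LinearMap.BilinForm.comp_apply]
    exact D.iso x y
  have hmem : LinearMap.toMatrix b b D.G ∈ Matrix.symplecticGroup (Fin m) F := by
    rw [SymplecticGroup.mem_iff']
    have := LinearMap.BilinForm.toMatrix_comp b b D.B D.G D.G
    rw [hcomp, hJ] at this
    exact this.symm
  refine ⟨⟨LinearMap.toMatrix b b D.G, hmem⟩, fun j c => ?_⟩
  show (LinearMap.toMatrix b b D.G) ^ j = _ ↔ _
  have h1 : (LinearMap.toMatrix b b D.G) ^ j = LinearMap.toMatrix b b (D.G ^ j) := by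
    induction j with
    | zero => rw [pow_zero, pow_zero]; exact (LinearMap.toMatrix_one b).symm
    | succ j ih => rw [pow_succ, ih, pow_succ, LinearMap.toMatrix_mul]
  have h2 : c • (1 : Matrix (Fin m ⊕ Fin m) (Fin m ⊕ Fin m) F) =
      LinearMap.toMatrix b b (c • (1 : W →ₗ[F] W)) := by
    rw [map_smul, LinearMap.toMatrix_one]
  rw [h1, h2]
  exact (LinearMap.toMatrix b b).injective.eq_iff

end transfer

end Cfsg.Agent.Helper42.SpAbs
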