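import Mathlib
import Cfsg.Agent.Lib.Helper42.SpAbs1

set_option autoImplicit false
set_option linter.unusedSectionVars false

/-!
# Torus-type isometries on trace-form spaces of field extensions
-/

namespace Cfsg.Agent.Helper42.SpAbs

open Matrix Module

universe u v

variable {F : Type u} [Field F] {E : Type v} [Field E] [Algebra F E] [FiniteDimensional F E]
  [Algebra.IsSeparable F E]

lemma trace_mul_eq_zero (a : E) (h : ∀ c : E, Algebra.trace F E (a * c) = 0) : a = 0 :=
  (traceForm_nondegenerate F E).1 a fun c => by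
    rw [Algebra.traceForm_apply]
    exact h c

lemma mulLeft_pow_eq (z : E) (j : ℕ) : (LinearMap.mulLeft F z) ^ j = LinearMap.mulLeft F (z ^ j) := by
  induction j with
  | zero => rw [pow_zero, pow_zero, LinearMap.mulLeft_one]; rfl
  | succ j ih => rw [pow_succ, ih, pow_succ, LinearMap.mulLeft_mul]; rfl

lemma mulLeft_eq_smul_iff (z : E) (c : F) :
    LinearMap.mulLeft F z = c • (1 : E →ₗ[F] E) ↔ z = algebraMap F E c := by
  constructor
  · intro h
    have := LinearMap.congr_fun h 1
    simpa [Algebra.algebraMap_eq_smul_one] using this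
  · rintro rfl
    apply LinearMap.ext
    intro x
    simp [Algebra.smul_def]

/-- the hyperbolic space `E × E` with the isometry `(a, b) ↦ (z a, z⁻¹ b)` -/
noncomputable def IsoData.hyp (z : E) (hz : z ≠ 0) : IsoData F (E × E) where
  B := (Algebra.traceForm F E).compl₁₂ (LinearMap.fst F E E) (LinearMap.snd F E E) -
      (Algebra.traceForm F E).compl₁₂ (LinearMap.snd F E E) (LinearMap.fst F E E)
  G := (LinearMap.mulLeft F z).prodMap (LinearMap.mulLeft F z⁻¹)
  alt x := by
    simp only [LinearMap.sub_apply, LinearMap.compl₁₂_apply, LinearMap.fst_apply,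
      LinearMap.snd_apply, Algebra.traceForm_apply]
    rw [mul_comm, sub_self]
  nondeg x hx := by
    have key : ∀ c d : E, Algebra.trace F E (x.1 * d) - Algebra.trace F E (x.2 * c) = 0 := by
      intro c d
      have := hx (c, d)
      simpa only [LinearMap.sub_apply, LinearMap.compl₁₂_apply, LinearMap.fst_apply,
        LinearMap.snd_apply, Algebra.traceForm_apply] using this
    apply Prod.ext
    · apply trace_mul_eq_zero (F := F)
      intro d
      have := key 0 d
      simpa using this
    · apply trace_mul_eq_zero (F := F)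
      intro c
      have := key c 0
      simpa using this
  iso x y := by
    simp only [LinearMap.sub_apply, LinearMap.compl₁₂_apply, LinearMap.fst_apply,
      LinearMap.snd_apply, Algebra.traceForm_apply, LinearMap.prodMap_apply,
      LinearMap.mulLeft_apply]
    have h1 : z * x.1 * (z⁻¹ * y.2) = x.1 * y.2 := by
      field_simp
    have h2 : z⁻¹ * x.2 * (z * y.1) = x.2 * y.1 := by
      field_simp
    rw [h1, h2]

lemma IsoData.hyp_pow_eq_smul_iff (z : E) (hz : z ≠ 0) (j : ℕ) (c : F) :
    (IsoData.hyp (F := F) z hz).G ^ j = c • (1 : (E × E) →ₗ[F] (E × E)) ↔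
      z ^ j = algebraMap F E c ∧ z⁻¹ ^ j = algebraMap F E c := by
  show ((LinearMap.mulLeft F z).prodMap (LinearMap.mulLeft F z⁻¹)) ^ j = _ ↔ _
  rw [prodMap_pow, prodMap_eq_smul_iff, mulLeft_pow_eq, mulLeft_pow_eq, mulLeft_eq_smul_iff,
    mulLeft_eq_smul_iff]

/-- the space `E` with a twisted trace form and the isometry `a ↦ z a`, `z σ(z) = 1` -/
noncomputable def IsoData.tw (σ : E ≃ₐ[F] E) (hσ : ∀ x, σ (σ x) = x) (δ : E) (hδ : σ δ ≠ δ)
    (z : E) (hz : z * σ z = 1) : IsoData F E where
  B := (Algebra.traceForm F E).compl₁₂ (LinearMap.mulLeft F δ) σ.toLinearMap -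
      ((Algebra.traceForm F E).compl₁₂ (LinearMap.mulLeft F δ) σ.toLinearMap).flip
  G := LinearMap.mulLeft F z
  alt x := by
    simp only [LinearMap.sub_apply, LinearMap.flip_apply, sub_self]
  nondeg x hx := by
    have key : ∀ b : E, Algebra.trace F E (δ * x * σ b) - Algebra.trace F E (δ * b * σ x) = 0 := by
      intro b
      have := hx b
      simpa only [LinearMap.sub_apply, LinearMap.flip_apply, LinearMap.compl₁₂_apply,
        LinearMap.mulLeft_apply, AlgEquiv.toLinearMap_apply, Algebra.traceForm_apply] using this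
    have h1 : ∀ c : E, Algebra.trace F E ((δ - σ δ) * x * c) = 0 := by
      intro c
      have h2 := key (σ c)
      rw [hσ] at h2
      have h3 : Algebra.trace F E (δ * σ c * σ x) = Algebra.trace F E (σ δ * c * x) := by
        have h4 := Algebra.trace_eq_of_algEquiv σ (δ * σ c * σ x)
        rw [← h4]
        congr 1
        rw [map_mul, map_mul, hσ, hσ]
      rw [h3] at h2
      rw [sub_mul, sub_mul, map_sub]
      rw [← h2]
      congr 2
      ring
    have h4 := trace_mul_eq_zero (F := F) ((δ - σ δ) * x) h1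
    have h5 : δ - σ δ ≠ 0 := sub_ne_zero.mpr (Ne.symm hδ)
    exact (mul_eq_zero.mp h4).resolve_left h5
  iso x y := by
    simp only [LinearMap.sub_apply, LinearMap.flip_apply, LinearMap.compl₁₂_apply,
      LinearMap.mulLeft_apply, AlgEquiv.toLinearMap_apply, Algebra.traceForm_apply, map_mul]
    have h1 : δ * (z * x) * (σ z * σ y) = δ * x * σ y * (z * σ z) := by ring
    have h2 : δ * (z * y) * (σ z * σ x) = δ * y * σ x * (z * σ z) := by ring
    rw [h1, h2, hz, mul_one, mul_one]

lemma IsoData.tw_pow_eq_smul_iff (σ : E ≃ₐ[F] E) (hσ : ∀ x, σ (σ x) = x) (δ : E) (hδ : σ δ ≠ δ)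
    (z : E) (hz : z * σ z = 1) (j : ℕ) (c : F) :
    (IsoData.tw σ hσ δ hδ z hz).G ^ j = c • (1 : E →ₗ[F] E) ↔ z ^ j = algebraMap F E c := by
  show (LinearMap.mulLeft F z) ^ j = _ ↔ _
  rw [mulLeft_pow_eq, mulLeft_eq_smul_iff]

end Cfsg.Agent.Helper42.SpAbs
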