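import Mathlib
import Cfsg.Prelude.Def_Classical
import Cfsg.Agent.Lib.Helper42.SpEig1
import Cfsg.Agent.Lib.Helper5.SpCenter

set_option autoImplicit false
set_option linter.unusedSectionVars false

/-!
# Elements of order `r p` in `PSp_2n(q)`: non-existence when the torus is too big
-/

namespace Cfsg.Agent.Helper42.SpEig

open Matrix Polynomial Cfsg.Agent.Helper42.UEig Cfsg.Agent.Helper5

variable {F : Type*} [Field F] [Fintype F] {n : ℕ}

local notation "MF" => Matrix (Fin n ⊕ Fin n) (Fin n ⊕ Fin n) F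

lemma coe_pow_sp (A : symplecticGroup (Fin n) F) (j : ℕ) :
    ((A ^ j : symplecticGroup (Fin n) F) : MF) = (A : MF) ^ j :=
  SubmonoidClass.coe_pow A j

/-- powers in `PSp` in terms of matrices -/
lemma psp_pow_eq_one_iff (hn : 1 ≤ n) (A : symplecticGroup (Fin n) F) (j : ℕ) :
    ((QuotientGroup.mk A : Cfsg.PSp n F) ^ j = 1) ↔
      ((A : MF) ^ j = 1 ∨ (A : MF) ^ j = -1) := by
  have : Nonempty (Fin n) := ⟨⟨0, hn⟩⟩
  rw [← QuotientGroup.mk_pow, QuotientGroup.eq_one_iff, ← coe_pow_sp]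
  constructor
  · intro h
    rcases center_sp_subset _ h with h1 | h1
    · left
      rw [h1]
      rfl
    · right
      rw [h1]
      rfl
  · rintro (h | h)
    · have : A ^ j = 1 := Subtype.ext h
      rw [this]
      exact one_mem _
    · have : A ^ j = spNegOne (Fin n) F := Subtype.ext h
      rw [this]
      exact spNegOne_mem_center

/-- a scalar power is trivial in `PSp` -/
lemma psp_pow_eq_one_of_scalar (A : symplecticGroup (Fin n) F) (j : ℕ) (c : F)
    (h : (A : MF) ^ j = c • (1 : MF)) : (QuotientGroup.mk A : Cfsg.PSp n F) ^ j = 1 := by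
  rw [← QuotientGroup.mk_pow, QuotientGroup.eq_one_iff, Subgroup.mem_center_iff]
  intro B
  apply Subtype.ext
  show (B : MF) * ((A ^ j : symplecticGroup (Fin n) F) : MF) =
    ((A ^ j : symplecticGroup (Fin n) F) : MF) * (B : MF)
  rw [coe_pow_sp, h]
  simp

/-- the set of roots coming from an eigenvalue of prime order -/
theorem exists_root_set {L : Type*} [Field L] [Algebra F L] [DecidableEq L]
    (A : symplecticGroup (Fin n) F) (x : L)
    (hx : ((algebraMap F L).mapMatrix (A : MF)).charpoly.IsRoot x) (t r : ℕ) (hr : r.Prime)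
    (hr2 : r ≠ 2) (hrq : ¬ r ∣ Fintype.card F) (hμ : orderOf (x ^ t) = r) (k η : ℕ)
    (hk : k = orderOf ((Fintype.card F : ℕ) : ZMod r))
    (hη : (Odd k ∧ η = k) ∨ (Even k ∧ 2 * η = k)) :
    ∃ T : Finset L, T.card = 2 * η ∧
      (∀ y ∈ T, ((algebraMap F L).mapMatrix (A : MF)).charpoly.IsRoot y) ∧
      ∀ y ∈ T, ∃ i, y = x ^ (Fintype.card F ^ i) ∨ y = (x ^ (Fintype.card F ^ i))⁻¹ := by
  set q := Fintype.card F with hq
  set G := (algebraMap F L).mapMatrix (A : MF) with hG
  have hGs : G ∈ symplecticGroup (Fin n) L := SymplecticGroup.map_mem A.2 (algebraMap F L)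
  have hF : ∀ i, G.charpoly.IsRoot (x ^ (q ^ i)) := fun i => isRoot_pow_card_pow _ x hx i
  have hI : ∀ i, G.charpoly.IsRoot (x ^ (q ^ i))⁻¹ := fun i =>
    isRoot_inv_of_symplectic G hGs _ (hF i)
  have hr0 : 0 < r := hr.pos
  rcases hη with ⟨hko, hηk⟩ | ⟨hke, hη⟩
  · -- odd order: both orbits
    rw [hηk]
    have hx0 : x ≠ 0 := by
      rintro rfl
      rcases Nat.eq_zero_or_pos t with h0 | h0
      · rw [h0, pow_zero, orderOf_one] at hμ
        exact hr.one_lt.ne hμ
      · rw [zero_pow h0.ne'] at hμ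
        have : orderOf (0 : L) = 0 := orderOf_eq_zero_iff'.mpr fun m hm => by
          rw [zero_pow hm.ne']
          exact zero_ne_one
        omega
    have hcop : Nat.Coprime q r := ((Nat.Prime.coprime_iff_not_dvd hr).mpr hrq).symm
    have hneg : ∀ i, ¬ r ∣ q ^ i + 1 := by
      intro i hdvd
      have : Fact r.Prime := ⟨hr⟩
      have h1 : ((q : ZMod r)) ^ i = -1 := by
        have := (ZMod.natCast_eq_zero_iff (q ^ i + 1) r).mpr hdvd
        push_cast at this
        exact eq_neg_of_add_eq_zero_left this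
      have h2 : ((q : ZMod r)) ^ (2 * i) = 1 := by
        rw [mul_comm, pow_mul, h1]
        norm_num
      have h3 := orderOf_dvd_of_pow_eq_one h2
      rw [← hk] at h3
      have h4 : k ∣ i := (Nat.Coprime.dvd_of_dvd_mul_left (Nat.Coprime.symm
        ((Nat.coprime_two_left).mpr hko)) h3)
      have h5 : ((q : ZMod r)) ^ i = 1 := by
        rw [hk] at h4
        exact orderOf_dvd_iff_pow_eq_one.mp h4
      rw [h5] at h1
      have h6 : ((2 : ℕ) : ZMod r) = 0 := by
        push_cast
        have : (1 : ZMod r) + 1 = 0 := by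
          nth_rewrite 1 [h1]
          ring
        rw [← this]
        norm_num
      have h7 := (ZMod.natCast_eq_zero_iff 2 r).mp h6
      exact hr2 ((Nat.prime_dvd_prime_iff_eq hr Nat.prime_two).mp h7)
    refine ⟨orbF q x k ∪ orbI q x k, ?_, ?_, ?_⟩
    · rw [Finset.card_union_of_disjoint (disjoint_orbF_orbI q x t r hμ hr0 hx0 hcop hneg k), hk,
        card_orbF q x t r hμ hr0, card_orbI q x t r hμ hr0]
      ring
    · intro y hy
      rcases Finset.mem_union.mp hy with h | h
      · obtain ⟨i, -, rfl⟩ := mem_orbF.mp h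
        exact hF i
      · obtain ⟨i, -, rfl⟩ := mem_orbI.mp h
        exact hI i
    · intro y hy
      rcases Finset.mem_union.mp hy with h | h
      · obtain ⟨i, -, rfl⟩ := mem_orbF.mp h
        exact ⟨i, Or.inl rfl⟩
      · obtain ⟨i, -, rfl⟩ := mem_orbI.mp h
        exact ⟨i, Or.inr rfl⟩
  · refine ⟨orbF q x k, ?_, ?_, ?_⟩
    · rw [hk, card_orbF q x t r hμ hr0, ← hk, hη]
    · intro y hy
      obtain ⟨i, -, rfl⟩ := mem_orbF.mp hy
      exact hF i
    · intro y hy
      obtain ⟨i, -, rfl⟩ := mem_orbF.mp hy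
      exact ⟨i, Or.inl rfl⟩

/-- no element of order `r p` when `n ≤ η` -/
theorem no_elt_rp (p : ℕ) [Fact p.Prime] [CharP F p] (hn : 1 ≤ n) (r : ℕ) (hr : r.Prime)
    (hr2 : r ≠ 2) (hrp : r ≠ p) (k η : ℕ) (hk : k = orderOf ((Fintype.card F : ℕ) : ZMod r))
    (hη : (Odd k ∧ η = k) ∨ (Even k ∧ 2 * η = k)) (hle : n ≤ η) (g : Cfsg.PSp n F) :
    orderOf g ≠ r * p := by
  classical
  intro hord
  have hp := (Fact.out : p.Prime)
  obtain ⟨A, rfl⟩ := QuotientGroup.mk_surjective g
  have hrq : ¬ r ∣ Fintype.card F := by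
    obtain ⟨f, -, hf⟩ := FiniteField.card F p
    rw [hf]
    intro h
    exact hrp ((Nat.prime_dvd_prime_iff_eq hr hp).mp (hr.dvd_of_dvd_pow h))
  -- the scalar
  have h1 := (psp_pow_eq_one_iff hn A (r * p)).mp (by rw [← hord]; exact pow_orderOf_eq_one _)
  obtain ⟨c, hc2, hcp, hAc⟩ : ∃ c : F, c ^ 2 = 1 ∧ c ^ p = c ∧
      (A : MF) ^ (r * p) = c • (1 : MF) := by
    rcases h1 with h | h
    · exact ⟨1, one_pow _, one_pow _, by rw [h, one_smul]⟩
    · refine ⟨-1, by norm_num, ?_, by rw [h, neg_smul, one_smul]⟩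
      rcases hp.eq_two_or_odd' with h2 | h2
      · subst h2
        have : (-1 : F) = 1 := CharTwo.neg_eq 1
        rw [this, one_pow]
      · exact h2.neg_one_pow
  let L := AlgebraicClosure F
  let f : F →+* L := algebraMap F L
  have hcL : CharP L p := charP_of_injective_algebraMap f.injective p
  set G : Matrix (Fin n ⊕ Fin n) (Fin n ⊕ Fin n) L := f.mapMatrix (A : MF) with hG
  have hGpow : ∀ j, G ^ j = f.mapMatrix ((A : MF) ^ j) := fun j => (map_pow _ _ _).symm
  have hsmul : ∀ c : F, f.mapMatrix (c • (1 : MF)) =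
      f c • (1 : Matrix (Fin n ⊕ Fin n) (Fin n ⊕ Fin n) L) := by
    intro c
    ext i j
    simp only [RingHom.mapMatrix_apply, Matrix.map_apply, Matrix.smul_apply, Matrix.one_apply,
      smul_eq_mul]
    split_ifs <;> simp
  have hGrp : G ^ (r * p) = f c • (1 : Matrix (Fin n ⊕ Fin n) (Fin n ⊕ Fin n) L) := by
    rw [hGpow, hAc, hsmul]
  have hGtr : G ^ (2 * p * r) = 1 := by
    have : 2 * p * r = r * p * 2 := by ring
    rw [this, pow_mul, hGrp, _root_.smul_pow, one_pow, ← map_pow, hc2, map_one, one_smul]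
  have hGt : G ^ (2 * p) ≠ 1 := by
    intro h
    rw [hGpow] at h
    have h2 : (A : MF) ^ (2 * p) = 1 := by
      apply Matrix.map_injective f.injective
      have h3 : f.mapMatrix (1 : MF) = 1 := map_one _
      exact h.trans h3.symm
    have h3 := (psp_pow_eq_one_iff hn A (2 * p)).mpr (Or.inl h2)
    have h4 := orderOf_dvd_of_pow_eq_one h3
    rw [hord] at h4
    have h5 : r ∣ 2 := by
      have : r * p ∣ 2 * p := h4
      exact Nat.dvd_of_mul_dvd_mul_right hp.pos this
    exact hr2 ((Nat.prime_dvd_prime_iff_eq hr Nat.prime_two).mp h5)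
  obtain ⟨x, hxroot, hsum⟩ := exists_root_of_pow G (2 * p) r hGtr hGt
  have hrL : (r : L) ≠ 0 := by
    intro h
    have h1 := (CharP.cast_eq_zero_iff L p r).mp h
    exact hrp ((Nat.prime_dvd_prime_iff_eq hp hr).mp h1).symm
  have hμ : orderOf (x ^ (2 * p)) = r := orderOf_of_geom_sum _ r hr hrL hsum
  obtain ⟨T, hTcard, hTroot, -⟩ := exists_root_set A x hxroot (2 * p) r hr hr2 hrq hμ k η hk hη
  have hcard : Fintype.card (Fin n ⊕ Fin n) ≤ T.card := by
    rw [hTcard]
    simp only [Fintype.card_sum, Fintype.card_fin]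
    omega
  have hTr : ∀ y ∈ T, y ^ r = f c := by
    intro y hy
    have h1 := pow_eq_of_isRoot G y (hTroot y hy) (r * p) _ hGrp
    have h2 : (y ^ r) ^ p = (f c) ^ p := by
      rw [← pow_mul, h1, ← map_pow, hcp]
    exact frobenius_inj L p h2
  have hGr := pow_eq_smul_of_root_set G T hTroot hcard r (f c) hTr
  have hAr : (A : MF) ^ r = c • (1 : MF) := by
    apply Matrix.map_injective f.injective
    have h3 := hsmul c
    rw [hGpow] at hGr
    exact hGr.trans h3.symm
  have h2 := psp_pow_eq_one_of_scalar A r c hAr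
  have h3 := orderOf_dvd_of_pow_eq_one h2
  rw [hord] at h3
  have h4 : r * p ≤ r * 1 := by
    rw [mul_one]
    exact Nat.le_of_dvd hr.pos h3
  have := Nat.le_of_mul_le_mul_left h4 hr.pos
  have := hp.two_le
  omega

end Cfsg.Agent.Helper42.SpEig
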