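import Mathlib
import Cfsg.Prelude.Def_Classical
import Cfsg.Agent.Lib.Helper42.SpEig2
import Cfsg.Agent.Lib.Lead.SpTvCent
import Cfsg.Agent.Lib.Lead.SpTv3
import Cfsg.Agent.Lib.Lead.SpCard
import Cfsg.Agent.Lib.Helper41.Zsigmondy

set_option autoImplicit false
set_option linter.unusedSectionVars false

/-!
# Elements of order `r p` in `PSp_2n(q)`: existence
-/

namespace Cfsg.Agent.Helper42.SpEig

open Matrix Cfsg.Agent.Helper5 Cfsg.Agent.Lead.SpTvCent Cfsg.Agent.Lead.SpTv3

attribute [local instance] Cfsg.Agent.Lead.SpTvCent.spAction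

variable {F : Type*} [Field F] [Fintype F] {n : ℕ}

local notation "MF" => Matrix (Fin n ⊕ Fin n) (Fin n ⊕ Fin n) F

/-- the order of `q` modulo a prime not dividing it is positive and `r ∣ q ^ j - 1` iff it divides `j` -/
lemma orderOf_pos_of_not_dvd (q r : ℕ) (hr : r.Prime) (hrq : ¬ r ∣ q) :
    0 < orderOf ((q : ℕ) : ZMod r) := by
  have : Fact r.Prime := ⟨hr⟩
  have h0 : ((q : ℕ) : ZMod r) ≠ 0 := by
    intro h
    exact hrq ((ZMod.natCast_eq_zero_iff q r).mp h)
  have h1 := ZMod.pow_card_sub_one_eq_one h0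
  have h2 := orderOf_dvd_of_pow_eq_one h1
  exact Nat.pos_of_dvd_of_pos h2 (by have := hr.two_le; omega)

lemma spTv_pow (u : Fin n ⊕ Fin n → F) (a : F) (j : ℕ) : spTv u a ^ j = spTv u (j * a) := by
  induction j with
  | zero => rw [pow_zero, Nat.cast_zero, zero_mul, spTv_zero]
  | succ j ih =>
    rw [pow_succ, ih, spTv_mul_spTv]
    congr 1
    push_cast
    ring

/-- the order of the stabiliser of a non-zero vector -/
lemma card_stabilizer (hn : 1 ≤ n) (u : Fin n ⊕ Fin n → F) (hu : u ≠ 0) :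
    Nat.card (MulAction.stabilizer (symplecticGroup (Fin n) F) u) =
      Fintype.card F ^ (n ^ 2) *
        ∏ i ∈ Finset.range (n - 1), (Fintype.card F ^ (2 * (i + 1)) - 1) := by
  have h1 := card_stabilizer_mul u hu
  rw [Cfsg.Agent.Lead.card_symplecticGroup n, Nat.card_eq_fintype_card (α := F)] at h1
  obtain ⟨n', rfl⟩ : ∃ n', n = n' + 1 := ⟨n - 1, by omega⟩
  rw [Finset.prod_range_succ, ← mul_assoc] at h1
  simp only [Fintype.card_sum, Fintype.card_fin] at h1
  have h2 : n' + 1 + (n' + 1) = 2 * (n' + 1) := by ring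
  rw [h2] at h1
  have hq : 2 ≤ Fintype.card F := Fintype.one_lt_card
  have hpos : 0 < Fintype.card F ^ (2 * (n' + 1)) - 1 := by
    have : 2 ^ (2 * (n' + 1)) ≤ Fintype.card F ^ (2 * (n' + 1)) := Nat.pow_le_pow_left hq _
    have : 2 ≤ 2 ^ (2 * (n' + 1)) := by
      calc 2 = 2 ^ 1 := (pow_one 2).symm
        _ ≤ 2 ^ (2 * (n' + 1)) := Nat.pow_le_pow_right (by norm_num) (by omega)
    omega
  rw [Nat.add_sub_cancel]
  exact Nat.eq_of_mul_eq_mul_right hpos h1

/-- existence of an element of order `r p` when `η ≤ n - 1` -/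
theorem exists_elt_rp (p : ℕ) [Fact p.Prime] [CharP F p] (hn : 2 ≤ n) (r : ℕ) (hr : r.Prime)
    (hr2 : r ≠ 2) (hrp : r ≠ p) (k η : ℕ) (hk : k = orderOf ((Fintype.card F : ℕ) : ZMod r))
    (hη : (Odd k ∧ η = k) ∨ (Even k ∧ 2 * η = k)) (hle : η ≤ n - 1) :
    ∃ g : Cfsg.PSp n F, orderOf g = r * p := by
  classical
  have hp := (Fact.out : p.Prime)
  have : Fact r.Prime := ⟨hr⟩
  set q := Fintype.card F with hq
  have hq1 : 1 ≤ q := Fintype.card_pos
  have hrq : ¬ r ∣ q := by
    obtain ⟨f, -, hf⟩ := FiniteField.card F p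
    rw [hq, hf]
    intro h
    exact hrp ((Nat.prime_dvd_prime_iff_eq hr hp).mp (hr.dvd_of_dvd_pow h))
  have hk0 : 0 < k := by
    rw [hk]
    exact orderOf_pos_of_not_dvd q r hr hrq
  have hη0 : 1 ≤ η := by
    rcases hη with ⟨-, h⟩ | ⟨-, h⟩ <;> omega
  have hk2η : k ∣ 2 * η := by
    rcases hη with ⟨-, h⟩ | ⟨-, h⟩
    · rw [h]
      exact Dvd.intro_left 2 rfl
    · rw [h]
  have hdvd : r ∣ q ^ (2 * η) - 1 := by
    rw [Cfsg.Agent.Helper41.dvd_pow_sub_one_iff q r (2 * η) hq1, ← orderOf_dvd_iff_pow_eq_one, ← hk]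
    exact hk2η
  -- the vector and its stabiliser
  set u : Fin n ⊕ Fin n → F := Pi.single (Sum.inl ⟨0, by omega⟩) 1 with hu
  have hu0 : u ≠ 0 := by
    intro h
    have := congrFun h (Sum.inl ⟨0, by omega⟩)
    rw [hu, Pi.single_eq_same, Pi.zero_apply] at this
    exact one_ne_zero this
  have hcard := card_stabilizer (by omega) u hu0
  have hrS : r ∣ Nat.card (MulAction.stabilizer (symplecticGroup (Fin n) F) u) := by
    rw [hcard]
    apply Dvd.dvd.mul_left
    have hmem : η - 1 ∈ Finset.range (n - 1) := Finset.mem_range.mpr (by omega)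
    refine Dvd.dvd.trans ?_ (Finset.dvd_prod_of_mem _ hmem)
    rw [Nat.sub_add_cancel hη0]
    exact hdvd
  obtain ⟨x, hx⟩ := exists_prime_orderOf_dvd_card' r hrS
  -- the transvection
  set T : symplecticGroup (Fin n) F := ⟨spTv u 1, spTv_mem u 1⟩ with hT
  have hxu : ((x : symplecticGroup (Fin n) F) : MF) *ᵥ u = u := x.2
  have hcomm : Commute (x : symplecticGroup (Fin n) F) T := by
    apply Subtype.ext
    show ((x : symplecticGroup (Fin n) F) : MF) * spTv u 1 =
      spTv u 1 * ((x : symplecticGroup (Fin n) F) : MF)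
    have := mul_spTv ((x : symplecticGroup (Fin n) F) : MF) (x : symplecticGroup (Fin n) F).2 u 1
    rw [hxu] at this
    exact this
  have hTpow : ∀ j : ℕ, ((T ^ j : symplecticGroup (Fin n) F) : MF) = spTv u (j : F) := by
    intro j
    rw [coe_pow_sp]
    show spTv u 1 ^ j = _
    rw [spTv_pow, mul_one]
  have hTord : orderOf T = p := by
    apply orderOf_eq_prime
    · apply Subtype.ext
      rw [hTpow, CharP.cast_eq_zero F p, spTv_zero]
      rfl
    · intro h
      have h1 := congrArg Subtype.val h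
      exact spTv_ne_one hu0 one_ne_zero h1
  have hxord : orderOf (x : symplecticGroup (Fin n) F) = r := by
    rw [Subgroup.orderOf_coe, hx]
  set y : symplecticGroup (Fin n) F := (x : symplecticGroup (Fin n) F) * T with hy
  have hyord : orderOf y = r * p := by
    rw [hy, hcomm.orderOf_mul_eq_mul_orderOf_of_coprime, hxord, hTord]
    rw [hxord, hTord]
    exact (Nat.coprime_primes hr hp).mpr hrp
  refine ⟨QuotientGroup.mk y, ?_⟩
  have key : ∀ j : ℕ, (QuotientGroup.mk y : Cfsg.PSp n F) ^ j = 1 ↔ r * p ∣ j := by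
    intro j
    rw [psp_pow_eq_one_iff (by omega) y j, ← hyord]
    constructor
    · intro h
      have h2 : ((y ^ (2 * j) : symplecticGroup (Fin n) F) : MF) = 1 := by
        rw [coe_pow_sp, mul_comm, pow_mul]
        rcases h with h | h
        · rw [h, one_pow]
        · rw [h]
          norm_num
      have h3 : y ^ (2 * j) = 1 := Subtype.ext h2
      have h4 := orderOf_dvd_of_pow_eq_one h3
      rcases hp.eq_two_or_odd' with h2p | h2p
      · -- characteristic two: -1 = 1
        have hneg : (-1 : MF) = 1 := by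
          have : CharP F 2 := h2p ▸ (inferInstance : CharP F p)
          ext a b
          rw [Matrix.neg_apply]
          exact CharTwo.neg_eq _
        have h5 : ((y ^ j : symplecticGroup (Fin n) F) : MF) = 1 := by
          rw [coe_pow_sp]
          rcases h with h | h
          · exact h
          · rw [h, hneg]
        have h6 : y ^ j = 1 := Subtype.ext h5
        exact orderOf_dvd_of_pow_eq_one h6
      · have hodd : Odd (orderOf y) := by
          rw [hyord]
          exact (hr.eq_two_or_odd'.resolve_left hr2).mul h2p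
        exact (Nat.Coprime.dvd_of_dvd_mul_left (Nat.Coprime.symm
          ((Nat.coprime_two_left).mpr hodd)) h4)
    · intro h
      left
      rw [← coe_pow_sp, orderOf_dvd_iff_pow_eq_one.mp h]
      rfl
  apply Nat.dvd_antisymm
  · exact orderOf_dvd_of_pow_eq_one ((key _).mpr dvd_rfl)
  · exact (key _).mp (pow_orderOf_eq_one _)

end Cfsg.Agent.Helper42.SpEig
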