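import Mathlib
import Cfsg.Agent.Lib.Helper42.SpAbs2
import Cfsg.Agent.Lib.Helper42.SpEig3
import Cfsg.Agent.Lib.Helper42.PrimeCent4

set_option autoImplicit false
set_option linter.unusedSectionVars false

/-!
# Elements of order `r s` in `PSp_2n(q)`: constructions
-/

namespace Cfsg.Agent.Helper42.SpAbs

open Matrix Module Cfsg.Agent.Helper42.SpEig

universe u v

variable {F : Type u} [Field F] [Fintype F] {n : ℕ}

/-- an element of `PSp` of prescribed order from an abstract isometry -/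
theorem exists_psp_of_isoData {W : Type v} [AddCommGroup W] [Module F W] [Module.Finite F W]
    (hn : 1 ≤ n) (D : IsoData F W) (hdim : finrank F W = 2 * n) (N : ℕ)
    (h : ∀ j : ℕ, (D.G ^ j = (1 : F) • (1 : W →ₗ[F] W) ∨
      D.G ^ j = (-1 : F) • (1 : W →ₗ[F] W)) ↔ N ∣ j) :
    ∃ g : Cfsg.PSp n F, orderOf g = N := by
  obtain ⟨X, hX⟩ := D.exists_sp n hdim
  refine ⟨QuotientGroup.mk X, ?_⟩
  have key : ∀ j : ℕ, (QuotientGroup.mk X : Cfsg.PSp n F) ^ j = 1 ↔ N ∣ j := by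
    intro j
    rw [psp_pow_eq_one_iff hn X j, ← h j, ← hX j 1, ← hX j (-1), one_smul, neg_smul, one_smul]
  apply Nat.dvd_antisymm
  · exact orderOf_dvd_of_pow_eq_one ((key _).mpr dvd_rfl)
  · exact (key _).mp (pow_orderOf_eq_one _)

/-- `x ^ j = ± 1` forces the (odd) order to divide `j` -/
lemma dvd_of_pow_eq_pm_one {M : Type*} [Monoid M] [HasDistribNeg M] (x : M) (N : ℕ) (hN : Odd N)
    (hx : orderOf x = N) (j : ℕ) (h : x ^ j = 1 ∨ x ^ j = -1) : N ∣ j := by
  have h1 : x ^ (2 * j) = 1 := by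
    rw [mul_comm, pow_mul]
    rcases h with h | h
    · rw [h, one_pow]
    · rw [h, neg_one_sq]
  have h2 := orderOf_dvd_of_pow_eq_one h1
  rw [hx] at h2
  exact (Nat.Coprime.dvd_of_dvd_mul_left (Nat.Coprime.symm ((Nat.coprime_two_left).mpr hN)) h2)

/-- Cauchy's theorem in `Sp_2a(q)` -/
lemma exists_sp_orderOf (a r : ℕ) (hr : r.Prime) (ha : 1 ≤ a)
    (hdvd : r ∣ Fintype.card F ^ (2 * a) - 1) :
    ∃ x : symplecticGroup (Fin a) F, orderOf x = r := by
  have : Fact r.Prime := ⟨hr⟩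
  apply exists_prime_orderOf_dvd_card' r
  rw [Cfsg.Agent.Lead.card_symplecticGroup a, Nat.card_eq_fintype_card (α := F)]
  apply Dvd.dvd.mul_left
  have hmem : a - 1 ∈ Finset.range a := Finset.mem_range.mpr (by omega)
  refine Dvd.dvd.trans ?_ (Finset.dvd_prod_of_mem _ hmem)
  rw [Nat.sub_add_cancel ha]
  exact hdvd

lemma orderOf_coe_sp {a : ℕ} (x : symplecticGroup (Fin a) F) :
    orderOf (x : Matrix (Fin a ⊕ Fin a) (Fin a ⊕ Fin a) F) = orderOf x :=
  orderOf_injective (symplecticGroup (Fin a) F).subtype Subtype.val_injective x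

lemma finrank_std (a : ℕ) : finrank F (Fin a ⊕ Fin a → F) = 2 * a := by
  rw [Module.finrank_fintype_fun_eq_card, Fintype.card_sum, Fintype.card_fin]
  ring

/-- the padding block never obstructs -/
lemma one_pow_eq_smul (c₃ : ℕ) (j : ℕ) :
    ((1 : symplecticGroup (Fin c₃) F) : Matrix (Fin c₃ ⊕ Fin c₃) (Fin c₃ ⊕ Fin c₃) F) ^ j =
      (1 : F) • (1 : Matrix (Fin c₃ ⊕ Fin c₃) (Fin c₃ ⊕ Fin c₃) F) := by
  rw [one_smul]
  exact one_pow j

/-- orthogonal sum of two blocks of coprime odd prime orders -/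
theorem existA (hn : 1 ≤ n) (r s a b : ℕ) (hr : r.Prime) (hs : s.Prime) (hr2 : r ≠ 2) (hs2 : s ≠ 2)
    (hrs : r ≠ s) (ha : 1 ≤ a) (hb : 1 ≤ b) (hra : r ∣ Fintype.card F ^ (2 * a) - 1)
    (hsb : s ∣ Fintype.card F ^ (2 * b) - 1) (hab : a + b ≤ n) :
    ∃ g : Cfsg.PSp n F, orderOf g = r * s := by
  obtain ⟨x, hx⟩ := exists_sp_orderOf (F := F) a r hr ha hra
  obtain ⟨y, hy⟩ := exists_sp_orderOf (F := F) b s hs hb hsb
  obtain ⟨c₃, hc₃⟩ : ∃ c₃, n = a + b + c₃ := ⟨n - (a + b), by omega⟩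
  set D := ((IsoData.ofSp x).prod (IsoData.ofSp y)).prod
    (IsoData.ofSp (1 : symplecticGroup (Fin c₃) F)) with hD
  have hro : Odd r := hr.eq_two_or_odd'.resolve_left hr2
  have hso : Odd s := hs.eq_two_or_odd'.resolve_left hs2
  have hcop : Nat.Coprime r s := (Nat.coprime_primes hr hs).mpr hrs
  apply exists_psp_of_isoData hn D
  · rw [Module.finrank_prod, Module.finrank_prod, finrank_std, finrank_std, finrank_std, hc₃]
    ring
  · intro j
    rw [hD, IsoData.prod_pow_eq_smul_iff, IsoData.prod_pow_eq_smul_iff,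
      IsoData.prod_pow_eq_smul_iff, IsoData.prod_pow_eq_smul_iff, IsoData.ofSp_pow_eq_smul_iff,
      IsoData.ofSp_pow_eq_smul_iff, IsoData.ofSp_pow_eq_smul_iff, IsoData.ofSp_pow_eq_smul_iff,
      IsoData.ofSp_pow_eq_smul_iff, IsoData.ofSp_pow_eq_smul_iff]
    simp only [one_smul, neg_smul]
    constructor
    · intro h
      have h1 : r ∣ j := by
        apply dvd_of_pow_eq_pm_one (x : Matrix (Fin a ⊕ Fin a) (Fin a ⊕ Fin a) F) r hro
          (by rw [orderOf_coe_sp, hx]) j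
        rcases h with h | h
        · exact Or.inl h.1.1
        · exact Or.inr h.1.1
      have h2 : s ∣ j := by
        apply dvd_of_pow_eq_pm_one (y : Matrix (Fin b ⊕ Fin b) (Fin b ⊕ Fin b) F) s hso
          (by rw [orderOf_coe_sp, hy]) j
        rcases h with h | h
        · exact Or.inl h.1.2
        · exact Or.inr h.1.2
      exact hcop.mul_dvd_of_dvd_of_dvd h1 h2
    · intro h
      left
      refine ⟨⟨?_, ?_⟩, one_pow j⟩
      · rw [← coe_pow_sp, orderOf_dvd_iff_pow_eq_one.mp (hx ▸ (Dvd.intro _ rfl).trans h)]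
        rfl
      · rw [← coe_pow_sp, orderOf_dvd_iff_pow_eq_one.mp (hy ▸ (Dvd.intro_left _ rfl).trans h)]
        rfl

end Cfsg.Agent.Helper42.SpAbs
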