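import Mathlib
import Cfsg.Agent.Lib.Helper42.SpAbs3
import Cfsg.Agent.Lib.Helper42.UEig3

set_option autoImplicit false
set_option linter.unusedSectionVars false

/-!
# Torus elements of odd order in `PSp_2n(q)`
-/

namespace Cfsg.Agent.Helper42.SpAbs

open Matrix Module Cfsg.Agent.Helper42.SpEig Cfsg.Agent.Helper42.PrimeCent

universe u

variable {F : Type u} [Field F] [Fintype F] {n : ℕ}

/-- an element of odd order `N ∣ q ^ l - 1`, `l ≤ n`, from the hyperbolic torus -/
theorem exist_hyp (p : ℕ) [Fact p.Prime] [CharP F p] (hn : 1 ≤ n) (N l : ℕ) (hN : Odd N)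
    (hl : 1 ≤ l) (hNl : N ∣ Fintype.card F ^ l - 1) (hln : l ≤ n) :
    ∃ g : Cfsg.PSp n F, orderOf g = N := by
  classical
  have hl0 : NeZero l := ⟨by omega⟩
  set E := FiniteField.Extension F p l with hE
  have hfin : finrank F E = l := FiniteField.finrank_extension F p l
  obtain ⟨z', hz'⟩ := exists_unit_orderOf (F := F) p l N
    (by rw [Nat.card_eq_fintype_card]; exact hNl)
  set z : E := (z' : E) with hz
  have hz0 : z ≠ 0 := z'.ne_zero
  have hzord : orderOf z = N := by rw [hz, orderOf_units, hz']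
  have hzinv : orderOf z⁻¹ = N := by
    have : z⁻¹ = ((z'⁻¹ : Eˣ) : E) := by rw [hz, Units.val_inv_eq_inv_val]
    rw [this, orderOf_units, orderOf_inv, hz']
  obtain ⟨c₃, hc₃⟩ : ∃ c₃, n = l + c₃ := ⟨n - l, by omega⟩
  set D := (IsoData.hyp (F := F) z hz0).prod (IsoData.ofSp (1 : symplecticGroup (Fin c₃) F))
    with hD
  apply exists_psp_of_isoData hn D
  · rw [Module.finrank_prod, Module.finrank_prod, finrank_std, hfin, hc₃]
    ring
  · intro j
    rw [hD, IsoData.prod_pow_eq_smul_iff, IsoData.prod_pow_eq_smul_iff,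
      IsoData.hyp_pow_eq_smul_iff, IsoData.hyp_pow_eq_smul_iff, IsoData.ofSp_pow_eq_smul_iff,
      IsoData.ofSp_pow_eq_smul_iff]
    simp only [one_smul, neg_smul, map_one, map_neg]
    constructor
    · intro h
      apply dvd_of_pow_eq_pm_one z N hN hzord j
      rcases h with h | h
      · exact Or.inl h.1.1
      · exact Or.inr h.1.1
    · intro h
      left
      refine ⟨⟨?_, ?_⟩, one_pow j⟩
      · exact orderOf_dvd_iff_pow_eq_one.mp (hzord ▸ h)
      · exact orderOf_dvd_iff_pow_eq_one.mp (hzinv ▸ h)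

/-- an element of odd order `N ∣ q ^ η + 1`, `η ≤ n`, from the twisted torus -/
theorem exist_tw (p : ℕ) [Fact p.Prime] [CharP F p] (hn : 1 ≤ n) (N η : ℕ) (hN : Odd N)
    (hη : 1 ≤ η) (hNη : N ∣ Fintype.card F ^ η + 1) (hηn : η ≤ n) :
    ∃ g : Cfsg.PSp n F, orderOf g = N := by
  classical
  have hl0 : NeZero (2 * η) := ⟨by omega⟩
  set q := Fintype.card F with hq
  have hq2 : 2 ≤ q := Fintype.one_lt_card
  have hq1 : 1 ≤ q := by omega
  have hQ : 2 ≤ q ^ η := by
    calc 2 ≤ q := hq2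
      _ = q ^ 1 := (pow_one q).symm
      _ ≤ q ^ η := Nat.pow_le_pow_right hq1 hη
  set E := FiniteField.Extension F p (2 * η) with hE
  let _ : Fintype E := Fintype.ofFinite E
  have hfin : finrank F E = 2 * η := FiniteField.finrank_extension F p (2 * η)
  have hcardE : Fintype.card E = q ^ (2 * η) := by
    rw [← Nat.card_eq_fintype_card, FiniteField.natCard_extension, Nat.card_eq_fintype_card]
  have hfac : q ^ (2 * η) - 1 = (q ^ η - 1) * (q ^ η + 1) := by
    rw [mul_comm 2 η, pow_mul]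
    exact Cfsg.Agent.Helper42.UEig.sq_sub_one_eq _ (by omega)
  -- the involution
  set σ : E ≃ₐ[F] E := FiniteField.Extension.frob F p (2 * η) ^ η with hσ
  have hσx : ∀ x : E, σ x = x ^ (q ^ η) := by
    intro x
    rw [hσ, FiniteField.Extension.frob_iterate_apply, Nat.card_eq_fintype_card]
  have hσσ : ∀ x : E, σ (σ x) = x := by
    intro x
    rw [hσx, hσx, ← pow_mul, ← pow_add, ← two_mul, ← hcardE, FiniteField.pow_card]
  -- the torus element
  obtain ⟨z', hz'⟩ := exists_unit_orderOf (F := F) p (2 * η) N (by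
    rw [Nat.card_eq_fintype_card, hfac]
    exact Dvd.dvd.mul_left hNη _)
  set z : E := (z' : E) with hz
  have hzord : orderOf z = N := by rw [hz, orderOf_units, hz']
  have hzσ : z * σ z = 1 := by
    rw [hσx, ← pow_succ']
    exact orderOf_dvd_iff_pow_eq_one.mp (hzord ▸ hNη)
  -- a non-fixed element
  obtain ⟨δ', hδ'⟩ := exists_unit_orderOf (F := F) p (2 * η) (q ^ (2 * η) - 1) (by
    rw [Nat.card_eq_fintype_card])
  set δ : E := (δ' : E) with hδ
  have hδ0 : δ ≠ 0 := δ'.ne_zero
  have hδord : orderOf δ = q ^ (2 * η) - 1 := by rw [hδ, orderOf_units, hδ']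
  have hσδ : σ δ ≠ δ := by
    intro h
    rw [hσx] at h
    have h1 : δ ^ (q ^ η - 1) * δ = 1 * δ := by
      rw [← pow_succ, Nat.sub_add_cancel (by omega), one_mul, h]
    have h2 : δ ^ (q ^ η - 1) = 1 := mul_right_cancel₀ hδ0 h1
    have h3 := orderOf_dvd_of_pow_eq_one h2
    rw [hδord, hfac] at h3
    have h4 := Nat.le_of_dvd (by omega) h3
    have h5 : (q ^ η - 1) * 2 ≤ (q ^ η - 1) * (q ^ η + 1) := Nat.mul_le_mul_left _ (by omega)
    omega
  obtain ⟨c₃, hc₃⟩ : ∃ c₃, n = η + c₃ := ⟨n - η, by omega⟩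
  set D := (IsoData.tw σ hσσ δ hσδ z hzσ).prod (IsoData.ofSp (1 : symplecticGroup (Fin c₃) F))
    with hD
  apply exists_psp_of_isoData hn D
  · rw [Module.finrank_prod, finrank_std, hfin, hc₃]
    ring
  · intro j
    rw [hD, IsoData.prod_pow_eq_smul_iff, IsoData.prod_pow_eq_smul_iff,
      IsoData.tw_pow_eq_smul_iff, IsoData.tw_pow_eq_smul_iff, IsoData.ofSp_pow_eq_smul_iff,
      IsoData.ofSp_pow_eq_smul_iff]
    simp only [one_smul, neg_smul, map_one, map_neg]
    constructor
    · intro h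
      apply dvd_of_pow_eq_pm_one z N hN hzord j
      rcases h with h | h
      · exact Or.inl h.1
      · exact Or.inr h.1
    · intro h
      left
      exact ⟨orderOf_dvd_iff_pow_eq_one.mp (hzord ▸ h), one_pow j⟩

end Cfsg.Agent.Helper42.SpAbs
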