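import Mathlib
import Cfsg.Agent.Lib.Helper42.SpEig3

set_option autoImplicit false
set_option linter.unusedSectionVars false

/-!
# Elements of order `r s` in `PSp_2n(q)`: non-existence
-/

namespace Cfsg.Agent.Helper42.SpEig

open Matrix Polynomial Cfsg.Agent.Helper42.UEig Cfsg.Agent.Helper5

/-- consequences of `r ∣ q ^ i + 1` for the order of `q` modulo `r` -/
lemma neg_one_facts (q r k i : ℕ) (hr : r.Prime) (hr2 : r ≠ 2)
    (hk : k = orderOf ((q : ℕ) : ZMod r)) (h : r ∣ q ^ i + 1) : k ∣ 2 * i ∧ ¬ k ∣ i := by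
  have : Fact r.Prime := ⟨hr⟩
  have h1 : ((q : ZMod r)) ^ i = -1 := by
    have := (ZMod.natCast_eq_zero_iff (q ^ i + 1) r).mpr h
    push_cast at this
    exact eq_neg_of_add_eq_zero_left this
  constructor
  · rw [hk]
    apply orderOf_dvd_of_pow_eq_one
    rw [mul_comm, pow_mul, h1]
    norm_num
  · intro h4
    have h5 : ((q : ZMod r)) ^ i = 1 := by
      rw [hk] at h4
      exact orderOf_dvd_iff_pow_eq_one.mp h4
    rw [h5] at h1
    have h6 : ((2 : ℕ) : ZMod r) = 0 := by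
      push_cast
      have : (1 : ZMod r) + 1 = 0 := by
        nth_rewrite 1 [h1]
        ring
      rw [← this]
      norm_num
    have h7 := (ZMod.natCast_eq_zero_iff 2 r).mp h6
    exact hr2 ((Nat.prime_dvd_prime_iff_eq hr Nat.prime_two).mp h7)

/-- the arithmetic core of the non-existence argument -/
lemma arith_rs (k l ηk ηl n e : ℕ) (hk0 : 0 < k) (hl0 : 0 < l)
    (hηk : (Odd k ∧ ηk = k) ∨ (Even k ∧ 2 * ηk = k))
    (hηl : (Odd l ∧ ηl = l) ∨ (Even l ∧ 2 * ηl = l)) (hkl : ηk ≤ ηl) (hlt : n < ηk + ηl)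
    (hke : k ∣ e) (hle : l ∣ e) (he0 : 0 < e) (h1 : e ≤ 2 * n)
    (h2 : (¬ ∃ i, (k ∣ 2 * i ∧ ¬ k ∣ i) ∧ (l ∣ 2 * i ∧ ¬ l ∣ i)) → e ≤ n) :
    ∃ t, Odd t ∧ l = k * t := by
  have key : ∀ e', l ∣ e' → 0 < e' → e' < 2 * l → e' = l := by
    rintro e' ⟨c, rfl⟩ h0 h3
    have hc1 : c = 1 := by
      rcases Nat.lt_or_ge c 2 with h | h
      · rcases Nat.eq_zero_or_pos c with h' | h'
        · rw [h', mul_zero] at h0
          omega
        · omega
      · exfalso
        have : l * 2 ≤ l * c := Nat.mul_le_mul_left _ h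
        omega
    rw [hc1, mul_one]
  by_cases hex : ∃ i, (k ∣ 2 * i ∧ ¬ k ∣ i) ∧ (l ∣ 2 * i ∧ ¬ l ∣ i)
  · obtain ⟨i, ⟨hk1, hk2⟩, ⟨hl1, hl2⟩⟩ := hex
    have hke' : Even k := by
      by_contra hko
      rw [Nat.not_even_iff_odd] at hko
      exact hk2 ((Nat.Coprime.dvd_of_dvd_mul_left ((Nat.coprime_two_right).mpr hko) hk1))
    have hle' : Even l := by
      by_contra hlo
      rw [Nat.not_even_iff_odd] at hlo
      exact hl2 ((Nat.Coprime.dvd_of_dvd_mul_left ((Nat.coprime_two_right).mpr hlo) hl1))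
    have hk2η : 2 * ηk = k := by
      rcases hηk with ⟨h, -⟩ | ⟨-, h⟩
      · exact absurd hke' (Nat.not_even_iff_odd.mpr h)
      · exact h
    have hl2η : 2 * ηl = l := by
      rcases hηl with ⟨h, -⟩ | ⟨-, h⟩
      · exact absurd hle' (Nat.not_even_iff_odd.mpr h)
      · exact h
    have hel : e = l := key e hle he0 (by omega)
    rw [hel] at hke
    obtain ⟨t, ht⟩ := hke
    refine ⟨t, ?_, ht⟩
    by_contra hte
    rw [Nat.not_odd_iff_even] at hte
    obtain ⟨t', rfl⟩ := hte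
    apply hk2
    rw [ht] at hl1
    have h3 : 2 * (k * t') ∣ 2 * i := by
      convert hl1 using 1
      ring
    have h4 : k * t' ∣ i := Nat.dvd_of_mul_dvd_mul_left (by norm_num) h3
    exact (Dvd.intro _ rfl).trans h4
  · have h3 := h2 hex
    have hηll : ηl ≤ l := by
      rcases hηl with ⟨-, h⟩ | ⟨-, h⟩ <;> omega
    have hel : e = l := key e hle he0 (by omega)
    have hlo : Odd l := by
      rcases hηl with ⟨h, -⟩ | ⟨-, h⟩
      · exact h
      · exfalso
        omega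
    rw [hel] at hke
    obtain ⟨t, ht⟩ := hke
    refine ⟨t, ?_, ht⟩
    rw [ht] at hlo
    exact (Nat.odd_mul.mp hlo).2

variable {F : Type*} [Field F] [Fintype F] {n : ℕ}

local notation "MF" => Matrix (Fin n ⊕ Fin n) (Fin n ⊕ Fin n) F

/-- a root whose square has order `r s` forces `l = k t` with `t` odd -/
theorem big_orbit {L : Type*} [Field L] [Algebra F L] [DecidableEq L]
    (A : symplecticGroup (Fin n) F) (x : L)
    (hx : ((algebraMap F L).mapMatrix (A : MF)).charpoly.IsRoot x) (r s : ℕ) (hr : r.Prime)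
    (hs : s.Prime) (hr2 : r ≠ 2) (hs2 : s ≠ 2) (hrs : r ≠ s) (hrq : ¬ r ∣ Fintype.card F)
    (hsq : ¬ s ∣ Fintype.card F) (hμ : orderOf (x ^ 2) = r * s) (k l ηk ηl : ℕ)
    (hk : k = orderOf ((Fintype.card F : ℕ) : ZMod r))
    (hl : l = orderOf ((Fintype.card F : ℕ) : ZMod s))
    (hηk : (Odd k ∧ ηk = k) ∨ (Even k ∧ 2 * ηk = k))
    (hηl : (Odd l ∧ ηl = l) ∨ (Even l ∧ 2 * ηl = l)) (hkl : ηk ≤ ηl) (hlt : n < ηk + ηl) :
    ∃ t, Odd t ∧ l = k * t := by
  set q := Fintype.card F with hq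
  have hq1 : 1 ≤ q := Fintype.card_pos
  set G := (algebraMap F L).mapMatrix (A : MF) with hG
  have hGs : G ∈ symplecticGroup (Fin n) L := SymplecticGroup.map_mem A.2 (algebraMap F L)
  have hF : ∀ i, G.charpoly.IsRoot (x ^ (q ^ i)) := fun i => isRoot_pow_card_pow _ x hx i
  have hI : ∀ i, G.charpoly.IsRoot (x ^ (q ^ i))⁻¹ := fun i =>
    isRoot_inv_of_symplectic G hGs _ (hF i)
  have hk0 : 0 < k := by rw [hk]; exact orderOf_pos_of_not_dvd q r hr hrq
  have hl0 : 0 < l := by rw [hl]; exact orderOf_pos_of_not_dvd q s hs hsq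
  have ho0 : 0 < r * s := Nat.mul_pos hr.pos hs.pos
  have hcoprs : Nat.Coprime r s := (Nat.coprime_primes hr hs).mpr hrs
  set e := orderOf ((q : ℕ) : ZMod (r * s)) with he
  -- the order of q modulo rs
  have hpow_iff : ∀ j, ((q : ℕ) : ZMod (r * s)) ^ j = 1 ↔ r * s ∣ q ^ j - 1 := fun j =>
    (Cfsg.Agent.Helper41.dvd_pow_sub_one_iff q (r * s) j hq1).symm
  have hkl1 : ((q : ℕ) : ZMod (r * s)) ^ (k * l) = 1 := by
    rw [hpow_iff]
    apply hcoprs.mul_dvd_of_dvd_of_dvd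
    · rw [Cfsg.Agent.Helper41.dvd_pow_sub_one_iff q r _ hq1, pow_mul, hk, pow_orderOf_eq_one,
        one_pow]
    · rw [Cfsg.Agent.Helper41.dvd_pow_sub_one_iff q s _ hq1, mul_comm, pow_mul, hl,
        pow_orderOf_eq_one, one_pow]
  have he0 : 0 < e := by
    have h1 := orderOf_dvd_of_pow_eq_one hkl1
    exact Nat.pos_of_dvd_of_pos h1 (Nat.mul_pos hk0 hl0)
  have hrse : r * s ∣ q ^ e - 1 := by
    rw [← hpow_iff, he, pow_orderOf_eq_one]
  have hke : k ∣ e := by
    rw [hk]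
    apply orderOf_dvd_of_pow_eq_one
    rw [← Cfsg.Agent.Helper41.dvd_pow_sub_one_iff q r _ hq1]
    exact (Dvd.intro _ rfl).trans hrse
  have hle : l ∣ e := by
    rw [hl]
    apply orderOf_dvd_of_pow_eq_one
    rw [← Cfsg.Agent.Helper41.dvd_pow_sub_one_iff q s _ hq1]
    exact (Dvd.intro_left _ rfl).trans hrse
  have hcardn : Fintype.card (Fin n ⊕ Fin n) = 2 * n := by
    simp only [Fintype.card_sum, Fintype.card_fin]
    ring
  -- the forward orbit
  have h1 : e ≤ 2 * n := by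
    have := card_le_of_root_set G (orbF q x e) (fun y hy => by
      obtain ⟨i, -, rfl⟩ := mem_orbF.mp hy
      exact hF i)
    rw [he, card_orbF q x 2 (r * s) hμ ho0, hcardn] at this
    exact this
  apply arith_rs k l ηk ηl n e hk0 hl0 hηk hηl hkl hlt hke hle he0 h1
  intro hnex
  -- both orbits
  have hx0 : x ≠ 0 := by
    rintro rfl
    rw [zero_pow (by norm_num)] at hμ
    have : orderOf (0 : L) = 0 := orderOf_eq_zero_iff'.mpr fun m hm => by
      rw [zero_pow hm.ne']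
      exact zero_ne_one
    omega
  have hcop : Nat.Coprime q (r * s) := by
    apply Nat.Coprime.mul_right
    · exact ((Nat.Prime.coprime_iff_not_dvd hr).mpr hrq).symm
    · exact ((Nat.Prime.coprime_iff_not_dvd hs).mpr hsq).symm
  have hneg : ∀ i, ¬ r * s ∣ q ^ i + 1 := by
    intro i hdvd
    apply hnex
    exact ⟨i, neg_one_facts q r k i hr hr2 hk ((Dvd.intro _ rfl).trans hdvd),
      neg_one_facts q s l i hs hs2 hl ((Dvd.intro_left _ rfl).trans hdvd)⟩
  have := card_le_of_root_set G (orbF q x e ∪ orbI q x e) (fun y hy => by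
    rcases Finset.mem_union.mp hy with h | h
    · obtain ⟨i, -, rfl⟩ := mem_orbF.mp h
      exact hF i
    · obtain ⟨i, -, rfl⟩ := mem_orbI.mp h
      exact hI i)
  rw [Finset.card_union_of_disjoint (disjoint_orbF_orbI q x 2 (r * s) hμ ho0 hx0 hcop hneg e), he,
    card_orbF q x 2 (r * s) hμ ho0, card_orbI q x 2 (r * s) hμ ho0, hcardn] at this
  omega

end Cfsg.Agent.Helper42.SpEig
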