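import Mathlib
import Cfsg.Agent.Lib.Helper42.SpEig4

set_option autoImplicit false
set_option linter.unusedSectionVars false

/-!
# Elements of order `r s` in `PSp_2n(q)`: the non-existence theorem
-/

namespace Cfsg.Agent.Helper42.SpEig

open Matrix Polynomial Cfsg.Agent.Helper42.UEig Cfsg.Agent.Helper5

variable {F : Type*} [Field F] [Fintype F] {n : ℕ}

local notation "MF" => Matrix (Fin n ⊕ Fin n) (Fin n ⊕ Fin n) F

lemma orderOf_inv_field {L : Type*} [Field L] (a : L) : orderOf a⁻¹ = orderOf a := by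
  rw [orderOf_eq_orderOf_iff]
  intro m
  rw [inv_pow, inv_eq_one]

/-- the order of `y ^ 2` for `y` in a root set built from `x` -/
lemma orderOf_sq_of_form {L : Type*} [Field L] (q r : ℕ) (hcop : Nat.Coprime r q) (x y : L)
    (hx : orderOf (x ^ 2) = r) (h : ∃ i, y = x ^ (q ^ i) ∨ y = (x ^ (q ^ i))⁻¹) :
    orderOf (y ^ 2) = r := by
  obtain ⟨i, rfl | rfl⟩ := h
  · rw [← pow_mul, mul_comm, pow_mul]
    have h1 : Nat.Coprime (orderOf (x ^ 2)) (q ^ i) := by
      rw [hx]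
      exact Nat.Coprime.pow_right i hcop
    rw [h1.orderOf_pow, hx]
  · rw [inv_pow, orderOf_inv_field, ← pow_mul, mul_comm, pow_mul]
    have h1 : Nat.Coprime (orderOf (x ^ 2)) (q ^ i) := by
      rw [hx]
      exact Nat.Coprime.pow_right i hcop
    rw [h1.orderOf_pow, hx]

/-- the possible orders of the square of a root -/
lemma orderOf_sq_cases {L : Type*} [Field L] (r s : ℕ) (hr : r.Prime) (hs : s.Prime) (x : L)
    (h1 : (x ^ 2) ^ (r * s) = 1) (h2 : orderOf (x ^ (2 * s)) = r) :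
    orderOf (x ^ 2) = r ∨ orderOf (x ^ 2) = r * s := by
  have h3 : orderOf (x ^ 2) ∣ r * s := orderOf_dvd_of_pow_eq_one h1
  have h4 : r ∣ orderOf (x ^ 2) := by
    rw [← h2, pow_mul]
    exact orderOf_pow_dvd s
  obtain ⟨d, hd⟩ := h4
  rw [hd] at h3
  have h5 : d ∣ s := Nat.dvd_of_mul_dvd_mul_left hr.pos h3
  rcases (Nat.dvd_prime hs).mp h5 with h | h
  · left
    rw [hd, h, mul_one]
  · right
    rw [hd, h]

theorem no_elt_rs (p : ℕ) [Fact p.Prime] [CharP F p] (hn : 1 ≤ n) (r s : ℕ) (hr : r.Prime)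
    (hs : s.Prime) (hr2 : r ≠ 2) (hs2 : s ≠ 2) (hrp : r ≠ p) (hsp : s ≠ p) (hrs : r ≠ s)
    (k l ηk ηl : ℕ) (hk : k = orderOf ((Fintype.card F : ℕ) : ZMod r))
    (hl : l = orderOf ((Fintype.card F : ℕ) : ZMod s))
    (hηk : (Odd k ∧ ηk = k) ∨ (Even k ∧ 2 * ηk = k))
    (hηl : (Odd l ∧ ηl = l) ∨ (Even l ∧ 2 * ηl = l)) (hkl : ηk ≤ ηl) (hlt : n < ηk + ηl)
    (hnot : ¬ ∃ t, Odd t ∧ l = k * t) (g : Cfsg.PSp n F) : orderOf g ≠ r * s := by
  classical
  intro hord
  have hp := (Fact.out : p.Prime)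
  obtain ⟨A, rfl⟩ := QuotientGroup.mk_surjective g
  have hnotdvd : ∀ r' : ℕ, r'.Prime → r' ≠ p → ¬ r' ∣ Fintype.card F := by
    intro r' hr' hr'p
    obtain ⟨f, -, hf⟩ := FiniteField.card F p
    rw [hf]
    intro h
    exact hr'p ((Nat.prime_dvd_prime_iff_eq hr' hp).mp (hr'.dvd_of_dvd_pow h))
  have hrq := hnotdvd r hr hrp
  have hsq := hnotdvd s hs hsp
  -- the scalar
  have h1 := (psp_pow_eq_one_iff hn A (r * s)).mp (by rw [← hord]; exact pow_orderOf_eq_one _)
  obtain ⟨c, hc2, hAc⟩ : ∃ c : F, c ^ 2 = 1 ∧ (A : MF) ^ (r * s) = c • (1 : MF) := by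
    rcases h1 with h | h
    · exact ⟨1, one_pow _, by rw [h, one_smul]⟩
    · exact ⟨-1, by norm_num, by rw [h, neg_smul, one_smul]⟩
  let L := AlgebraicClosure F
  let f : F →+* L := algebraMap F L
  have hcL : CharP L p := charP_of_injective_algebraMap f.injective p
  set G : Matrix (Fin n ⊕ Fin n) (Fin n ⊕ Fin n) L := f.mapMatrix (A : MF) with hG
  have hGpow : ∀ j, G ^ j = f.mapMatrix ((A : MF) ^ j) := fun j => (map_pow _ _ _).symm
  have hsmul : ∀ c : F, f.mapMatrix (c • (1 : MF)) =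
      f c • (1 : Matrix (Fin n ⊕ Fin n) (Fin n ⊕ Fin n) L) := by
    intro c
    ext i j
    simp only [RingHom.mapMatrix_apply, Matrix.map_apply, Matrix.smul_apply, Matrix.one_apply,
      smul_eq_mul]
    split_ifs <;> simp
  have hGrs : G ^ (r * s) = f c • (1 : Matrix (Fin n ⊕ Fin n) (Fin n ⊕ Fin n) L) := by
    rw [hGpow, hAc, hsmul]
  have hG2 : G ^ (r * s * 2) = 1 := by
    rw [pow_mul, hGrs, _root_.smul_pow, one_pow, ← map_pow, hc2, map_one, one_smul]
  have hne : ∀ t : ℕ, ¬ r * s ∣ t → G ^ t ≠ 1 := by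
    intro t ht h
    rw [hGpow] at h
    have h2 : (A : MF) ^ t = 1 := by
      apply Matrix.map_injective f.injective
      have h3 : f.mapMatrix (1 : MF) = 1 := map_one _
      exact h.trans h3.symm
    have h3 := (psp_pow_eq_one_iff hn A t).mpr (Or.inl h2)
    have h4 := orderOf_dvd_of_pow_eq_one h3
    rw [hord] at h4
    exact ht h4
  have hrL : ∀ r' : ℕ, r'.Prime → r' ≠ p → (r' : L) ≠ 0 := by
    intro r' hr' hr'p h
    have h1 := (CharP.cast_eq_zero_iff L p r').mp h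
    exact hr'p ((Nat.prime_dvd_prime_iff_eq hp hr').mp h1).symm
  -- the two eigenvalues
  obtain ⟨x₁, hx₁root, hsum₁⟩ := exists_root_of_pow G (2 * s) r
    (by rw [show 2 * s * r = r * s * 2 from by ring]; exact hG2)
    (hne _ (by
      intro h
      have h5 : r ∣ 2 := by
        have : r * s ∣ 2 * s := h
        exact Nat.dvd_of_mul_dvd_mul_right hs.pos this
      exact hr2 ((Nat.prime_dvd_prime_iff_eq hr Nat.prime_two).mp h5)))
  obtain ⟨x₂, hx₂root, hsum₂⟩ := exists_root_of_pow G (2 * r) s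
    (by rw [show 2 * r * s = r * s * 2 from by ring]; exact hG2)
    (hne _ (by
      intro h
      have h5 : s ∣ 2 := by
        have : s * r ∣ 2 * r := by rw [mul_comm s r]; exact h
        exact Nat.dvd_of_mul_dvd_mul_right hr.pos this
      exact hs2 ((Nat.prime_dvd_prime_iff_eq hs Nat.prime_two).mp h5)))
  have hμ₁ : orderOf (x₁ ^ (2 * s)) = r := orderOf_of_geom_sum _ r hr (hrL r hr hrp) hsum₁
  have hμ₂ : orderOf (x₂ ^ (2 * r)) = s := orderOf_of_geom_sum _ s hs (hrL s hs hsp) hsum₂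
  have hroot_pow : ∀ y : L, G.charpoly.IsRoot y → (y ^ 2) ^ (r * s) = 1 := by
    intro y hy
    have := pow_eq_of_isRoot G y hy (r * s * 2) 1 (by rw [hG2, one_smul])
    rw [← pow_mul, mul_comm 2]
    exact this
  have hc₁ := orderOf_sq_cases r s hr hs x₁ (hroot_pow x₁ hx₁root) hμ₁
  have hc₂ := orderOf_sq_cases s r hs hr x₂
    (by rw [mul_comm s r]; exact hroot_pow x₂ hx₂root) hμ₂
  rcases hc₁ with ho₁ | ho₁
  · rcases hc₂ with ho₂ | ho₂
    · -- two small orbits
      obtain ⟨T₁, hT₁card, hT₁root, hT₁form⟩ :=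
        exists_root_set A x₁ hx₁root 2 r hr hr2 hrq ho₁ k ηk hk hηk
      obtain ⟨T₂, hT₂card, hT₂root, hT₂form⟩ :=
        exists_root_set A x₂ hx₂root 2 s hs hs2 hsq ho₂ l ηl hl hηl
      have hcopr : Nat.Coprime r (Fintype.card F) := (Nat.Prime.coprime_iff_not_dvd hr).mpr hrq
      have hcops : Nat.Coprime s (Fintype.card F) := (Nat.Prime.coprime_iff_not_dvd hs).mpr hsq
      have hdisj : Disjoint T₁ T₂ := by
        rw [Finset.disjoint_left]
        intro y hy1 hy2
        have h1 := orderOf_sq_of_form _ r hcopr x₁ y ho₁ (hT₁form y hy1)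
        have h2 := orderOf_sq_of_form _ s hcops x₂ y ho₂ (hT₂form y hy2)
        exact hrs (h1.symm.trans h2)
      have := card_le_of_root_set G (T₁ ∪ T₂) (fun y hy => by
        rcases Finset.mem_union.mp hy with h | h
        · exact hT₁root y h
        · exact hT₂root y h)
      rw [Finset.card_union_of_disjoint hdisj, hT₁card, hT₂card] at this
      simp only [Fintype.card_sum, Fintype.card_fin] at this
      omega
    · -- x₂ has a big orbit
      rw [mul_comm s r] at ho₂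
      exact hnot (big_orbit A x₂ hx₂root r s hr hs hr2 hs2 hrs hrq hsq ho₂ k l ηk ηl hk hl hηk hηl
        hkl hlt)
  · exact hnot (big_orbit A x₁ hx₁root r s hr hs hr2 hs2 hrs hrq hsq ho₁ k l ηk ηl hk hl hηk hηl
      hkl hlt)

end Cfsg.Agent.Helper42.SpEig
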