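import Mathlib
import Cfsg.Agent.Lib.Helper42.SpEig5
import Cfsg.Agent.Lib.Helper42.SpAbs4

set_option autoImplicit false
set_option linter.unusedSectionVars false

/-!
# Elements of order `r s` in `PSp_2n(q)`: existence
-/

namespace Cfsg.Agent.Helper42.SpEig

open Matrix Cfsg.Agent.Helper42.SpAbs

/-- `s ∣ q ^ η + 1` when the order of `q` modulo `s` is `2 η` -/
lemma dvd_pow_half_add_one (q s l η : ℕ) (hs : s.Prime) (hl : l = orderOf ((q : ℕ) : ZMod s))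
    (hη : 2 * η = l) (hl0 : 0 < l) : s ∣ q ^ η + 1 := by
  have : Fact s.Prime := ⟨hs⟩
  have h1 : (((q : ℕ) : ZMod s) ^ η) ^ 2 = 1 := by
    rw [← pow_mul, mul_comm, hη, hl, pow_orderOf_eq_one]
  have h2 : ((q : ℕ) : ZMod s) ^ η ≠ 1 := by
    intro h
    have h3 := orderOf_dvd_of_pow_eq_one h
    rw [← hl] at h3
    have := Nat.le_of_dvd (by omega) h3
    omega
  have h3 : ((q : ℕ) : ZMod s) ^ η = -1 := (sq_eq_one_iff.mp h1).resolve_left h2
  rw [← ZMod.natCast_eq_zero_iff]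
  push_cast
  rw [h3]
  ring

/-- `s ∣ q ^ (2 η) - 1` -/
lemma dvd_pow_two_eta_sub_one (q s l η : ℕ) (hq1 : 1 ≤ q) (hl : l = orderOf ((q : ℕ) : ZMod s))
    (hη : (Odd l ∧ η = l) ∨ (Even l ∧ 2 * η = l)) : s ∣ q ^ (2 * η) - 1 := by
  rw [Cfsg.Agent.Helper41.dvd_pow_sub_one_iff q s _ hq1, ← orderOf_dvd_iff_pow_eq_one, ← hl]
  rcases hη with ⟨-, h⟩ | ⟨-, h⟩
  · rw [h]
    exact Dvd.intro_left 2 rfl
  · rw [h]

variable {F : Type*} [Field F] [Fintype F] {n : ℕ}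

/-- the order of `q` modulo a prime divisor of `|PSp_2n(q)|` is small -/
lemma eta_le_of_dvd_card (s : ℕ) (hs : s.Prime) (hsq : ¬ s ∣ Fintype.card F)
    (hsG : s ∣ Nat.card (Cfsg.PSp n F)) (l ηl : ℕ)
    (hl : l = orderOf ((Fintype.card F : ℕ) : ZMod s))
    (hηl : (Odd l ∧ ηl = l) ∨ (Even l ∧ 2 * ηl = l)) : ηl ≤ n := by
  have hq1 : 1 ≤ Fintype.card F := Fintype.card_pos
  have h1 : s ∣ Nat.card (symplecticGroup (Fin n) F) :=
    hsG.trans (Subgroup.card_quotient_dvd_card _)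
  rw [Cfsg.Agent.Lead.card_symplecticGroup n, Nat.card_eq_fintype_card (α := F)] at h1
  rcases (Nat.Prime.dvd_mul hs).mp h1 with h | h
  · exact absurd (hs.dvd_of_dvd_pow h) hsq
  · obtain ⟨i, hi, hdvd⟩ := (Prime.dvd_finsetProd_iff hs.prime _).mp h
    have hi' : i < n := Finset.mem_range.mp hi
    rw [Cfsg.Agent.Helper41.dvd_pow_sub_one_iff _ s _ hq1, ← orderOf_dvd_iff_pow_eq_one, ← hl]
      at hdvd
    rcases hηl with ⟨hlo, h⟩ | ⟨-, h⟩
    · have h2 : l ∣ i + 1 :=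
        (Nat.Coprime.dvd_of_dvd_mul_left ((Nat.coprime_two_right).mpr hlo) hdvd)
      have := Nat.le_of_dvd (by omega) h2
      omega
    · rw [← h] at hdvd
      have h2 : ηl ∣ i + 1 := Nat.dvd_of_mul_dvd_mul_left (by norm_num) hdvd
      have := Nat.le_of_dvd (by omega) h2
      omega

theorem exists_elt_rs (p : ℕ) [Fact p.Prime] [CharP F p] (hn : 1 ≤ n) (r s : ℕ) (hr : r.Prime)
    (hs : s.Prime) (hr2 : r ≠ 2) (hs2 : s ≠ 2) (hrp : r ≠ p) (hsp : s ≠ p) (hrs : r ≠ s)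
    (k l ηk ηl : ℕ) (hk : k = orderOf ((Fintype.card F : ℕ) : ZMod r))
    (hl : l = orderOf ((Fintype.card F : ℕ) : ZMod s))
    (hηk : (Odd k ∧ ηk = k) ∨ (Even k ∧ 2 * ηk = k))
    (hηl : (Odd l ∧ ηl = l) ∨ (Even l ∧ 2 * ηl = l)) (hηln : ηl ≤ n)
    (h : ηk + ηl ≤ n ∨ ∃ t, Odd t ∧ l = k * t) : ∃ g : Cfsg.PSp n F, orderOf g = r * s := by
  have hp := (Fact.out : p.Prime)
  set q := Fintype.card F with hq
  have hq1 : 1 ≤ q := Fintype.card_pos
  have hnotdvd : ∀ r' : ℕ, r'.Prime → r' ≠ p → ¬ r' ∣ q := by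
    intro r' hr' hr'p
    obtain ⟨f, -, hf⟩ := FiniteField.card F p
    rw [hq, hf]
    intro h
    exact hr'p ((Nat.prime_dvd_prime_iff_eq hr' hp).mp (hr'.dvd_of_dvd_pow h))
  have hrq := hnotdvd r hr hrp
  have hsq := hnotdvd s hs hsp
  have hk0 : 0 < k := by rw [hk]; exact orderOf_pos_of_not_dvd q r hr hrq
  have hl0 : 0 < l := by rw [hl]; exact orderOf_pos_of_not_dvd q s hs hsq
  have hηk0 : 1 ≤ ηk := by
    rcases hηk with ⟨-, h⟩ | ⟨-, h⟩ <;> omega
  have hηl0 : 1 ≤ ηl := by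
    rcases hηl with ⟨-, h⟩ | ⟨-, h⟩ <;> omega
  have hro : Odd r := hr.eq_two_or_odd'.resolve_left hr2
  have hso : Odd s := hs.eq_two_or_odd'.resolve_left hs2
  have hcop : Nat.Coprime r s := (Nat.coprime_primes hr hs).mpr hrs
  rcases h with h | ⟨t, hto, hlt⟩
  · exact existA hn r s ηk ηl hr hs hr2 hs2 hrs hηk0 hηl0
      (dvd_pow_two_eta_sub_one q r k ηk hq1 hk hηk) (dvd_pow_two_eta_sub_one q s l ηl hq1 hl hηl) h
  · rcases hηl with ⟨hlo, hηl⟩ | ⟨hle, hηl⟩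
    · -- l odd: hyperbolic torus
      apply exist_hyp p hn (r * s) l (hro.mul hso) hl0 ?_ (by omega)
      apply hcop.mul_dvd_of_dvd_of_dvd
      · rw [Cfsg.Agent.Helper41.dvd_pow_sub_one_iff q r _ hq1, hlt, pow_mul, hk,
          pow_orderOf_eq_one, one_pow]
      · rw [Cfsg.Agent.Helper41.dvd_pow_sub_one_iff q s _ hq1, hl, pow_orderOf_eq_one]
    · -- l even: twisted torus
      have hke : Even k := by
        rw [hlt] at hle
        rcases Nat.even_mul.mp hle with h | h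
        · exact h
        · exact absurd h (Nat.not_even_iff_odd.mpr hto)
      have hk2 : 2 * ηk = k := by
        rcases hηk with ⟨h, -⟩ | ⟨-, h⟩
        · exact absurd hke (Nat.not_even_iff_odd.mpr h)
        · exact h
      have hηt : ηl = ηk * t := by
        have : 2 * ηl = 2 * (ηk * t) := by rw [hηl, hlt, ← hk2]; ring
        omega
      apply exist_tw p hn (r * s) ηl (hro.mul hso) hηl0 ?_ hηln
      apply hcop.mul_dvd_of_dvd_of_dvd
      · have h1 := dvd_pow_half_add_one q r k ηk hr hk hk2 hk0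
        rw [hηt, pow_mul]
        have h2 := Odd.nat_add_dvd_pow_add_pow (q ^ ηk) 1 hto
        rw [one_pow] at h2
        exact h1.trans h2
      · exact dvd_pow_half_add_one q s l ηl hs hl hηl hl0

end Cfsg.Agent.Helper42.SpEig
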