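import Mathlib
import Cfsg.Agent.Lib.Helper42.SpReg9

set_option autoImplicit false
set_option linter.unusedSectionVars false

namespace Cfsg.Agent.Helper42.SpReg

open Matrix Polynomial Module

section cayley

variable {F : Type*} [Field F] {m : ℕ}

/-- the Cayley transform of a regular nilpotent skew-adjoint matrix is a regular unipotent
symplectic matrix -/
theorem exists_regSp_of_nil (h2 : (2 : F) ≠ 0) (hm : 1 ≤ m)
    (N0 : Matrix (Fin m ⊕ Fin m) (Fin m ⊕ Fin m) F) (htau : tau N0 = -N0)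
    (hnil : N0 ^ (2 * m) = 0) (hrank : N0.rank = 2 * m - 1) : Nonempty (RegSp F m) := by
  have hQ : IsUnit (1 - N0) := IsNilpotent.isUnit_one_sub ⟨_, hnil⟩
  obtain ⟨uQ, huQ⟩ := hQ
  set Q : Matrix (Fin m ⊕ Fin m) (Fin m ⊕ Fin m) F := 1 - N0 with hQdef
  set P : Matrix (Fin m ⊕ Fin m) (Fin m ⊕ Fin m) F := 1 + N0 with hPdef
  set Qi : Matrix (Fin m ⊕ Fin m) (Fin m ⊕ Fin m) F :=
    ((uQ⁻¹ : (Matrix (Fin m ⊕ Fin m) (Fin m ⊕ Fin m) F)ˣ) :
      Matrix (Fin m ⊕ Fin m) (Fin m ⊕ Fin m) F) with hQi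
  have hQQi : Q * Qi = 1 := by rw [← huQ, hQi, Units.mul_inv]
  have hQiQ : Qi * Q = 1 := by rw [← huQ, hQi, Units.inv_mul]
  have htQ : tau Q = P := by rw [hQdef, tau_sub, tau_one, htau, hPdef, sub_neg_eq_add]
  have htP : tau P = Q := by rw [hPdef, tau_add, tau_one, htau, hQdef, sub_eq_add_neg]
  have hTP : tau Qi * P = 1 := by rw [← htQ, ← tau_mul, hQQi, tau_one]
  have hPT : P * tau Qi = 1 := mul_eq_one_comm.mp hTP
  have hPQ : P * Q = Q * P := by
    rw [hPdef, hQdef]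
    noncomm_ring
  have hQiP : Qi * P = P * Qi := by
    calc Qi * P = Qi * (P * Q) * Qi := by rw [mul_assoc, mul_assoc, hQQi, mul_one]
      _ = Qi * (Q * P) * Qi := by rw [hPQ]
      _ = P * Qi := by rw [← mul_assoc, hQiQ, one_mul]
  have hQN : Q * N0 = N0 * Q := by
    rw [hQdef]
    noncomm_ring
  have hQiN : Qi * N0 = N0 * Qi := by
    calc Qi * N0 = Qi * (N0 * Q) * Qi := by rw [mul_assoc, mul_assoc, hQQi, mul_one]
      _ = Qi * (Q * N0) * Qi := by rw [hQN]
      _ = N0 * Qi := by rw [← mul_assoc, hQiQ, one_mul]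
  have hA1 : P * Qi - 1 = N0 * ((2 : F) • Qi) := by
    calc P * Qi - 1 = P * Qi - Q * Qi := by rw [hQQi]
      _ = (P - Q) * Qi := (sub_mul P Q Qi).symm
      _ = ((2 : F) • N0) * Qi := by
          congr 1
          rw [hPdef, hQdef, two_smul]
          abel
      _ = N0 * ((2 : F) • Qi) := by rw [Matrix.smul_mul, Matrix.mul_smul]
  have hWu : IsUnit ((2 : F) • Qi) := by
    refine IsUnit.of_mul_eq_one ((2 : F)⁻¹ • Q) ?_
    rw [Matrix.smul_mul, Matrix.mul_smul, smul_smul, hQiQ, mul_inv_cancel₀ h2, one_smul]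
  refine ⟨⟨P * Qi, ?_, ?_, ?_, hm⟩⟩
  · rw [mem_symp_iff, tau_mul, htP]
    calc P * Qi * (tau Qi * Q) = Qi * P * (tau Qi * Q) := by rw [hQiP]
      _ = Qi * (P * tau Qi) * Q := by simp only [mul_assoc]
      _ = 1 := by rw [hPT, mul_one, hQiQ]
  · rw [hA1]
    have hc : Commute N0 ((2 : F) • Qi) := by
      show N0 * ((2 : F) • Qi) = ((2 : F) • Qi) * N0
      rw [Matrix.mul_smul, Matrix.smul_mul, hQiN]
    rw [hc.mul_pow, hnil, zero_mul]
  · rw [hA1, Matrix.rank_mul_eq_left_of_isUnit_det _ _ ((Matrix.isUnit_iff_isUnit_det _).mp hWu), hrank]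

theorem exists_regSp (h2 : (2 : F) ≠ 0) (hm : 1 ≤ m) : Nonempty (RegSp F m) :=
  exists_regSp_of_nil h2 hm (nil0 F m) (tau_nil0 F m) (nil0_pow F m) (nil0_rank F m hm)

end cayley

section simil

variable {F : Type*} [Field F] {m : ℕ}

/-- a similitude with multiplier `c` -/
def simil (c : F) : Matrix (Fin m ⊕ Fin m) (Fin m ⊕ Fin m) F :=
  Matrix.fromBlocks (c • (1 : Matrix (Fin m) (Fin m) F)) 0 0 1

lemma tau_simil (c : F) : tau (simil (m := m) c) =
    Matrix.fromBlocks (1 : Matrix (Fin m) (Fin m) F) 0 0 (c • (1 : Matrix (Fin m) (Fin m) F)) := by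
  unfold simil
  rw [tau_fromBlocks]
  simp

lemma tau_simil_mul (c : F) : tau (simil (m := m) c) * simil c = c • 1 := by
  rw [tau_simil]
  unfold simil
  rw [Matrix.fromBlocks_multiply, ← Matrix.fromBlocks_one, Matrix.fromBlocks_smul]
  simp

lemma simil_mul (c d : F) : simil (m := m) c * simil d = simil (c * d) := by
  unfold simil
  rw [Matrix.fromBlocks_multiply]
  simp [smul_smul, mul_comm]

lemma simil_one : simil (m := m) (1 : F) = 1 := by
  unfold simil
  rw [one_smul, Matrix.fromBlocks_one]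

lemma simil_mul_inv (c : F) (hc : c ≠ 0) : simil (m := m) c * simil c⁻¹ = 1 := by
  rw [simil_mul, mul_inv_cancel₀ hc, simil_one]

lemma simil_inv_mul (c : F) (hc : c ≠ 0) : simil (m := m) c⁻¹ * simil c = 1 := by
  rw [simil_mul, inv_mul_cancel₀ hc, simil_one]

end simil

section conj

variable {F : Type*} [Field F] {m : ℕ}

/-- any two regular unipotent symplectic matrices are conjugate under the general linear group -/
theorem RegSp.exists_conj (D D' : RegSp F m) :
    ∃ g g' : Matrix (Fin m ⊕ Fin m) (Fin m ⊕ Fin m) F, g * g' = 1 ∧ g * D.A * g' = D'.A := by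
  obtain ⟨e, he⟩ := Cfsg.Agent.Helper43.exists_linearEquiv_conj (Matrix.toLin' D.N)
    (Matrix.toLin' D'.N) (by rw [finrank_fintype_fun_eq_card]; exact D.hpos)
    (toLin'_pow_finrank D.N D.hnil') (finrank_ker_toLin'_le_one D.N D.hreg' D.hpos)
    (toLin'_pow_finrank D'.N D'.hnil') (finrank_ker_toLin'_le_one D'.N D'.hreg' D'.hpos)
  set g := LinearMap.toMatrix' e.toLinearMap with hg
  set g' := LinearMap.toMatrix' e.symm.toLinearMap with hg'
  have hgg' : g * g' = 1 := by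
    rw [hg, hg', ← LinearMap.toMatrix'_comp]
    have : e.toLinearMap ∘ₗ e.symm.toLinearMap = LinearMap.id := by
      ext x; simp
    rw [this, LinearMap.toMatrix'_id]
  have hgN : g * D.N = D'.N * g := by
    apply Matrix.toLin'.injective
    rw [Matrix.toLin'_mul, Matrix.toLin'_mul, hg, Matrix.toLin'_toMatrix']
    apply LinearMap.ext
    intro x
    exact he x
  refine ⟨g, g', hgg', ?_⟩
  rw [D.A_eq, D'.A_eq, mul_add, mul_one, add_mul, hgg', hgN, mul_assoc, hgg', mul_one]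

end conj

end Cfsg.Agent.Helper42.SpReg
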