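import Mathlib
import Cfsg.Agent.Lib.Helper42.SpReg10

set_option autoImplicit false
set_option linter.unusedSectionVars false

namespace Cfsg.Agent.Helper42.SpReg

open Matrix Polynomial Module

section final

variable {F : Type*} [Field F] {m : ℕ}

lemma simil_mul_tau (c : F) : simil (m := m) c * tau (simil c) = c • 1 := by
  rw [tau_simil]
  unfold simil
  rw [Matrix.fromBlocks_multiply, ← Matrix.fromBlocks_one, Matrix.fromBlocks_smul]
  simp

lemma conj_pow' {M : Type*} [Monoid M] (g g' X : M) (h : g * g' = 1) (h' : g' * g = 1) (k : ℕ) :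
    (g * X * g') ^ k = g * X ^ k * g' := by
  induction k with
  | zero => rw [pow_zero, pow_zero, mul_one, h]
  | succ k ih =>
    rw [pow_succ, ih, pow_succ]
    simp only [mul_assoc, cancel_l h']

/-- the twisted regular unipotent -/
def RegSp.twist (D : RegSp F m) (c : F) (hc : c ≠ 0) : RegSp F m where
  A := simil c * D.A * simil c⁻¹
  hA := by
    rw [mem_symp_iff, tau_mul, tau_mul]
    calc simil c * D.A * simil c⁻¹ * (tau (simil c⁻¹) * (tau D.A * tau (simil c)))
        = simil c * D.A * (simil c⁻¹ * tau (simil c⁻¹)) * tau D.A * tau (simil c) := by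
          simp only [mul_assoc]
      _ = c⁻¹ • (simil c * (D.A * tau D.A) * tau (simil c)) := by
          rw [simil_mul_tau]
          simp only [Matrix.mul_smul, Matrix.smul_mul, Matrix.mul_one, mul_assoc]
      _ = 1 := by
          rw [D.A_tau, mul_one, simil_mul_tau, smul_smul, inv_mul_cancel₀ hc, one_smul]
  hnil := by
    have h1 : simil c * D.A * simil c⁻¹ - 1 = simil c * (D.A - 1) * simil c⁻¹ := by
      rw [mul_sub, sub_mul, mul_one, simil_mul_inv c hc]
    rw [h1, conj_pow' _ _ _ (simil_mul_inv c hc) (simil_inv_mul c hc), D.hnil, mul_zero, zero_mul]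
  hreg := by
    have h1 : simil c * D.A * simil c⁻¹ - 1 = simil c * (D.A - 1) * simil c⁻¹ := by
      rw [mul_sub, sub_mul, mul_one, simil_mul_inv c hc]
    have hu1 : IsUnit (simil (m := m) c).det :=
      (Matrix.isUnit_iff_isUnit_det _).mp (IsUnit.of_mul_eq_one _ (simil_mul_inv c hc))
    have hu2 : IsUnit (simil (m := m) c⁻¹).det :=
      (Matrix.isUnit_iff_isUnit_det _).mp (IsUnit.of_mul_eq_one _ (simil_inv_mul c hc))
    rw [h1, Matrix.rank_mul_eq_left_of_isUnit_det _ _ hu2,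
      Matrix.rank_mul_eq_right_of_isUnit_det _ _ hu1, D.hreg]
  hm := D.hm

lemma RegSp.twist_A (D : RegSp F m) (c : F) (hc : c ≠ 0) :
    (D.twist c hc).A = simil c * D.A * simil c⁻¹ := rfl

lemma RegSp.epsFun_ne_zero (D : RegSp F m) (g g' : Matrix (Fin m ⊕ Fin m) (Fin m ⊕ Fin m) F)
    (hgg' : g * g' = 1) (hB : (g * D.A * g') * tau (g * D.A * g') = 1) :
    D.epsFun (tau g * g) ≠ 0 := by
  intro h0
  have h1 := D.mulVec_w0 ⟨tau g * g, D.z_mem g g' hgg' hB⟩
  rw [D.eps_apply] at h1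
  change (tau g * g) *ᵥ D.w0 = D.epsFun (tau g * g) • D.w0 at h1
  rw [h0, zero_smul] at h1
  have hg'g : g' * g = 1 := mul_eq_one_comm.mp hgg'
  have h2 : (g' * tau g') * (tau g * g) = 1 := by
    have : tau g' * tau g = 1 := by rw [← tau_mul, hgg', tau_one]
    simp only [mul_assoc, cancel_l this, hg'g]
  apply D.w0_ne
  calc D.w0 = ((g' * tau g') * (tau g * g)) *ᵥ D.w0 := by rw [h2, Matrix.one_mulVec]
    _ = 0 := by rw [← Matrix.mulVec_mulVec, h1, Matrix.mulVec_zero]

lemma isConj_of_matrix (u v : ↥(symplecticGroup (Fin m) F))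
    (h : Matrix (Fin m ⊕ Fin m) (Fin m ⊕ Fin m) F) (hh : h * tau h = 1)
    (hc : h * u.1 = v.1 * h) : ConjClasses.mk u = ConjClasses.mk v := by
  rw [ConjClasses.mk_eq_mk_iff_isConj, isConj_iff]
  refine ⟨⟨h, (mem_symp_iff h).mpr hh⟩, ?_⟩
  rw [mul_inv_eq_iff_eq_mul]
  apply Subtype.ext
  exact hc

theorem card_classes [Fintype F] (hq : Odd (Fintype.card F)) (hm : 1 ≤ m) :
    Nat.card {C : ConjClasses ↥(symplecticGroup (Fin m) F) //
      ∃ u : symplecticGroup (Fin m) F, ConjClasses.mk u = C ∧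
        ((u : Matrix (Fin m ⊕ Fin m) (Fin m ⊕ Fin m) F) - 1) ^ (2 * m) = 0 ∧
        ((u : Matrix (Fin m ⊕ Fin m) (Fin m ⊕ Fin m) F) - 1).rank = 2 * m - 1} = 2 := by
  classical
  have h2 : (2 : F) ≠ 0 := two_ne_zero_of_odd hq
  have hchar : ringChar F ≠ 2 := by
    intro h
    rw [FiniteField.even_card_iff_char_two] at h
    rcases hq with ⟨k, hk⟩
    omega
  obtain ⟨D₀⟩ := exists_regSp (F := F) h2 hm
  obtain ⟨c, hc⟩ := FiniteField.exists_nonsquare hchar
  have hc0 : c ≠ 0 := by
    rintro rfl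
    exact hc ⟨0, by ring⟩
  set D₁ := D₀.twist c hc0 with hD₁
  rw [Nat.card_eq_two_iff]
  refine ⟨⟨ConjClasses.mk D₀.u, D₀.u, rfl, D₀.hnil, D₀.hreg⟩,
    ⟨ConjClasses.mk D₁.u, D₁.u, rfl, D₁.hnil, D₁.hreg⟩, ?_, ?_⟩
  · intro heq
    have heq' : ConjClasses.mk D₀.u = ConjClasses.mk D₁.u := congrArg Subtype.val heq
    rw [ConjClasses.mk_eq_mk_iff_isConj, isConj_iff] at heq'
    obtain ⟨h, hh⟩ := heq'
    rw [mul_inv_eq_iff_eq_mul] at hh
    have hh' : h.1 * D₀.A = (simil c * D₀.A * simil c⁻¹) * h.1 := congrArg Subtype.val hh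
    exact D₀.not_symp_conj c hc (simil c) (simil c⁻¹) (simil_mul_inv c hc0) (tau_simil_mul c) h.1
      ((mem_symp_iff _).mp h.2) hh'
  · rw [Set.eq_univ_iff_forall]
    rintro ⟨C, u, rfl, hn, hr⟩
    set Du : RegSp F m := ⟨u.1, u.2, hn, hr, hm⟩ with hDu
    obtain ⟨g, g', hgg', hgA⟩ := D₀.exists_conj Du
    have hB : (g * D₀.A * g') * tau (g * D₀.A * g') = 1 := by
      rw [hgA]; exact Du.A_tau
    have he := D₀.epsFun_ne_zero g g' hgg' hB
    by_cases hsq : IsSquare (D₀.epsFun (tau g * g))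
    · obtain ⟨a, ha⟩ := hsq
      have ha0 : a ≠ 0 := by
        rintro rfl
        rw [mul_zero] at ha
        exact he ha
      obtain ⟨h, hh, hconj⟩ := D₀.exists_symp_conj hq g g' hgg' hB 1 one_ne_zero 1 1 (one_mul 1)
        (by rw [tau_one, one_mul, inv_one, one_smul]) a ha0 (by rw [one_mul]; exact ha)
      rw [one_mul, mul_one, hgA] at hconj
      left
      apply Subtype.ext
      show ConjClasses.mk u = ConjClasses.mk D₀.u
      exact (isConj_of_matrix D₀.u u h hh hconj).symm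
    · have hsq' : IsSquare (D₀.epsFun (tau g * g) * c) := by
        rw [← quadraticChar_one_iff_isSquare (mul_ne_zero he hc0), map_mul,
          quadraticChar_neg_one_iff_not_isSquare.mpr hsq,
          quadraticChar_neg_one_iff_not_isSquare.mpr hc]
        norm_num
      obtain ⟨b, hb⟩ := hsq'
      have hb0 : b ≠ 0 := by
        rintro rfl
        rw [mul_zero] at hb
        exact (mul_ne_zero he hc0) hb
      obtain ⟨h, hh, hconj⟩ := D₀.exists_symp_conj hq g g' hgg' hB c hc0 (simil c) (simil c⁻¹)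
        (simil_inv_mul c hc0) (tau_simil_mul c⁻¹) (b / c) (div_ne_zero hb0 hc0) (by
          field_simp
          rw [hb]; ring)
      rw [hgA] at hconj
      right
      apply Subtype.ext
      show ConjClasses.mk u = ConjClasses.mk D₁.u
      exact (isConj_of_matrix D₁.u u h hh hconj).symm

end final

end Cfsg.Agent.Helper42.SpReg
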