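import Mathlib

set_option autoImplicit false

namespace Cfsg.Agent.Helper42

theorem orderOf_eq_of_forall_pow_iff {X : Type*} [Monoid X] (x : X) (N : ℕ)
    (h : ∀ M : ℕ, x ^ M = 1 ↔ N ∣ M) : orderOf x = N := by
  apply Nat.dvd_antisymm
  · rw [orderOf_dvd_iff_pow_eq_one, h]
  · rw [← h]; exact pow_orderOf_eq_one x

theorem orderOf_eq_of_pow_iff_pow {X Y : Type*} [Monoid X] [Monoid Y] (x : X) (y : Y)
    (h : ∀ N : ℕ, x ^ N = 1 ↔ y ^ N = 1) : orderOf x = orderOf y := by
  apply Nat.dvd_antisymm
  · rw [orderOf_dvd_iff_pow_eq_one, h, ← orderOf_dvd_iff_pow_eq_one]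
  · rw [orderOf_dvd_iff_pow_eq_one, ← h, ← orderOf_dvd_iff_pow_eq_one]

theorem pi_pow_eq_one_iff {ι X : Type*} [Monoid X] (f : ι → X) (N : ℕ) :
    f ^ N = 1 ↔ ∀ i, f i ^ N = 1 := by
  constructor
  · intro h i
    have := congrFun h i
    simpa using this
  · intro h
    funext i
    simpa using h i

theorem prod_prime_pow_dvd (s : Finset ℕ) (hs : ∀ p ∈ s, p.Prime) (e : ℕ → ℕ) (z : ℕ)
    (h : ∀ p ∈ s, p ^ (e p) ∣ z) : ∏ p ∈ s, p ^ (e p) ∣ z := by
  classical
  induction s using Finset.induction_on with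
  | empty => simp
  | insert a s ha ih =>
    rw [Finset.prod_insert ha]
    apply Nat.Coprime.mul_dvd_of_dvd_of_dvd
    · apply Nat.Coprime.prod_right
      intro p hp
      apply Nat.Coprime.pow
      rw [Nat.coprime_primes (hs a (Finset.mem_insert_self a s)) (hs p (Finset.mem_insert_of_mem hp))]
      rintro rfl
      exact ha hp
    · exact h a (Finset.mem_insert_self a s)
    · exact ih (fun p hp => hs p (Finset.mem_insert_of_mem hp))
        (fun p hp => h p (Finset.mem_insert_of_mem hp))

theorem exists_orderOf_prime_pow_of_pi {ι E : Type*} [Group E] (x : ι → E) (p j : ℕ)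
    (hp : p.Prime) (hj : 1 ≤ j) (hpos : 0 < orderOf x) (hdvd : p ^ j ∣ orderOf x) :
    ∃ h : E, orderOf h = p ^ j := by
  obtain ⟨j', rfl⟩ : ∃ j', j = j' + 1 := ⟨j - 1, by omega⟩
  have hp' : Fact p.Prime := ⟨hp⟩
  set z := x ^ (orderOf x / p ^ (j' + 1)) with hz
  have hzo : orderOf z = p ^ (j' + 1) := orderOf_pow_orderOf_div hpos.ne' hdvd
  have h1 : z ^ p ^ (j' + 1) = 1 := by rw [← hzo]; exact pow_orderOf_eq_one z
  have h2 : ¬ z ^ p ^ j' = 1 := by
    intro h
    have := orderOf_dvd_of_pow_eq_one h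
    rw [hzo] at this
    have := (Nat.pow_dvd_pow_iff_le_right hp.one_lt).mp this
    omega
  rw [pi_pow_eq_one_iff] at h1 h2
  push Not at h2
  obtain ⟨i, hi⟩ := h2
  exact ⟨z i, orderOf_eq_prime_pow hi (h1 i)⟩

theorem spec_stab {E : Type*} [Group E] [Finite E] {I : Type*} [Fintype I] [Nonempty I]
    (N : I → ℕ)
    (h1 : ∀ b, ∃ g : E, orderOf g = N b)
    (h2 : ∀ p j : ℕ, p.Prime → 1 ≤ j → (∃ h : E, orderOf h = p ^ j) → ∃ b, p ^ j ∣ N b)
    (k₀ k : ℕ) (hk₀ : k₀ = Fintype.card I) (hk : k₀ ≤ k) :
    Set.range (orderOf : (Fin k → E) → ℕ) = Set.range (orderOf : (Fin k₀ → E) → ℕ) := by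
  classical
  apply Set.eq_of_subset_of_subset
  · rintro _ ⟨x, rfl⟩
    set m := orderOf x with hm
    have hpos : 0 < m := orderOf_pos x
    have hex : ∀ p : ℕ, ∃ b : I, p ∈ m.primeFactors → p ^ (m.factorization p) ∣ N b := by
      intro p
      by_cases hpm : p ∈ m.primeFactors
      · have hpp : p.Prime := Nat.prime_of_mem_primeFactors hpm
        have hpd : p ∣ m := Nat.dvd_of_mem_primeFactors hpm
        have he : 1 ≤ m.factorization p :=
          (hpp.factorization_pos_of_dvd hpos.ne' hpd)
        have hd : p ^ (m.factorization p) ∣ m := Nat.ordProj_dvd m p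
        obtain ⟨h, hh⟩ := exists_orderOf_prime_pow_of_pi x p _ hpp he hpos hd
        obtain ⟨b, hb⟩ := h2 p _ hpp he ⟨h, hh⟩
        exact ⟨b, fun _ => hb⟩
      · exact ⟨Classical.arbitrary I, fun h => absurd h hpm⟩
    choose bk hbk using hex
    set C : I → ℕ := fun b => ∏ p ∈ m.primeFactors.filter (fun p => bk p = b),
      p ^ (m.factorization p) with hC
    have hprime : ∀ b, ∀ p ∈ m.primeFactors.filter (fun p => bk p = b), p.Prime := by
      intro b p hp
      exact Nat.prime_of_mem_primeFactors (Finset.mem_filter.mp hp).1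
    have hF1 : ∀ b, C b ∣ N b := by
      intro b
      apply prod_prime_pow_dvd _ (hprime b)
      intro p hp
      rw [Finset.mem_filter] at hp
      have := hbk p hp.1
      rwa [hp.2] at this
    have hmprod : m = ∏ p ∈ m.primeFactors, p ^ (m.factorization p) := by
      conv_lhs => rw [← Nat.prod_factorization_pow_eq_self hpos.ne']
      rw [Nat.prod_factorization_eq_prod_primeFactors]
    have hF2 : ∀ b, C b ∣ m := by
      intro b
      apply prod_prime_pow_dvd _ (hprime b)
      intro p hp
      exact Nat.ordProj_dvd m p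
    have hF3 : ∀ p ∈ m.primeFactors, p ^ (m.factorization p) ∣ C (bk p) := by
      intro p hp
      apply Finset.dvd_prod_of_mem (fun p => p ^ (m.factorization p))
      rw [Finset.mem_filter]
      exact ⟨hp, rfl⟩
    choose g hg using h1
    have hNpos : ∀ b, 0 < N b := fun b => by rw [← hg b]; exact orderOf_pos _
    set y : I → E := fun b => (g b) ^ (N b / C b) with hy
    have hyo : ∀ b, orderOf (y b) = C b := by
      intro b
      have := orderOf_pow_orderOf_div (x := g b) (n := C b) (by rw [hg b]; exact (hNpos b).ne')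
        (by rw [hg b]; exact hF1 b)
      rw [hg b] at this
      exact this
    let eqv : Fin k₀ ≃ I := (Fintype.equivFinOfCardEq hk₀.symm).symm
    refine ⟨fun i => y (eqv i), ?_⟩
    apply orderOf_eq_of_forall_pow_iff
    intro M
    rw [pi_pow_eq_one_iff]
    constructor
    · intro h
      have h' : ∀ b, C b ∣ M := by
        intro b
        have := h (eqv.symm b)
        rw [Equiv.apply_symm_apply] at this
        rw [← hyo b]
        exact orderOf_dvd_of_pow_eq_one this
      rw [hmprod]
      apply prod_prime_pow_dvd _ (fun p hp => Nat.prime_of_mem_primeFactors hp)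
      intro p hp
      exact (hF3 p hp).trans (h' _)
    · intro h i
      apply orderOf_dvd_iff_pow_eq_one.mp
      rw [hyo]
      exact (hF2 _).trans h
  · rintro _ ⟨x, rfl⟩
    refine ⟨fun i => if h : i.val < k₀ then x ⟨i.val, h⟩ else 1, ?_⟩
    apply orderOf_eq_of_pow_iff_pow
    intro M
    rw [pi_pow_eq_one_iff, pi_pow_eq_one_iff]
    constructor
    · intro h i
      have := h ⟨i.val, lt_of_lt_of_le i.2 hk⟩
      simp only [i.2, dite_true] at this
      exact this
    · intro h i
      by_cases hi : i.val < k₀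
      · simp only [hi, dite_true]
        exact h _
      · simp only [hi, dite_false, one_pow]

end Cfsg.Agent.Helper42
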