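import Mathlib
import Cfsg.Prelude.Def_GeometricClasses
import Cfsg.Agent.Lib.Helper42.JordanSub2

set_option autoImplicit false
set_option linter.unusedSectionVars false
set_option linter.unusedVariables false
set_option linter.style.haveILetI false

/-!
# The index of the subfield subgroup of odd degree in odd characteristic is odd
-/

namespace Cfsg.Agent.Helper42.SubfieldIdx

open Matrix Cfsg.Geo Cfsg.Agent.Helper42.JordanSub

universe u

/-- `|GL_n(F)| = (q - 1) |SL_n(F)|` (as in `Cfsg.Agent.S0242`) -/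
theorem card_GL_eq' {F : Type*} [Field F] [Fintype F] (n : ℕ) (hn : 1 ≤ n) :
    Nat.card (GL (Fin n) F) =
      (Fintype.card F - 1) * Nat.card (Matrix.SpecialLinearGroup (Fin n) F) := by
  classical
  haveI : Nonempty (Fin n) := ⟨⟨0, hn⟩⟩
  have hsurj : Function.Surjective (GeneralLinearGroup.det : GL (Fin n) F →* Fˣ) :=
    GeneralLinearGroup.det_surjective
  have h1 : Nat.card (GL (Fin n) F) =
      Nat.card (GL (Fin n) F ⧸ (GeneralLinearGroup.det : GL (Fin n) F →* Fˣ).ker) *
        Nat.card (GeneralLinearGroup.det : GL (Fin n) F →* Fˣ).ker :=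
    Subgroup.card_eq_card_quotient_mul_card_subgroup _
  have h2 : Nat.card (GL (Fin n) F ⧸ (GeneralLinearGroup.det : GL (Fin n) F →* Fˣ).ker) =
      Nat.card Fˣ :=
    Nat.card_congr (QuotientGroup.quotientKerEquivOfSurjective _ hsurj).toEquiv
  have h3 : Nat.card Fˣ = Fintype.card F - 1 := by
    rw [Nat.card_eq_fintype_card, Fintype.card_units]
  have h4 : Nat.card (GeneralLinearGroup.det : GL (Fin n) F →* Fˣ).ker =
      Nat.card (Matrix.SpecialLinearGroup (Fin n) F) := by
    have hr : (SpecialLinearGroup.toGL : SpecialLinearGroup (Fin n) F →* GL (Fin n) F).range =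
        (GeneralLinearGroup.det : GL (Fin n) F →* Fˣ).ker := by
      ext g
      rw [MonoidHom.mem_range, MonoidHom.mem_ker]
      constructor
      · rintro ⟨A, rfl⟩
        ext
        simp [SpecialLinearGroup.toGL]
      · intro hg
        have hd : (g : Matrix (Fin n) (Fin n) F).det = 1 := by
          have := congrArg Units.val hg
          simpa using this
        refine ⟨⟨g.1, hd⟩, ?_⟩
        ext i j
        simp [SpecialLinearGroup.toGL]
    rw [← hr]
    exact (Nat.card_congr (MonoidHom.ofInjective SpecialLinearGroup.toGL_injective).toEquiv).symm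
  rw [h1, h2, h3, h4]

/-- order formula of the special linear group -/
theorem card_sl_mul {F : Type*} [Field F] [Fintype F] (n : ℕ) (hn : 1 ≤ n) :
    (Fintype.card F - 1) * Nat.card (Matrix.SpecialLinearGroup (Fin n) F) =
      ∏ i : Fin n, (Fintype.card F ^ n - Fintype.card F ^ (i : ℕ)) := by
  rw [← card_GL_eq' n hn, Matrix.card_GL_field]

/-- the geometric sum -/
def gsum (x k : ℕ) : ℕ := ∑ i ∈ Finset.range k, x ^ i

lemma pow_sub_one_eq (x k : ℕ) (hx : 1 ≤ x) : x ^ k - 1 = gsum x k * (x - 1) := by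
  have := geom_sum_mul_add (x - 1) k
  rw [Nat.sub_add_cancel hx] at this
  unfold gsum
  omega

lemma odd_gsum (x k : ℕ) (hx : Odd x) (hk : Odd k) : Odd (gsum x k) := by
  unfold gsum
  rw [Finset.odd_sum_iff_odd_card_odd]
  have : (Finset.range k).filter (fun i => Odd (x ^ i)) = Finset.range k := by
    apply Finset.filter_true_of_mem
    intro i _
    exact hx.pow
  rw [this, Finset.card_range]
  exact hk

/-- the factor `q^n - q^i` for `q = q₀^k` -/
lemma factor_eq (q₀ k n i : ℕ) (hq₀ : 1 ≤ q₀) (hi : i < n) :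
    (q₀ ^ k) ^ n - (q₀ ^ k) ^ i =
      (q₀ ^ n - q₀ ^ i) * (q₀ ^ ((k - 1) * i) * gsum (q₀ ^ (n - i)) k) := by
  rcases Nat.eq_zero_or_pos k with rfl | hk
  · simp [gsum]
  have h1 : (q₀ ^ k) ^ n - (q₀ ^ k) ^ i = (q₀ ^ k) ^ i * ((q₀ ^ (n - i)) ^ k - 1) := by
    rw [Nat.mul_sub, mul_one]
    congr 1
    rw [← pow_mul, ← pow_mul, ← pow_mul, ← pow_add]
    congr 1
    have : n = i + (n - i) := by omega
    conv_lhs => rw [this]
    ring
  have h2 : q₀ ^ n - q₀ ^ i = q₀ ^ i * (q₀ ^ (n - i) - 1) := by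
    rw [Nat.mul_sub, mul_one, ← pow_add]
    congr 2
    omega
  have h3 : (q₀ ^ k) ^ i = q₀ ^ i * q₀ ^ ((k - 1) * i) := by
    rw [← pow_mul, ← pow_add]
    congr 1
    have : k = 1 + (k - 1) := by omega
    conv_lhs => rw [this]
    ring
  rw [h1, h2, h3, pow_sub_one_eq _ k (Nat.one_le_pow _ _ hq₀)]
  ring

/-- the index of the subfield subgroup divides an odd number when `q` and `k` are odd -/
theorem odd_index {F : Type u} [Field F] [Fintype F] (n : ℕ) (hn : 1 ≤ n) (F₀ : Subfield F)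
    (k q₀ : ℕ) (hkodd : Odd k) (hF₀ : Nat.card F₀ = q₀) (hqk : Fintype.card F = q₀ ^ k)
    (hqodd : Odd (Fintype.card F)) :
    Odd ((subfieldSubgroup F₀ (1 : GL (Fin n) F)).comap
      (Matrix.SpecialLinearGroup.toGL :
        Matrix.SpecialLinearGroup (Fin n) F →* GL (Fin n) F)).index := by
  classical
  haveI : Fintype F₀ := Fintype.ofFinite _
  have hq₀c : Fintype.card F₀ = q₀ := by rw [← hF₀, Nat.card_eq_fintype_card]
  have hk0 : k ≠ 0 := by
    rintro rfl
    exact absurd hkodd (by decide)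
  have hq₀odd : Odd q₀ := by
    rw [hqk] at hqodd
    obtain ⟨j, rfl⟩ := Nat.exists_eq_succ_of_ne_zero hk0
    rw [pow_succ] at hqodd
    exact Nat.Odd.of_mul_right hqodd
  have hq₀1 : 1 ≤ q₀ := by
    rcases hq₀odd with ⟨j, hj⟩
    omega
  have hq₀2 : 2 ≤ q₀ := by
    rw [← hq₀c]
    exact Fintype.one_lt_card
  set H := (subfieldSubgroup F₀ (1 : GL (Fin n) F)).comap
      (Matrix.SpecialLinearGroup.toGL :
        Matrix.SpecialLinearGroup (Fin n) F →* GL (Fin n) F) with hH
  set φ : Matrix.SpecialLinearGroup (Fin n) F₀ →* Matrix.SpecialLinearGroup (Fin n) F :=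
    Matrix.SpecialLinearGroup.map (F₀.subtype : F₀ →+* F) with hφ
  have hφinj : Function.Injective φ := by
    intro A B hAB
    apply Subtype.ext
    have h1 := congrArg (fun X : Matrix.SpecialLinearGroup (Fin n) F =>
      (X : Matrix (Fin n) (Fin n) F)) hAB
    simp only [hφ, Matrix.SpecialLinearGroup.map_apply_coe, RingHom.mapMatrix_apply] at h1
    exact Matrix.map_injective F₀.subtype.injective h1
  set Kk : Subgroup (Matrix.SpecialLinearGroup (Fin n) F) := φ.range with hKk
  have hKH : Kk ≤ H := by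
    rintro _ ⟨Y, rfl⟩
    rw [hH, Subgroup.mem_comap, mem_subfield_one_iff]
    refine ⟨Matrix.SpecialLinearGroup.toGL Y, 1, ?_⟩
    simp only [Units.val_one, one_smul, Matrix.mul_one]
    rfl
  have hKcard : Nat.card Kk = Nat.card (Matrix.SpecialLinearGroup (Fin n) F₀) :=
    (Nat.card_congr (MonoidHom.ofInjective hφinj).toEquiv).symm
  have hidx : Kk.index * Nat.card (Matrix.SpecialLinearGroup (Fin n) F₀) =
      Nat.card (Matrix.SpecialLinearGroup (Fin n) F) := by
    rw [← hKcard]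
    exact Subgroup.index_mul_card Kk
  have hdvd : H.index ∣ Kk.index := Subgroup.index_dvd_of_le hKH
  -- order formulas
  have hA := card_sl_mul (F := F) n hn
  have hA₀ := card_sl_mul (F := F₀) n hn
  rw [hq₀c] at hA₀
  rw [hqk] at hA
  set R : ℕ := ∏ i : Fin n, (q₀ ^ ((k - 1) * (i : ℕ)) * gsum (q₀ ^ (n - (i : ℕ))) k) with hR
  have hprod : ∏ i : Fin n, ((q₀ ^ k) ^ n - (q₀ ^ k) ^ (i : ℕ)) =
      (∏ i : Fin n, (q₀ ^ n - q₀ ^ (i : ℕ))) * R := by
    rw [hR, ← Finset.prod_mul_distrib]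
    apply Finset.prod_congr rfl
    intro i _
    exact factor_eq q₀ k n i hq₀1 i.2
  have hRodd : Odd R := by
    rw [hR]
    apply Finset.prod_induction _ Odd
    · intro a b ha hb
      exact ha.mul hb
    · exact odd_one
    · intro i _
      exact (hq₀odd.pow).mul (odd_gsum _ k hq₀odd.pow hkodd)
  have hq1 : q₀ ^ k - 1 = gsum q₀ k * (q₀ - 1) := pow_sub_one_eq q₀ k hq₀1
  set e := gsum q₀ k with he
  have heodd : Odd e := odd_gsum q₀ k hq₀odd hkodd
  set S := Nat.card (Matrix.SpecialLinearGroup (Fin n) F) with hS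
  set S₀ := Nat.card (Matrix.SpecialLinearGroup (Fin n) F₀) with hS₀
  -- `e * S = S₀ * R`
  have h5 : (q₀ - 1) * (e * S) = (q₀ - 1) * (S₀ * R) := by
    calc (q₀ - 1) * (e * S) = (q₀ ^ k - 1) * S := by rw [hq1]; ring
      _ = (∏ i : Fin n, (q₀ ^ n - q₀ ^ (i : ℕ))) * R := by rw [hA, hprod]
      _ = (q₀ - 1) * (S₀ * R) := by rw [← hA₀]; ring
  have h6 : e * S = S₀ * R := Nat.eq_of_mul_eq_mul_left (by omega) h5
  have hS₀pos : 0 < S₀ := Nat.card_pos
  have h7 : e * Kk.index = R := by
    have : S₀ * (e * Kk.index) = S₀ * R := by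
      rw [← h6, ← hidx]
      ring
    exact Nat.eq_of_mul_eq_mul_left hS₀pos this
  have h8 : Odd Kk.index := by
    rw [← h7] at hRodd
    exact Nat.Odd.of_mul_right hRodd
  obtain ⟨j, hj⟩ := hdvd
  rw [hj] at h8
  exact Nat.Odd.of_mul_left h8

end Cfsg.Agent.Helper42.SubfieldIdx
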