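import Mathlib
import Cfsg.Prelude.Def_GeometricClasses
import Cfsg.Agent.Lib.Helper42.Jordan6
import Cfsg.Agent.Lib.Helper42.JordanSub3

set_option autoImplicit false
set_option linter.unusedSectionVars false
set_option linter.unusedVariables false
set_option linter.style.haveILetI false

/-!
# Involutions in characteristic two are conjugate into subfield subgroups
-/

namespace Cfsg.Agent.Helper42.SubfieldIdx

open Matrix Cfsg.Geo Cfsg.Agent.Helper42.Jordan Cfsg.Agent.Helper42.JordanSub

universe u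

/-- in characteristic two, an element of determinant one whose square is a scalar is conjugate,
by an element of determinant one, into the subfield subgroup -/
theorem conj_into_subfield_two {F : Type u} [Field F] [Fintype F] [CharP F 2] {n : ℕ}
    (hn : 2 ≤ n) (F₀ : Subfield F) (x : Matrix.SpecialLinearGroup (Fin n) F) (z : F)
    (hx2 : ((x ^ 2 : Matrix.SpecialLinearGroup (Fin n) F) : Matrix (Fin n) (Fin n) F) =
      z • (1 : Matrix (Fin n) (Fin n) F)) :
    ∃ P : Matrix.SpecialLinearGroup (Fin n) F,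
      P⁻¹ * x * P ∈ (subfieldSubgroup F₀ (1 : GL (Fin n) F)).comap
        (Matrix.SpecialLinearGroup.toGL : Matrix.SpecialLinearGroup (Fin n) F →* GL (Fin n) F) := by
  classical
  haveI : Fact (Nat.Prime 2) := ⟨Nat.prime_two⟩
  haveI : Nonempty (Fin n) := ⟨⟨0, by omega⟩⟩
  set X : Matrix (Fin n) (Fin n) F := (x : Matrix (Fin n) (Fin n) F) with hX
  have hX2 : X ^ 2 = z • (1 : Matrix (Fin n) (Fin n) F) := by
    rw [← hx2]
    rfl
  have hz : z ≠ 0 := by
    rintro rfl
    have h1 : (X ^ 2).det = 0 := by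
      rw [hX2, zero_smul, Matrix.det_zero]
    rw [Matrix.det_pow] at h1
    have h2 : X.det = 1 := x.2
    rw [h2, one_pow] at h1
    exact one_ne_zero h1
  obtain ⟨c, hc2⟩ := surjective_frobenius F 2 z
  rw [frobenius_def] at hc2
  have hc : c ≠ 0 := by
    rintro rfl
    apply hz
    rw [← hc2]
    simp
  set N : Matrix (Fin n) (Fin n) F := c⁻¹ • X - 1 with hN
  have hN2 : N ^ 2 = 0 := by
    have h1 := sub_one_pow_char 2 (c⁻¹ • X) 1
    rw [pow_one] at h1
    rw [hN, h1, _root_.smul_pow, hX2, smul_smul, inv_pow, hc2, inv_mul_cancel₀ hz, one_smul, sub_self]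
  have hNnil : IsNilpotent N := ⟨2, hN2⟩
  obtain ⟨t, d, e, Q, hd0, hmrk, hQ⟩ := normal_form N hNnil
  have hd2 : ∀ k, d k ≤ 2 := by
    have h1 : mrk N 2 = 0 := (mrk_eq_zero_iff N 2).mpr hN2
    rw [hmrk] at h1
    intro k
    have h2 := (Finset.sum_eq_zero_iff.mp h1) k (Finset.mem_univ _)
    omega
  have hsum : ∑ k, d k = n := by
    have h1 := Fintype.card_congr e
    rw [Fintype.card_sigma] at h1
    simpa using h1
  have i₀ : Fin n := ⟨0, by omega⟩
  by_cases h1 : ∃ k₀, d k₀ = 1
  · obtain ⟨k₀, hk₀⟩ := h1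
    refine exists_sl_conj F₀ x c hc d e Q hQ (Function.update (fun _ => (1 : F)) k₀ Q.val.det) 1
      one_ne_zero i₀ ?_
    rw [prod_update_pow, hk₀, pow_one]
    simp
  · have hd2' : ∀ k, d k = 2 := by
      intro k
      have := hd0 k
      have := hd2 k
      have h1' : d k ≠ 1 := fun h' => h1 ⟨k, h'⟩
      omega
    have ht : 0 < t := by
      rcases Nat.eq_zero_or_pos t with rfl | ht
      · simp at hsum
        omega
      · exact ht
    obtain ⟨r, hr⟩ := surjective_frobenius F 2 Q.val.det
    rw [frobenius_def] at hr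
    refine exists_sl_conj F₀ x c hc d e Q hQ (Function.update (fun _ => (1 : F)) ⟨0, ht⟩ r) 1
      one_ne_zero i₀ ?_
    rw [prod_update_pow, hd2', hr]
    simp

end Cfsg.Agent.Helper42.SubfieldIdx
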