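import Mathlib
import Cfsg.Prelude.Def_GeometricClasses
import Cfsg.Agent.Lib.Helper42.JordanSub2

set_option autoImplicit false
set_option linter.unusedSectionVars false
set_option linter.unusedVariables false
set_option linter.style.haveILetI false

/-!
# Diagonalizing involutions in odd characteristic and conjugating them into subfield subgroups
-/

namespace Cfsg.Agent.Helper42.SubfieldIdx

open Matrix Cfsg.Geo Cfsg.Agent.Helper42.JordanSub Module

universe u

/-- a matrix with square one is diagonalizable with diagonal entries `±1` in characteristic not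
two -/
lemma exists_diag_of_sq_one {F : Type u} [Field F] (h2 : (2 : F) ≠ 0) {n : ℕ}
    (y : Matrix (Fin n) (Fin n) F) (hy : y * y = 1) :
    ∃ (g g' : Matrix (Fin n) (Fin n) F) (s : Fin n → F), g * g' = 1 ∧ g' * g = 1 ∧
      (∀ i, s i = 1 ∨ s i = -1) ∧ y * g = g * Matrix.diagonal s := by
  classical
  set f : (Fin n → F) →ₗ[F] (Fin n → F) := Matrix.toLin' y with hf
  have hff : ∀ v, f (f v) = v := by
    intro v
    have : f ∘ₗ f = LinearMap.id := by rw [hf, ← Matrix.toLin'_mul, hy, Matrix.toLin'_one]
    exact LinearMap.congr_fun this v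
  set Ep : Submodule F (Fin n → F) := LinearMap.ker (f - LinearMap.id) with hEp
  set Em : Submodule F (Fin n → F) := LinearMap.ker (f + LinearMap.id) with hEm
  have hEp' : ∀ v, v ∈ Ep ↔ f v = v := by
    intro v
    rw [hEp, LinearMap.mem_ker, LinearMap.sub_apply, LinearMap.id_apply, sub_eq_zero]
  have hEm' : ∀ v, v ∈ Em ↔ f v = -v := by
    intro v
    rw [hEm, LinearMap.mem_ker, LinearMap.add_apply, LinearMap.id_apply, add_eq_zero_iff_eq_neg]
  have hcompl : IsCompl Ep Em := by
    constructor
    · rw [Submodule.disjoint_def]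
      intro v hp hm
      rw [hEp'] at hp
      rw [hEm'] at hm
      have h3 : (2 : F) • v = 0 := by
        rw [two_smul]
        nth_rewrite 1 [← hp]
        rw [hm]
        simp
      rcases smul_eq_zero.mp h3 with h4 | h4
      · exact absurd h4 h2
      · exact h4
    · rw [Submodule.codisjoint_iff_exists_add_eq]
      intro v
      refine ⟨(2 : F)⁻¹ • (v + f v), (2 : F)⁻¹ • (v - f v), ?_, ?_, ?_⟩
      · rw [hEp', map_smul, map_add, hff, add_comm]
      · rw [hEm', map_smul, map_sub, hff, ← smul_neg, neg_sub]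
      · rw [← smul_add]
        have : v + f v + (v - f v) = (2 : F) • v := by
          rw [two_smul]
          abel
        rw [this, smul_smul, inv_mul_cancel₀ h2, one_smul]
  set b := ((Module.finBasis F Ep).prod (Module.finBasis F Em)).map
    (Submodule.prodEquivOfIsCompl Ep Em hcompl) with hb
  have hcard : Fintype.card (Fin (finrank F Ep) ⊕ Fin (finrank F Em)) = n := by
    have h1 := Module.finrank_eq_card_basis b
    rw [Module.finrank_fin_fun] at h1
    exact h1.symm
  set ε := Fintype.equivFinOfCardEq hcard with hε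
  set b' := b.reindex ε with hb'
  set s : Fin n → F := fun i => Sum.elim (fun _ => (1 : F)) (fun _ => (-1 : F)) (ε.symm i) with hs
  have hfb : ∀ i, f (b' i) = s i • b' i := by
    intro i
    rw [hb', Module.Basis.reindex_apply]
    have hsi : s i = Sum.elim (fun _ => (1 : F)) (fun _ => (-1 : F)) (ε.symm i) := rfl
    rw [hsi]
    rcases ε.symm i with k | k
    · have h1 : b (Sum.inl k) = ((Module.finBasis F Ep k : Ep) : Fin n → F) := by
        rw [hb, Module.Basis.map_apply, Module.Basis.prod_apply]
        simp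
      rw [h1, Sum.elim_inl, one_smul]
      exact (hEp' _).mp (Module.finBasis F Ep k).2
    · have h1 : b (Sum.inr k) = ((Module.finBasis F Em k : Em) : Fin n → F) := by
        rw [hb, Module.Basis.map_apply, Module.Basis.prod_apply]
        simp
      rw [h1, Sum.elim_inr, neg_smul, one_smul]
      exact (hEm' _).mp (Module.finBasis F Em k).2
  refine ⟨(Pi.basisFun F (Fin n)).toMatrix b', b'.toMatrix (Pi.basisFun F (Fin n)), s,
    Module.Basis.toMatrix_mul_toMatrix_flip _ _, Module.Basis.toMatrix_mul_toMatrix_flip _ _, ?_, ?_⟩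
  · intro i
    have hsi : s i = Sum.elim (fun _ => (1 : F)) (fun _ => (-1 : F)) (ε.symm i) := rfl
    rw [hsi]
    rcases ε.symm i with k | k
    · left; rfl
    · right; rfl
  · ext i j
    rw [Matrix.mul_diagonal]
    have h1 : ∀ l, (Pi.basisFun F (Fin n)).toMatrix b' l j = b' j l := by
      intro l
      rw [Module.Basis.toMatrix_apply, Pi.basisFun_repr]
    rw [Matrix.mul_apply]
    simp only [h1]
    have h3 : f (b' j) i = ∑ l, y i l * b' j l := by
      rw [hf, Matrix.toLin'_apply, Matrix.mulVec, dotProduct]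
    rw [← h3, hfb, Pi.smul_apply, smul_eq_mul, mul_comm]

/-- a scalar multiple of an involution of determinant one is conjugate into the subfield
subgroup, in characteristic not two -/
theorem conj_involution {F : Type u} [Field F] (h2 : (2 : F) ≠ 0) {n : ℕ} (hn : 1 ≤ n)
    (F₀ : Subfield F) (x : Matrix.SpecialLinearGroup (Fin n) F) (c : F) (hc : c ≠ 0)
    (hx : (x : Matrix (Fin n) (Fin n) F) * (x : Matrix (Fin n) (Fin n) F) =
      (c * c) • (1 : Matrix (Fin n) (Fin n) F)) :
    ∃ P : Matrix.SpecialLinearGroup (Fin n) F,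
      P⁻¹ * x * P ∈ (subfieldSubgroup F₀ (1 : GL (Fin n) F)).comap
        (Matrix.SpecialLinearGroup.toGL : Matrix.SpecialLinearGroup (Fin n) F →* GL (Fin n) F) := by
  classical
  set X : Matrix (Fin n) (Fin n) F := (x : Matrix (Fin n) (Fin n) F) with hX
  set y : Matrix (Fin n) (Fin n) F := c⁻¹ • X with hy
  have hyy : y * y = 1 := by
    rw [hy, Matrix.smul_mul, Matrix.mul_smul, smul_smul, hx, smul_smul]
    have : c⁻¹ * c⁻¹ * (c * c) = 1 := by field_simp
    rw [this, one_smul]
  obtain ⟨g, g', s, hgg', hg'g, hs, hyg⟩ := exists_diag_of_sq_one h2 y hyy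
  have hXg : X * g = g * (c • Matrix.diagonal s) := by
    have : X = c • y := by rw [hy, smul_smul, mul_inv_cancel₀ hc, one_smul]
    rw [this, Matrix.smul_mul, hyg, Matrix.mul_smul]
  have hgdet : g.det * g'.det = 1 := by rw [← Matrix.det_mul, hgg', Matrix.det_one]
  have hgdet0 : g.det ≠ 0 := by
    intro h0
    rw [h0, zero_mul] at hgdet
    exact zero_ne_one hgdet
  set i₀ : Fin n := ⟨0, hn⟩ with hi₀
  set t : Matrix (Fin n) (Fin n) F := Matrix.diagonal (fun i => if i = i₀ then g'.det else 1)
    with ht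
  have htdet : t.det = g'.det := by
    rw [ht, Matrix.det_diagonal, Finset.prod_ite_eq' Finset.univ i₀]
    simp
  set Pm : Matrix (Fin n) (Fin n) F := g * t with hPm
  have hPdet : Pm.det = 1 := by rw [hPm, Matrix.det_mul, htdet, hgdet]
  have hXP : X * Pm = Pm * (c • Matrix.diagonal s) := by
    rw [hPm, ← Matrix.mul_assoc, hXg, Matrix.mul_assoc, Matrix.mul_assoc]
    congr 1
    rw [ht, Matrix.smul_mul, Matrix.mul_smul, Matrix.diagonal_mul_diagonal,
      Matrix.diagonal_mul_diagonal]
    congr 2
    funext i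
    exact mul_comm _ _
  set P : Matrix.SpecialLinearGroup (Fin n) F := ⟨Pm, hPdet⟩ with hP
  refine ⟨P, ?_⟩
  rw [Subgroup.mem_comap, mem_subfield_one_iff]
  -- the diagonal matrix over the subfield
  set s₀ : Fin n → F₀ := fun i => if s i = 1 then 1 else -1 with hs₀
  have hs₀s : ∀ i, ((s₀ i : F₀) : F) = s i := by
    intro i
    rw [hs₀]
    rcases hs i with h | h
    · simp [h]
    · have hne : (-1 : F) ≠ 1 := by
        intro h'
        apply h2
        have : (2 : F) = 1 - (-1) := by ring
        rw [this, h', sub_self]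
      simp [h, hne]
  have hs₀0 : ∀ i, s₀ i ≠ 0 := by
    intro i
    rw [hs₀]
    dsimp only
    split_ifs <;> simp
  have hYdet : (Matrix.diagonal s₀).det ≠ 0 := by
    rw [Matrix.det_diagonal]
    exact Finset.prod_ne_zero_iff.mpr (fun i _ => hs₀0 i)
  refine ⟨Matrix.GeneralLinearGroup.mkOfDetNeZero (Matrix.diagonal s₀) hYdet, Units.mk0 c hc, ?_⟩
  have hYval : ((Matrix.GeneralLinearGroup.mkOfDetNeZero (Matrix.diagonal s₀) hYdet :
      GL (Fin n) F₀) : Matrix (Fin n) (Fin n) F₀) = Matrix.diagonal s₀ := rfl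
  rw [hYval, Units.val_mk0]
  have hW : (Matrix.diagonal s₀).map F₀.subtype * (c • (1 : Matrix (Fin n) (Fin n) F)) =
      c • Matrix.diagonal s := by
    rw [Matrix.mul_smul, Matrix.mul_one]
    congr 1
    ext i j
    by_cases hij : i = j
    · subst hij
      simp [hs₀s]
    · simp [hij]
  rw [hW]
  have hPinv : (P⁻¹ : Matrix.SpecialLinearGroup (Fin n) F).val * Pm = 1 := by
    have : (P⁻¹ * P : Matrix.SpecialLinearGroup (Fin n) F).val = 1 := by
      rw [inv_mul_cancel]
      rfl
    exact this
  have h9 : ((Matrix.SpecialLinearGroup.toGL (P⁻¹ * x * P) : GL (Fin n) F) :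
      Matrix (Fin n) (Fin n) F) =
      (P⁻¹ : Matrix.SpecialLinearGroup (Fin n) F).val * X * Pm := rfl
  rw [h9, Matrix.mul_assoc, hXP, ← Matrix.mul_assoc, hPinv, Matrix.one_mul]

end Cfsg.Agent.Helper42.SubfieldIdx
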