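import Mathlib

set_option autoImplicit false
set_option linter.unusedSectionVars false
set_option linter.unusedVariables false

/-!
# The determinant of a matrix whose square is a non-square scalar
-/

namespace Cfsg.Agent.Helper42.SubfieldIdx

open Matrix Polynomial

universe u

variable {F : Type u} [Field F] {n : ℕ}

/-- the characteristic polynomial of a matrix with scalar square divides a power of `X² - z` -/
lemma charpoly_dvd_of_sq (x : Matrix (Fin n) (Fin n) F) (z : F)
    (hx : x * x = z • (1 : Matrix (Fin n) (Fin n) F)) :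
    x.charpoly ∣ (X ^ 2 - C z) ^ n := by
  set S : Matrix (Fin n) (Fin n) F[X] := Matrix.scalar (Fin n) (X : F[X]) with hS
  set M : Matrix (Fin n) (Fin n) F[X] := (C : F →+* F[X]).mapMatrix x with hM
  have hA : charmatrix x = S - M := rfl
  have hcomm : S * M = M * S := (Matrix.scalar_commute (X : F[X]) (fun r => Commute.all _ _) M).eq
  have hSS : S * S = Matrix.scalar (Fin n) ((X : F[X]) ^ 2) := by
    rw [hS, ← map_mul, sq]
  have hMM : M * M = Matrix.scalar (Fin n) (C z : F[X]) := by
    rw [hM, ← map_mul, hx]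
    ext i j
    simp [Matrix.one_apply, Matrix.diagonal_apply]
    split_ifs <;> simp
  have h : charmatrix x * (S + M) = (X ^ 2 - C z : F[X]) • (1 : Matrix (Fin n) (Fin n) F[X]) := by
    rw [hA, sub_mul, mul_add, mul_add, hcomm, hSS, hMM]
    have : Matrix.scalar (Fin n) ((X : F[X]) ^ 2) + M * S - (M * S + Matrix.scalar (Fin n) (C z)) =
        Matrix.scalar (Fin n) ((X : F[X]) ^ 2) - Matrix.scalar (Fin n) (C z) := by abel
    rw [this, ← map_sub, Matrix.scalar_apply, Matrix.smul_one_eq_diagonal]
  have h1 := congrArg Matrix.det h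
  rw [Matrix.det_mul, Matrix.det_smul, Matrix.det_one, mul_one, Fintype.card_fin] at h1
  exact ⟨(S + M).det, h1.symm⟩

/-- the determinant of a matrix whose square is a non-square scalar -/
theorem det_of_sq_eq_nonsquare (x : Matrix (Fin n) (Fin n) F) (z : F) (hz : ¬ IsSquare z)
    (hx : x * x = z • (1 : Matrix (Fin n) (Fin n) F)) :
    ∃ m : ℕ, n = 2 * m ∧ x.det = (-z) ^ m := by
  set π : F[X] := X ^ 2 - C z with hπ
  have hmonic : π.Monic := monic_X_pow_sub_C z (by norm_num)
  have hdeg : π.natDegree = 2 := natDegree_X_pow_sub_C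
  have hirr : Irreducible π := by
    rw [hmonic.irreducible_iff_roots_eq_zero_of_degree_le_three (by rw [hdeg]) (by rw [hdeg]; norm_num)]
    rw [Multiset.eq_zero_iff_forall_notMem]
    intro r hr
    rw [mem_roots hmonic.ne_zero, IsRoot, hπ, eval_sub, eval_pow, eval_X, eval_C, sub_eq_zero] at hr
    exact hz ⟨r, by rw [← hr, sq]⟩
  have hprime : Prime π := hirr.prime
  obtain ⟨i, hi, hassoc⟩ := (dvd_prime_pow hprime n).mp (charpoly_dvd_of_sq x z hx)
  have hχ : x.charpoly = π ^ i :=
    eq_of_monic_of_associated (Matrix.charpoly_monic x) (hmonic.pow i) hassoc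
  have hn : n = 2 * i := by
    have h1 := Matrix.charpoly_natDegree_eq_dim x
    rw [hχ, natDegree_pow, hdeg, Fintype.card_fin] at h1
    omega
  refine ⟨i, hn, ?_⟩
  rw [Matrix.det_eq_sign_charpoly_coeff, hχ, coeff_zero_eq_eval_zero, eval_pow, hπ, eval_sub,
    eval_pow, eval_X, eval_C, Fintype.card_fin, hn, pow_mul]
  simp

end Cfsg.Agent.Helper42.SubfieldIdx
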