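import Mathlib
import Cfsg.Prelude.Def_GeometricClasses
import Cfsg.Agent.Lib.Helper42.JordanSub4
import Cfsg.Agent.Lib.Helper42.SubfieldIdx3
import Cfsg.Agent.Lib.Helper42.SubfieldIdx4

set_option autoImplicit false
set_option linter.unusedSectionVars false
set_option linter.unusedVariables false
set_option linter.style.haveILetI false

/-!
# Involutions of `SL_n(q)` and the subfield subgroup of index two, `q` odd
-/

namespace Cfsg.Agent.Helper42.SubfieldIdx

open Matrix Cfsg.Geo Cfsg.Agent.Helper42.JordanSub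

universe u

lemma padicValNat_two_pow_mul_odd (k n' : ℕ) (h : Odd n') : padicValNat 2 (2 ^ k * n') = k := by
  have hn' : n' ≠ 0 := by
    rintro rfl
    exact absurd h (by decide)
  rw [padicValNat.mul (pow_ne_zero _ (by norm_num)) hn', padicValNat.prime_pow,
    padicValNat.eq_zero_of_not_dvd, add_zero]
  intro h2
  rcases h with ⟨j, rfl⟩
  omega

section arith

variable {F : Type u} [Field F] [Fintype F]

/-- Euler's criterion for non-squares -/
lemma pow_half_of_not_isSquare (hF : ringChar F ≠ 2) (z : F) (hz : ¬ IsSquare z) :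
    z ^ (Fintype.card F / 2) = -1 := by
  have hz0 : z ≠ 0 := by
    rintro rfl
    exact hz IsSquare.zero
  rcases FiniteField.pow_dichotomy hF hz0 with h | h
  · exact absurd ((FiniteField.isSquare_iff hF hz0).mpr h) hz
  · exact h

/-- no non-square `z` has `(-z)^m = 1` when `n = 2m` and `(n)_2 ≤ (q-1)_2`, `q ≡ 1 mod 4` -/
lemma no_nonsquare_det (hF : ringChar F ≠ 2) (h4 : 4 ∣ Fintype.card F - 1) (n m : ℕ) (hn : n = 2 * m)
    (hm : 0 < m) (hw : padicValNat 2 n ≤ padicValNat 2 (Fintype.card F - 1)) (z : F)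
    (hz : ¬ IsSquare z) (hdet : (-z) ^ m = 1) : False := by
  set q := Fintype.card F with hq
  have hq1 : q - 1 ≠ 0 := by
    have : 1 < q := Fintype.one_lt_card
    omega
  have hqodd : q % 2 = 1 := FiniteField.odd_card_of_char_ne_two hF
  set h := q / 2 with hh
  have hqh : q - 1 = 2 * h := by omega
  have hheven : Even h := by
    obtain ⟨j, hj⟩ := h4
    exact ⟨j, by omega⟩
  have hE : z ^ h = -1 := pow_half_of_not_isSquare hF z hz
  have hzh : (-z) ^ h = -1 := by
    rw [neg_pow, hheven.neg_one_pow, one_mul, hE]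
  obtain ⟨k, n', hn'odd, hnk⟩ := Nat.exists_eq_two_pow_mul_odd (n := n) (by omega)
  have hwk : padicValNat 2 n = k := by rw [hnk, padicValNat_two_pow_mul_odd k n' hn'odd]
  rw [hwk] at hw
  have hk1 : 1 ≤ k := by
    rcases Nat.eq_zero_or_pos k with rfl | hk
    · exfalso
      rw [pow_zero, one_mul] at hnk
      rcases hn'odd with ⟨j, hj⟩
      omega
    · exact hk
  have hdvd : 2 ^ k ∣ q - 1 := (padicValNat_dvd_iff_le hq1).mpr hw
  obtain ⟨T, hT⟩ := hdvd
  have hmk : m = 2 ^ (k - 1) * n' := by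
    have h1 : 2 ^ k = 2 * 2 ^ (k - 1) := by
      rw [← pow_succ']
      congr 1
      omega
    rw [h1, hn] at hnk
    have : 2 * m = 2 * (2 ^ (k - 1) * n') := by rw [hnk]; ring
    omega
  have hmT : m * T = n' * h := by
    have h1 : 2 * (m * T) = 2 * (n' * h) := by
      have h2 : 2 ^ k = 2 * 2 ^ (k - 1) := by
        rw [← pow_succ']
        congr 1
        omega
      calc 2 * (m * T) = n' * (2 ^ k * T) := by rw [hmk, h2]; ring
        _ = n' * (q - 1) := by rw [hT]
        _ = 2 * (n' * h) := by rw [hqh]; ring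
    omega
  have h5 : (-z) ^ (m * T) = 1 := by rw [pow_mul, hdet, one_pow]
  rw [hmT, mul_comm, pow_mul, hzh, hn'odd.neg_one_pow] at h5
  have h2 : (2 : F) ≠ 0 := Ring.two_ne_zero hF
  apply h2
  have : (2 : F) = 1 - (-1) := by ring
  rw [this, h5, sub_self]

/-- a non-square `z` with `(-z)^m = 1`, `n = 2m`, when `(q-1)_2 < (n)_2` -/
lemma exists_nonsquare_det (hF : ringChar F ≠ 2) (h4 : 4 ∣ Fintype.card F - 1) (n : ℕ)
    (hw : padicValNat 2 (Fintype.card F - 1) < padicValNat 2 n) :
    ∃ (z : F) (m : ℕ), ¬ IsSquare z ∧ n = 2 * m ∧ (-z) ^ m = 1 := by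
  set q := Fintype.card F with hq
  have hq1 : q - 1 ≠ 0 := by
    have : 1 < q := Fintype.one_lt_card
    omega
  have hqodd : q % 2 = 1 := FiniteField.odd_card_of_char_ne_two hF
  set h := q / 2 with hh
  have hqh : q - 1 = 2 * h := by omega
  have hheven : Even h := by
    obtain ⟨j, hj⟩ := h4
    exact ⟨j, by omega⟩
  have hn0 : n ≠ 0 := by
    rintro rfl
    simp at hw
  obtain ⟨v, q', hq'odd, hqv⟩ := Nat.exists_eq_two_pow_mul_odd hq1
  have hv : padicValNat 2 (q - 1) = v := by rw [hqv, padicValNat_two_pow_mul_odd v q' hq'odd]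
  rw [hv] at hw
  have hv1 : 1 ≤ v := by
    rcases Nat.eq_zero_or_pos v with rfl | hv0
    · exfalso
      rw [pow_zero, one_mul] at hqv
      rcases hq'odd with ⟨j, hj⟩
      omega
    · exact hv0
  have hdvd : 2 ^ (v + 1) ∣ n := (padicValNat_dvd_iff_le hn0).mpr hw
  obtain ⟨n₁, hn₁⟩ := hdvd
  obtain ⟨a, ha⟩ := FiniteField.exists_nonsquare hF
  have haE : a ^ h = -1 := pow_half_of_not_isSquare hF a ha
  set η : F := a ^ q' with hη
  have hhq' : h = 2 ^ (v - 1) * q' := by
    have h1 : 2 ^ v = 2 * 2 ^ (v - 1) := by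
      rw [← pow_succ']
      congr 1
      omega
    rw [h1] at hqv
    have : 2 * h = 2 * (2 ^ (v - 1) * q') := by rw [← hqh, hqv]; ring
    omega
  have hη1 : η ^ (2 ^ (v - 1)) = -1 := by
    rw [hη, ← pow_mul, mul_comm, ← hhq', haE]
  have hη2 : η ^ (2 ^ v) = 1 := by
    have h1 : 2 ^ v = 2 ^ (v - 1) * 2 := by
      rw [← pow_succ]
      congr 1
      omega
    rw [h1, pow_mul, hη1]
    simp
  refine ⟨-η, 2 ^ v * n₁, ?_, ?_, ?_⟩
  · intro hsq
    have hz0 : -η ≠ 0 := by
      intro h0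
      have : η = 0 := by simpa using h0
      rw [this, zero_pow (by positivity)] at hη2
      exact zero_ne_one hη2
    have h1 := (FiniteField.isSquare_iff hF hz0).mp hsq
    change (-η) ^ h = 1 at h1
    rw [neg_pow, hheven.neg_one_pow, one_mul, hhq', pow_mul, hη1, hq'odd.neg_one_pow] at h1
    have h2 : (2 : F) ≠ 0 := Ring.two_ne_zero hF
    apply h2
    have : (2 : F) = 1 - (-1) := by ring
    rw [this, h1, sub_self]
  · rw [hn₁, pow_succ]
    ring
  · rw [neg_neg, pow_mul, hη2, one_pow]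

end arith

section matrices

variable {F : Type u} [Field F] [Fintype F] {n : ℕ}

/-- in odd characteristic, over a quadratic extension, when `(n)_2 ≤ (q-1)_2` every element of
determinant one with scalar square is conjugate into the subfield subgroup -/
theorem conj_of_sq_scalar (hF : ringChar F ≠ 2) (hn : 1 ≤ n) (F₀ : Subfield F)
    (h4 : 4 ∣ Fintype.card F - 1)
    (hw : padicValNat 2 n ≤ padicValNat 2 (Fintype.card F - 1))
    (x : Matrix.SpecialLinearGroup (Fin n) F) (z : F)
    (hx : ((x ^ 2 : Matrix.SpecialLinearGroup (Fin n) F) : Matrix (Fin n) (Fin n) F) =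
      z • (1 : Matrix (Fin n) (Fin n) F)) :
    ∃ P : Matrix.SpecialLinearGroup (Fin n) F,
      P⁻¹ * x * P ∈ (subfieldSubgroup F₀ (1 : GL (Fin n) F)).comap
        (Matrix.SpecialLinearGroup.toGL : Matrix.SpecialLinearGroup (Fin n) F →* GL (Fin n) F) := by
  classical
  have h2 : (2 : F) ≠ 0 := Ring.two_ne_zero hF
  set X : Matrix (Fin n) (Fin n) F := (x : Matrix (Fin n) (Fin n) F) with hX
  have hXX : X * X = z • (1 : Matrix (Fin n) (Fin n) F) := by
    rw [← hx, pow_two]
    rfl
  by_cases hz : IsSquare z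
  · obtain ⟨c, hc⟩ := hz
    have hc0 : c ≠ 0 := by
      rintro rfl
      rw [mul_zero] at hc
      rw [hc, zero_smul] at hXX
      have h1 : (X * X).det = 0 := by
        rw [hXX]
        haveI : Nonempty (Fin n) := ⟨⟨0, hn⟩⟩
        exact Matrix.det_zero
      rw [Matrix.det_mul] at h1
      have h3 : X.det = 1 := x.2
      rw [h3, one_mul] at h1
      exact one_ne_zero h1
    exact conj_involution h2 hn F₀ x c hc0 (by rw [← hc]; exact hXX)
  · exfalso
    obtain ⟨m, hnm, hdet⟩ := det_of_sq_eq_nonsquare X z hz hXX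
    have h3 : X.det = 1 := x.2
    rw [h3] at hdet
    exact no_nonsquare_det hF h4 n m hnm (by omega) hw z hz hdet.symm

/-- in odd characteristic, over a quadratic extension, when `(q-1)_2 < (n)_2` some element of
determinant one with scalar square is not conjugate into the subfield subgroup -/
theorem exists_not_conj_of_sq_scalar (hF : ringChar F ≠ 2) (F₀ : Subfield F) (q₀ : ℕ)
    (hF₀ : Nat.card F₀ = q₀) (hq : Fintype.card F = q₀ ^ 2)
    (h4 : 4 ∣ Fintype.card F - 1)
    (hw : padicValNat 2 (Fintype.card F - 1) < padicValNat 2 n) :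
    ∃ x : Matrix.SpecialLinearGroup (Fin n) F,
      (∃ z : F, ((x ^ 2 : Matrix.SpecialLinearGroup (Fin n) F) : Matrix (Fin n) (Fin n) F) =
        z • (1 : Matrix (Fin n) (Fin n) F)) ∧
      (∀ z : F, (x : Matrix (Fin n) (Fin n) F) ≠ z • (1 : Matrix (Fin n) (Fin n) F)) ∧
      ∀ P : Matrix.SpecialLinearGroup (Fin n) F,
        P⁻¹ * x * P ∉ (subfieldSubgroup F₀ (1 : GL (Fin n) F)).comap
          (Matrix.SpecialLinearGroup.toGL :
            Matrix.SpecialLinearGroup (Fin n) F →* GL (Fin n) F) := by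
  classical
  obtain ⟨z, m, hz, hnm, hdet⟩ := exists_nonsquare_det hF h4 n hw
  have hz0 : z ≠ 0 := by
    rintro rfl
    exact hz IsSquare.zero
  have hcard : Fintype.card (Fin m ⊕ Fin m) = n := by
    simp
    omega
  set ε : Fin m ⊕ Fin m ≃ Fin n := Fintype.equivFinOfCardEq hcard with hε
  set xb : Matrix (Fin m ⊕ Fin m) (Fin m ⊕ Fin m) F :=
    Matrix.fromBlocks 0 (z • (1 : Matrix (Fin m) (Fin m) F)) 1 0 with hxb
  have hxbxb : xb * xb = z • (1 : Matrix (Fin m ⊕ Fin m) (Fin m ⊕ Fin m) F) := by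
    rw [hxb, Matrix.fromBlocks_multiply]
    simp only [Matrix.mul_zero, Matrix.zero_mul, Matrix.mul_one, Matrix.one_mul, zero_add,
      add_zero]
    rw [← Matrix.fromBlocks_one, Matrix.fromBlocks_smul]
    simp
  set xm : Matrix (Fin n) (Fin n) F := xb.submatrix ε.symm ε.symm with hxm
  have hxx : xm * xm = z • (1 : Matrix (Fin n) (Fin n) F) := by
    rw [hxm, Matrix.submatrix_mul_equiv, hxbxb]
    ext i j
    simp only [Matrix.submatrix_apply, Matrix.smul_apply, Matrix.one_apply,
      EmbeddingLike.apply_eq_iff_eq]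
  have hxdet : xm.det = 1 := by
    obtain ⟨m', hnm', hdet'⟩ := det_of_sq_eq_nonsquare xm z hz hxx
    have : m' = m := by omega
    rw [hdet', this, hdet]
  set x : Matrix.SpecialLinearGroup (Fin n) F := ⟨xm, hxdet⟩ with hx
  have hx2 : ((x ^ 2 : Matrix.SpecialLinearGroup (Fin n) F) : Matrix (Fin n) (Fin n) F) =
      z • (1 : Matrix (Fin n) (Fin n) F) := by
    rw [← hxx, pow_two]
    rfl
  have hn1 : 0 < n := by
    rcases Nat.eq_zero_or_pos n with rfl | h
    · simp at hw
    · exact h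
  refine ⟨x, ⟨z, hx2⟩, ?_, ?_⟩
  · intro c hc
    have hc' : xm = c • (1 : Matrix (Fin n) (Fin n) F) := hc
    rw [hc', Matrix.smul_mul, Matrix.mul_smul, Matrix.mul_one, smul_smul] at hxx
    have h1 := congrFun (congrFun hxx ⟨0, hn1⟩) ⟨0, hn1⟩
    simp only [Matrix.smul_apply, Matrix.one_apply_eq, smul_eq_mul, mul_one] at h1
    exact hz ⟨c, h1.symm⟩
  · intro P hP
    rw [Subgroup.mem_comap, mem_subfield_one_iff] at hP
    obtain ⟨Y, c, hYc⟩ := hP
    set Z : Matrix (Fin n) (Fin n) F := ((Matrix.SpecialLinearGroup.toGL (P⁻¹ * x * P) :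
      GL (Fin n) F) : Matrix (Fin n) (Fin n) F) with hZ
    have hZZ : Z * Z = z • (1 : Matrix (Fin n) (Fin n) F) := by
      have h1 : Z * Z = (((P⁻¹ * x * P) ^ 2 : Matrix.SpecialLinearGroup (Fin n) F) :
          Matrix (Fin n) (Fin n) F) := by
        rw [pow_two]
        rfl
      have h3 : (P⁻¹ * x * P) ^ 2 = P⁻¹ * x ^ 2 * P := by
        rw [pow_two, pow_two]
        group
      rw [h1, h3]
      have h4 : ((P⁻¹ * x ^ 2 * P : Matrix.SpecialLinearGroup (Fin n) F) :
          Matrix (Fin n) (Fin n) F) = (P⁻¹ : Matrix.SpecialLinearGroup (Fin n) F).val *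
            ((x ^ 2 : Matrix.SpecialLinearGroup (Fin n) F) : Matrix (Fin n) (Fin n) F) * P.val := rfl
      rw [h4, hx2, Matrix.mul_smul, Matrix.mul_one, Matrix.smul_mul]
      have hPP' : (P⁻¹ : Matrix.SpecialLinearGroup (Fin n) F).val * P.val = 1 := by
        have : ((P⁻¹ * P : Matrix.SpecialLinearGroup (Fin n) F) : Matrix (Fin n) (Fin n) F) = 1 := by
          rw [inv_mul_cancel]
          rfl
        exact this
      rw [hPP']
    rw [hYc, Matrix.mul_smul, Matrix.mul_one, Matrix.smul_mul, Matrix.mul_smul, smul_smul,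
      ← Matrix.map_mul] at hZZ
    have h1 := congrFun (congrFun hZZ ⟨0, hn1⟩) ⟨0, hn1⟩
    simp only [Matrix.smul_apply, Matrix.one_apply_eq, smul_eq_mul, mul_one, Matrix.map_apply,
      Subfield.coe_subtype] at h1
    set ν : F₀ := ((Y : Matrix (Fin n) (Fin n) F₀) * (Y : Matrix (Fin n) (Fin n) F₀)) ⟨0, hn1⟩
      ⟨0, hn1⟩ with hν
    obtain ⟨b, hb⟩ := isSquare_of_mem_subfield hF F₀ q₀ hF₀ hq ν
    apply hz
    refine ⟨(c : F) * b, ?_⟩
    rw [← h1, hb]
    ring

end matrices

end Cfsg.Agent.Helper42.SubfieldIdx
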