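import Mathlib
import Cfsg.Agent.Lib.Helper14.TSPDefs

/-!
TSP lemma server (helper14, S5980), piece (K1) `dvd_finrank_of_invariant`, second seat (helper42).
-/

set_option autoImplicit false
set_option linter.unusedSectionVars false

namespace Cfsg.Agent.Helper42.TSP

open Matrix Module Polynomial
open scoped Kronecker

universe u

section finite

variable {F : Type u} [Field F] [Fintype F]

/-- (K1) an invariant subspace without fixed vectors of an operator of prime order `r` has dimension
divisible by the order of `q` mod `r`. -/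
theorem dvd_finrank_of_invariant {V : Type*} [AddCommGroup V] [Module F V] [FiniteDimensional F V]
    (T : V →ₗ[F] V) (r : ℕ) (hr : r.Prime) (hT : T ^ r = 1) (N : Submodule F V)
    (hN : ∀ v ∈ N, T v ∈ N) (hfix : ∀ v ∈ N, T v = v → v = 0) :
    orderOf ((Fintype.card F : ℕ) : ZMod r) ∣ finrank F N := by
  classical
  have : Fact r.Prime := ⟨hr⟩
  have : Fintype N := Module.fintypeOfFintype (Module.finBasis F N)
  let f : Function.End N := fun v => ⟨T v.1, hN v.1 v.2⟩
  have hpow : ∀ (k : ℕ) (v : N), ((f ^ k) v).1 = (T ^ k) v.1 := by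
    intro k
    induction k with
    | zero => intro v; rfl
    | succ k ih =>
      intro v
      rw [pow_succ, pow_succ]
      exact ih (f v)
  have hf : f ^ r ^ 1 = 1 := by
    rw [pow_one]
    funext v
    apply Subtype.ext
    rw [hpow, hT]
    rfl
  have h1 := Equiv.Perm.card_fixedPoints_modEq (f := f) (p := r) (n := 1) hf
  have h2 : Fintype.card (Function.fixedPoints f) = 1 := by
    rw [Fintype.card_eq_one_iff]
    refine ⟨⟨0, ?_⟩, ?_⟩
    · show f 0 = 0
      apply Subtype.ext
      show T ((0 : N) : V) = ((0 : N) : V)
      rw [Submodule.coe_zero, map_zero]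
    · rintro ⟨v, hv⟩
      apply Subtype.ext
      apply Subtype.ext
      have h3 : T v.1 = v.1 := congrArg Subtype.val hv
      exact hfix v.1 v.2 h3
  rw [h2, Module.card_eq_pow_finrank (K := F) (V := N)] at h1
  have h3 : ((Fintype.card F : ℕ) : ZMod r) ^ finrank F N = 1 := by
    have h4 := (ZMod.natCast_eq_natCast_iff _ _ _).mpr h1
    push_cast at h4
    exact h4
  exact orderOf_dvd_of_pow_eq_one h3

end finite

end Cfsg.Agent.Helper42.TSP
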