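import Mathlib
import Cfsg.Agent.Lib.Helper14.TSPDefs

/-!
TSP lemma server (helper14, S5980), piece (K2) `intertwiner_bound`, second seat (helper42).
-/

set_option autoImplicit false
set_option linter.unusedSectionVars false

namespace Cfsg.Agent.Helper42.TSP

open Matrix Module Polynomial
open scoped Kronecker

universe u

section general

variable {F : Type u} [Field F]

/-- intertwiners `A X = X C` that kill `N'`. -/
def k2Z {N M : Type*} [AddCommGroup N] [Module F N] [AddCommGroup M] [Module F M]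
    (C : N →ₗ[F] N) (A : M →ₗ[F] M) (N' : Submodule F N) : Submodule F (N →ₗ[F] M) where
  carrier := {X | A ∘ₗ X = X ∘ₗ C ∧ ∀ w ∈ N', X w = 0}
  add_mem' := by
    rintro X Y ⟨hX, hX0⟩ ⟨hY, hY0⟩
    refine ⟨?_, fun w hw => ?_⟩
    · rw [LinearMap.comp_add, LinearMap.add_comp, hX, hY]
    · rw [LinearMap.add_apply, hX0 w hw, hY0 w hw, add_zero]
  zero_mem' := by
    refine ⟨?_, fun w _ => rfl⟩
    rw [LinearMap.comp_zero, LinearMap.zero_comp]
  smul_mem' := by
    rintro c X ⟨hX, hX0⟩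
    refine ⟨?_, fun w hw => ?_⟩
    · rw [LinearMap.comp_smul, LinearMap.smul_comp, hX]
    · rw [LinearMap.smul_apply, hX0 w hw, smul_zero]

theorem mem_k2Z {N M : Type*} [AddCommGroup N] [Module F N] [AddCommGroup M] [Module F M]
    (C : N →ₗ[F] N) (A : M →ₗ[F] M) (N' : Submodule F N) (X : N →ₗ[F] M) :
    X ∈ k2Z C A N' ↔ (A ∘ₗ X = X ∘ₗ C ∧ ∀ w ∈ N', X w = 0) := Iff.rfl

/-- the inductive claim of (K2). -/
theorem k2_claim {N M : Type*} [AddCommGroup N] [Module F N] [FiniteDimensional F N]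
    [AddCommGroup M] [Module F M] [FiniteDimensional F M]
    (C : N →ₗ[F] N) (A : M →ₗ[F] M) (i k₀ : ℕ) (N₁ : Submodule F N) (M₁ : Submodule F M)
    (hN₁ : ∀ v ∈ N₁, C v ∈ N₁)
    (hdiv : ∀ N' : Submodule F N, N' ≤ N₁ → (∀ v ∈ N', C v ∈ N') → i ∣ finrank F N')
    (hM₁ : ∀ X : N →ₗ[F] M, A ∘ₗ X = X ∘ₗ C → ∀ w ∈ N₁, X w ∈ M₁)
    (hk₀ : finrank F (k2Z C A N₁) ≤ k₀) :
    ∀ (n : ℕ) (N' : Submodule F N), N' ≤ N₁ → (∀ v ∈ N', C v ∈ N') →
      finrank F N₁ - finrank F N' = n →
      i * finrank F (k2Z C A N') ≤ i * k₀ + (finrank F N₁ - finrank F N') * finrank F M₁ := by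
  intro n
  induction n using Nat.strong_induction_on with
  | _ n ih =>
    intro N' hle hinv hn
    by_cases hEq : N' = N₁
    · subst hEq
      calc i * finrank F (k2Z C A N') ≤ i * k₀ := Nat.mul_le_mul_left _ hk₀
        _ ≤ _ := Nat.le_add_right _ _
    · -- pick `w ∈ N₁ \ N'`
      have hlt : N' < N₁ := lt_of_le_of_ne hle hEq
      obtain ⟨w, hwN₁, hwN'⟩ := SetLike.exists_of_lt hlt
      set N'' : Submodule F N :=
        sInf {P : Submodule F N | N' ≤ P ∧ w ∈ P ∧ ∀ v ∈ P, C v ∈ P} with hN''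
      have hN''inv : ∀ v ∈ N'', C v ∈ N'' := by
        intro v hv
        rw [hN'', Submodule.mem_sInf] at hv ⊢
        intro P hP
        exact hP.2.2 v (hv P hP)
      have hN''le : N'' ≤ N₁ := sInf_le ⟨hle, hwN₁, hN₁⟩
      have hN'le'' : N' ≤ N'' := le_sInf fun P hP => hP.1
      have hwN'' : w ∈ N'' := by
        rw [hN'', Submodule.mem_sInf]
        intro P hP
        exact hP.2.1
      have hlt' : N' < N'' := lt_of_le_of_ne hN'le'' (fun h => hwN' (h ▸ hwN''))
      have hf1 : finrank F N' < finrank F N'' := Submodule.finrank_lt_finrank_of_lt hlt'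
      have hf2 : finrank F N'' ≤ finrank F N₁ := Submodule.finrank_mono hN''le
      have hd1 : i ∣ finrank F N' := hdiv N' hle hinv
      have hd2 : i ∣ finrank F N'' := hdiv N'' hN''le hN''inv
      have hstep : finrank F N' + i ≤ finrank F N'' := by
        have h3 : i ∣ finrank F N'' - finrank F N' := Nat.dvd_sub hd2 hd1
        have h4 : i ≤ finrank F N'' - finrank F N' := Nat.le_of_dvd (by omega) h3
        omega
      -- the induction hypothesis for `N''`
      have hIH := ih (finrank F N₁ - finrank F N'') (by omega) N'' hN''le hN''inv rfl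
      -- evaluation at `w`
      set Z' := k2Z (M := M) C A N' with hZ'
      let ev : Z' →ₗ[F] M := (LinearMap.applyₗ w).comp Z'.subtype
      have hev : ∀ X : Z', ev X = X.1 w := fun X => rfl
      have hrange : LinearMap.range ev ≤ M₁ := by
        rintro _ ⟨X, rfl⟩
        rw [hev]
        exact hM₁ X.1 X.2.1 w hwN₁
      have hker : (LinearMap.ker ev).map Z'.subtype ≤ k2Z C A N'' := by
        rintro _ ⟨X, hX, rfl⟩
        have hXw : X.1 w = 0 := by
          have := LinearMap.mem_ker.mp hX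
          rwa [hev] at this
        refine ⟨X.2.1, ?_⟩
        -- `ker X` is invariant, contains `N'` and `w`
        have hle' : N'' ≤ LinearMap.ker X.1 := by
          refine sInf_le ⟨?_, ?_, ?_⟩
          · intro v hv
            exact LinearMap.mem_ker.mpr (X.2.2 v hv)
          · exact LinearMap.mem_ker.mpr hXw
          · intro v hv
            rw [LinearMap.mem_ker] at hv ⊢
            have h5 : (X.1 ∘ₗ C) v = (A ∘ₗ X.1) v := by rw [X.2.1]
            rw [LinearMap.comp_apply, LinearMap.comp_apply, hv, map_zero] at h5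
            exact h5
        intro v hv
        exact LinearMap.mem_ker.mp (hle' hv)
      have hrn : finrank F (LinearMap.range ev) + finrank F (LinearMap.ker ev) = finrank F Z' :=
        LinearMap.finrank_range_add_finrank_ker ev
      have hk1 : finrank F (LinearMap.ker ev) ≤ finrank F (k2Z C A N'') := by
        rw [← Submodule.finrank_map_subtype_eq Z' (LinearMap.ker ev)]
        exact Submodule.finrank_mono hker
      have hr1 : finrank F (LinearMap.range ev) ≤ finrank F M₁ := Submodule.finrank_mono hrange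
      -- arithmetic
      have h6 : finrank F Z' ≤ finrank F M₁ + finrank F (k2Z C A N'') := by omega
      have h7 : (finrank F N₁ - finrank F N'') + i ≤ finrank F N₁ - finrank F N' := by omega
      calc i * finrank F Z' ≤ i * (finrank F M₁ + finrank F (k2Z C A N'')) :=
            Nat.mul_le_mul_left _ h6
        _ = i * finrank F M₁ + i * finrank F (k2Z C A N'') := Nat.mul_add _ _ _
        _ ≤ i * finrank F M₁ + (i * k₀ + (finrank F N₁ - finrank F N'') * finrank F M₁) :=
            Nat.add_le_add_left hIH _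
        _ = i * k₀ + ((finrank F N₁ - finrank F N'') + i) * finrank F M₁ := by ring
        _ ≤ i * k₀ + (finrank F N₁ - finrank F N') * finrank F M₁ :=
            Nat.add_le_add_left (Nat.mul_le_mul_right _ h7) _

/-- (K2) relative intertwiner bound. -/
theorem intertwiner_bound {N M : Type*} [AddCommGroup N] [Module F N] [FiniteDimensional F N]
    [AddCommGroup M] [Module F M] [FiniteDimensional F M]
    (C : N →ₗ[F] N) (A : M →ₗ[F] M) (i k₀ : ℕ) (N₁ : Submodule F N) (M₁ : Submodule F M)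
    (hN₁ : ∀ v ∈ N₁, C v ∈ N₁)
    (hdiv : ∀ N' : Submodule F N, N' ≤ N₁ → (∀ v ∈ N', C v ∈ N') → i ∣ finrank F N')
    (hM₁ : ∀ X : N →ₗ[F] M, A ∘ₗ X = X ∘ₗ C → ∀ w ∈ N₁, X w ∈ M₁)
    (Z Z₁ : Submodule F (N →ₗ[F] M)) (hZ : ∀ X, X ∈ Z ↔ A ∘ₗ X = X ∘ₗ C)
    (hZ₁ : ∀ X, X ∈ Z₁ ↔ (A ∘ₗ X = X ∘ₗ C ∧ ∀ w ∈ N₁, X w = 0))
    (hk₀ : finrank F Z₁ ≤ k₀) :
    i * finrank F Z ≤ i * k₀ + finrank F N₁ * finrank F M₁ := by
  have hZ1 : Z₁ = k2Z C A N₁ := by
    ext X
    rw [hZ₁, mem_k2Z]
  have hZ0 : Z = k2Z C A ⊥ := by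
    ext X
    rw [hZ, mem_k2Z]
    constructor
    · intro h
      refine ⟨h, fun w hw => ?_⟩
      rw [(Submodule.mem_bot F).mp hw, map_zero]
    · intro h
      exact h.1
  have h := k2_claim C A i k₀ N₁ M₁ hN₁ hdiv hM₁ (hZ1 ▸ hk₀) _ ⊥ bot_le
    (fun v hv => by rw [(Submodule.mem_bot F).mp hv, map_zero]; exact Submodule.zero_mem _) rfl
  rw [finrank_bot, Nat.sub_zero, ← hZ0] at h
  exact h

end general

end Cfsg.Agent.Helper42.TSP
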