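import Mathlib
import Cfsg.Agent.Lib.Helper14.TSPDefs
import Cfsg.Agent.Lib.Helper14.PolarDerange
import Cfsg.Agent.Lib.Helper13.SympGeom
import Cfsg.Agent.Lib.Helper44.SQd
import Cfsg.Agent.Lib.Helper96.SympInvol

/-!
# TSP server (helper14, S5980) piece (K3) `fixed_kron_bound`: core, with (K1) and (K2) as hypotheses
-/

set_option autoImplicit false
set_option linter.unusedSectionVars false

namespace Cfsg.Agent.Helper42.TSP

open Matrix Module Polynomial
open scoped Kronecker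
open Cfsg.Agent.Helper14.TSP Cfsg.Agent.Helper44.StarInv

universe u

section finite

variable {F : Type u} [Field F] [Fintype F]

/-- `kdi A (X - 1)` is the dimension of the fixed space -/
theorem k3_kdi_one {ι : Type} [Fintype ι] [DecidableEq ι] (A : Matrix ι ι F) :
    kdi A (X - C 1) = finrank F (LinearMap.ker (Matrix.toLin' A - 1)) := by
  unfold kdi
  rw [map_sub, aeval_X, aeval_C, map_one]

/-- `vec` as a linear equivalence -/
noncomputable def k3VecEquiv (a b : ℕ) : Matrix (Fin b) (Fin a) F ≃ₗ[F] (Fin a × Fin b → F) :=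
  LinearEquiv.ofBijective
    { toFun := Matrix.vec
      map_add' := Matrix.vec_add
      map_smul' := fun c X => Matrix.vec_smul c X }
    Matrix.vec_bijective

theorem k3VecEquiv_apply (a b : ℕ) (X : Matrix (Fin b) (Fin a) F) :
    k3VecEquiv a b X = Matrix.vec X := rfl

/-- a linear map of order `r` (invertible in `F`) has no fixed vectors in `range (C - 1)` -/
theorem k3_no_fixed {N : Type*} [AddCommGroup N] [Module F N] (C : N →ₗ[F] N) (r : ℕ)
    (hrF : (r : F) ≠ 0) (hC : C ^ r = 1) (v : N) (hv : v ∈ LinearMap.range (C - 1))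
    (hfix : C v = v) : v = 0 := by
  obtain ⟨u, rfl⟩ := hv
  have h1 : (∑ k ∈ Finset.range r, C ^ k) * (C - 1) = 0 := by
    rw [geom_sum_mul, hC, sub_self]
  have h2 : ∀ k : ℕ, (C ^ k) ((C - 1) u) = (C - 1) u := by
    intro k
    induction k with
    | zero => rfl
    | succ k ih => rw [pow_succ, Module.End.mul_apply, hfix, ih]
  have h3 : (∑ k ∈ Finset.range r, C ^ k) ((C - 1) u) = (r : F) • (C - 1) u := by
    rw [LinearMap.sum_apply]
    simp only [h2, Finset.sum_const, Finset.card_range]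
    rw [Nat.cast_smul_eq_nsmul]
  have h4 : (∑ k ∈ Finset.range r, C ^ k) ((C - 1) u) = 0 := by
    rw [← Module.End.mul_apply, h1]
    rfl
  rw [h3] at h4
  rcases smul_eq_zero.mp h4 with h | h
  · exact absurd h hrF
  · exact h

/-- intertwiners killing `range (C - 1)` : at most `dim ker (C - 1) * dim ker (B - 1)` dimensions -/
theorem k3_Z1_bound {N M : Type*} [AddCommGroup N] [Module F N] [FiniteDimensional F N]
    [AddCommGroup M] [Module F M] [FiniteDimensional F M]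
    (C : N →ₗ[F] N) (Bl : M →ₗ[F] M) (r : ℕ) (hrF : (r : F) ≠ 0) (hC : C ^ r = 1)
    (Z₁ : Submodule F (N →ₗ[F] M))
    (hZ₁ : ∀ X, X ∈ Z₁ ↔ (Bl ∘ₗ X = X ∘ₗ C ∧ ∀ w ∈ LinearMap.range (C - 1), X w = 0)) :
    finrank F Z₁ ≤ finrank F (LinearMap.ker (C - 1)) * finrank F (LinearMap.ker (Bl - 1)) := by
  classical
  set K := LinearMap.ker (C - 1) with hK
  set N₁ := LinearMap.range (C - 1) with hN₁
  set K' := LinearMap.ker (Bl - 1) with hK'
  -- `K ⊔ N₁ = ⊤`
  have hinf : K ⊓ N₁ = ⊥ := by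
    rw [Submodule.eq_bot_iff]
    rintro v ⟨hvK, hvN⟩
    have hfix : C v = v := by
      have : (C - 1) v = 0 := hvK
      rw [LinearMap.sub_apply, Module.End.one_apply, sub_eq_zero] at this
      exact this
    exact k3_no_fixed C r hrF hC v hvN hfix
  have hsup : K ⊔ N₁ = ⊤ := by
    apply Submodule.eq_top_of_finrank_eq
    have h1 := Submodule.finrank_sup_add_finrank_inf_eq K N₁
    rw [hinf, finrank_bot, add_zero] at h1
    rw [h1, hK, hN₁, add_comm]
    exact LinearMap.finrank_range_add_finrank_ker (C - 1)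
  -- values lie in `K'`
  have hval : ∀ X ∈ Z₁, ∀ v : N, X v ∈ K' := by
    intro X hX v
    obtain ⟨h1, h2⟩ := (hZ₁ X).mp hX
    show (Bl - 1) (X v) = 0
    have h3 : Bl (X v) = X (C v) := by
      have := congrArg (fun f => f v) h1
      simpa using this
    have h4 : X ((C - 1) v) = 0 := h2 _ ⟨v, rfl⟩
    rw [LinearMap.sub_apply, Module.End.one_apply, map_sub] at h4
    rw [LinearMap.sub_apply, Module.End.one_apply, h3]
    exact h4
  -- the restriction map
  let ρ : Z₁ →ₗ[F] (K →ₗ[F] K') :=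
    { toFun := fun X => LinearMap.codRestrict K' (X.1.domRestrict K)
        (fun k => hval X.1 X.2 k)
      map_add' := fun X Y => LinearMap.ext fun k => Subtype.ext rfl
      map_smul' := fun c X => LinearMap.ext fun k => Subtype.ext rfl }
  have hρ : Function.Injective ρ := by
    rw [injective_iff_map_eq_zero]
    intro X hX
    apply Subtype.ext
    apply LinearMap.ext
    intro v
    have hv : v ∈ K ⊔ N₁ := by rw [hsup]; exact Submodule.mem_top
    obtain ⟨k, hk, n, hn, rfl⟩ := Submodule.mem_sup.mp hv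
    have h1 : X.1 k = 0 := by
      have := congrArg (fun f => ((f ⟨k, hk⟩ : K') : M)) hX
      exact this
    have h2 : X.1 n = 0 := ((hZ₁ X.1).mp X.2).2 n hn
    rw [map_add, h1, h2, add_zero]
    rfl
  calc finrank F Z₁ ≤ finrank F (K →ₗ[F] K') := LinearMap.finrank_le_finrank_of_injective hρ
    _ = finrank F K * finrank F K' := Module.finrank_linearMap F F K K'

set_option linter.unusedVariables false in
/-- (K3) with (K1), (K2) as hypotheses -/
theorem fixed_kron_bound_of {a b : ℕ}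
    (hK1 : ∀ (T : (Fin a → F) →ₗ[F] (Fin a → F)) (r : ℕ), r.Prime → T ^ r = 1 →
      ∀ N : Submodule F (Fin a → F), (∀ v ∈ N, T v ∈ N) → (∀ v ∈ N, T v = v → v = 0) →
      orderOf ((Fintype.card F : ℕ) : ZMod r) ∣ finrank F N)
    (hK2 : ∀ (C : (Fin a → F) →ₗ[F] (Fin a → F)) (A : (Fin b → F) →ₗ[F] (Fin b → F)) (i k₀ : ℕ)
      (N₁ : Submodule F (Fin a → F)) (M₁ : Submodule F (Fin b → F)),
      (∀ v ∈ N₁, C v ∈ N₁) →
      (∀ N' : Submodule F (Fin a → F), N' ≤ N₁ → (∀ v ∈ N', C v ∈ N') → i ∣ finrank F N') →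
      (∀ X : (Fin a → F) →ₗ[F] (Fin b → F), A ∘ₗ X = X ∘ₗ C → ∀ w ∈ N₁, X w ∈ M₁) →
      ∀ (Z Z₁ : Submodule F ((Fin a → F) →ₗ[F] (Fin b → F))),
      (∀ X, X ∈ Z ↔ A ∘ₗ X = X ∘ₗ C) →
      (∀ X, X ∈ Z₁ ↔ (A ∘ₗ X = X ∘ₗ C ∧ ∀ w ∈ N₁, X w = 0)) →
      finrank F Z₁ ≤ k₀ →
      i * finrank F Z ≤ i * k₀ + finrank F N₁ * finrank F M₁)
    (A : Matrix (Fin a) (Fin a) F) (B : Matrix (Fin b) (Fin b) F)
    (r : ℕ) (hr : r.Prime) (hrF : (r : F) ≠ 0) (hA : A ^ r = 1) (hB : B ^ r = 1) :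
    orderOf ((Fintype.card F : ℕ) : ZMod r) * kdi (A ⊗ₖ B) (X - C 1) ≤
      orderOf ((Fintype.card F : ℕ) : ZMod r) * (kdi A (X - C 1) * kdi B (X - C 1)) +
        (a - kdi A (X - C 1)) * (b - kdi B (X - C 1)) := by
  classical
  -- the matrix `C' = (A⁻¹)ᵀ`
  set Cm : Matrix (Fin a) (Fin a) F := (A ^ (r - 1))ᵀ with hCm
  have hr1 : r - 1 + 1 = r := Nat.sub_add_cancel hr.one_le
  have hAC : Aᵀ * Cm = 1 := by
    rw [hCm, ← Matrix.transpose_mul, ← pow_succ, hr1, hA, Matrix.transpose_one]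
  have hCA : Cm * Aᵀ = 1 := by
    rw [hCm, ← Matrix.transpose_mul, ← pow_succ', hr1, hA, Matrix.transpose_one]
  have hCmr : Cm ^ r = 1 := by
    rw [hCm, ← Matrix.transpose_pow, ← pow_mul, mul_comm, pow_mul, hA, one_pow,
      Matrix.transpose_one]
  set Cl : (Fin a → F) →ₗ[F] (Fin a → F) := Matrix.toLin' Cm with hCl
  set Bl : (Fin b → F) →ₗ[F] (Fin b → F) := Matrix.toLin' B with hBl
  have hClr : Cl ^ r = 1 := by
    rw [hCl, ← toLin_pow_i, hCmr, Matrix.toLin'_one]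
    rfl
  -- fixed spaces
  have hkerC : LinearMap.ker (Cl - 1) = LinearMap.ker (Matrix.toLin' Aᵀ - 1) := by
    ext v
    simp only [LinearMap.mem_ker, LinearMap.sub_apply, Module.End.one_apply, sub_eq_zero]
    constructor
    · intro h
      have h1 : Matrix.toLin' Aᵀ (Cl v) = Matrix.toLin' Aᵀ v := by rw [h]
      rw [hCl, ← LinearMap.comp_apply, ← Matrix.toLin'_mul, hAC, Matrix.toLin'_one] at h1
      exact h1.symm
    · intro h
      have h1 : Cl (Matrix.toLin' Aᵀ v) = Cl v := by rw [h]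
      rw [hCl, ← LinearMap.comp_apply, ← Matrix.toLin'_mul, hCA, Matrix.toLin'_one] at h1
      exact h1.symm
  have hkA : finrank F (LinearMap.ker (Cl - 1)) = kdi A (X - C 1) := by
    rw [hkerC, ← k3_kdi_one, kdi_transpose]
  have hkB : finrank F (LinearMap.ker (Bl - 1)) = kdi B (X - C 1) := (k3_kdi_one B).symm
  have hfN₁ : finrank F (LinearMap.range (Cl - 1)) = a - kdi A (X - C 1) := by
    have h1 := LinearMap.finrank_range_add_finrank_ker (Cl - 1)
    rw [hkA, Module.finrank_fintype_fun_eq_card, Fintype.card_fin] at h1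
    omega
  have hfM₁ : finrank F (LinearMap.range (Bl - 1)) = b - kdi B (X - C 1) := by
    have h1 := LinearMap.finrank_range_add_finrank_ker (Bl - 1)
    rw [hkB, Module.finrank_fintype_fun_eq_card, Fintype.card_fin] at h1
    omega
  -- `Z₁`
  let Z₁ : Submodule F ((Fin a → F) →ₗ[F] (Fin b → F)) :=
    { carrier := {Y | Bl ∘ₗ Y = Y ∘ₗ Cl ∧ ∀ w ∈ LinearMap.range (Cl - 1), Y w = 0}
      add_mem' := by
        rintro Y Y' ⟨h1, h2⟩ ⟨h1', h2'⟩
        refine ⟨?_, fun w hw => ?_⟩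
        · rw [LinearMap.comp_add, LinearMap.add_comp, h1, h1']
        · rw [LinearMap.add_apply, h2 w hw, h2' w hw, add_zero]
      zero_mem' := ⟨by rw [LinearMap.comp_zero, LinearMap.zero_comp], fun w _ => rfl⟩
      smul_mem' := by
        rintro c Y ⟨h1, h2⟩
        refine ⟨?_, fun w hw => ?_⟩
        · rw [LinearMap.comp_smul, LinearMap.smul_comp, h1]
        · rw [LinearMap.smul_apply, h2 w hw, smul_zero] }
  have hZ₁ : ∀ Y, Y ∈ Z₁ ↔ (Bl ∘ₗ Y = Y ∘ₗ Cl ∧ ∀ w ∈ LinearMap.range (Cl - 1), Y w = 0) :=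
    fun Y => Iff.rfl
  have hk₀ : finrank F Z₁ ≤ kdi A (X - C 1) * kdi B (X - C 1) := by
    have := k3_Z1_bound Cl Bl r hrF hClr Z₁ hZ₁
    rwa [hkA, hkB] at this
  -- `Z`
  let Ψ : (Fin a × Fin b → F) ≃ₗ[F] ((Fin a → F) →ₗ[F] (Fin b → F)) :=
    (k3VecEquiv a b).symm.trans Matrix.toLin'
  let Z : Submodule F ((Fin a → F) →ₗ[F] (Fin b → F)) :=
    (LinearMap.ker (Matrix.toLin' (A ⊗ₖ B) - 1)).map (Ψ : (Fin a × Fin b → F) →ₗ[F] _)
  have hfZ : finrank F Z = kdi (A ⊗ₖ B) (X - C 1) := by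
    rw [k3_kdi_one]
    exact LinearEquiv.finrank_map_eq Ψ _
  have hZ : ∀ Y, Y ∈ Z ↔ Bl ∘ₗ Y = Y ∘ₗ Cl := by
    intro Y
    have hΨ : Ψ.symm Y = Matrix.vec (LinearMap.toMatrix' Y) := rfl
    set Ym := LinearMap.toMatrix' Y with hYm
    have hY : Y = Matrix.toLin' Ym := (Matrix.toLin'_toMatrix' Y).symm
    rw [Submodule.mem_map_equiv, hΨ, LinearMap.mem_ker, LinearMap.sub_apply,
      Module.End.one_apply, sub_eq_zero, Matrix.toLin'_apply, Matrix.kronecker_mulVec_vec,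
      Matrix.vec_inj]
    have key : B * Ym * Aᵀ = Ym ↔ B * Ym = Ym * Cm := by
      constructor
      · intro h
        calc B * Ym = B * Ym * (Aᵀ * Cm) := by rw [hAC, Matrix.mul_one]
          _ = B * Ym * Aᵀ * Cm := by rw [Matrix.mul_assoc (B * Ym)]
          _ = Ym * Cm := by rw [h]
      · intro h
        rw [h, Matrix.mul_assoc, hCA, Matrix.mul_one]
    rw [key, hY, hBl, hCl, ← Matrix.toLin'_mul, ← Matrix.toLin'_mul]
    constructor
    · intro h; rw [h]
    · intro h; exact Matrix.toLin'.injective h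
  -- invariance and (K1)
  have hN₁inv : ∀ v ∈ LinearMap.range (Cl - 1), Cl v ∈ LinearMap.range (Cl - 1) := by
    rintro v ⟨u, rfl⟩
    refine ⟨Cl u, ?_⟩
    simp only [LinearMap.sub_apply, Module.End.one_apply, map_sub]
  have hdiv : ∀ N' : Submodule F (Fin a → F), N' ≤ LinearMap.range (Cl - 1) →
      (∀ v ∈ N', Cl v ∈ N') → orderOf ((Fintype.card F : ℕ) : ZMod r) ∣ finrank F N' := by
    intro N' hN' hinv
    exact hK1 Cl r hr hClr N' hinv
      (fun v hv hfix => k3_no_fixed Cl r hrF hClr v (hN' hv) hfix)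
  have hM₁ : ∀ Y : (Fin a → F) →ₗ[F] (Fin b → F), Bl ∘ₗ Y = Y ∘ₗ Cl →
      ∀ w ∈ LinearMap.range (Cl - 1), Y w ∈ LinearMap.range (Bl - 1) := by
    rintro Y hY w ⟨u, rfl⟩
    refine ⟨Y u, ?_⟩
    have h3 : Bl (Y u) = Y (Cl u) := by
      have := congrArg (fun f => f u) hY
      simpa using this
    simp only [LinearMap.sub_apply, Module.End.one_apply, map_sub, h3]
  have hmain := hK2 Cl Bl (orderOf ((Fintype.card F : ℕ) : ZMod r))
    (kdi A (X - C 1) * kdi B (X - C 1)) (LinearMap.range (Cl - 1)) (LinearMap.range (Bl - 1))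
    hN₁inv hdiv hM₁ Z Z₁ hZ hZ₁ hk₀
  rw [hfZ, hfN₁, hfM₁] at hmain
  exact hmain

end finite

end Cfsg.Agent.Helper42.TSP
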