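import Mathlib
import Cfsg.Agent.Lib.Helper14.TSPDefs
import Cfsg.Agent.Lib.Helper42.TSPK1
import Cfsg.Agent.Lib.Helper42.TSPK2
import Cfsg.Agent.Lib.Helper42.TSPK3Core

set_option autoImplicit false
set_option linter.unusedSectionVars false

/-!
TSP lemma server (helper14, S5980), piece (K3) `fixed_kron_bound` (helper42), verbatim;
built on `TSPK3Core` + own (K1) `TSPK1` + own (K2) `TSPK2`.
-/

namespace Cfsg.Agent.Helper42.TSP

open Matrix Module Polynomial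
open scoped Kronecker
open Cfsg.Agent.Helper14.TSP Cfsg.Agent.Helper44.StarInv

universe u

section finite

variable {F : Type u} [Field F] [Fintype F]

/-- (K3) the fixed space of `A ⊗ B`. -/
theorem fixed_kron_bound {a b : ℕ} (A : Matrix (Fin a) (Fin a) F) (B : Matrix (Fin b) (Fin b) F)
    (r : ℕ) (hr : r.Prime) (hrF : (r : F) ≠ 0) (hA : A ^ r = 1) (hB : B ^ r = 1) :
    orderOf ((Fintype.card F : ℕ) : ZMod r) * kdi (A ⊗ₖ B) (X - C 1) ≤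
      orderOf ((Fintype.card F : ℕ) : ZMod r) * (kdi A (X - C 1) * kdi B (X - C 1)) +
        (a - kdi A (X - C 1)) * (b - kdi B (X - C 1)) := by
  have hK1 : ∀ (T : (Fin a → F) →ₗ[F] (Fin a → F)) (r : ℕ), r.Prime → T ^ r = 1 →
      ∀ N : Submodule F (Fin a → F), (∀ v ∈ N, T v ∈ N) → (∀ v ∈ N, T v = v → v = 0) →
      orderOf ((Fintype.card F : ℕ) : ZMod r) ∣ finrank F N := by
    intro T r hr hT N hN hfix
    exact dvd_finrank_of_invariant T r hr hT N hN hfix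
  have hK2 : ∀ (C : (Fin a → F) →ₗ[F] (Fin a → F)) (A : (Fin b → F) →ₗ[F] (Fin b → F)) (i k₀ : ℕ)
      (N₁ : Submodule F (Fin a → F)) (M₁ : Submodule F (Fin b → F)),
      (∀ v ∈ N₁, C v ∈ N₁) →
      (∀ N' : Submodule F (Fin a → F), N' ≤ N₁ → (∀ v ∈ N', C v ∈ N') → i ∣ finrank F N') →
      (∀ X : (Fin a → F) →ₗ[F] (Fin b → F), A ∘ₗ X = X ∘ₗ C → ∀ w ∈ N₁, X w ∈ M₁) →
      ∀ (Z Z₁ : Submodule F ((Fin a → F) →ₗ[F] (Fin b → F))),
      (∀ X, X ∈ Z ↔ A ∘ₗ X = X ∘ₗ C) →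
      (∀ X, X ∈ Z₁ ↔ (A ∘ₗ X = X ∘ₗ C ∧ ∀ w ∈ N₁, X w = 0)) →
      finrank F Z₁ ≤ k₀ →
      i * finrank F Z ≤ i * k₀ + finrank F N₁ * finrank F M₁ := by
    intro C A i k₀ N₁ M₁ h1 h2 h3 Z Z₁ h4 h5 h6
    exact intertwiner_bound C A i k₀ N₁ M₁ h1 h2 h3 Z Z₁ h4 h5 h6
  exact fixed_kron_bound_of hK1 hK2 A B r hr hrF hA hB

end finite

end Cfsg.Agent.Helper42.TSP
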