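import Mathlib

set_option autoImplicit false

namespace Cfsg.Agent.Helper42

open Matrix



section rankone

variable {F : Type*} [Field F] {ι : Type*} [Fintype ι] [DecidableEq ι]

set_option linter.unusedSectionVars false

/-- a rank one square matrix is an outer product -/
lemma exists_vecMulVec_of_rank_one (M : Matrix ι ι F) (h : M.rank = 1) :
    ∃ u φ : ι → F, u ≠ 0 ∧ φ ≠ 0 ∧ M = Matrix.vecMulVec u φ := by
  have hM : M ≠ 0 := by
    rintro rfl
    simp at h
  obtain ⟨j₀, hj₀⟩ : ∃ j₀, (fun i => M i j₀) ≠ 0 := by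
    by_contra hcon
    push Not at hcon
    apply hM
    ext i j
    exact congrFun (hcon j) i
  set u : ι → F := fun i => M i j₀ with hu
  have hcol : ∀ j, (fun i => M i j) = M.mulVecLin (Pi.single j 1) := by
    intro j
    ext i
    simp [Matrix.mulVec, dotProduct, Pi.single_apply]
  have hmem : ∀ j, (fun i => M i j) ∈ LinearMap.range M.mulVecLin := fun j => ⟨_, (hcol j).symm⟩
  have hfr : Module.finrank F (LinearMap.range M.mulVecLin) = 1 := h
  have hu0 : (⟨u, hmem j₀⟩ : LinearMap.range M.mulVecLin) ≠ 0 := by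
    intro h0
    apply hj₀
    exact congrArg Subtype.val h0
  have key := (finrank_eq_one_iff_of_nonzero' _ hu0).mp hfr
  choose c hc using fun j => key ⟨_, hmem j⟩
  refine ⟨u, c, hj₀, ?_, ?_⟩
  · intro hc0
    have := hc j₀
    rw [hc0] at this
    simp at this
    exact hu0 this.symm
  · ext i j
    have := congrArg Subtype.val (hc j)
    have := congrFun this i
    simp only [SetLike.val_smul, Pi.smul_apply, smul_eq_mul] at this
    rw [Matrix.vecMulVec_apply, ← this, mul_comm]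

lemma vecMulVec_sq (u φ : ι → F) :
    Matrix.vecMulVec u φ * Matrix.vecMulVec u φ = (φ ⬝ᵥ u) • Matrix.vecMulVec u φ := by
  rw [Matrix.vecMulVec_mul_vecMulVec]
  ext i j
  simp [Matrix.vecMulVec_apply]
  ring

lemma vecMulVec_ne_zero {u φ : ι → F} (hu : u ≠ 0) (hφ : φ ≠ 0) : Matrix.vecMulVec u φ ≠ 0 := by
  obtain ⟨i, hi⟩ := Function.ne_iff.mp hu
  obtain ⟨j, hj⟩ := Function.ne_iff.mp hφ
  intro h
  have := congrFun (congrFun h i) j
  simp [Matrix.vecMulVec_apply] at this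
  rcases this with h | h
  · exact hi h
  · exact hj h

lemma rank_vecMulVec_eq_one {u φ : ι → F} (hu : u ≠ 0) (hφ : φ ≠ 0) :
    (Matrix.vecMulVec u φ).rank = 1 := by
  apply le_antisymm (Matrix.rank_vecMulVec_le u φ)
  rw [Nat.one_le_iff_ne_zero]
  intro h
  apply vecMulVec_ne_zero hu hφ
  have h1 : LinearMap.range (Matrix.vecMulVec u φ).mulVecLin = ⊥ := Submodule.finrank_eq_zero.mp h
  rw [LinearMap.range_eq_bot] at h1
  have h2 : Matrix.toLin' (Matrix.vecMulVec u φ) = 0 := by rw [Matrix.toLin'_apply']; exact h1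
  exact (LinearEquiv.map_eq_zero_iff _).mp h2

end rankone




section trans

variable {F : Type*} [Field F] {ι : Type*} [Fintype ι] [DecidableEq ι]

/-- the `GL` element of a linear equivalence -/
noncomputable def glOfEquiv (e : (ι → F) ≃ₗ[F] (ι → F)) : GL ι F :=
  ⟨LinearMap.toMatrix' e.toLinearMap, LinearMap.toMatrix' e.symm.toLinearMap,
    by rw [← LinearMap.toMatrix'_comp]; simp, by rw [← LinearMap.toMatrix'_comp]; simp⟩

lemma glOfEquiv_mulVec (e : (ι → F) ≃ₗ[F] (ι → F)) (x : ι → F) :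
    (glOfEquiv e).val *ᵥ x = e x := by
  simp [glOfEquiv, LinearMap.toMatrix'_mulVec]

/-- the transvection `1 + w ψᵀ` with `ψ·w = 0` -/
def tvGL (w ψ : ι → F) (h : ψ ⬝ᵥ w = 0) : GL ι F :=
  ⟨1 + Matrix.vecMulVec w ψ, 1 - Matrix.vecMulVec w ψ, by
    have : Matrix.vecMulVec w ψ * Matrix.vecMulVec w ψ = 0 := by
      rw [Matrix.vecMulVec_mul_vecMulVec, h, zero_smul]
      ext i j; simp [Matrix.vecMulVec_apply]
    noncomm_ring
    rw [this]; simp, by
    have : Matrix.vecMulVec w ψ * Matrix.vecMulVec w ψ = 0 := by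
      rw [Matrix.vecMulVec_mul_vecMulVec, h, zero_smul]
      ext i j; simp [Matrix.vecMulVec_apply]
    noncomm_ring
    rw [this]; simp⟩

lemma exists_dot_eq_one {φ : ι → F} (hφ : φ ≠ 0) : ∃ w : ι → F, φ ⬝ᵥ w = 1 := by
  obtain ⟨j, hj⟩ := Function.ne_iff.mp hφ
  refine ⟨Pi.single j (φ j)⁻¹, ?_⟩
  simp only [Pi.zero_apply] at hj
  simp [hj]

lemma linInd_pair {u w φ : ι → F} (hu : u ≠ 0) (hφu : φ ⬝ᵥ u = 0) (hφw : φ ⬝ᵥ w = 1) :
    LinearIndependent F ![u, w] := by
  rw [LinearIndependent.pair_iff]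
  intro a b hab
  have h1 := congrArg (fun x => φ ⬝ᵥ x) hab
  simp only [dotProduct_add, dotProduct_smul, hφu, hφw, smul_eq_mul, mul_zero, mul_one, zero_add,
    dotProduct_zero] at h1
  subst h1
  simp only [zero_smul, add_zero] at hab
  rcases smul_eq_zero.mp hab with h | h
  · exact ⟨h, rfl⟩
  · exact absurd h hu

/-- `GL` is transitive on the pairs (vector, covector) with `φ·u = 0` -/
theorem exists_gl_map_pair {u φ u' φ' : ι → F} (hu : u ≠ 0) (hφ : φ ≠ 0) (h : φ ⬝ᵥ u = 0)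
    (hu' : u' ≠ 0) (hφ' : φ' ≠ 0) (h' : φ' ⬝ᵥ u' = 0) :
    ∃ g : GL ι F, g.val *ᵥ u = u' ∧ φ' ᵥ* g.val = φ := by
  obtain ⟨w, hw⟩ := exists_dot_eq_one hφ
  obtain ⟨w', hw'⟩ := exists_dot_eq_one hφ'
  have hD := linInd_pair hu h hw
  have hE := linInd_pair hu' h' hw'
  let f := hD.linearCombinationEquiv.symm ≪≫ₗ hE.linearCombinationEquiv
  have : FiniteDimensional F (Submodule.span F (Set.range ![u, w])) :=
    FiniteDimensional.span_of_finite F (Set.finite_range _)
  obtain ⟨g₀, hg₀⟩ := Submodule.exists_linearEquiv_restrict_eq f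
  have q0 : (hD.linearCombinationEquiv (Finsupp.single 0 1) : ι → F) = u := by simp
  have q1 : (hD.linearCombinationEquiv (Finsupp.single 1 1) : ι → F) = w := by simp
  have q0' : (hE.linearCombinationEquiv (Finsupp.single 0 1) : ι → F) = u' := by simp
  have q1' : (hE.linearCombinationEquiv (Finsupp.single 1 1) : ι → F) = w' := by simp
  have hg0u : g₀ u = u' := by
    have e := hg₀ (hD.linearCombinationEquiv (Finsupp.single 0 1))
    rw [q0] at e
    rw [← e]
    simp [f]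
  have hg0w : g₀ w = w' := by
    have e := hg₀ (hD.linearCombinationEquiv (Finsupp.single 1 1))
    rw [q1] at e
    rw [← e]
    simp [f]
  set G₀ := glOfEquiv g₀ with hG₀
  set φ'' : ι → F := φ' ᵥ* G₀.val with hφ''
  have hφ''u : φ'' ⬝ᵥ u = 0 := by
    rw [hφ'', ← Matrix.dotProduct_mulVec, glOfEquiv_mulVec, hg0u, h']
  have hφ''w : φ'' ⬝ᵥ w = 1 := by
    rw [hφ'', ← Matrix.dotProduct_mulVec, glOfEquiv_mulVec, hg0w, hw']
  have hψ : (φ - φ'') ⬝ᵥ w = 0 := by
    rw [sub_dotProduct, hw, hφ''w, sub_self]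
  refine ⟨G₀ * tvGL w (φ - φ'') hψ, ?_, ?_⟩
  · rw [Units.val_mul, ← Matrix.mulVec_mulVec]
    have : (tvGL w (φ - φ'') hψ).val *ᵥ u = u := by
      simp only [tvGL, Matrix.add_mulVec, Matrix.one_mulVec, Matrix.vecMulVec_mulVec,
        sub_dotProduct, h, hφ''u, sub_self]
      simp
    rw [this, glOfEquiv_mulVec, hg0u]
  · rw [Units.val_mul, ← Matrix.vecMul_vecMul, ← hφ'']
    simp only [tvGL, Matrix.vecMul_add, Matrix.vecMul_one, Matrix.vecMul_vecMulVec, hφ''w, one_smul]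
    abel

end trans




section count

variable {F : Type*} [Field F] [Fintype F] {ι : Type*} [Fintype ι] [DecidableEq ι]

/-- the functional `φ ↦ φ ⬝ᵥ u` -/
def dotL (u : ι → F) : (ι → F) →ₗ[F] F where
  toFun φ := φ ⬝ᵥ u
  map_add' := fun a b => add_dotProduct a b u
  map_smul' := fun c a => smul_dotProduct c a u

lemma card_ne_zero_vec : Nat.card {u : ι → F // u ≠ 0} = Fintype.card F ^ Fintype.card ι - 1 := by
  classical
  rw [Nat.card_eq_fintype_card, Fintype.card_subtype_compl, Fintype.card_subtype_eq]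
  simp

lemma card_ker_dotL {u : ι → F} (hu : u ≠ 0) :
    Nat.card (LinearMap.ker (dotL u)) = Fintype.card F ^ (Fintype.card ι - 1) := by
  have hsurj : LinearMap.range (dotL u) = ⊤ := by
    rw [LinearMap.range_eq_top]
    intro c
    obtain ⟨j, hj⟩ := Function.ne_iff.mp hu
    simp only [Pi.zero_apply] at hj
    refine ⟨Pi.single j (c * (u j)⁻¹), ?_⟩
    simp [dotL, hj]
  have h1 := LinearMap.finrank_range_add_finrank_ker (dotL u)
  rw [hsurj, finrank_top, Module.finrank_self, Module.finrank_fintype_fun_eq_card] at h1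
  rw [Module.natCard_eq_pow_finrank (K := F), Nat.card_eq_fintype_card]
  congr 1
  omega

lemma card_cov {u : ι → F} (hu : u ≠ 0) :
    Nat.card {φ : ι → F // φ ≠ 0 ∧ φ ⬝ᵥ u = 0} = Fintype.card F ^ (Fintype.card ι - 1) - 1 := by
  classical
  have e : {φ : ι → F // φ ≠ 0 ∧ φ ⬝ᵥ u = 0} ≃ {x : LinearMap.ker (dotL u) // x ≠ 0} :=
    { toFun := fun φ => ⟨⟨φ.1, φ.2.2⟩, fun h => φ.2.1 (congrArg Subtype.val h)⟩
      invFun := fun x => ⟨x.1.1, fun h => x.2 (Subtype.ext h), x.1.2⟩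
      left_inv := fun φ => rfl
      right_inv := fun x => rfl }
  rw [Nat.card_congr e, ← card_ker_dotL hu]
  have : Finite (LinearMap.ker (dotL u)) := inferInstance
  have := Fintype.ofFinite (LinearMap.ker (dotL u))
  rw [Nat.card_eq_fintype_card, Nat.card_eq_fintype_card, Fintype.card_subtype_compl,
    Fintype.card_subtype_eq]

/-- the pairs -/
def pairSet (F ι : Type*) [Field F] [Fintype ι] : Set ((ι → F) × (ι → F)) :=
  {p | p.1 ≠ 0 ∧ p.2 ≠ 0 ∧ p.2 ⬝ᵥ p.1 = 0}

lemma card_pairSet : Nat.card (pairSet F ι) =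
    (Fintype.card F ^ Fintype.card ι - 1) * (Fintype.card F ^ (Fintype.card ι - 1) - 1) := by
  classical
  have e : pairSet F ι ≃ Σ u : {u : ι → F // u ≠ 0}, {φ : ι → F // φ ≠ 0 ∧ φ ⬝ᵥ u.1 = 0} :=
    { toFun := fun p => ⟨⟨p.1.1, p.2.1⟩, ⟨p.1.2, p.2.2.1, p.2.2.2⟩⟩
      invFun := fun x => ⟨(x.1.1, x.2.1), x.1.2, x.2.2.1, x.2.2.2⟩
      left_inv := fun p => rfl
      right_inv := fun x => rfl }
  rw [Nat.card_congr e, Nat.card_sigma]
  simp_rw [fun u : {u : ι → F // u ≠ 0} => card_cov u.2]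
  rw [Finset.sum_const, Finset.card_univ, smul_eq_mul, ← Nat.card_eq_fintype_card, card_ne_zero_vec]

end count



lemma glProd_succ (q n : ℕ) :
    ∏ i ∈ Finset.range (n+1), (q ^ (n+1) - q ^ i) = (q ^ (n+1) - 1) * (q ^ n * ∏ i ∈ Finset.range n, (q ^ n - q ^ i)) := by
  rw [Finset.prod_range_succ', pow_zero, mul_comm]
  congr 1
  have : ∀ i ∈ Finset.range n, q ^ (n+1) - q ^ (i+1) = q * (q ^ n - q ^ i) := by
    intro i _
    rw [Nat.mul_sub, ← pow_succ', ← pow_succ']
  rw [Finset.prod_congr rfl this, Finset.prod_mul_distrib, Finset.prod_const, Finset.card_range]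

lemma glProd_two (q m : ℕ) :
    ∏ i : Fin (m+2), (q ^ (m+2) - q ^ (i : ℕ)) =
      ((q ^ (m+2) - 1) * (q ^ (m+1) - 1)) * (q ^ (2 * (m+2) - 3) * ∏ i : Fin m, (q ^ m - q ^ (i : ℕ))) := by
  rw [Fin.prod_univ_eq_prod_range (fun i => q ^ (m+2) - q ^ i) (m+2),
    Fin.prod_univ_eq_prod_range (fun i => q ^ m - q ^ i) m, glProd_succ, glProd_succ]
  have : 2 * (m + 2) - 3 = (m + 1) + m := by omega
  rw [this, pow_add]
  ring


end Cfsg.Agent.Helper42
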