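import Cfsg.Agent.Lib.Helper42.TransvCent

set_option autoImplicit false

namespace Cfsg.Agent.Helper42

open Matrix

section act

variable {F : Type*} [Field F] {ι : Type*} [Fintype ι] [DecidableEq ι]

/-- wrapper for pairs (vector, covector) -/
@[ext]
structure VC (F ι : Type*) where
  u : ι → F
  φ : ι → F

instance : MulAction (GL ι F) (VC F ι) where
  smul g p := ⟨g.val *ᵥ p.u, p.φ ᵥ* (g⁻¹).val⟩
  one_smul p := by
    ext1
    · show (1 : GL ι F).val *ᵥ p.u = p.u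
      simp
    · show p.φ ᵥ* ((1 : GL ι F)⁻¹).val = p.φ
      simp
  mul_smul g h p := by
    ext1
    · show (g * h).val *ᵥ p.u = g.val *ᵥ (h.val *ᵥ p.u)
      simp [Matrix.mulVec_mulVec]
    · show p.φ ᵥ* ((g * h)⁻¹).val = (p.φ ᵥ* (h⁻¹).val) ᵥ* (g⁻¹).val
      rw [_root_.mul_inv_rev, Units.val_mul, Matrix.vecMul_vecMul]

lemma smul_u (g : GL ι F) (p : VC F ι) : (g • p).u = g.val *ᵥ p.u := rfl
lemma smul_φ (g : GL ι F) (p : VC F ι) : (g • p).φ = p.φ ᵥ* (g⁻¹).val := rfl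

/-- the set of admissible pairs -/
def vcSet (F ι : Type*) [Field F] [Fintype ι] : Set (VC F ι) :=
  {p | p.u ≠ 0 ∧ p.φ ≠ 0 ∧ p.φ ⬝ᵥ p.u = 0}

lemma gl_mulVec_ne_zero (g : GL ι F) {u : ι → F} (hu : u ≠ 0) : g.val *ᵥ u ≠ 0 := by
  intro h
  apply hu
  have := congrArg (fun x => (g⁻¹).val *ᵥ x) h
  simpa [Matrix.mulVec_mulVec] using this

lemma gl_vecMul_ne_zero (g : GL ι F) {φ : ι → F} (hφ : φ ≠ 0) : φ ᵥ* g.val ≠ 0 := by
  intro h
  apply hφ
  have := congrArg (fun x => x ᵥ* (g⁻¹).val) h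
  simpa [Matrix.vecMul_vecMul] using this

lemma orbit_eq_vcSet {p : VC F ι} (hp : p ∈ vcSet F ι) : MulAction.orbit (GL ι F) p = vcSet F ι := by
  ext p'
  constructor
  · rintro ⟨g, rfl⟩
    refine ⟨gl_mulVec_ne_zero g hp.1, gl_vecMul_ne_zero _ hp.2.1, ?_⟩
    show (p.φ ᵥ* (g⁻¹).val) ⬝ᵥ (g.val *ᵥ p.u) = 0
    rw [← Matrix.dotProduct_mulVec, Matrix.mulVec_mulVec, ← Units.val_mul, inv_mul_cancel]
    simpa using hp.2.2
  · intro hp'
    obtain ⟨g, hg1, hg2⟩ := exists_gl_map_pair hp.1 hp.2.1 hp.2.2 hp'.1 hp'.2.1 hp'.2.2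
    refine ⟨g, ?_⟩
    ext1
    · exact hg1
    · show p.φ ᵥ* (g⁻¹).val = p'.φ
      rw [← hg2, Matrix.vecMul_vecMul, ← Units.val_mul, mul_inv_cancel]
      simp

lemma card_vcSet [Fintype F] : Nat.card (vcSet F ι) =
    (Fintype.card F ^ Fintype.card ι - 1) * (Fintype.card F ^ (Fintype.card ι - 1) - 1) := by
  rw [← card_pairSet]
  apply Nat.card_congr
  exact
    { toFun := fun p => ⟨(p.1.u, p.1.φ), p.2⟩
      invFun := fun p => ⟨⟨p.1.1, p.1.2⟩, p.2⟩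
      left_inv := fun p => rfl
      right_inv := fun p => rfl }

end act

end Cfsg.Agent.Helper42
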