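import Cfsg.Agent.Lib.Helper42.TransvCent
import Cfsg.Agent.Lib.Helper42.TransvCent2

set_option autoImplicit false

namespace Cfsg.Agent.Helper42

open Matrix

section cent

variable {F : Type*} [Field F] {ι : Type*} [Fintype ι] [DecidableEq ι]

variable (t : GL ι F) (u φ w : ι → F)

lemma comm_of_mem_centralizer (hN : t.val - 1 = Matrix.vecMulVec u φ) {g : GL ι F}
    (hg : g ∈ Subgroup.centralizer ({t} : Set (GL ι F))) :
    g.val * Matrix.vecMulVec u φ = Matrix.vecMulVec u φ * g.val := by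
  rw [Subgroup.mem_centralizer_singleton_iff] at hg
  have h := congrArg Units.val hg
  simp only [Units.val_mul] at h
  rw [← hN, mul_sub, sub_mul, h]
  simp

lemma mem_centralizer_of_comm (hN : t.val - 1 = Matrix.vecMulVec u φ) {g : GL ι F}
    (h : g.val * Matrix.vecMulVec u φ = Matrix.vecMulVec u φ * g.val) :
    g ∈ Subgroup.centralizer ({t} : Set (GL ι F)) := by
  rw [Subgroup.mem_centralizer_singleton_iff]
  apply Units.ext
  simp only [Units.val_mul]
  have ht : t.val = 1 + Matrix.vecMulVec u φ := by rw [← hN]; abel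
  rw [ht, mul_add, add_mul, h]
  simp

/-- the scalar by which a centralizing element acts on `u` -/
def cScal (g : GL ι F) : F := φ ⬝ᵥ (g.val *ᵥ w)

lemma mulVec_u_of_comm (hw : φ ⬝ᵥ w = 1) {g : GL ι F}
    (h : g.val * Matrix.vecMulVec u φ = Matrix.vecMulVec u φ * g.val) :
    g.val *ᵥ u = cScal φ w g • u := by
  have h1 : Matrix.vecMulVec u φ *ᵥ w = u := by
    rw [Matrix.vecMulVec_mulVec, hw]; simp
  calc g.val *ᵥ u = g.val *ᵥ (Matrix.vecMulVec u φ *ᵥ w) := by rw [h1]
    _ = (Matrix.vecMulVec u φ * g.val) *ᵥ w := by rw [Matrix.mulVec_mulVec, h]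
    _ = Matrix.vecMulVec u φ *ᵥ (g.val *ᵥ w) := by rw [Matrix.mulVec_mulVec]
    _ = cScal φ w g • u := by rw [Matrix.vecMulVec_mulVec]; simp [cScal]

lemma vecMul_φ_of_comm (hu : u ≠ 0) (hw : φ ⬝ᵥ w = 1) {g : GL ι F}
    (h : g.val * Matrix.vecMulVec u φ = Matrix.vecMulVec u φ * g.val) :
    φ ᵥ* g.val = cScal φ w g • φ := by
  obtain ⟨ψ, hψ⟩ := exists_dot_eq_one hu
  rw [dotProduct_comm] at hψ
  have h1 : ψ ᵥ* Matrix.vecMulVec u φ = φ := by
    rw [Matrix.vecMul_vecMulVec, hψ, one_smul]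
  calc φ ᵥ* g.val = (ψ ᵥ* Matrix.vecMulVec u φ) ᵥ* g.val := by rw [h1]
    _ = ψ ᵥ* (g.val * Matrix.vecMulVec u φ) := by rw [Matrix.vecMul_vecMul, h]
    _ = (ψ ᵥ* g.val) ᵥ* Matrix.vecMulVec u φ := by rw [Matrix.vecMul_vecMul]
    _ = (ψ ⬝ᵥ (g.val *ᵥ u)) • φ := by rw [Matrix.vecMul_vecMulVec, Matrix.dotProduct_mulVec]
    _ = cScal φ w g • φ := by
        rw [mulVec_u_of_comm u φ w hw h, dotProduct_smul, hψ]; simp

section hom

variable (hN : t.val - 1 = Matrix.vecMulVec u φ) (hu : u ≠ 0) (hw : φ ⬝ᵥ w = 1)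

include hN hu hw in
lemma cScal_ne_zero {g : GL ι F} (hg : g ∈ Subgroup.centralizer ({t} : Set (GL ι F))) :
    cScal φ w g ≠ 0 := by
  intro h0
  have := mulVec_u_of_comm u φ w hw (comm_of_mem_centralizer t u φ hN hg)
  rw [h0, zero_smul] at this
  exact gl_mulVec_ne_zero g hu this

include hN hu hw in
lemma cScal_mul {g h : GL ι F} (hg : g ∈ Subgroup.centralizer ({t} : Set (GL ι F)))
    (hh : h ∈ Subgroup.centralizer ({t} : Set (GL ι F))) :
    cScal φ w (g * h) = cScal φ w g * cScal φ w h := by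
  have e1 := mulVec_u_of_comm u φ w hw (comm_of_mem_centralizer t u φ hN hg)
  have e2 := mulVec_u_of_comm u φ w hw (comm_of_mem_centralizer t u φ hN hh)
  have e3 := mulVec_u_of_comm u φ w hw (comm_of_mem_centralizer t u φ hN (Subgroup.mul_mem _ hg hh))
  rw [Units.val_mul, ← Matrix.mulVec_mulVec, e2, Matrix.mulVec_smul, e1, smul_smul] at e3
  have := smul_left_injective F hu e3
  rw [← this, mul_comm]

/-- the homomorphism from the centralizer to the scalars -/
noncomputable def cHom : ↥(Subgroup.centralizer ({t} : Set (GL ι F))) →* Fˣ where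
  toFun g := Units.mk0 (cScal φ w g.1) (cScal_ne_zero t u φ w hN hu hw g.2)
  map_one' := by
    apply Units.ext
    simp [cScal, hw]
  map_mul' g h := by
    apply Units.ext
    simp only [Units.val_mk0, Units.val_mul, Subgroup.coe_mul]
    exact cScal_mul t u φ w hN hu hw g.2 h.2

lemma cHom_apply (g : ↥(Subgroup.centralizer ({t} : Set (GL ι F)))) :
    ((cHom t u φ w hN hu hw g : Fˣ) : F) = cScal φ w g.1 := rfl

end hom

section hom2

variable (hN : t.val - 1 = Matrix.vecMulVec u φ) (hu : u ≠ 0) (hφ : φ ≠ 0) (hφu : φ ⬝ᵥ u = 0)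
  (hw : φ ⬝ᵥ w = 1)

include hN in
lemma stabilizer_le_centralizer :
    MulAction.stabilizer (GL ι F) (⟨u, φ⟩ : VC F ι) ≤ Subgroup.centralizer ({t} : Set (GL ι F)) := by
  intro g hg
  rw [MulAction.mem_stabilizer_iff] at hg
  have h1 : g.val *ᵥ u = u := congrArg VC.u hg
  have h2 : φ ᵥ* (g⁻¹).val = φ := congrArg VC.φ hg
  apply mem_centralizer_of_comm t u φ hN
  have h3 : φ ᵥ* g.val = φ := by
    have := congrArg (fun x => x ᵥ* g.val) h2
    simp only [Matrix.vecMul_vecMul, ← Units.val_mul, inv_mul_cancel, Units.val_one,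
      Matrix.vecMul_one] at this
    exact this.symm
  rw [Matrix.mul_vecMulVec, Matrix.vecMulVec_mul, h1, h3]

include hN hu hw in
lemma ker_cHom :
    (cHom t u φ w hN hu hw).ker =
      (MulAction.stabilizer (GL ι F) (⟨u, φ⟩ : VC F ι)).subgroupOf
        (Subgroup.centralizer ({t} : Set (GL ι F))) := by
  ext g
  rw [MonoidHom.mem_ker, Subgroup.mem_subgroupOf, MulAction.mem_stabilizer_iff]
  have hc := comm_of_mem_centralizer t u φ hN g.2
  have e1 := mulVec_u_of_comm u φ w hw hc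
  have e2 := vecMul_φ_of_comm u φ w hu hw hc
  constructor
  · intro h
    have h1 : cScal φ w g.1 = 1 := by
      have := congrArg Units.val h
      simpa [cHom_apply] using this
    rw [h1, one_smul] at e1 e2
    ext1
    · exact e1
    · show φ ᵥ* (g.1⁻¹).val = φ
      conv_lhs => rw [← e2]
      rw [Matrix.vecMul_vecMul, ← Units.val_mul, mul_inv_cancel]
      simp
  · intro h
    have h1 : g.1.val *ᵥ u = u := congrArg VC.u h
    rw [h1] at e1
    apply Units.ext
    rw [cHom_apply]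
    have : (1 : F) • u = cScal φ w g.1 • u := by rw [one_smul]; exact e1
    exact (smul_left_injective F hu this).symm

include hN hu hφ hφu hw in
lemma cHom_surjective : Function.Surjective (cHom t u φ w hN hu hw) := by
  intro c
  have hp : (⟨u, φ⟩ : VC F ι) ∈ vcSet F ι := ⟨hu, hφ, hφu⟩
  have hcu : (c : F) • u ≠ 0 := smul_ne_zero c.ne_zero hu
  have hcφ : ((c⁻¹ : Fˣ) : F) • φ ≠ 0 := smul_ne_zero (c⁻¹).ne_zero hφ
  have hdot : (((c⁻¹ : Fˣ) : F) • φ) ⬝ᵥ ((c : F) • u) = 0 := by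
    rw [smul_dotProduct, dotProduct_smul, hφu]; simp
  obtain ⟨g, hg1, hg2⟩ := exists_gl_map_pair hu hφ hφu hcu hcφ hdot
  have hg3 : φ ᵥ* g.val = (c : F) • φ := by
    rw [Matrix.smul_vecMul] at hg2
    have := congrArg (fun x => (c : F) • x) hg2
    simp only [smul_smul] at this
    rw [← this]
    simp
  have hcomm : g.val * Matrix.vecMulVec u φ = Matrix.vecMulVec u φ * g.val := by
    rw [Matrix.mul_vecMulVec, Matrix.vecMulVec_mul, hg1, hg3]
    ext i j
    simp [Matrix.vecMulVec_apply]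
    ring
  have hmem := mem_centralizer_of_comm t u φ hN hcomm
  refine ⟨⟨g, hmem⟩, ?_⟩
  apply Units.ext
  rw [cHom_apply]
  have e1 := mulVec_u_of_comm u φ w hw hcomm
  rw [hg1] at e1
  exact (smul_left_injective F hu e1).symm

end hom2

section final

variable [Fintype F]

lemma card_centralizer_eq (hN : t.val - 1 = Matrix.vecMulVec u φ) (hu : u ≠ 0) (hφ : φ ≠ 0)
    (hφu : φ ⬝ᵥ u = 0) :
    Nat.card ↥(Subgroup.centralizer ({t} : Set (GL ι F))) *
      ((Fintype.card F ^ Fintype.card ι - 1) * (Fintype.card F ^ (Fintype.card ι - 1) - 1)) =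
      (Fintype.card F - 1) * Nat.card (GL ι F) := by
  obtain ⟨w, hw⟩ := exists_dot_eq_one hφ
  set S := MulAction.stabilizer (GL ι F) (⟨u, φ⟩ : VC F ι) with hS
  have hp : (⟨u, φ⟩ : VC F ι) ∈ vcSet F ι := ⟨hu, hφ, hφu⟩
  have h1 : Nat.card (vcSet F ι) * Nat.card S = Nat.card (GL ι F) := by
    rw [← orbit_eq_vcSet hp, ← Nat.card_prod]
    exact Nat.card_congr (MulAction.orbitProdStabilizerEquivGroup (GL ι F) (⟨u, φ⟩ : VC F ι))
  have h2 : Nat.card ↥(Subgroup.centralizer ({t} : Set (GL ι F))) = Nat.card S * (Fintype.card F - 1) := by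
    have e1 := Subgroup.card_mul_index (cHom t u φ w hN hu hw).ker
    have e2 : (cHom t u φ w hN hu hw).ker.index = Fintype.card F - 1 := by
      rw [Subgroup.index_ker, MonoidHom.range_eq_top.mpr (cHom_surjective t u φ w hN hu hφ hφu hw),
        Subgroup.card_top, Nat.card_units, Nat.card_eq_fintype_card]
    have e3 : Nat.card (cHom t u φ w hN hu hw).ker = Nat.card S := by
      rw [ker_cHom t u φ w hN hu hw]
      exact Nat.card_congr (Subgroup.subgroupOfEquivOfLe (stabilizer_le_centralizer t u φ hN)).toEquiv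
    rw [← e1, e2, e3]
  rw [h2, ← h1, card_vcSet]
  ring

end final

end cent

end Cfsg.Agent.Helper42
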