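import Mathlib
import Cfsg.Agent.Lib.Helper43.Tri.Rel
import Cfsg.Agent.Lib.Helper13.OrthPermE
import Cfsg.Agent.Lib.Helper13.OAutBRP
import Cfsg.Agent.Lib.Helper36.DicksonDet
import Cfsg.Agent.Lib.Helper14.OrthAutCount
import Cfsg.Agent.Lib.Helper14.ReflGen
import Cfsg.Agent.Lib.Lead.POmegaCard
import Cfsg.Agent.Lib.Helper23.OAutBRC
import Cfsg.Agent.Lib.Helper43.OMin6

/-!
# TRI server (helper43, S0817) piece (CB) `card_pgoAut_plus_even`: in characteristic 2, for the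
plus-type form, `|PGO-image| = 2 |PΩ|`.
-/

set_option autoImplicit false
set_option linter.unusedSectionVars false

namespace Cfsg.Agent.Helper42.Tri

open Matrix QuadraticMap Cfsg.Agent.Helper13 Cfsg.Agent.Helper43 Cfsg.Agent.Helper5.OAut Module
open Cfsg.Agent.Helper43.Tri Cfsg.Agent.Helper43.OGam

section C

variable {F : Type*} [Field F] [Fintype F] {ι : Type} [Fintype ι] [DecidableEq ι]

/-- in characteristic 2 a scalar isometry (of a form taking the value 1) is trivial -/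
theorem cb_scalar_one (h2 : (2 : F) = 0) (Q : QuadraticForm F (ι → F)) (x₀ : ι → F)
    (hx₀ : Q x₀ = 1) (g : ↥(Cfsg.isometryGroup F ⇑Q)) (c : F) (hg : ∀ x : ι → F, g • x = c • x) :
    g = 1 := by
  have h1 : Q (g • x₀) = Q x₀ := O_Q_smul Q g x₀
  rw [hg, QuadraticMap.map_smul, hx₀, smul_eq_mul, mul_one] at h1
  have h3 : (c + 1) * (c + 1) = 0 := by linear_combination h1 + (c + 1) * h2
  have h4 : c + 1 = 0 := by
    rcases mul_eq_zero.mp h3 with h | h <;> exact h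
  have hc : c = 1 := by linear_combination h4 - h2
  apply O_ext
  intro x
  have h5 := hg x
  rw [hc, one_smul] at h5
  exact h5.trans (one_smul _ x).symm

/-- `Theta` does not see scalars -/
theorem cb_theta_smul (Q : (ι → F) → F) (L L' : GamO Q) (c : F)
    (h : ∀ x, (L : Equiv.Perm (ι → F)) x = c • (L' : Equiv.Perm (ι → F)) x) :
    Theta Q L = Theta Q L' := by
  apply MulEquiv.ext
  intro t
  obtain ⟨s, rfl⟩ := QuotientGroup.mk_surjective t
  obtain ⟨s', h', e'⟩ := Theta_exists Q L' s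
  rw [e']
  apply Theta_spec
  intro x
  rw [h x, Matrix.mulVec_smul, h', ← h]

theorem card_pgoAut_plus_even (h2 : (2 : F) = 0) {m : ℕ} (hm : 4 ≤ m) :
    Nat.card ↥(Cfsg.pgoAut F (Cfsg.quadFormPlus m F)) =
      2 * Nat.card (Cfsg.POmega F (Cfsg.quadFormPlus m F)) := by
  classical
  change Nat.card ↥(Cfsg.pgoAut F ⇑(stdPlus F m)) = 2 * Nat.card (Cfsg.POmega F ⇑(stdPlus F m))
  have hnd := stdPlus_nondegenerate F m
  have hfam := stdPlus_isHypFamily F m
  have hcard : Fintype.card (Fin m ⊕ Fin m) = 2 * m := by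
    simp only [Fintype.card_sum, Fintype.card_fin]; ring
  have hne : Nonempty (Fin m ⊕ Fin m) := ⟨Sum.inl ⟨0, by omega⟩⟩
  have C : Ctx (stdPlus F m) :=
    Cfsg.Agent.Helper23.OAutBR.ctx_of_hyp (stdPlus F m) hnd _ _ hfam (by omega)
      (by rw [hcard]; omega) (Cfsg.Agent.Helper23.OAutBR.hspanPlus m)
  -- a vector of norm 1
  set i0 : Fin m := ⟨0, by omega⟩ with hi0
  set x₀ : Fin m ⊕ Fin m → F := Pi.single (Sum.inl i0) 1 + Pi.single (Sum.inr i0) 1 with hx₀def
  have hx₀ : stdPlus F m x₀ = 1 := by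
    rw [hx₀def, QuadraticMap.map_add (stdPlus F m) _ _, hfam.qe i0, hfam.qf i0, hfam.ef i0 i0]
    simp
  -- the homomorphism `O → Aut(PΩ)`
  set Φ : ↥(Cfsg.isometryGroup F ⇑(stdPlus F m)) →* MulAut (Cfsg.POmega F ⇑(stdPlus F m)) :=
    (Theta (⇑(stdPlus F m))).comp (Cfsg.Agent.Helper43.OMin.isoGamHom (⇑(stdPlus F m))) with hΦ
  have hΦapp : ∀ g, Φ g = Theta (⇑(stdPlus F m)) (Cfsg.Agent.Helper43.OMin.isoGam _ g) :=
    fun g => rfl
  have hlin : ∀ g : ↥(Cfsg.isometryGroup F ⇑(stdPlus F m)),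
      Cfsg.Agent.Helper43.OMin.isoGam (⇑(stdPlus F m)) g ∈ Lin (⇑(stdPlus F m)) := by
    intro g c x
    rw [Cfsg.Agent.Helper43.OMin.isoGam_apply, Cfsg.Agent.Helper43.OMin.isoGam_apply,
      Matrix.mulVec_smul]
  -- range
  have hrange : Φ.range = Cfsg.pgoAut F ⇑(stdPlus F m) := by
    rw [← Cfsg.Agent.Helper14.OrthAutCount.map_Lin_eq_pgoAut]
    apply le_antisymm
    · rintro β ⟨g, rfl⟩
      exact ⟨_, hlin g, (hΦapp g).symm⟩
    · rintro β ⟨L, hL, rfl⟩
      obtain ⟨g, c, hc, hLg⟩ := Cfsg.Agent.Helper43.OMin.exists_iso_of_Lin (stdPlus F m) h2 hne L hL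
      refine ⟨g, ?_⟩
      rw [hΦapp]
      exact (cb_theta_smul _ L _ c (fun x => by
        rw [hLg x, Cfsg.Agent.Helper43.OMin.isoGam_apply])).symm
  -- injectivity
  have hinj : Function.Injective Φ := by
    rw [injective_iff_map_eq_one]
    intro g hg
    rw [hΦapp] at hg
    obtain ⟨⟨a, ha0, ha⟩, -⟩ := rigid (stdPlus F m) hnd _ _ hfam (by omega) (by rw [hcard]; omega)
      (Cfsg.Agent.Helper43.OMin.isoGam (⇑(stdPlus F m)) g) hg (RingEquiv.refl F)
      (fun c x => hlin g c x)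
    exact cb_scalar_one h2 (stdPlus F m) x₀ hx₀ g a (fun x => ha x)
  -- the centre of `Ω` is trivial
  have hcen : Subgroup.center ↥(Cfsg.Omega F ⇑(stdPlus F m)) = ⊥ := by
    rw [Subgroup.eq_bot_iff_forall]
    intro z hz
    obtain ⟨c, hc⟩ := C.hcen z hz
    apply Subtype.ext
    exact cb_scalar_one h2 (stdPlus F m) x₀ hx₀ (z : ↥(Cfsg.isometryGroup F ⇑(stdPlus F m))) c hc
  have hPcard : Nat.card (Cfsg.POmega F ⇑(stdPlus F m)) =
      Nat.card ↥(Cfsg.Omega F ⇑(stdPlus F m)) := by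
    have h1 := Subgroup.card_eq_card_quotient_mul_card_subgroup
      (Subgroup.center ↥(Cfsg.Omega F ⇑(stdPlus F m)))
    have h2' : Nat.card ↥(Subgroup.center ↥(Cfsg.Omega F ⇑(stdPlus F m))) = 1 := by
      rw [hcen]; exact Subgroup.card_bot
    rw [h2', mul_one] at h1
    exact h1.symm
  have hidx : (Cfsg.Omega F ⇑(stdPlus F m)).index = 2 :=
    Cfsg.Agent.Lead.POmegaCard.index_omega_even h2 (stdPlus F m) hnd (by rw [hcard]; omega)
      (Or.inr (by rw [hcard]; omega))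
  have hOcard : Nat.card ↥(Cfsg.isometryGroup F ⇑(stdPlus F m)) =
      2 * Nat.card ↥(Cfsg.Omega F ⇑(stdPlus F m)) := by
    rw [← hidx, mul_comm]
    exact (Subgroup.card_mul_index _).symm
  rw [← hrange, hPcard, ← hOcard]
  exact (Nat.card_congr (MonoidHom.ofInjective hinj).toEquiv).symm

end C

end Cfsg.Agent.Helper42.Tri
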