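import Mathlib
import Cfsg.Agent.Lib.Helper43.Tri.Rel
import Cfsg.Agent.Lib.Helper13.OrthPermE
import Cfsg.Agent.Lib.Helper13.OAutBRP
import Cfsg.Agent.Lib.Helper36.DicksonDet
import Cfsg.Agent.Lib.Helper14.OrthAutCount
import Cfsg.Agent.Lib.Helper14.ReflGen
import Cfsg.Agent.Lib.Lead.POmegaCard

/-!
# TRI server (helper43, S0817) piece (UD) `gamma_maps_Qb`: the elements of `PΓO` permute the point
radicals `Qb u`.
-/

set_option autoImplicit false
set_option linter.unusedSectionVars false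

namespace Cfsg.Agent.Helper42.Tri

open Matrix QuadraticMap Cfsg.Agent.Helper13 Cfsg.Agent.Helper43 Cfsg.Agent.Helper5.OAut Module
open Cfsg.Agent.Helper43.Tri Cfsg.Agent.Helper43.OGam

section U

variable {F : Type*} [Field F] [Fintype F] {ι : Type} [Fintype ι] [DecidableEq ι]
  {Q : QuadraticForm F (ι → F)}

/-- the automorphism induced by a semisimilarity on the image of an Eichler element -/
theorem ud_theta_E (C : Ctx Q) (L : GamO (⇑Q)) {u w : ι → F} (hu : Q u = 0)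
    (huw : polar (⇑Q) u w = 0) :
    (Theta (⇑Q) L) (prj Q (E Q u w)) =
      prj Q (E Q (toAdd (⇑Q) L u) ((mu (⇑Q) L : F)⁻¹ • toAdd (⇑Q) L w)) := by
  apply Theta_spec
  intro x
  exact semi_conj C (toAdd (⇑Q) L) (sig (⇑Q) L) (mu (⇑Q) L : F) (mu (⇑Q) L).ne_zero
    (sig_spec (⇑Q) L) (mu_spec (⇑Q) L) hu huw x

theorem gamma_maps_Qb (C : Ctx Q) (α : Cfsg.POmega F ⇑Q ≃* Cfsg.POmega F ⇑Q)
    (hα : α ∈ Cfsg.gammaPOmega F ⇑Q) {u : ι → F} (hu0 : u ≠ 0) (hu : Q u = 0) :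
    ∃ u' : ι → F, u' ≠ 0 ∧ Q u' = 0 ∧ (Qb Q u).map α.toMonoidHom = Qb Q u' := by
  rw [← range_Theta] at hα
  obtain ⟨L, rfl⟩ := hα
  have hμ0 : (mu (⇑Q) L : F) ≠ 0 := (mu (⇑Q) L).ne_zero
  have hpol := polar_semisim (Q := Q) (toAdd (⇑Q) L) (sig (⇑Q) L) (mu (⇑Q) L : F) (mu_spec (⇑Q) L)
  refine ⟨toAdd (⇑Q) L u, ?_, ?_, ?_⟩
  · intro h0
    apply hu0
    have : toAdd (⇑Q) L u = toAdd (⇑Q) L 0 := by rw [h0, map_zero]
    exact (toAdd (⇑Q) L).injective this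
  · have h1 := mu_spec (⇑Q) L u
    rw [hu, map_zero, mul_zero] at h1
    exact h1
  · unfold Qb Qrad
    rw [Subgroup.map_map, MonoidHom.map_closure, MonoidHom.map_closure]
    congr 1
    ext t
    constructor
    · rintro ⟨g, ⟨w, hw, rfl⟩, rfl⟩
      refine ⟨E Q (toAdd (⇑Q) L u) ((mu (⇑Q) L : F)⁻¹ • toAdd (⇑Q) L w),
        ⟨(mu (⇑Q) L : F)⁻¹ • toAdd (⇑Q) L w, ?_, rfl⟩, ?_⟩
      · rw [polar_smul_right, hpol, hw, map_zero, mul_zero, smul_zero]
      · exact (ud_theta_E C L hu hw).symm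
    · rintro ⟨g, ⟨w', hw', rfl⟩, rfl⟩
      obtain ⟨w, hw⟩ := (toAdd (⇑Q) L).surjective ((mu (⇑Q) L : F) • w')
      have hw2 : (mu (⇑Q) L : F)⁻¹ • toAdd (⇑Q) L w = w' := by
        rw [hw, smul_smul, inv_mul_cancel₀ hμ0, one_smul]
      have hpw : polar (⇑Q) u w = 0 := by
        have h1 := hpol u w
        rw [hw, polar_smul_right, hw', smul_zero] at h1
        have h2 : sig (⇑Q) L (polar (⇑Q) u w) = 0 := by
          rcases mul_eq_zero.mp h1.symm with h | h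
          · exact absurd h hμ0
          · exact h
        exact (map_eq_zero_iff (sig (⇑Q) L) (sig (⇑Q) L).injective).mp h2
      refine ⟨E Q u w, ⟨w, hpw, rfl⟩, ?_⟩
      have := ud_theta_E C L hu hpw
      rw [hw2] at this
      exact this

end U

end Cfsg.Agent.Helper42.Tri
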