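import Mathlib
import Cfsg.Agent.Lib.Helper43.Tri.Rel
import Cfsg.Agent.Lib.Helper13.OrthPermE
import Cfsg.Agent.Lib.Helper13.OAutBRP
import Cfsg.Agent.Lib.Helper36.DicksonDet
import Cfsg.Agent.Lib.Helper14.OrthAutCount
import Cfsg.Agent.Lib.Helper14.ReflGen
import Cfsg.Agent.Lib.Lead.POmegaCard

/-!
# TRI server (helper43, S0817) piece (UE) `Zb_map_iso`: the automorphism of `PΩ(Q)` induced by an
isometry `h` maps `Zb Y` onto `Zb (h Y)`.
-/

set_option autoImplicit false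
set_option linter.unusedSectionVars false

namespace Cfsg.Agent.Helper42.Tri

open Matrix QuadraticMap Cfsg.Agent.Helper13 Cfsg.Agent.Helper43 Cfsg.Agent.Helper5.OAut Module
open Cfsg.Agent.Helper43.Tri Cfsg.Agent.Helper43.OGam

section U

variable {F : Type*} [Field F] [Fintype F] {ι : Type} [Fintype ι] [DecidableEq ι]
  {Q : QuadraticForm F (ι → F)}

/-- the polar form vanishes on a totally singular subspace -/
theorem ue_polar_zero (Y : Submodule F (ι → F)) (hY : ∀ y ∈ Y, Q y = 0) {y y' : ι → F}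
    (hy : y ∈ Y) (hy' : y' ∈ Y) : polar (⇑Q) y y' = 0 := by
  unfold polar
  rw [hY _ (Y.add_mem hy hy'), hY y hy, hY y' hy']
  simp

/-- the induced automorphism on the image of an Eichler element -/
theorem ue_theta_E (C : Ctx Q) (h : ↥(Cfsg.isometryGroup F ⇑Q)) {y y' : ι → F} (hy : Q y = 0)
    (hyy' : polar (⇑Q) y y' = 0) :
    (Theta (⇑Q) (Cfsg.Agent.Helper43.OMin.isoGam (⇑Q) h)) (prj Q (E Q y y')) =
      prj Q (E Q (h • y) (h • y')) := by
  apply Theta_spec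
  intro x
  have hsc := semi_conj C (toAdd (⇑Q) (Cfsg.Agent.Helper43.OMin.isoGam (⇑Q) h))
    (RingEquiv.refl F) (1 : F) one_ne_zero
    (by
      intro c x
      rw [toAdd_apply, toAdd_apply, Cfsg.Agent.Helper43.OMin.isoGam_apply,
        Cfsg.Agent.Helper43.OMin.isoGam_apply, Matrix.mulVec_smul]
      rfl)
    (by
      intro x
      rw [toAdd_apply, Cfsg.Agent.Helper43.OMin.isoGam_apply, one_mul]
      exact O_Q_smul Q h x)
    hy hyy' x
  rw [inv_one, one_smul] at hsc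
  exact hsc

theorem Zb_map_iso (C : Ctx Q) (h : ↥(Cfsg.isometryGroup F ⇑Q)) (Y : Submodule F (ι → F))
    (hY : ∀ y ∈ Y, Q y = 0) :
    (Zb Q Y).map ((Theta (⇑Q) (Cfsg.Agent.Helper43.OMin.isoGam (⇑Q) h) :
        Cfsg.POmega F ⇑Q ≃* Cfsg.POmega F ⇑Q)).toMonoidHom =
      Zb Q (Y.map (Matrix.mulVecLin ((h : GL ι F) : Matrix ι ι F))) := by
  unfold Zb Zrad
  rw [Subgroup.map_map, MonoidHom.map_closure, MonoidHom.map_closure]
  congr 1
  ext t
  constructor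
  · rintro ⟨g, ⟨y, hy, y', hy', rfl⟩, rfl⟩
    refine ⟨E Q (h • y) (h • y'), ⟨h • y, ?_, h • y', ?_, rfl⟩, ?_⟩
    · exact ⟨y, hy, rfl⟩
    · exact ⟨y', hy', rfl⟩
    · exact (ue_theta_E C h (hY y hy) (ue_polar_zero Y hY hy hy')).symm
  · rintro ⟨g, ⟨z, ⟨y, hy, rfl⟩, z', ⟨y', hy', rfl⟩, rfl⟩, rfl⟩
    refine ⟨E Q y y', ⟨y, hy, y', hy', rfl⟩, ?_⟩
    exact ue_theta_E C h (hY y hy) (ue_polar_zero Y hY hy hy')

end U

end Cfsg.Agent.Helper42.Tri
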