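import Mathlib
import Cfsg.Agent.Lib.Helper42.UEig3
import Cfsg.Agent.Lib.Helper42.UEig5
import Cfsg.Agent.Lib.Helper42.PrimeCent4

set_option autoImplicit false
set_option linter.unusedSectionVars false

/-!
# Elements of order `q^m + 1` in `PSU_{2m}(q)`: the construction
-/

namespace Cfsg.Agent.Helper42.UEig

open Matrix Module Cfsg.Agent.Helper42.SUReg Cfsg.Agent.Helper63.PSUCent
  Cfsg.Agent.Helper42.SingerOrd Cfsg.Agent.Helper42.PrimeCent

variable {F : Type*} [Field F] [Fintype F] {q : ℕ}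

theorem backward (hF : Fintype.card F = q ^ 2) (hodd : Odd q) {n m : ℕ} (hnm : n = 2 * m)
    (hm : 2 ≤ m) (h2 : 2 ^ padicValNat 2 (q + 1) ∣ m) :
    ∃ x : Cfsg.PSU n F q, orderOf x = if Even m then q ^ m + 1 else q ^ m - 1 := by
  classical
  subst hnm
  obtain ⟨p, hp, hc, k, hqk⟩ := Cfsg.Agent.Helper19.herm_q_eq_pow hF
  have hq2 := Cfsg.Agent.Helper19.herm_two_le hF
  have hq1 : 1 ≤ q := by omega
  have hm0 : NeZero m := ⟨by omega⟩
  set a := padicValNat 2 (q + 1) with ha
  have h2a : 2 ^ a ∣ q + 1 := pow_padicValNat_dvd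
  have ha1 : 1 ≤ a := by
    apply one_le_padicValNat_of_dvd (by omega)
    obtain ⟨t, ht⟩ := hodd
    exact ⟨t + 1, by omega⟩
  have hme : Even m := by
    have : 2 ∣ m := (dvd_pow_self 2 (by omega)).trans h2
    exact even_iff_two_dvd.mpr this
  rw [if_pos hme]
  obtain ⟨m', hm'⟩ := hme
  have hm2 : m = 2 * m' := by omega
  set N := q ^ m + 1 with hN
  have hNpos : 0 < N := by omega
  have hgcd : Nat.gcd N (q + 1) = 2 := gcd_pow_add_one_add_one q m hodd ⟨m', hm'⟩
  -- the field
  set E := FiniteField.Extension F p m with hE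
  have hfin : finrank F E = m := FiniteField.finrank_extension F p m
  have hR : 2 ^ a ∣ (q - 1) * ∑ k ∈ Finset.range m', (q ^ 2) ^ k := by
    rw [two_pow_dvd_iff q m' a hodd h2a ha1, ← hm2]
    exact h2
  have hdiv : N * 2 ^ a * (q + 1) ∣ Nat.card F ^ m - 1 := by
    rw [Nat.card_eq_fintype_card, hF, ← pow_mul, ← M_mul q m hq1]
    apply Nat.mul_dvd_mul_right
    have h1 := M_even q m' hq1
    rw [← hm2] at h1
    rw [h1]
    exact Nat.mul_dvd_mul_left _ hR
  obtain ⟨s', hs'⟩ := exists_unit_orderOf (F := F) p m _ hdiv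
  set s : E := (s' : E) ^ (q + 1) with hs
  have hs0 : s ≠ 0 := pow_ne_zero _ s'.ne_zero
  have hord : orderOf s = N * 2 ^ a := by
    rw [hs, ← Units.val_pow_eq_pow_val, orderOf_units,
      orderOf_pow_of_dvd (by omega) (by rw [hs']; exact dvd_mul_left _ _), hs',
      Nat.mul_div_cancel _ (by omega)]
  -- the matrices
  let b : Basis (Fin m) F E := Module.finBasisOfFinrankEq F E hfin
  let φ : E →ₐ[F] Matrix (Fin m) (Fin m) F := Algebra.leftMulMatrix b
  have hφ : Function.Injective φ := Algebra.leftMulMatrix_injective b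
  have hφc : ∀ c : F, φ (algebraMap F E c) = c • (1 : Matrix (Fin m) (Fin m) F) := fun c => by
    rw [AlgHom.commutes, Algebra.algebraMap_eq_smul_one]
  set B := φ s with hB
  set B' := φ s⁻¹ with hB'
  have hBB' : B * B' = 1 := by rw [hB, hB', ← map_mul, mul_inv_cancel₀ hs0, map_one]
  have hdetB : sg hF B.det = B.det := by
    have h1 : B.det = Algebra.norm F s := (Algebra.norm_eq_matrix_det b s).symm
    rw [h1, hs, map_pow, sg_apply, ← pow_mul]
    have h3 : (q + 1) * q = q ^ 2 + q := by ring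
    rw [h3, pow_add, ← hF, FiniteField.pow_card, pow_succ']
  obtain ⟨g, hg⟩ := exists_SU_of_block hF B B' hBB' hdetB
  refine ⟨QuotientGroup.mk g, ?_⟩
  have hmk : ∀ j, ((QuotientGroup.mk g : Cfsg.PSU (2 * m) F q) ^ j = 1 ↔
      g ^ j ∈ Subgroup.center (Cfsg.SU (2 * m) F q)) := by
    intro j
    rw [← QuotientGroup.mk_pow, QuotientGroup.eq_one_iff]
  -- odd part of q + 1
  obtain ⟨u, hu⟩ := h2a
  have huodd : ¬ 2 ∣ u := by
    intro h2u
    have : Fact (Nat.Prime 2) := ⟨Nat.prime_two⟩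
    have h1 : 2 ^ (a + 1) ∣ q + 1 := by
      obtain ⟨u', rfl⟩ := h2u
      exact ⟨u', by rw [hu]; ring⟩
    have := (padicValNat_dvd_iff_le (p := 2) (by omega)).mp h1
    omega
  have hcopNu : Nat.Coprime N u := by
    have h1 : Nat.gcd N u ∣ 2 := by
      rw [← hgcd]
      exact Nat.dvd_gcd (Nat.gcd_dvd_left _ _)
        ((Nat.gcd_dvd_right _ _).trans ⟨2 ^ a, by rw [hu]; ring⟩)
    rcases (Nat.dvd_prime Nat.prime_two).mp h1 with h2 | h2
    · exact h2
    · exfalso
      apply huodd
      rw [← h2]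
      exact Nat.gcd_dvd_right _ _
  have hdvd_iff : ∀ j, orderOf s ∣ j * (q + 1) ↔ N ∣ j := by
    intro j
    rw [hord, hu]
    constructor
    · intro h
      have h1 : N * 2 ^ a ∣ (j * u) * 2 ^ a := by
        convert h using 1
        ring
      have h2 := Nat.dvd_of_mul_dvd_mul_right (by positivity) h1
      exact hcopNu.dvd_of_dvd_mul_right h2
    · rintro ⟨j', rfl⟩
      exact ⟨j' * u, by ring⟩
  have key : ∀ j : ℕ, (QuotientGroup.mk g : Cfsg.PSU (2 * m) F q) ^ j = 1 ↔ N ∣ j := by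
    intro j
    rw [hmk, ← hdvd_iff, orderOf_dvd_iff_pow_eq_one]
    constructor
    · intro hj
      obtain ⟨c, hc1, hc2⟩ := exists_scalar_of_mem_center hF (by omega) _ hj
      rw [mat_pow] at hc2
      have h1 := ((hg j c).mp hc2).1
      rw [hB, ← map_pow, ← hφc] at h1
      have h2 := hφ h1
      rw [pow_mul, h2, ← map_pow, hc1, map_one]
    · intro hj
      rw [pow_mul] at hj
      have hsj0 : s ^ j ≠ 0 := pow_ne_zero _ hs0
      have h1 : (s ^ j) ^ (Fintype.card F - 1) = 1 := by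
        rw [hF, sq_sub_one_eq q hq1, mul_comm, pow_mul, hj, one_pow]
      obtain ⟨c, hc⟩ := (exists_algebraMap_iff (F := F) (s ^ j) hsj0).mpr h1
      have hc1 : c ^ (q + 1) = 1 := by
        apply (algebraMap F E).injective
        rw [map_pow, ← hc, hj, map_one]
      have hc0 : c ≠ 0 := by
        rintro rfl
        rw [zero_pow (by omega)] at hc1
        exact zero_ne_one hc1
      apply Cfsg.Agent.Helper63.PSUCent.mem_center_of_scalar _ c
      rw [mat_pow, hg j c]
      constructor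
      · rw [hB, ← map_pow, hc, hφc]
      · rw [← ad_pow, hB', ← map_pow, inv_pow, hc, ← map_inv₀, hφc, ad_smul, ad_one, sg_apply,
          inv_pow]
        congr 1
        apply inv_eq_of_mul_eq_one_left
        rw [← pow_succ']
        exact hc1
  apply Nat.dvd_antisymm
  · exact orderOf_dvd_of_pow_eq_one ((key N).mpr dvd_rfl)
  · exact (key _).mp (pow_orderOf_eq_one _)

end Cfsg.Agent.Helper42.UEig
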