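import Mathlib
import Cfsg.Agent.Lib.Helper98.UT0

/-! UT server (helper98, S2283), piece (R0) `yEl_regular`: `x(a,β)` is regular unipotent. (helper42) -/

set_option autoImplicit false
set_option quotPrecheck false
set_option linter.unusedSectionVars false
set_option linter.unusedVariables false

namespace Cfsg.Agent.Helper42.UT

open Matrix Cfsg Cfsg.Agent.Helper13 Cfsg.Agent.Helper87.PsuA Cfsg.Agent.Helper87.PsuB0
  Cfsg.Agent.Helper98.UT

variable {F : Type*} [Field F] [Fintype F] {q : ℕ}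

local notation "G" => ↥(Cfsg.SU 3 F q)
local notation "H" => Cfsg.hermForm 3 F q

variable (hF : Fintype.card F = q ^ 2) {b : Fin 3 → Fin 3 → F}

/-- `N = E(u,w,a) - 1` as a map -/
theorem h42_N_mulVec {u w : Fin 3 → F} {a : F} (huu : H u u = 0) (huw : H u w = 0)
    (ha : a + a ^ q + H w w = 0) (x : Fin 3 → F) :
    (((eich hF u w a : Matrix.SpecialLinearGroup (Fin 3) F) : Matrix (Fin 3) (Fin 3) F) - 1) *ᵥ x
      = H x u • w - H x w • u + (a * H x u) • u := by
  rw [Matrix.sub_mulVec, Matrix.one_mulVec]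
  have h := eich_act hF huu huw ha x
  unfold actv at h
  rw [h]
  module

/-- `N^2` as a map -/
theorem h42_N2_mulVec {u w : Fin 3 → F} {a : F} (huu : H u u = 0) (huw : H u w = 0)
    (ha : a + a ^ q + H w w = 0) (x : Fin 3 → F) :
    (((eich hF u w a : Matrix.SpecialLinearGroup (Fin 3) F) : Matrix (Fin 3) (Fin 3) F) - 1) *ᵥ
      ((((eich hF u w a : Matrix.SpecialLinearGroup (Fin 3) F) : Matrix (Fin 3) (Fin 3) F) - 1) *ᵥ x)
      = (-(H x u * H w w)) • u := by
  have hwu : H w u = 0 := H_symm_zero hF huw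
  rw [h42_N_mulVec hF huu huw ha x, h42_N_mulVec hF huu huw ha]
  simp only [hermForm_add_left, H_sub_left hF, hermForm_smul_left, huu, huw, hwu]
  module

/-- `N^3 = 0` as a map -/
theorem h42_N3_mulVec {u w : Fin 3 → F} {a : F} (huu : H u u = 0) (huw : H u w = 0)
    (ha : a + a ^ q + H w w = 0) (x : Fin 3 → F) :
    (((eich hF u w a : Matrix.SpecialLinearGroup (Fin 3) F) : Matrix (Fin 3) (Fin 3) F) - 1) *ᵥ
      ((((eich hF u w a : Matrix.SpecialLinearGroup (Fin 3) F) : Matrix (Fin 3) (Fin 3) F) - 1) *ᵥ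
      ((((eich hF u w a : Matrix.SpecialLinearGroup (Fin 3) F) : Matrix (Fin 3) (Fin 3) F) - 1) *ᵥ x))
      = 0 := by
  rw [h42_N2_mulVec hF huu huw ha x, h42_N_mulVec hF huu huw ha]
  simp only [hermForm_smul_left, huu, huw]
  module

/-- (R0) `x(a,β)` is regular unipotent: `N = y - 1` has `N e = 0`, `N d = a e`, `N f = β e - ā d`, so
`N^3 = 0` on the basis (`expand hb`) and `N^2 f = -a ā e ≠ 0`. -/
theorem yEl_regular (hb : HB q b) (a β : F) (hab : β + β ^ q + a * a ^ q = 0) (ha : a ≠ 0) :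
    IsNilpotent (((yEl hF b a β : Matrix.SpecialLinearGroup (Fin 3) F) : Matrix (Fin 3) (Fin 3) F) - 1) ∧
      (((yEl hF b a β : Matrix.SpecialLinearGroup (Fin 3) F) : Matrix (Fin 3) (Fin 3) F) - 1) ^ (3 - 1)
        ≠ 0 := by
  have h00 : H (b 0) (b 0) = 0 := by rw [hb 0 0, if_neg (by decide)]
  have h01 : H (b 0) (b 1) = 0 := by rw [hb 0 1, if_neg (by decide)]
  have h11 : H (b 1) (b 1) = 1 := by rw [hb 1 1, if_pos (by decide)]
  have h20 : H (b 2) (b 0) = 1 := by rw [hb 2 0, if_pos (by decide)]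
  have huw : H (b 0) ((-(a ^ q)) • b 1) = 0 := by rw [hermForm_smul_right, h01, mul_zero]
  have hww : H ((-(a ^ q)) • b 1) ((-(a ^ q)) • b 1) = a * a ^ q := by
    rw [hermForm_smul_left, hermForm_smul_right, h11, frob_neg hF, frob_frob hF]
    ring
  have hpar : β + β ^ q + H ((-(a ^ q)) • b 1) ((-(a ^ q)) • b 1) = 0 := by rw [hww]; exact hab
  unfold yEl
  constructor
  · refine ⟨3, ?_⟩
    apply mat_ext
    intro x
    rw [pow_succ, pow_succ, pow_one, ← Matrix.mulVec_mulVec, ← Matrix.mulVec_mulVec,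
      h42_N3_mulVec hF h00 huw hpar x, Matrix.zero_mulVec]
  · show _ ^ 2 ≠ 0
    intro h0
    have h1 := h42_N2_mulVec hF h00 huw hpar (b 2)
    rw [Matrix.mulVec_mulVec, ← pow_two, h0, Matrix.zero_mulVec, h20, hww, one_mul] at h1
    have h2 : -(a * a ^ q) ≠ 0 := neg_ne_zero.2 (mul_ne_zero ha (pow_ne_zero q ha))
    rcases smul_eq_zero.1 h1.symm with h3 | h3
    · exact h2 h3
    · exact b_ne_zero hF hb 0 h3

end Cfsg.Agent.Helper42.UT
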