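import Mathlib
import Cfsg.Agent.Lib.Helper98.UT1

/-! UT server (helper98, S2283), wave 2 piece (X5r) `exists_r_five`: `2` is a square in a field of
order 25. (helper42) -/

set_option autoImplicit false
set_option quotPrecheck false
set_option linter.unusedSectionVars false
set_option linter.unusedVariables false

namespace Cfsg.Agent.Helper42.UT

open Matrix Cfsg Cfsg.Agent.Helper13 Cfsg.Agent.Helper87.PsuA Cfsg.Agent.Helper87.PsuB0
  Cfsg.Agent.Helper98.UT

variable {F : Type*} [Field F] [Fintype F] {q : ℕ}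

/-- (X5r) `2` is a square in a field of order 25 (`FiniteField.isSquare_iff`, or `2^12 = 1`). -/
theorem exists_r_five (hF5 : Fintype.card F = 5 ^ 2) :
    ∃ r : F, r ^ 2 = 2 ∧ (5 : F) = 0 := by
  have h5 : (5 : F) = 0 := by
    have h := FiniteField.cast_card_eq_zero F
    rw [hF5] at h
    have h2 : (5 : F) ^ 2 = 0 := by exact_mod_cast h
    exact (pow_eq_zero_iff two_ne_zero).1 h2
  have h20 : (2 : F) ≠ 0 := by
    intro h2
    have h1 : (1 : F) = 0 := by linear_combination h5 - 2 * h2
    exact one_ne_zero h1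
  have hch : ringChar F ≠ 2 := by
    intro hc
    have : CharP F 2 := by rw [← hc]; exact ringChar.charP F
    exact h20 (by exact_mod_cast CharP.cast_eq_zero F 2)
  have hsq : IsSquare (2 : F) := by
    rw [FiniteField.isSquare_iff hch h20, hF5]
    have e : (2 : F) ^ (5 ^ 2 / 2) = 1 + 819 * 5 := by norm_num
    rw [e, h5, mul_zero, add_zero]
  obtain ⟨r, hr⟩ := hsq
  exact ⟨r, by rw [hr, pow_two], h5⟩

end Cfsg.Agent.Helper42.UT
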